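import Cfsg.Agent.Chev.GraphAut

/-!
# Collection of words in root elements; the tables for folding `D₄` to `G₂` and `E₆` to `F₄`
-/

set_option autoImplicit false
set_option maxRecDepth 100000

namespace CL.Chev

open Cfsg Cfsg.Lie Cert Finset

namespace Cert.Aux

variable (A : Aux)

/-- One step of the collection process. -/
def cstep : List (ℕ × ℤ × ℕ × ℕ) → List (ℕ × ℤ × ℕ × ℕ)
  | a :: b :: w =>
    cond (Nat.beq a.1 b.1 && Nat.beq a.2.2.1 b.2.2.1 && Nat.beq a.2.2.2 b.2.2.2) ((a.1, a.2.1 + b.2.1, a.2.2) :: w)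
      (cond (Nat.blt b.1 a.1 && Nat.blt a.1 A.n && !Nat.beq a.1 (A.ng b.1))
        (b :: a :: ((A.aTerms b.1 a.1).map fun k => (k.1, k.2.1 * (-b.2.1) ^ k.2.2.1 * a.2.1 ^ k.2.2.2,
          b.2.2.1 * k.2.2.1 + a.2.2.1 * k.2.2.2, b.2.2.2 * k.2.2.1 + a.2.2.2 * k.2.2.2)) ++ w)
        (a :: cstep (b :: w)))
  | w => w

def srt : List (ℕ × ℤ × ℕ × ℕ) → Bool
  | a :: b :: w => Nat.blt a.1 b.1 && srt (b :: w)
  | _ => true

def collect (k : ℕ) : List (ℕ × ℤ × ℕ × ℕ) → List (ℕ × ℤ × ℕ × ℕ) :=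
  Nat.rec (fun w => w) (fun _ ih w => cond (srt w) (w.filter fun a => !beqZ a.2.1 0) (ih (A.cstep w))) k

def foldW (O : ℕ → List ℕ) (ε : ℕ → ℤ) (k : ℕ × ℤ × ℕ × ℕ) : List (ℕ × ℤ × ℕ × ℕ) :=
  (O k.1).map fun a => (a, ε a * k.2.1, k.2.2)

def foldCheck' (B : Aux) (O : ℕ → List ℕ) (p : ℕ → ℕ) (ε : ℕ → ℤ) : Bool :=
  allLt B.n fun r => !(O r).isEmpty && decide (O r).Nodup && decide ((O r).Pairwise fun a b => A.commOK 0 a b = true) &&
    ((O r).all fun a => Nat.blt a A.n && Nat.beq (p a) r &&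
      ((allLt A.l fun i => decide (0 ≤ A.rt a i)) == allLt B.l fun i => decide (0 ≤ B.rt r i))) &&
    allLt B.n fun s => Nat.beq s r || Nat.beq s (B.ng r) ||
      decide (A.collect 300 ([(s, 1, 0, 1), (r, 1, 1, 0)].flatMap (foldW O ε)) =
        A.collect 300 (((r, 1, 1, 0) :: (s, 1, 0, 1) :: (B.aTerms r s).map fun k =>
          (k.1, k.2.1 * (-1) ^ k.2.2.1, k.2.2)).flatMap (foldW O ε)))

def foldCheck (B : Aux) (O : List (List ℕ)) (pT cT : ℕ) : Bool :=
  A.foldCheck' B (fun r => O.getD r []) (dig pT 8) (bsign cT)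

end Cert.Aux

section Sound

variable {D : ChevalleyDatum} (E : Real D) {F : Type*} [Field F]

theorem Real.xN_add (r : ℕ) (t u : F) : E.xN r (t + u) = E.xN r t * E.xN r u := by
  simp only [Real.xN]; split_ifs
  exacts [StSys.x_add _ _ _ _, (mul_one _).symm]

/-- The value of a word whose coefficients are monomials in `t`, `u`. -/
noncomputable def Real.evW (t u : F) (w : List (ℕ × ℤ × ℕ × ℕ)) : GL D.Idx F :=
  (w.map fun a => E.xN a.1 (a.2.1 * t ^ a.2.2.1 * u ^ a.2.2.2)).prod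

theorem Real.evW_cons (t u : F) (a : ℕ × ℤ × ℕ × ℕ) (w : List (ℕ × ℤ × ℕ × ℕ)) :
    E.evW t u (a :: w) = E.xN a.1 (a.2.1 * t ^ a.2.2.1 * u ^ a.2.2.2) * E.evW t u w := by simp [Real.evW]
theorem Real.evW_append (t u : F) (w w' : List (ℕ × ℤ × ℕ × ℕ)) : E.evW t u (w ++ w') = E.evW t u w * E.evW t u w' := by
  simp [Real.evW]
theorem Real.evW_flatMap {α : Type*} (t u : F) (f : α → List (ℕ × ℤ × ℕ × ℕ)) (l : List α) :
    E.evW t u (l.flatMap f) = (l.map fun a => E.evW t u (f a)).prod := by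
  induction l with
  | nil => rfl
  | cons a l ih => rw [List.flatMap_cons, E.evW_append, ih, List.map_cons, List.prod_cons]

variable {A : Aux} (T : Tab D A)
include T

theorem Tab.evW_cstep (t u : F) : ∀ w : List (ℕ × ℤ × ℕ × ℕ), E.evW t u (A.cstep w) = E.evW t u w
  | [] => rfl
  | [_] => rfl
  | a :: b :: w => by
    rw [Aux.cstep, Bool.cond_eq_ite, Bool.cond_eq_ite]
    simp only [Bool.and_eq_true, beq_iff', Nat.blt_eq, Bool.not_eq_true', ← Bool.not_eq_true]
    split_ifs with h1 h2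
    · simp only [E.evW_cons, ← h1.1.1, ← h1.1.2, ← h1.2, Int.cast_add, add_mul, E.xN_add, mul_assoc]
    · simp only [List.cons_append, E.evW_cons, E.evW_append, ← mul_assoc]
      rw [T.comm_xN E (h2.1.1.trans h2.1.2) h2.1.2 h2.1.1.ne' h2.2, Real.evW, List.map_map]
      congr 3
      refine List.map_congr_left fun k _ => congrArg (E.xN k.1) ?_
      push_cast
      rw [← neg_mul, ← neg_mul]
      simp only [mul_pow, pow_add, pow_mul]
      ring
    · rw [E.evW_cons, Tab.evW_cstep t u (b :: w), ← E.evW_cons]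

theorem Tab.evW_collect (t u : F) (k : ℕ) (w : List (ℕ × ℤ × ℕ × ℕ)) : E.evW t u (A.collect k w) = E.evW t u w := by
  induction k generalizing w with
  | zero => rfl
  | succ k ih =>
    change E.evW t u (cond _ _ (A.collect k _)) = _
    rw [Bool.cond_eq_ite]
    split_ifs with h
    · clear h
      induction w with
      | nil => rfl
      | cons a w ih =>
        rw [List.filter_cons]
        split_ifs with h
        · rw [E.evW_cons, ih, E.evW_cons]
        · rw [E.evW_cons, ih, (beqZ_iff a.2.1 0).1 (by simpa using h)]; simp [E.xN_zero]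
    · rw [ih, T.evW_cstep]

theorem Tab.evW_eq_of_collect {k : ℕ} {w w' : List (ℕ × ℤ × ℕ × ℕ)} (h : A.collect k w = A.collect k w') (t u : F) :
    E.evW t u w = E.evW t u w' := by rw [← T.evW_collect E t u k, h, T.evW_collect]

end Sound

namespace Cert

def orbG2 : List (List ℕ) := [[0], [1], [6, 3, 2], [4, 7, 8], [5, 10, 11], [9], [14], [18, 13, 12], [19, 16, 15], [17, 20, 21], [22], [23]]
theorem foldCheckG2 : auxD4.foldCheck auxG2 orbG2 0xb0a09090807090808060707040405030302040302020100 0xf1818f = true := by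
  decide +kernel
def orbF4 : List (List ℕ) := [[0], [1], [2], [3, 5], [6], [8], [11], [4, 16], [7, 17], [9, 19], [12, 26], [10, 22], [13, 30], [14, 33], [15, 35], [18], [20], [27], [21, 23], [28, 31], [29, 34], [24], [32], [25], [46], [39], [47], [42, 37], [43, 40], [50, 48], [44], [51], [53], [56, 36], [57, 38], [58, 41], [61, 49], [59, 45], [62, 52], [64, 54], [67, 55], [60], [63], [65], [68, 66], [69], [70], [71]]
theorem foldCheckF4 : auxE6.foldCheck auxF4 orbF4 0x2f2e2d2c282c2b272a26242925232221282720261f1d241d1a18251e1c1b231c19221b210e140d16130c1413110a1715120b1210090f08070e0d0c0a060b09050804030703020100 0xd2a142854b0000 = true := by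
  decide +kernel

end Cert

end CL.Chev
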