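/-
Orbit certificates for the Coxeter groups of types B2, G2, D4, F4, E6, E7, E8 (kernel-checked tables).
-/
import Cfsg.Agent.Chev.CoxOrbit

set_option autoImplicit false
set_option maxRecDepth 100000

namespace CL.Cox

/-- words over `Fin n` from words over `ℕ` -/
def toFinW (n : ℕ) [NeZero n] (L : List (List ℕ)) : List (List (Fin n)) := L.map fun ω => ω.map (Fin.ofNat n)

/-- One step of a chain of parabolic subgroups: `K = J ∪ {j}`, orbit of the `j`-th fundamental weight, and the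
numbers of letters of the two colours in each word. -/
def StepOK {n : ℕ} (A : Matrix (Fin n) (Fin n) ℤ) (K J : List (Fin n)) (j : Fin n) (L : List (List (Fin n)))
    (wa wb : Fin n → ℕ) (ds : List (ℕ × ℕ)) : Prop :=
  ((∀ k, 0 ≤ (fun k => if k = j then (1 : ℤ) else 0) k) ∧
    ∀ k, k ∈ J ↔ k ∈ K ∧ (fun k => if k = j then (1 : ℤ) else 0) k = 0) ∧
  orbitCheck A K (ofVec fun k => if k = j then (1 : ℤ) else 0) L = true ∧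
  (L.map fun ω => ((ω.map wa).sum, (ω.map wb).sum)) = ds

instance decStepOK {n : ℕ} (A : Matrix (Fin n) (Fin n) ℤ) (K J : List (Fin n)) (j : Fin n) (L : List (List (Fin n)))
    (wa wb : Fin n → ℕ) (ds : List (ℕ × ℕ)) : Decidable (StepOK A K J j L wa wb ds) :=
  inferInstanceAs (Decidable (_ ∧ _ ∧ _))

/-- a Cartan matrix of type B2 -/
def cB2 : Matrix (Fin 2) (Fin 2) ℤ := !![2, -2; -1, 2]

theorem isCartan_B2 : IsCartan (CoxeterMatrix.B 2) cB2 := by decide +kernel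

/-- first colour -/
def waB2 : Fin 2 → ℕ := ![1, 0]
/-- second colour -/
def wbB2 : Fin 2 → ℕ := ![0, 1]

/-- coset representatives -/
def wB2_0 : List (List ℕ) := [[],
  [0]]
/-- their degrees -/
def dB2_0 : List (ℕ × ℕ) := [(0,0), (1,0)]
theorem stepB2_0 : StepOK cB2 [0] [] 0 (toFinW 2 wB2_0) waB2 wbB2 dB2_0 := by
  decide +kernel

/-- coset representatives -/
def wB2_1 : List (List ℕ) := [[],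
  [1],
  [0,1],
  [1,0,1]]
/-- their degrees -/
def dB2_1 : List (ℕ × ℕ) := [(0,0), (0,1), (1,1), (1,2)]
theorem stepB2_1 : StepOK cB2 [0, 1] [0] 1 (toFinW 2 wB2_1) waB2 wbB2 dB2_1 := by
  decide +kernel

/-- a Cartan matrix of type G2 -/
def cG2 : Matrix (Fin 2) (Fin 2) ℤ := !![2, -3; -1, 2]

theorem isCartan_G2 : IsCartan (CoxeterMatrix.G₂) cG2 := by decide +kernel

/-- first colour -/
def waG2 : Fin 2 → ℕ := ![1, 0]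
/-- second colour -/
def wbG2 : Fin 2 → ℕ := ![0, 1]

/-- coset representatives -/
def wG2_0 : List (List ℕ) := [[],
  [0]]
/-- their degrees -/
def dG2_0 : List (ℕ × ℕ) := [(0,0), (1,0)]
theorem stepG2_0 : StepOK cG2 [0] [] 0 (toFinW 2 wG2_0) waG2 wbG2 dG2_0 := by
  decide +kernel

/-- coset representatives -/
def wG2_1 : List (List ℕ) := [[],
  [1],
  [0,1],
  [1,0,1],
  [0,1,0,1],
  [1,0,1,0,1]]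
/-- their degrees -/
def dG2_1 : List (ℕ × ℕ) := [(0,0), (0,1), (1,1), (1,2), (2,2), (2,3)]
theorem stepG2_1 : StepOK cG2 [0, 1] [0] 1 (toFinW 2 wG2_1) waG2 wbG2 dG2_1 := by
  decide +kernel

/-- a Cartan matrix of type D4 -/
def cD4 : Matrix (Fin 4) (Fin 4) ℤ := !![2, -1, 0, 0; -1, 2, -1, -1; 0, -1, 2, 0; 0, -1, 0, 2]

theorem isCartan_D4 : IsCartan (Cfsg.Lie.coxeterD4) cD4 := by decide +kernel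

/-- first colour -/
def waD4 : Fin 4 → ℕ := ![1, 1, 1, 1]
/-- second colour -/
def wbD4 : Fin 4 → ℕ := ![0, 0, 0, 0]

/-- coset representatives -/
def wD4_0 : List (List ℕ) := [[],
  [0]]
/-- their degrees -/
def dD4_0 : List (ℕ × ℕ) := [(0,0), (1,0)]
theorem stepD4_0 : StepOK cD4 [0] [] 0 (toFinW 4 wD4_0) waD4 wbD4 dD4_0 := by
  decide +kernel

/-- coset representatives -/
def wD4_1 : List (List ℕ) := [[],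
  [1],
  [0,1]]
/-- their degrees -/
def dD4_1 : List (ℕ × ℕ) := [(0,0), (1,0), (2,0)]
theorem stepD4_1 : StepOK cD4 [0, 1] [0] 1 (toFinW 4 wD4_1) waD4 wbD4 dD4_1 := by
  decide +kernel

/-- coset representatives -/
def wD4_2 : List (List ℕ) := [[],
  [2],
  [1,2],
  [0,1,2]]
/-- their degrees -/
def dD4_2 : List (ℕ × ℕ) := [(0,0), (1,0), (2,0), (3,0)]
theorem stepD4_2 : StepOK cD4 [0, 1, 2] [0, 1] 2 (toFinW 4 wD4_2) waD4 wbD4 dD4_2 := by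
  decide +kernel

/-- coset representatives -/
def wD4_3 : List (List ℕ) := [[],
  [3],
  [1,3],
  [0,1,3],
  [2,1,3],
  [2,0,1,3],
  [1,2,0,1,3],
  [3,1,2,0,1,3]]
/-- their degrees -/
def dD4_3 : List (ℕ × ℕ) := [(0,0), (1,0), (2,0), (3,0), (3,0), (4,0), (5,0), (6,0)]
theorem stepD4_3 : StepOK cD4 [0, 1, 2, 3] [0, 1, 2] 3 (toFinW 4 wD4_3) waD4 wbD4 dD4_3 := by
  decide +kernel

/-- a Cartan matrix of type F4 -/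
def cF4 : Matrix (Fin 4) (Fin 4) ℤ := !![2, -1, 0, 0; -1, 2, -2, 0; 0, -1, 2, -1; 0, 0, -1, 2]

theorem isCartan_F4 : IsCartan (CoxeterMatrix.F₄) cF4 := by decide +kernel

/-- first colour -/
def waF4 : Fin 4 → ℕ := ![1, 1, 0, 0]
/-- second colour -/
def wbF4 : Fin 4 → ℕ := ![0, 0, 1, 1]

/-- coset representatives -/
def wF4_0 : List (List ℕ) := [[],
  [1]]
/-- their degrees -/
def dF4_0 : List (ℕ × ℕ) := [(0,0), (1,0)]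
theorem stepF4_0 : StepOK cF4 [1] [] 1 (toFinW 4 wF4_0) waF4 wbF4 dF4_0 := by
  decide +kernel

/-- coset representatives -/
def wF4_1 : List (List ℕ) := [[],
  [2],
  [1,2],
  [2,1,2]]
/-- their degrees -/
def dF4_1 : List (ℕ × ℕ) := [(0,0), (0,1), (1,1), (1,2)]
theorem stepF4_1 : StepOK cF4 [1, 2] [1] 2 (toFinW 4 wF4_1) waF4 wbF4 dF4_1 := by
  decide +kernel

/-- coset representatives -/
def wF4_2 : List (List ℕ) := [[],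
  [0],
  [1,0],
  [2,1,0],
  [1,2,1,0],
  [0,1,2,1,0]]
/-- their degrees -/
def dF4_2 : List (ℕ × ℕ) := [(0,0), (1,0), (2,0), (2,1), (3,1), (4,1)]
theorem stepF4_2 : StepOK cF4 [1, 2, 0] [1, 2] 0 (toFinW 4 wF4_2) waF4 wbF4 dF4_2 := by
  decide +kernel

/-- coset representatives -/
def wF4_3 : List (List ℕ) := [[],
  [3],
  [2,3],
  [1,2,3],
  [2,1,2,3],
  [0,1,2,3],
  [0,2,1,2,3],
  [3,2,1,2,3],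
  [1,0,2,1,2,3],
  [3,0,2,1,2,3],
  [2,1,0,2,1,2,3],
  [3,1,0,2,1,2,3],
  [3,2,1,0,2,1,2,3],
  [2,3,1,0,2,1,2,3],
  [2,3,2,1,0,2,1,2,3],
  [1,2,3,1,0,2,1,2,3],
  [1,2,3,2,1,0,2,1,2,3],
  [0,1,2,3,1,0,2,1,2,3],
  [2,1,2,3,2,1,0,2,1,2,3],
  [0,1,2,3,2,1,0,2,1,2,3],
  [0,2,1,2,3,2,1,0,2,1,2,3],
  [1,0,2,1,2,3,2,1,0,2,1,2,3],
  [2,1,0,2,1,2,3,2,1,0,2,1,2,3],
  [3,2,1,0,2,1,2,3,2,1,0,2,1,2,3]]
/-- their degrees -/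
def dF4_3 : List (ℕ × ℕ) := [(0,0), (0,1), (0,2), (1,2), (1,3), (2,2), (2,3), (1,4), (3,3), (2,4), (3,4), (3,4), (3,5), (3,5), (3,6), (4,5), (4,6), (5,5), (4,7), (5,6), (5,7), (6,7), (6,8), (6,9)]
theorem stepF4_3 : StepOK cF4 [1, 2, 0, 3] [1, 2, 0] 3 (toFinW 4 wF4_3) waF4 wbF4 dF4_3 := by
  decide +kernel

/-- a Cartan matrix of type E6 -/
def cE6 : Matrix (Fin 6) (Fin 6) ℤ := !![2, 0, -1, 0, 0, 0; 0, 2, 0, -1, 0, 0; -1, 0, 2, -1, 0, 0; 0, -1, -1, 2, -1, 0; 0, 0, 0, -1, 2, -1; 0, 0, 0, 0, -1, 2]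

theorem isCartan_E6 : IsCartan (CoxeterMatrix.E₆) cE6 := by decide +kernel

/-- first colour -/
def waE6 : Fin 6 → ℕ := ![1, 1, 1, 1, 1, 1]
/-- second colour -/
def wbE6 : Fin 6 → ℕ := ![0, 0, 0, 0, 0, 0]

/-- coset representatives -/
def wE6_0 : List (List ℕ) := [[],
  [3]]
/-- their degrees -/
def dE6_0 : List (ℕ × ℕ) := [(0,0), (1,0)]
theorem stepE6_0 : StepOK cE6 [3] [] 3 (toFinW 6 wE6_0) waE6 wbE6 dE6_0 := by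
  decide +kernel

/-- coset representatives -/
def wE6_1 : List (List ℕ) := [[],
  [1],
  [3,1]]
/-- their degrees -/
def dE6_1 : List (ℕ × ℕ) := [(0,0), (1,0), (2,0)]
theorem stepE6_1 : StepOK cE6 [3, 1] [3] 1 (toFinW 6 wE6_1) waE6 wbE6 dE6_1 := by
  decide +kernel

/-- coset representatives -/
def wE6_2 : List (List ℕ) := [[],
  [2],
  [3,2],
  [1,3,2]]
/-- their degrees -/
def dE6_2 : List (ℕ × ℕ) := [(0,0), (1,0), (2,0), (3,0)]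
theorem stepE6_2 : StepOK cE6 [3, 1, 2] [3, 1] 2 (toFinW 6 wE6_2) waE6 wbE6 dE6_2 := by
  decide +kernel

/-- coset representatives -/
def wE6_3 : List (List ℕ) := [[],
  [4],
  [3,4],
  [1,3,4],
  [2,3,4],
  [2,1,3,4],
  [3,2,1,3,4],
  [4,3,2,1,3,4]]
/-- their degrees -/
def dE6_3 : List (ℕ × ℕ) := [(0,0), (1,0), (2,0), (3,0), (3,0), (4,0), (5,0), (6,0)]
theorem stepE6_3 : StepOK cE6 [3, 1, 2, 4] [3, 1, 2] 4 (toFinW 6 wE6_3) waE6 wbE6 dE6_3 := by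
  decide +kernel

/-- coset representatives -/
def wE6_4 : List (List ℕ) := [[],
  [0],
  [2,0],
  [3,2,0],
  [1,3,2,0],
  [4,3,2,0],
  [4,1,3,2,0],
  [3,4,1,3,2,0],
  [2,3,4,1,3,2,0],
  [0,2,3,4,1,3,2,0]]
/-- their degrees -/
def dE6_4 : List (ℕ × ℕ) := [(0,0), (1,0), (2,0), (3,0), (4,0), (4,0), (5,0), (6,0), (7,0), (8,0)]
theorem stepE6_4 : StepOK cE6 [3, 1, 2, 4, 0] [3, 1, 2, 4] 0 (toFinW 6 wE6_4) waE6 wbE6 dE6_4 := by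
  decide +kernel

/-- coset representatives -/
def wE6_5 : List (List ℕ) := [[],
  [5],
  [4,5],
  [3,4,5],
  [1,3,4,5],
  [2,3,4,5],
  [2,1,3,4,5],
  [0,2,3,4,5],
  [3,2,1,3,4,5],
  [0,2,1,3,4,5],
  [4,3,2,1,3,4,5],
  [0,3,2,1,3,4,5],
  [0,4,3,2,1,3,4,5],
  [5,4,3,2,1,3,4,5],
  [2,0,3,2,1,3,4,5],
  [2,0,4,3,2,1,3,4,5],
  [5,0,4,3,2,1,3,4,5],
  [3,2,0,4,3,2,1,3,4,5],
  [5,2,0,4,3,2,1,3,4,5],
  [1,3,2,0,4,3,2,1,3,4,5],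
  [5,3,2,0,4,3,2,1,3,4,5],
  [5,1,3,2,0,4,3,2,1,3,4,5],
  [4,5,3,2,0,4,3,2,1,3,4,5],
  [4,5,1,3,2,0,4,3,2,1,3,4,5],
  [3,4,5,1,3,2,0,4,3,2,1,3,4,5],
  [2,3,4,5,1,3,2,0,4,3,2,1,3,4,5],
  [0,2,3,4,5,1,3,2,0,4,3,2,1,3,4,5]]
/-- their degrees -/
def dE6_5 : List (ℕ × ℕ) := [(0,0), (1,0), (2,0), (3,0), (4,0), (4,0), (5,0), (5,0), (6,0), (6,0), (7,0), (7,0), (8,0), (8,0), (8,0), (9,0), (9,0), (10,0), (10,0), (11,0), (11,0), (12,0), (12,0), (13,0), (14,0), (15,0), (16,0)]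
theorem stepE6_5 : StepOK cE6 [3, 1, 2, 4, 0, 5] [3, 1, 2, 4, 0] 5 (toFinW 6 wE6_5) waE6 wbE6 dE6_5 := by
  decide +kernel

/-- a Cartan matrix of type E7 -/
def cE7 : Matrix (Fin 7) (Fin 7) ℤ := !![2, 0, -1, 0, 0, 0, 0; 0, 2, 0, -1, 0, 0, 0; -1, 0, 2, -1, 0, 0, 0; 0, -1, -1, 2, -1, 0, 0; 0, 0, 0, -1, 2, -1, 0; 0, 0, 0, 0, -1, 2, -1; 0, 0, 0, 0, 0, -1, 2]

theorem isCartan_E7 : IsCartan (CoxeterMatrix.E₇) cE7 := by decide +kernel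

/-- first colour -/
def waE7 : Fin 7 → ℕ := ![1, 1, 1, 1, 1, 1, 1]
/-- second colour -/
def wbE7 : Fin 7 → ℕ := ![0, 0, 0, 0, 0, 0, 0]

/-- coset representatives -/
def wE7_0 : List (List ℕ) := [[],
  [3]]
/-- their degrees -/
def dE7_0 : List (ℕ × ℕ) := [(0,0), (1,0)]
theorem stepE7_0 : StepOK cE7 [3] [] 3 (toFinW 7 wE7_0) waE7 wbE7 dE7_0 := by
  decide +kernel

/-- coset representatives -/
def wE7_1 : List (List ℕ) := [[],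
  [1],
  [3,1]]
/-- their degrees -/
def dE7_1 : List (ℕ × ℕ) := [(0,0), (1,0), (2,0)]
theorem stepE7_1 : StepOK cE7 [3, 1] [3] 1 (toFinW 7 wE7_1) waE7 wbE7 dE7_1 := by
  decide +kernel

/-- coset representatives -/
def wE7_2 : List (List ℕ) := [[],
  [2],
  [3,2],
  [1,3,2]]
/-- their degrees -/
def dE7_2 : List (ℕ × ℕ) := [(0,0), (1,0), (2,0), (3,0)]
theorem stepE7_2 : StepOK cE7 [3, 1, 2] [3, 1] 2 (toFinW 7 wE7_2) waE7 wbE7 dE7_2 := by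
  decide +kernel

/-- coset representatives -/
def wE7_3 : List (List ℕ) := [[],
  [4],
  [3,4],
  [1,3,4],
  [2,3,4],
  [2,1,3,4],
  [3,2,1,3,4],
  [4,3,2,1,3,4]]
/-- their degrees -/
def dE7_3 : List (ℕ × ℕ) := [(0,0), (1,0), (2,0), (3,0), (3,0), (4,0), (5,0), (6,0)]
theorem stepE7_3 : StepOK cE7 [3, 1, 2, 4] [3, 1, 2] 4 (toFinW 7 wE7_3) waE7 wbE7 dE7_3 := by
  decide +kernel

/-- coset representatives -/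
def wE7_4 : List (List ℕ) := [[],
  [0],
  [2,0],
  [3,2,0],
  [1,3,2,0],
  [4,3,2,0],
  [4,1,3,2,0],
  [3,4,1,3,2,0],
  [2,3,4,1,3,2,0],
  [0,2,3,4,1,3,2,0]]
/-- their degrees -/
def dE7_4 : List (ℕ × ℕ) := [(0,0), (1,0), (2,0), (3,0), (4,0), (4,0), (5,0), (6,0), (7,0), (8,0)]
theorem stepE7_4 : StepOK cE7 [3, 1, 2, 4, 0] [3, 1, 2, 4] 0 (toFinW 7 wE7_4) waE7 wbE7 dE7_4 := by
  decide +kernel

/-- coset representatives -/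
def wE7_5 : List (List ℕ) := [[],
  [5],
  [4,5],
  [3,4,5],
  [1,3,4,5],
  [2,3,4,5],
  [2,1,3,4,5],
  [0,2,3,4,5],
  [3,2,1,3,4,5],
  [0,2,1,3,4,5],
  [4,3,2,1,3,4,5],
  [0,3,2,1,3,4,5],
  [0,4,3,2,1,3,4,5],
  [5,4,3,2,1,3,4,5],
  [2,0,3,2,1,3,4,5],
  [2,0,4,3,2,1,3,4,5],
  [5,0,4,3,2,1,3,4,5],
  [3,2,0,4,3,2,1,3,4,5],
  [5,2,0,4,3,2,1,3,4,5],
  [1,3,2,0,4,3,2,1,3,4,5],
  [5,3,2,0,4,3,2,1,3,4,5],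
  [5,1,3,2,0,4,3,2,1,3,4,5],
  [4,5,3,2,0,4,3,2,1,3,4,5],
  [4,5,1,3,2,0,4,3,2,1,3,4,5],
  [3,4,5,1,3,2,0,4,3,2,1,3,4,5],
  [2,3,4,5,1,3,2,0,4,3,2,1,3,4,5],
  [0,2,3,4,5,1,3,2,0,4,3,2,1,3,4,5]]
/-- their degrees -/
def dE7_5 : List (ℕ × ℕ) := [(0,0), (1,0), (2,0), (3,0), (4,0), (4,0), (5,0), (5,0), (6,0), (6,0), (7,0), (7,0), (8,0), (8,0), (8,0), (9,0), (9,0), (10,0), (10,0), (11,0), (11,0), (12,0), (12,0), (13,0), (14,0), (15,0), (16,0)]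
theorem stepE7_5 : StepOK cE7 [3, 1, 2, 4, 0, 5] [3, 1, 2, 4, 0] 5 (toFinW 7 wE7_5) waE7 wbE7 dE7_5 := by
  decide +kernel

/-- coset representatives -/
def wE7_6 : List (List ℕ) := [[],
  [6],
  [5,6],
  [4,5,6],
  [3,4,5,6],
  [1,3,4,5,6],
  [2,3,4,5,6],
  [2,1,3,4,5,6],
  [0,2,3,4,5,6],
  [3,2,1,3,4,5,6],
  [0,2,1,3,4,5,6],
  [4,3,2,1,3,4,5,6],
  [0,3,2,1,3,4,5,6],
  [0,4,3,2,1,3,4,5,6],
  [5,4,3,2,1,3,4,5,6],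
  [2,0,3,2,1,3,4,5,6],
  [2,0,4,3,2,1,3,4,5,6],
  [5,0,4,3,2,1,3,4,5,6],
  [6,5,4,3,2,1,3,4,5,6],
  [3,2,0,4,3,2,1,3,4,5,6],
  [5,2,0,4,3,2,1,3,4,5,6],
  [6,5,0,4,3,2,1,3,4,5,6],
  [1,3,2,0,4,3,2,1,3,4,5,6],
  [5,3,2,0,4,3,2,1,3,4,5,6],
  [6,5,2,0,4,3,2,1,3,4,5,6],
  [5,1,3,2,0,4,3,2,1,3,4,5,6],
  [4,5,3,2,0,4,3,2,1,3,4,5,6],
  [6,5,3,2,0,4,3,2,1,3,4,5,6],
  [4,5,1,3,2,0,4,3,2,1,3,4,5,6],
  [6,5,1,3,2,0,4,3,2,1,3,4,5,6],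
  [6,4,5,3,2,0,4,3,2,1,3,4,5,6],
  [3,4,5,1,3,2,0,4,3,2,1,3,4,5,6],
  [6,4,5,1,3,2,0,4,3,2,1,3,4,5,6],
  [5,6,4,5,3,2,0,4,3,2,1,3,4,5,6],
  [2,3,4,5,1,3,2,0,4,3,2,1,3,4,5,6],
  [6,3,4,5,1,3,2,0,4,3,2,1,3,4,5,6],
  [5,6,4,5,1,3,2,0,4,3,2,1,3,4,5,6],
  [0,2,3,4,5,1,3,2,0,4,3,2,1,3,4,5,6],
  [6,2,3,4,5,1,3,2,0,4,3,2,1,3,4,5,6],
  [5,6,3,4,5,1,3,2,0,4,3,2,1,3,4,5,6],
  [6,0,2,3,4,5,1,3,2,0,4,3,2,1,3,4,5,6],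
  [5,6,2,3,4,5,1,3,2,0,4,3,2,1,3,4,5,6],
  [4,5,6,3,4,5,1,3,2,0,4,3,2,1,3,4,5,6],
  [5,6,0,2,3,4,5,1,3,2,0,4,3,2,1,3,4,5,6],
  [4,5,6,2,3,4,5,1,3,2,0,4,3,2,1,3,4,5,6],
  [4,5,6,0,2,3,4,5,1,3,2,0,4,3,2,1,3,4,5,6],
  [3,4,5,6,2,3,4,5,1,3,2,0,4,3,2,1,3,4,5,6],
  [3,4,5,6,0,2,3,4,5,1,3,2,0,4,3,2,1,3,4,5,6],
  [1,3,4,5,6,2,3,4,5,1,3,2,0,4,3,2,1,3,4,5,6],
  [1,3,4,5,6,0,2,3,4,5,1,3,2,0,4,3,2,1,3,4,5,6],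
  [2,3,4,5,6,0,2,3,4,5,1,3,2,0,4,3,2,1,3,4,5,6],
  [2,1,3,4,5,6,0,2,3,4,5,1,3,2,0,4,3,2,1,3,4,5,6],
  [3,2,1,3,4,5,6,0,2,3,4,5,1,3,2,0,4,3,2,1,3,4,5,6],
  [4,3,2,1,3,4,5,6,0,2,3,4,5,1,3,2,0,4,3,2,1,3,4,5,6],
  [5,4,3,2,1,3,4,5,6,0,2,3,4,5,1,3,2,0,4,3,2,1,3,4,5,6],
  [6,5,4,3,2,1,3,4,5,6,0,2,3,4,5,1,3,2,0,4,3,2,1,3,4,5,6]]
/-- their degrees -/
def dE7_6 : List (ℕ × ℕ) := [(0,0), (1,0), (2,0), (3,0), (4,0), (5,0), (5,0), (6,0), (6,0), (7,0), (7,0), (8,0), (8,0), (9,0), (9,0), (9,0), (10,0), (10,0), (10,0), (11,0), (11,0), (11,0), (12,0), (12,0), (12,0), (13,0), (13,0), (13,0), (14,0), (14,0), (14,0), (15,0), (15,0), (15,0), (16,0), (16,0), (16,0), (17,0), (17,0), (17,0), (18,0), (18,0), (18,0), (19,0), (19,0), (20,0), (20,0), (21,0), (21,0), (22,0), (22,0), (23,0), (24,0), (25,0), (26,0),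 (27,0)]
theorem stepE7_6 : StepOK cE7 [3, 1, 2, 4, 0, 5, 6] [3, 1, 2, 4, 0, 5] 6 (toFinW 7 wE7_6) waE7 wbE7 dE7_6 := by
  decide +kernel

/-- a Cartan matrix of type E8 -/
def cE8 : Matrix (Fin 8) (Fin 8) ℤ := !![2, 0, -1, 0, 0, 0, 0, 0; 0, 2, 0, -1, 0, 0, 0, 0; -1, 0, 2, -1, 0, 0, 0, 0; 0, -1, -1, 2, -1, 0, 0, 0; 0, 0, 0, -1, 2, -1, 0, 0; 0, 0, 0, 0, -1, 2, -1, 0; 0, 0, 0, 0, 0, -1, 2, -1; 0, 0, 0, 0, 0, 0, -1, 2]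

theorem isCartan_E8 : IsCartan (CoxeterMatrix.E₈) cE8 := by decide +kernel

/-- first colour -/
def waE8 : Fin 8 → ℕ := ![1, 1, 1, 1, 1, 1, 1, 1]
/-- second colour -/
def wbE8 : Fin 8 → ℕ := ![0, 0, 0, 0, 0, 0, 0, 0]

/-- coset representatives -/
def wE8_0 : List (List ℕ) := [[],
  [3]]
/-- their degrees -/
def dE8_0 : List (ℕ × ℕ) := [(0,0), (1,0)]
theorem stepE8_0 : StepOK cE8 [3] [] 3 (toFinW 8 wE8_0) waE8 wbE8 dE8_0 := by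
  decide +kernel

/-- coset representatives -/
def wE8_1 : List (List ℕ) := [[],
  [1],
  [3,1]]
/-- their degrees -/
def dE8_1 : List (ℕ × ℕ) := [(0,0), (1,0), (2,0)]
theorem stepE8_1 : StepOK cE8 [3, 1] [3] 1 (toFinW 8 wE8_1) waE8 wbE8 dE8_1 := by
  decide +kernel

/-- coset representatives -/
def wE8_2 : List (List ℕ) := [[],
  [2],
  [3,2],
  [1,3,2]]
/-- their degrees -/
def dE8_2 : List (ℕ × ℕ) := [(0,0), (1,0), (2,0), (3,0)]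
theorem stepE8_2 : StepOK cE8 [3, 1, 2] [3, 1] 2 (toFinW 8 wE8_2) waE8 wbE8 dE8_2 := by
  decide +kernel

/-- coset representatives -/
def wE8_3 : List (List ℕ) := [[],
  [4],
  [3,4],
  [1,3,4],
  [2,3,4],
  [2,1,3,4],
  [3,2,1,3,4],
  [4,3,2,1,3,4]]
/-- their degrees -/
def dE8_3 : List (ℕ × ℕ) := [(0,0), (1,0), (2,0), (3,0), (3,0), (4,0), (5,0), (6,0)]
theorem stepE8_3 : StepOK cE8 [3, 1, 2, 4] [3, 1, 2] 4 (toFinW 8 wE8_3) waE8 wbE8 dE8_3 := by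
  decide +kernel

/-- coset representatives -/
def wE8_4 : List (List ℕ) := [[],
  [0],
  [2,0],
  [3,2,0],
  [1,3,2,0],
  [4,3,2,0],
  [4,1,3,2,0],
  [3,4,1,3,2,0],
  [2,3,4,1,3,2,0],
  [0,2,3,4,1,3,2,0]]
/-- their degrees -/
def dE8_4 : List (ℕ × ℕ) := [(0,0), (1,0), (2,0), (3,0), (4,0), (4,0), (5,0), (6,0), (7,0), (8,0)]
theorem stepE8_4 : StepOK cE8 [3, 1, 2, 4, 0] [3, 1, 2, 4] 0 (toFinW 8 wE8_4) waE8 wbE8 dE8_4 := by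
  decide +kernel

/-- coset representatives -/
def wE8_5 : List (List ℕ) := [[],
  [5],
  [4,5],
  [3,4,5],
  [1,3,4,5],
  [2,3,4,5],
  [2,1,3,4,5],
  [0,2,3,4,5],
  [3,2,1,3,4,5],
  [0,2,1,3,4,5],
  [4,3,2,1,3,4,5],
  [0,3,2,1,3,4,5],
  [0,4,3,2,1,3,4,5],
  [5,4,3,2,1,3,4,5],
  [2,0,3,2,1,3,4,5],
  [2,0,4,3,2,1,3,4,5],
  [5,0,4,3,2,1,3,4,5],
  [3,2,0,4,3,2,1,3,4,5],
  [5,2,0,4,3,2,1,3,4,5],
  [1,3,2,0,4,3,2,1,3,4,5],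
  [5,3,2,0,4,3,2,1,3,4,5],
  [5,1,3,2,0,4,3,2,1,3,4,5],
  [4,5,3,2,0,4,3,2,1,3,4,5],
  [4,5,1,3,2,0,4,3,2,1,3,4,5],
  [3,4,5,1,3,2,0,4,3,2,1,3,4,5],
  [2,3,4,5,1,3,2,0,4,3,2,1,3,4,5],
  [0,2,3,4,5,1,3,2,0,4,3,2,1,3,4,5]]
/-- their degrees -/
def dE8_5 : List (ℕ × ℕ) := [(0,0), (1,0), (2,0), (3,0), (4,0), (4,0), (5,0), (5,0), (6,0), (6,0), (7,0), (7,0), (8,0), (8,0), (8,0), (9,0), (9,0), (10,0), (10,0), (11,0), (11,0), (12,0), (12,0), (13,0), (14,0), (15,0), (16,0)]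
theorem stepE8_5 : StepOK cE8 [3, 1, 2, 4, 0, 5] [3, 1, 2, 4, 0] 5 (toFinW 8 wE8_5) waE8 wbE8 dE8_5 := by
  decide +kernel

/-- coset representatives -/
def wE8_6 : List (List ℕ) := [[],
  [6],
  [5,6],
  [4,5,6],
  [3,4,5,6],
  [1,3,4,5,6],
  [2,3,4,5,6],
  [2,1,3,4,5,6],
  [0,2,3,4,5,6],
  [3,2,1,3,4,5,6],
  [0,2,1,3,4,5,6],
  [4,3,2,1,3,4,5,6],
  [0,3,2,1,3,4,5,6],
  [0,4,3,2,1,3,4,5,6],
  [5,4,3,2,1,3,4,5,6],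
  [2,0,3,2,1,3,4,5,6],
  [2,0,4,3,2,1,3,4,5,6],
  [5,0,4,3,2,1,3,4,5,6],
  [6,5,4,3,2,1,3,4,5,6],
  [3,2,0,4,3,2,1,3,4,5,6],
  [5,2,0,4,3,2,1,3,4,5,6],
  [6,5,0,4,3,2,1,3,4,5,6],
  [1,3,2,0,4,3,2,1,3,4,5,6],
  [5,3,2,0,4,3,2,1,3,4,5,6],
  [6,5,2,0,4,3,2,1,3,4,5,6],
  [5,1,3,2,0,4,3,2,1,3,4,5,6],
  [4,5,3,2,0,4,3,2,1,3,4,5,6],
  [6,5,3,2,0,4,3,2,1,3,4,5,6],
  [4,5,1,3,2,0,4,3,2,1,3,4,5,6],
  [6,5,1,3,2,0,4,3,2,1,3,4,5,6],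
  [6,4,5,3,2,0,4,3,2,1,3,4,5,6],
  [3,4,5,1,3,2,0,4,3,2,1,3,4,5,6],
  [6,4,5,1,3,2,0,4,3,2,1,3,4,5,6],
  [5,6,4,5,3,2,0,4,3,2,1,3,4,5,6],
  [2,3,4,5,1,3,2,0,4,3,2,1,3,4,5,6],
  [6,3,4,5,1,3,2,0,4,3,2,1,3,4,5,6],
  [5,6,4,5,1,3,2,0,4,3,2,1,3,4,5,6],
  [0,2,3,4,5,1,3,2,0,4,3,2,1,3,4,5,6],
  [6,2,3,4,5,1,3,2,0,4,3,2,1,3,4,5,6],
  [5,6,3,4,5,1,3,2,0,4,3,2,1,3,4,5,6],
  [6,0,2,3,4,5,1,3,2,0,4,3,2,1,3,4,5,6],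
  [5,6,2,3,4,5,1,3,2,0,4,3,2,1,3,4,5,6],
  [4,5,6,3,4,5,1,3,2,0,4,3,2,1,3,4,5,6],
  [5,6,0,2,3,4,5,1,3,2,0,4,3,2,1,3,4,5,6],
  [4,5,6,2,3,4,5,1,3,2,0,4,3,2,1,3,4,5,6],
  [4,5,6,0,2,3,4,5,1,3,2,0,4,3,2,1,3,4,5,6],
  [3,4,5,6,2,3,4,5,1,3,2,0,4,3,2,1,3,4,5,6],
  [3,4,5,6,0,2,3,4,5,1,3,2,0,4,3,2,1,3,4,5,6],
  [1,3,4,5,6,2,3,4,5,1,3,2,0,4,3,2,1,3,4,5,6],
  [1,3,4,5,6,0,2,3,4,5,1,3,2,0,4,3,2,1,3,4,5,6],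
  [2,3,4,5,6,0,2,3,4,5,1,3,2,0,4,3,2,1,3,4,5,6],
  [2,1,3,4,5,6,0,2,3,4,5,1,3,2,0,4,3,2,1,3,4,5,6],
  [3,2,1,3,4,5,6,0,2,3,4,5,1,3,2,0,4,3,2,1,3,4,5,6],
  [4,3,2,1,3,4,5,6,0,2,3,4,5,1,3,2,0,4,3,2,1,3,4,5,6],
  [5,4,3,2,1,3,4,5,6,0,2,3,4,5,1,3,2,0,4,3,2,1,3,4,5,6],
  [6,5,4,3,2,1,3,4,5,6,0,2,3,4,5,1,3,2,0,4,3,2,1,3,4,5,6]]
/-- their degrees -/
def dE8_6 : List (ℕ × ℕ) := [(0,0), (1,0), (2,0), (3,0), (4,0), (5,0), (5,0), (6,0), (6,0), (7,0), (7,0), (8,0), (8,0), (9,0), (9,0), (9,0), (10,0), (10,0), (10,0), (11,0), (11,0), (11,0), (12,0), (12,0), (12,0), (13,0), (13,0), (13,0), (14,0), (14,0), (14,0), (15,0), (15,0), (15,0), (16,0), (16,0), (16,0), (17,0), (17,0), (17,0), (18,0), (18,0), (18,0), (19,0), (19,0), (20,0), (20,0), (21,0), (21,0), (22,0), (22,0), (23,0), (24,0), (25,0), (26,0),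 (27,0)]
theorem stepE8_6 : StepOK cE8 [3, 1, 2, 4, 0, 5, 6] [3, 1, 2, 4, 0, 5] 6 (toFinW 8 wE8_6) waE8 wbE8 dE8_6 := by
  decide +kernel

end CL.Cox
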