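/-
The last orbit certificate for the Coxeter group of type E8 (240 cosets of E7; about three minutes of kernel time).
-/
import Cfsg.Agent.Chev.CoxTables

set_option autoImplicit false
set_option maxRecDepth 100000

namespace CL.Cox

/-- coset representatives -/
def wE8_7 : List (List ℕ) := [[],
  [7],
  [6,7],
  [5,6,7],
  [4,5,6,7],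
  [3,4,5,6,7],
  [1,3,4,5,6,7],
  [2,3,4,5,6,7],
  [2,1,3,4,5,6,7],
  [0,2,3,4,5,6,7],
  [3,2,1,3,4,5,6,7],
  [0,2,1,3,4,5,6,7],
  [4,3,2,1,3,4,5,6,7],
  [0,3,2,1,3,4,5,6,7],
  [0,4,3,2,1,3,4,5,6,7],
  [5,4,3,2,1,3,4,5,6,7],
  [2,0,3,2,1,3,4,5,6,7],
  [2,0,4,3,2,1,3,4,5,6,7],
  [5,0,4,3,2,1,3,4,5,6,7],
  [6,5,4,3,2,1,3,4,5,6,7],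
  [3,2,0,4,3,2,1,3,4,5,6,7],
  [5,2,0,4,3,2,1,3,4,5,6,7],
  [6,5,0,4,3,2,1,3,4,5,6,7],
  [7,6,5,4,3,2,1,3,4,5,6,7],
  [1,3,2,0,4,3,2,1,3,4,5,6,7],
  [5,3,2,0,4,3,2,1,3,4,5,6,7],
  [6,5,2,0,4,3,2,1,3,4,5,6,7],
  [7,6,5,0,4,3,2,1,3,4,5,6,7],
  [5,1,3,2,0,4,3,2,1,3,4,5,6,7],
  [4,5,3,2,0,4,3,2,1,3,4,5,6,7],
  [6,5,3,2,0,4,3,2,1,3,4,5,6,7],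
  [7,6,5,2,0,4,3,2,1,3,4,5,6,7],
  [4,5,1,3,2,0,4,3,2,1,3,4,5,6,7],
  [6,5,1,3,2,0,4,3,2,1,3,4,5,6,7],
  [6,4,5,3,2,0,4,3,2,1,3,4,5,6,7],
  [7,6,5,3,2,0,4,3,2,1,3,4,5,6,7],
  [3,4,5,1,3,2,0,4,3,2,1,3,4,5,6,7],
  [6,4,5,1,3,2,0,4,3,2,1,3,4,5,6,7],
  [7,6,5,1,3,2,0,4,3,2,1,3,4,5,6,7],
  [5,6,4,5,3,2,0,4,3,2,1,3,4,5,6,7],
  [7,6,4,5,3,2,0,4,3,2,1,3,4,5,6,7],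
  [2,3,4,5,1,3,2,0,4,3,2,1,3,4,5,6,7],
  [6,3,4,5,1,3,2,0,4,3,2,1,3,4,5,6,7],
  [5,6,4,5,1,3,2,0,4,3,2,1,3,4,5,6,7],
  [7,6,4,5,1,3,2,0,4,3,2,1,3,4,5,6,7],
  [7,5,6,4,5,3,2,0,4,3,2,1,3,4,5,6,7],
  [0,2,3,4,5,1,3,2,0,4,3,2,1,3,4,5,6,7],
  [6,2,3,4,5,1,3,2,0,4,3,2,1,3,4,5,6,7],
  [5,6,3,4,5,1,3,2,0,4,3,2,1,3,4,5,6,7],
  [7,6,3,4,5,1,3,2,0,4,3,2,1,3,4,5,6,7],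
  [7,5,6,4,5,1,3,2,0,4,3,2,1,3,4,5,6,7],
  [6,7,5,6,4,5,3,2,0,4,3,2,1,3,4,5,6,7],
  [6,0,2,3,4,5,1,3,2,0,4,3,2,1,3,4,5,6,7],
  [5,6,2,3,4,5,1,3,2,0,4,3,2,1,3,4,5,6,7],
  [7,6,2,3,4,5,1,3,2,0,4,3,2,1,3,4,5,6,7],
  [4,5,6,3,4,5,1,3,2,0,4,3,2,1,3,4,5,6,7],
  [7,5,6,3,4,5,1,3,2,0,4,3,2,1,3,4,5,6,7],
  [6,7,5,6,4,5,1,3,2,0,4,3,2,1,3,4,5,6,7],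
  [5,6,0,2,3,4,5,1,3,2,0,4,3,2,1,3,4,5,6,7],
  [7,6,0,2,3,4,5,1,3,2,0,4,3,2,1,3,4,5,6,7],
  [4,5,6,2,3,4,5,1,3,2,0,4,3,2,1,3,4,5,6,7],
  [7,5,6,2,3,4,5,1,3,2,0,4,3,2,1,3,4,5,6,7],
  [7,4,5,6,3,4,5,1,3,2,0,4,3,2,1,3,4,5,6,7],
  [6,7,5,6,3,4,5,1,3,2,0,4,3,2,1,3,4,5,6,7],
  [4,5,6,0,2,3,4,5,1,3,2,0,4,3,2,1,3,4,5,6,7],
  [7,5,6,0,2,3,4,5,1,3,2,0,4,3,2,1,3,4,5,6,7],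
  [3,4,5,6,2,3,4,5,1,3,2,0,4,3,2,1,3,4,5,6,7],
  [7,4,5,6,2,3,4,5,1,3,2,0,4,3,2,1,3,4,5,6,7],
  [6,7,5,6,2,3,4,5,1,3,2,0,4,3,2,1,3,4,5,6,7],
  [6,7,4,5,6,3,4,5,1,3,2,0,4,3,2,1,3,4,5,6,7],
  [3,4,5,6,0,2,3,4,5,1,3,2,0,4,3,2,1,3,4,5,6,7],
  [7,4,5,6,0,2,3,4,5,1,3,2,0,4,3,2,1,3,4,5,6,7],
  [6,7,5,6,0,2,3,4,5,1,3,2,0,4,3,2,1,3,4,5,6,7],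
  [1,3,4,5,6,2,3,4,5,1,3,2,0,4,3,2,1,3,4,5,6,7],
  [7,3,4,5,6,2,3,4,5,1,3,2,0,4,3,2,1,3,4,5,6,7],
  [6,7,4,5,6,2,3,4,5,1,3,2,0,4,3,2,1,3,4,5,6,7],
  [5,6,7,4,5,6,3,4,5,1,3,2,0,4,3,2,1,3,4,5,6,7],
  [1,3,4,5,6,0,2,3,4,5,1,3,2,0,4,3,2,1,3,4,5,6,7],
  [2,3,4,5,6,0,2,3,4,5,1,3,2,0,4,3,2,1,3,4,5,6,7],
  [7,3,4,5,6,0,2,3,4,5,1,3,2,0,4,3,2,1,3,4,5,6,7],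
  [6,7,4,5,6,0,2,3,4,5,1,3,2,0,4,3,2,1,3,4,5,6,7],
  [7,1,3,4,5,6,2,3,4,5,1,3,2,0,4,3,2,1,3,4,5,6,7],
  [6,7,3,4,5,6,2,3,4,5,1,3,2,0,4,3,2,1,3,4,5,6,7],
  [5,6,7,4,5,6,2,3,4,5,1,3,2,0,4,3,2,1,3,4,5,6,7],
  [2,1,3,4,5,6,0,2,3,4,5,1,3,2,0,4,3,2,1,3,4,5,6,7],
  [7,1,3,4,5,6,0,2,3,4,5,1,3,2,0,4,3,2,1,3,4,5,6,7],
  [7,2,3,4,5,6,0,2,3,4,5,1,3,2,0,4,3,2,1,3,4,5,6,7],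
  [6,7,3,4,5,6,0,2,3,4,5,1,3,2,0,4,3,2,1,3,4,5,6,7],
  [5,6,7,4,5,6,0,2,3,4,5,1,3,2,0,4,3,2,1,3,4,5,6,7],
  [6,7,1,3,4,5,6,2,3,4,5,1,3,2,0,4,3,2,1,3,4,5,6,7],
  [5,6,7,3,4,5,6,2,3,4,5,1,3,2,0,4,3,2,1,3,4,5,6,7],
  [3,2,1,3,4,5,6,0,2,3,4,5,1,3,2,0,4,3,2,1,3,4,5,6,7],
  [7,2,1,3,4,5,6,0,2,3,4,5,1,3,2,0,4,3,2,1,3,4,5,6,7],
  [6,7,1,3,4,5,6,0,2,3,4,5,1,3,2,0,4,3,2,1,3,4,5,6,7],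
  [6,7,2,3,4,5,6,0,2,3,4,5,1,3,2,0,4,3,2,1,3,4,5,6,7],
  [5,6,7,3,4,5,6,0,2,3,4,5,1,3,2,0,4,3,2,1,3,4,5,6,7],
  [5,6,7,1,3,4,5,6,2,3,4,5,1,3,2,0,4,3,2,1,3,4,5,6,7],
  [4,5,6,7,3,4,5,6,2,3,4,5,1,3,2,0,4,3,2,1,3,4,5,6,7],
  [4,3,2,1,3,4,5,6,0,2,3,4,5,1,3,2,0,4,3,2,1,3,4,5,6,7],
  [7,3,2,1,3,4,5,6,0,2,3,4,5,1,3,2,0,4,3,2,1,3,4,5,6,7],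
  [6,7,2,1,3,4,5,6,0,2,3,4,5,1,3,2,0,4,3,2,1,3,4,5,6,7],
  [5,6,7,1,3,4,5,6,0,2,3,4,5,1,3,2,0,4,3,2,1,3,4,5,6,7],
  [5,6,7,2,3,4,5,6,0,2,3,4,5,1,3,2,0,4,3,2,1,3,4,5,6,7],
  [4,5,6,7,3,4,5,6,0,2,3,4,5,1,3,2,0,4,3,2,1,3,4,5,6,7],
  [4,5,6,7,1,3,4,5,6,2,3,4,5,1,3,2,0,4,3,2,1,3,4,5,6,7],
  [5,4,3,2,1,3,4,5,6,0,2,3,4,5,1,3,2,0,4,3,2,1,3,4,5,6,7],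
  [7,4,3,2,1,3,4,5,6,0,2,3,4,5,1,3,2,0,4,3,2,1,3,4,5,6,7],
  [6,7,3,2,1,3,4,5,6,0,2,3,4,5,1,3,2,0,4,3,2,1,3,4,5,6,7],
  [5,6,7,2,1,3,4,5,6,0,2,3,4,5,1,3,2,0,4,3,2,1,3,4,5,6,7],
  [4,5,6,7,1,3,4,5,6,0,2,3,4,5,1,3,2,0,4,3,2,1,3,4,5,6,7],
  [4,5,6,7,2,3,4,5,6,0,2,3,4,5,1,3,2,0,4,3,2,1,3,4,5,6,7],
  [3,4,5,6,7,1,3,4,5,6,2,3,4,5,1,3,2,0,4,3,2,1,3,4,5,6,7],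
  [6,5,4,3,2,1,3,4,5,6,0,2,3,4,5,1,3,2,0,4,3,2,1,3,4,5,6,7],
  [7,5,4,3,2,1,3,4,5,6,0,2,3,4,5,1,3,2,0,4,3,2,1,3,4,5,6,7],
  [6,7,4,3,2,1,3,4,5,6,0,2,3,4,5,1,3,2,0,4,3,2,1,3,4,5,6,7],
  [5,6,7,3,2,1,3,4,5,6,0,2,3,4,5,1,3,2,0,4,3,2,1,3,4,5,6,7],
  [4,5,6,7,2,1,3,4,5,6,0,2,3,4,5,1,3,2,0,4,3,2,1,3,4,5,6,7],
  [3,4,5,6,7,1,3,4,5,6,0,2,3,4,5,1,3,2,0,4,3,2,1,3,4,5,6,7],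
  [3,4,5,6,7,2,3,4,5,6,0,2,3,4,5,1,3,2,0,4,3,2,1,3,4,5,6,7],
  [2,3,4,5,6,7,1,3,4,5,6,2,3,4,5,1,3,2,0,4,3,2,1,3,4,5,6,7],
  [7,6,5,4,3,2,1,3,4,5,6,0,2,3,4,5,1,3,2,0,4,3,2,1,3,4,5,6,7],
  [6,7,5,4,3,2,1,3,4,5,6,0,2,3,4,5,1,3,2,0,4,3,2,1,3,4,5,6,7],
  [5,6,7,4,3,2,1,3,4,5,6,0,2,3,4,5,1,3,2,0,4,3,2,1,3,4,5,6,7],
  [4,5,6,7,3,2,1,3,4,5,6,0,2,3,4,5,1,3,2,0,4,3,2,1,3,4,5,6,7],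
  [3,4,5,6,7,2,1,3,4,5,6,0,2,3,4,5,1,3,2,0,4,3,2,1,3,4,5,6,7],
  [2,3,4,5,6,7,1,3,4,5,6,0,2,3,4,5,1,3,2,0,4,3,2,1,3,4,5,6,7],
  [1,3,4,5,6,7,2,3,4,5,6,0,2,3,4,5,1,3,2,0,4,3,2,1,3,4,5,6,7],
  [0,2,3,4,5,6,7,1,3,4,5,6,2,3,4,5,1,3,2,0,4,3,2,1,3,4,5,6,7],
  [6,7,6,5,4,3,2,1,3,4,5,6,0,2,3,4,5,1,3,2,0,4,3,2,1,3,4,5,6,7],
  [5,6,7,5,4,3,2,1,3,4,5,6,0,2,3,4,5,1,3,2,0,4,3,2,1,3,4,5,6,7],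
  [4,5,6,7,4,3,2,1,3,4,5,6,0,2,3,4,5,1,3,2,0,4,3,2,1,3,4,5,6,7],
  [3,4,5,6,7,3,2,1,3,4,5,6,0,2,3,4,5,1,3,2,0,4,3,2,1,3,4,5,6,7],
  [1,3,4,5,6,7,2,1,3,4,5,6,0,2,3,4,5,1,3,2,0,4,3,2,1,3,4,5,6,7],
  [2,3,4,5,6,7,2,1,3,4,5,6,0,2,3,4,5,1,3,2,0,4,3,2,1,3,4,5,6,7],
  [0,2,3,4,5,6,7,1,3,4,5,6,0,2,3,4,5,1,3,2,0,4,3,2,1,3,4,5,6,7],
  [5,6,7,6,5,4,3,2,1,3,4,5,6,0,2,3,4,5,1,3,2,0,4,3,2,1,3,4,5,6,7],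
  [4,5,6,7,5,4,3,2,1,3,4,5,6,0,2,3,4,5,1,3,2,0,4,3,2,1,3,4,5,6,7],
  [3,4,5,6,7,4,3,2,1,3,4,5,6,0,2,3,4,5,1,3,2,0,4,3,2,1,3,4,5,6,7],
  [1,3,4,5,6,7,3,2,1,3,4,5,6,0,2,3,4,5,1,3,2,0,4,3,2,1,3,4,5,6,7],
  [2,3,4,5,6,7,3,2,1,3,4,5,6,0,2,3,4,5,1,3,2,0,4,3,2,1,3,4,5,6,7],
  [2,1,3,4,5,6,7,2,1,3,4,5,6,0,2,3,4,5,1,3,2,0,4,3,2,1,3,4,5,6,7],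
  [0,2,3,4,5,6,7,2,1,3,4,5,6,0,2,3,4,5,1,3,2,0,4,3,2,1,3,4,5,6,7],
  [4,5,6,7,6,5,4,3,2,1,3,4,5,6,0,2,3,4,5,1,3,2,0,4,3,2,1,3,4,5,6,7],
  [3,4,5,6,7,5,4,3,2,1,3,4,5,6,0,2,3,4,5,1,3,2,0,4,3,2,1,3,4,5,6,7],
  [1,3,4,5,6,7,4,3,2,1,3,4,5,6,0,2,3,4,5,1,3,2,0,4,3,2,1,3,4,5,6,7],
  [2,3,4,5,6,7,4,3,2,1,3,4,5,6,0,2,3,4,5,1,3,2,0,4,3,2,1,3,4,5,6,7],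
  [2,1,3,4,5,6,7,3,2,1,3,4,5,6,0,2,3,4,5,1,3,2,0,4,3,2,1,3,4,5,6,7],
  [0,2,3,4,5,6,7,3,2,1,3,4,5,6,0,2,3,4,5,1,3,2,0,4,3,2,1,3,4,5,6,7],
  [0,2,1,3,4,5,6,7,2,1,3,4,5,6,0,2,3,4,5,1,3,2,0,4,3,2,1,3,4,5,6,7],
  [3,4,5,6,7,6,5,4,3,2,1,3,4,5,6,0,2,3,4,5,1,3,2,0,4,3,2,1,3,4,5,6,7],
  [1,3,4,5,6,7,5,4,3,2,1,3,4,5,6,0,2,3,4,5,1,3,2,0,4,3,2,1,3,4,5,6,7],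
  [2,3,4,5,6,7,5,4,3,2,1,3,4,5,6,0,2,3,4,5,1,3,2,0,4,3,2,1,3,4,5,6,7],
  [2,1,3,4,5,6,7,4,3,2,1,3,4,5,6,0,2,3,4,5,1,3,2,0,4,3,2,1,3,4,5,6,7],
  [0,2,3,4,5,6,7,4,3,2,1,3,4,5,6,0,2,3,4,5,1,3,2,0,4,3,2,1,3,4,5,6,7],
  [3,2,1,3,4,5,6,7,3,2,1,3,4,5,6,0,2,3,4,5,1,3,2,0,4,3,2,1,3,4,5,6,7],
  [0,2,1,3,4,5,6,7,3,2,1,3,4,5,6,0,2,3,4,5,1,3,2,0,4,3,2,1,3,4,5,6,7],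
  [1,3,4,5,6,7,6,5,4,3,2,1,3,4,5,6,0,2,3,4,5,1,3,2,0,4,3,2,1,3,4,5,6,7],
  [2,3,4,5,6,7,6,5,4,3,2,1,3,4,5,6,0,2,3,4,5,1,3,2,0,4,3,2,1,3,4,5,6,7],
  [2,1,3,4,5,6,7,5,4,3,2,1,3,4,5,6,0,2,3,4,5,1,3,2,0,4,3,2,1,3,4,5,6,7],
  [0,2,3,4,5,6,7,5,4,3,2,1,3,4,5,6,0,2,3,4,5,1,3,2,0,4,3,2,1,3,4,5,6,7],
  [3,2,1,3,4,5,6,7,4,3,2,1,3,4,5,6,0,2,3,4,5,1,3,2,0,4,3,2,1,3,4,5,6,7],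
  [0,2,1,3,4,5,6,7,4,3,2,1,3,4,5,6,0,2,3,4,5,1,3,2,0,4,3,2,1,3,4,5,6,7],
  [0,3,2,1,3,4,5,6,7,3,2,1,3,4,5,6,0,2,3,4,5,1,3,2,0,4,3,2,1,3,4,5,6,7],
  [2,1,3,4,5,6,7,6,5,4,3,2,1,3,4,5,6,0,2,3,4,5,1,3,2,0,4,3,2,1,3,4,5,6,7],
  [0,2,3,4,5,6,7,6,5,4,3,2,1,3,4,5,6,0,2,3,4,5,1,3,2,0,4,3,2,1,3,4,5,6,7],
  [3,2,1,3,4,5,6,7,5,4,3,2,1,3,4,5,6,0,2,3,4,5,1,3,2,0,4,3,2,1,3,4,5,6,7],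
  [0,2,1,3,4,5,6,7,5,4,3,2,1,3,4,5,6,0,2,3,4,5,1,3,2,0,4,3,2,1,3,4,5,6,7],
  [4,3,2,1,3,4,5,6,7,4,3,2,1,3,4,5,6,0,2,3,4,5,1,3,2,0,4,3,2,1,3,4,5,6,7],
  [0,3,2,1,3,4,5,6,7,4,3,2,1,3,4,5,6,0,2,3,4,5,1,3,2,0,4,3,2,1,3,4,5,6,7],
  [2,0,3,2,1,3,4,5,6,7,3,2,1,3,4,5,6,0,2,3,4,5,1,3,2,0,4,3,2,1,3,4,5,6,7],
  [3,2,1,3,4,5,6,7,6,5,4,3,2,1,3,4,5,6,0,2,3,4,5,1,3,2,0,4,3,2,1,3,4,5,6,7],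
  [0,2,1,3,4,5,6,7,6,5,4,3,2,1,3,4,5,6,0,2,3,4,5,1,3,2,0,4,3,2,1,3,4,5,6,7],
  [4,3,2,1,3,4,5,6,7,5,4,3,2,1,3,4,5,6,0,2,3,4,5,1,3,2,0,4,3,2,1,3,4,5,6,7],
  [0,3,2,1,3,4,5,6,7,5,4,3,2,1,3,4,5,6,0,2,3,4,5,1,3,2,0,4,3,2,1,3,4,5,6,7],
  [0,4,3,2,1,3,4,5,6,7,4,3,2,1,3,4,5,6,0,2,3,4,5,1,3,2,0,4,3,2,1,3,4,5,6,7],
  [2,0,3,2,1,3,4,5,6,7,4,3,2,1,3,4,5,6,0,2,3,4,5,1,3,2,0,4,3,2,1,3,4,5,6,7],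
  [4,3,2,1,3,4,5,6,7,6,5,4,3,2,1,3,4,5,6,0,2,3,4,5,1,3,2,0,4,3,2,1,3,4,5,6,7],
  [0,3,2,1,3,4,5,6,7,6,5,4,3,2,1,3,4,5,6,0,2,3,4,5,1,3,2,0,4,3,2,1,3,4,5,6,7],
  [0,4,3,2,1,3,4,5,6,7,5,4,3,2,1,3,4,5,6,0,2,3,4,5,1,3,2,0,4,3,2,1,3,4,5,6,7],
  [5,4,3,2,1,3,4,5,6,7,5,4,3,2,1,3,4,5,6,0,2,3,4,5,1,3,2,0,4,3,2,1,3,4,5,6,7],
  [2,0,3,2,1,3,4,5,6,7,5,4,3,2,1,3,4,5,6,0,2,3,4,5,1,3,2,0,4,3,2,1,3,4,5,6,7],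
  [2,0,4,3,2,1,3,4,5,6,7,4,3,2,1,3,4,5,6,0,2,3,4,5,1,3,2,0,4,3,2,1,3,4,5,6,7],
  [0,4,3,2,1,3,4,5,6,7,6,5,4,3,2,1,3,4,5,6,0,2,3,4,5,1,3,2,0,4,3,2,1,3,4,5,6,7],
  [5,4,3,2,1,3,4,5,6,7,6,5,4,3,2,1,3,4,5,6,0,2,3,4,5,1,3,2,0,4,3,2,1,3,4,5,6,7],
  [2,0,3,2,1,3,4,5,6,7,6,5,4,3,2,1,3,4,5,6,0,2,3,4,5,1,3,2,0,4,3,2,1,3,4,5,6,7],
  [2,0,4,3,2,1,3,4,5,6,7,5,4,3,2,1,3,4,5,6,0,2,3,4,5,1,3,2,0,4,3,2,1,3,4,5,6,7],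
  [5,0,4,3,2,1,3,4,5,6,7,5,4,3,2,1,3,4,5,6,0,2,3,4,5,1,3,2,0,4,3,2,1,3,4,5,6,7],
  [3,2,0,4,3,2,1,3,4,5,6,7,4,3,2,1,3,4,5,6,0,2,3,4,5,1,3,2,0,4,3,2,1,3,4,5,6,7],
  [2,0,4,3,2,1,3,4,5,6,7,6,5,4,3,2,1,3,4,5,6,0,2,3,4,5,1,3,2,0,4,3,2,1,3,4,5,6,7],
  [5,0,4,3,2,1,3,4,5,6,7,6,5,4,3,2,1,3,4,5,6,0,2,3,4,5,1,3,2,0,4,3,2,1,3,4,5,6,7],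
  [6,5,4,3,2,1,3,4,5,6,7,6,5,4,3,2,1,3,4,5,6,0,2,3,4,5,1,3,2,0,4,3,2,1,3,4,5,6,7],
  [3,2,0,4,3,2,1,3,4,5,6,7,5,4,3,2,1,3,4,5,6,0,2,3,4,5,1,3,2,0,4,3,2,1,3,4,5,6,7],
  [5,2,0,4,3,2,1,3,4,5,6,7,5,4,3,2,1,3,4,5,6,0,2,3,4,5,1,3,2,0,4,3,2,1,3,4,5,6,7],
  [1,3,2,0,4,3,2,1,3,4,5,6,7,4,3,2,1,3,4,5,6,0,2,3,4,5,1,3,2,0,4,3,2,1,3,4,5,6,7],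
  [3,2,0,4,3,2,1,3,4,5,6,7,6,5,4,3,2,1,3,4,5,6,0,2,3,4,5,1,3,2,0,4,3,2,1,3,4,5,6,7],
  [5,2,0,4,3,2,1,3,4,5,6,7,6,5,4,3,2,1,3,4,5,6,0,2,3,4,5,1,3,2,0,4,3,2,1,3,4,5,6,7],
  [6,5,0,4,3,2,1,3,4,5,6,7,6,5,4,3,2,1,3,4,5,6,0,2,3,4,5,1,3,2,0,4,3,2,1,3,4,5,6,7],
  [1,3,2,0,4,3,2,1,3,4,5,6,7,5,4,3,2,1,3,4,5,6,0,2,3,4,5,1,3,2,0,4,3,2,1,3,4,5,6,7],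
  [5,3,2,0,4,3,2,1,3,4,5,6,7,5,4,3,2,1,3,4,5,6,0,2,3,4,5,1,3,2,0,4,3,2,1,3,4,5,6,7],
  [1,3,2,0,4,3,2,1,3,4,5,6,7,6,5,4,3,2,1,3,4,5,6,0,2,3,4,5,1,3,2,0,4,3,2,1,3,4,5,6,7],
  [5,3,2,0,4,3,2,1,3,4,5,6,7,6,5,4,3,2,1,3,4,5,6,0,2,3,4,5,1,3,2,0,4,3,2,1,3,4,5,6,7],
  [6,5,2,0,4,3,2,1,3,4,5,6,7,6,5,4,3,2,1,3,4,5,6,0,2,3,4,5,1,3,2,0,4,3,2,1,3,4,5,6,7],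
  [5,1,3,2,0,4,3,2,1,3,4,5,6,7,5,4,3,2,1,3,4,5,6,0,2,3,4,5,1,3,2,0,4,3,2,1,3,4,5,6,7],
  [4,5,3,2,0,4,3,2,1,3,4,5,6,7,5,4,3,2,1,3,4,5,6,0,2,3,4,5,1,3,2,0,4,3,2,1,3,4,5,6,7],
  [5,1,3,2,0,4,3,2,1,3,4,5,6,7,6,5,4,3,2,1,3,4,5,6,0,2,3,4,5,1,3,2,0,4,3,2,1,3,4,5,6,7],
  [4,5,3,2,0,4,3,2,1,3,4,5,6,7,6,5,4,3,2,1,3,4,5,6,0,2,3,4,5,1,3,2,0,4,3,2,1,3,4,5,6,7],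
  [6,5,3,2,0,4,3,2,1,3,4,5,6,7,6,5,4,3,2,1,3,4,5,6,0,2,3,4,5,1,3,2,0,4,3,2,1,3,4,5,6,7],
  [4,5,1,3,2,0,4,3,2,1,3,4,5,6,7,5,4,3,2,1,3,4,5,6,0,2,3,4,5,1,3,2,0,4,3,2,1,3,4,5,6,7],
  [4,5,1,3,2,0,4,3,2,1,3,4,5,6,7,6,5,4,3,2,1,3,4,5,6,0,2,3,4,5,1,3,2,0,4,3,2,1,3,4,5,6,7],
  [6,5,1,3,2,0,4,3,2,1,3,4,5,6,7,6,5,4,3,2,1,3,4,5,6,0,2,3,4,5,1,3,2,0,4,3,2,1,3,4,5,6,7],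
  [6,4,5,3,2,0,4,3,2,1,3,4,5,6,7,6,5,4,3,2,1,3,4,5,6,0,2,3,4,5,1,3,2,0,4,3,2,1,3,4,5,6,7],
  [3,4,5,1,3,2,0,4,3,2,1,3,4,5,6,7,5,4,3,2,1,3,4,5,6,0,2,3,4,5,1,3,2,0,4,3,2,1,3,4,5,6,7],
  [3,4,5,1,3,2,0,4,3,2,1,3,4,5,6,7,6,5,4,3,2,1,3,4,5,6,0,2,3,4,5,1,3,2,0,4,3,2,1,3,4,5,6,7],
  [6,4,5,1,3,2,0,4,3,2,1,3,4,5,6,7,6,5,4,3,2,1,3,4,5,6,0,2,3,4,5,1,3,2,0,4,3,2,1,3,4,5,6,7],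
  [5,6,4,5,3,2,0,4,3,2,1,3,4,5,6,7,6,5,4,3,2,1,3,4,5,6,0,2,3,4,5,1,3,2,0,4,3,2,1,3,4,5,6,7],
  [2,3,4,5,1,3,2,0,4,3,2,1,3,4,5,6,7,5,4,3,2,1,3,4,5,6,0,2,3,4,5,1,3,2,0,4,3,2,1,3,4,5,6,7],
  [2,3,4,5,1,3,2,0,4,3,2,1,3,4,5,6,7,6,5,4,3,2,1,3,4,5,6,0,2,3,4,5,1,3,2,0,4,3,2,1,3,4,5,6,7],
  [6,3,4,5,1,3,2,0,4,3,2,1,3,4,5,6,7,6,5,4,3,2,1,3,4,5,6,0,2,3,4,5,1,3,2,0,4,3,2,1,3,4,5,6,7],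
  [5,6,4,5,1,3,2,0,4,3,2,1,3,4,5,6,7,6,5,4,3,2,1,3,4,5,6,0,2,3,4,5,1,3,2,0,4,3,2,1,3,4,5,6,7],
  [0,2,3,4,5,1,3,2,0,4,3,2,1,3,4,5,6,7,5,4,3,2,1,3,4,5,6,0,2,3,4,5,1,3,2,0,4,3,2,1,3,4,5,6,7],
  [0,2,3,4,5,1,3,2,0,4,3,2,1,3,4,5,6,7,6,5,4,3,2,1,3,4,5,6,0,2,3,4,5,1,3,2,0,4,3,2,1,3,4,5,6,7],
  [6,2,3,4,5,1,3,2,0,4,3,2,1,3,4,5,6,7,6,5,4,3,2,1,3,4,5,6,0,2,3,4,5,1,3,2,0,4,3,2,1,3,4,5,6,7],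
  [5,6,3,4,5,1,3,2,0,4,3,2,1,3,4,5,6,7,6,5,4,3,2,1,3,4,5,6,0,2,3,4,5,1,3,2,0,4,3,2,1,3,4,5,6,7],
  [6,0,2,3,4,5,1,3,2,0,4,3,2,1,3,4,5,6,7,6,5,4,3,2,1,3,4,5,6,0,2,3,4,5,1,3,2,0,4,3,2,1,3,4,5,6,7],
  [5,6,2,3,4,5,1,3,2,0,4,3,2,1,3,4,5,6,7,6,5,4,3,2,1,3,4,5,6,0,2,3,4,5,1,3,2,0,4,3,2,1,3,4,5,6,7],
  [4,5,6,3,4,5,1,3,2,0,4,3,2,1,3,4,5,6,7,6,5,4,3,2,1,3,4,5,6,0,2,3,4,5,1,3,2,0,4,3,2,1,3,4,5,6,7],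
  [5,6,0,2,3,4,5,1,3,2,0,4,3,2,1,3,4,5,6,7,6,5,4,3,2,1,3,4,5,6,0,2,3,4,5,1,3,2,0,4,3,2,1,3,4,5,6,7],
  [4,5,6,2,3,4,5,1,3,2,0,4,3,2,1,3,4,5,6,7,6,5,4,3,2,1,3,4,5,6,0,2,3,4,5,1,3,2,0,4,3,2,1,3,4,5,6,7],
  [4,5,6,0,2,3,4,5,1,3,2,0,4,3,2,1,3,4,5,6,7,6,5,4,3,2,1,3,4,5,6,0,2,3,4,5,1,3,2,0,4,3,2,1,3,4,5,6,7],
  [3,4,5,6,2,3,4,5,1,3,2,0,4,3,2,1,3,4,5,6,7,6,5,4,3,2,1,3,4,5,6,0,2,3,4,5,1,3,2,0,4,3,2,1,3,4,5,6,7],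
  [3,4,5,6,0,2,3,4,5,1,3,2,0,4,3,2,1,3,4,5,6,7,6,5,4,3,2,1,3,4,5,6,0,2,3,4,5,1,3,2,0,4,3,2,1,3,4,5,6,7],
  [1,3,4,5,6,2,3,4,5,1,3,2,0,4,3,2,1,3,4,5,6,7,6,5,4,3,2,1,3,4,5,6,0,2,3,4,5,1,3,2,0,4,3,2,1,3,4,5,6,7],
  [1,3,4,5,6,0,2,3,4,5,1,3,2,0,4,3,2,1,3,4,5,6,7,6,5,4,3,2,1,3,4,5,6,0,2,3,4,5,1,3,2,0,4,3,2,1,3,4,5,6,7],
  [2,3,4,5,6,0,2,3,4,5,1,3,2,0,4,3,2,1,3,4,5,6,7,6,5,4,3,2,1,3,4,5,6,0,2,3,4,5,1,3,2,0,4,3,2,1,3,4,5,6,7],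
  [2,1,3,4,5,6,0,2,3,4,5,1,3,2,0,4,3,2,1,3,4,5,6,7,6,5,4,3,2,1,3,4,5,6,0,2,3,4,5,1,3,2,0,4,3,2,1,3,4,5,6,7],
  [3,2,1,3,4,5,6,0,2,3,4,5,1,3,2,0,4,3,2,1,3,4,5,6,7,6,5,4,3,2,1,3,4,5,6,0,2,3,4,5,1,3,2,0,4,3,2,1,3,4,5,6,7],
  [4,3,2,1,3,4,5,6,0,2,3,4,5,1,3,2,0,4,3,2,1,3,4,5,6,7,6,5,4,3,2,1,3,4,5,6,0,2,3,4,5,1,3,2,0,4,3,2,1,3,4,5,6,7],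
  [5,4,3,2,1,3,4,5,6,0,2,3,4,5,1,3,2,0,4,3,2,1,3,4,5,6,7,6,5,4,3,2,1,3,4,5,6,0,2,3,4,5,1,3,2,0,4,3,2,1,3,4,5,6,7],
  [6,5,4,3,2,1,3,4,5,6,0,2,3,4,5,1,3,2,0,4,3,2,1,3,4,5,6,7,6,5,4,3,2,1,3,4,5,6,0,2,3,4,5,1,3,2,0,4,3,2,1,3,4,5,6,7],
  [7,6,5,4,3,2,1,3,4,5,6,0,2,3,4,5,1,3,2,0,4,3,2,1,3,4,5,6,7,6,5,4,3,2,1,3,4,5,6,0,2,3,4,5,1,3,2,0,4,3,2,1,3,4,5,6,7]]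
/-- their degrees -/
def dE8_7 : List (ℕ × ℕ) := [(0,0), (1,0), (2,0), (3,0), (4,0), (5,0), (6,0), (6,0), (7,0), (7,0), (8,0), (8,0), (9,0), (9,0), (10,0), (10,0), (10,0), (11,0), (11,0), (11,0), (12,0), (12,0), (12,0), (12,0), (13,0), (13,0), (13,0), (13,0), (14,0), (14,0), (14,0), (14,0), (15,0), (15,0), (15,0), (15,0), (16,0), (16,0), (16,0), (16,0), (16,0), (17,0), (17,0), (17,0), (17,0), (17,0), (18,0), (18,0), (18,0), (18,0), (18,0), (18,0), (19,0), (19,0), (19,0), (19,0), (19,0), (19,0), (20,0), (20,0), (20,0), (20,0), (20,0), (20,0), (21,0), (21,0), (21,0), (21,0), (21,0), (21,0), (22,0), (22,0), (22,0), (22,0), (22,0), (22,0), (22,0), (23,0),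 (23,0), (23,0), (23,0), (23,0), (23,0), (23,0), (24,0), (24,0), (24,0), (24,0), (24,0), (24,0), (24,0), (25,0), (25,0), (25,0), (25,0), (25,0), (25,0), (25,0), (26,0), (26,0), (26,0), (26,0), (26,0), (26,0), (26,0), (27,0), (27,0), (27,0), (27,0), (27,0), (27,0), (27,0), (28,0), (28,0), (28,0), (28,0), (28,0), (28,0), (28,0), (28,0), (29,0), (29,0), (29,0), (29,0), (29,0), (29,0), (29,0), (29,0), (30,0), (30,0), (30,0), (30,0), (30,0), (30,0), (30,0), (31,0), (31,0), (31,0), (31,0), (31,0), (31,0), (31,0), (32,0), (32,0), (32,0), (32,0), (32,0), (32,0), (32,0), (33,0), (33,0), (33,0), (33,0), (33,0), (33,0), (33,0), (34,0), (34,0), (34,0), (34,0),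 (34,0), (34,0), (34,0), (35,0), (35,0), (35,0), (35,0), (35,0), (35,0), (35,0), (36,0), (36,0), (36,0), (36,0), (36,0), (36,0), (37,0), (37,0), (37,0), (37,0), (37,0), (37,0), (38,0), (38,0), (38,0), (38,0), (38,0), (38,0), (39,0), (39,0), (39,0), (39,0), (39,0), (39,0), (40,0), (40,0), (40,0), (40,0), (40,0), (41,0), (41,0), (41,0), (41,0), (41,0), (42,0), (42,0), (42,0), (42,0), (43,0), (43,0), (43,0), (43,0), (44,0), (44,0), (44,0), (44,0), (45,0), (45,0), (45,0), (45,0), (46,0), (46,0), (46,0), (47,0), (47,0), (47,0), (48,0), (48,0), (49,0), (49,0), (50,0), (50,0), (51,0), (51,0), (52,0), (53,0), (54,0), (55,0), (56,0), (57,0)]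
theorem stepE8_7 : StepOK cE8 [3, 1, 2, 4, 0, 5, 6, 7] [3, 1, 2, 4, 0, 5, 6] 7 (toFinW 8 wE8_7) waE8 wbE8 dE8_7 := by
  decide +kernel

end CL.Cox
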