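import Cfsg.Agent.Chev.AlgSpec

/-!
# Semisimple elements that centralise a Sylow subgroup of prime order
-/

set_option autoImplicit false

namespace CL.Chev

open Cfsg Cfsg.Lie Finset Alg Cert

theorem exists_conj_pow_of_not_sq_dvd {G : Type*} [Group G] [Finite G] {r : ℕ} (hr : r.Prime) (h : ¬ r ^ 2 ∣ Nat.card G)
    {x g : G} (hx : orderOf x = r) (hg : r ∣ orderOf g) : ∃ (m : ℕ) (k : G), k * g ^ m * k⁻¹ = x := by
  have := Fact.mk hr
  have key : ∀ y : G, orderOf y = r → ∃ P : Sylow r G, (P : Subgroup G) = Subgroup.zpowers y := fun y hy => by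
    have h1 : Nat.card (Subgroup.zpowers y) = r ^ 1 := by rw [Nat.card_zpowers, hy, pow_one]
    refine ⟨(IsPGroup.of_card h1).toSylow fun e => h ?_, rfl⟩
    rw [← (Subgroup.zpowers y).card_mul_index, h1, pow_one, sq]
    exact Nat.mul_dvd_mul_left _ e
  obtain ⟨P, hP⟩ := key x hx
  obtain ⟨Q, hQ⟩ := key _ (orderOf_pow_orderOf_div (orderOf_pos g).ne' hg)
  obtain ⟨k, rfl⟩ := MulAction.exists_smul_eq G Q P
  have h1 : x ∈ (k • Q : Sylow r G) := by rw [← SetLike.mem_coe, ← Sylow.coe_coe, hP]; exact Subgroup.mem_zpowers x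
  obtain ⟨y, hy, rfl⟩ := h1
  rw [Sylow.coe_coe, ← Sylow.coe_coe, hQ] at hy
  obtain ⟨m, rfl⟩ := (mem_powers_iff_mem_zpowers.2 hy)
  exact ⟨_, k, by rw [pow_mul]; rfl⟩

namespace StSys.FrobSys.Split

variable {ι Φ : Type} [Fintype ι] [DecidableEq ι] {R : RS ι Φ} {Ω : Type*} [Field Ω] {G : Type*} [Group G]
  {S : StSys R Ω G} {A : S.FrobSys} [Finite Φ] [IsAlgClosed Ω] [Uncountable Ω]
  {F G₀ : Type*} [Field F] [Fintype F] [Group G₀] {S₀ : StSys R F G₀} (P : A.Split S₀)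

/-- The tori that contain a given element. -/
theorem exists_tor_of_conj (hk : Function.Injective A.hMul.torus) (hA : A.toAlgSys.Std) {w₀ : Equiv.Perm Φ}
    (hw₀ : w₀ ∈ R.W) {c₀ : ι → Ωˣ} (h0 : R.tAct w₀ c₀ ^ Fintype.card F = c₀) {J : Set ι} (hJ : R.Psi c₀ ⊆ R.PhiJ J)
    {g : G₀} (hn : (orderOf g).Coprime (Fintype.card F)) {m : ℕ} (h : IsConj (P.ψ (g ^ m)) (A.emb w₀ c₀)) :
    ∃ w ∈ R.WJ J, ∃ c : ι → Ωˣ, R.tAct (w * w₀) c ^ Fintype.card F = c ∧ orderOf c = orderOf g ∧ c ^ m = c₀ := by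
  obtain ⟨w, hw, c, h1, k, h2⟩ := P.exists_conj_emb hA hk hn (pow_orderOf_eq_one g)
  obtain ⟨z, hz⟩ := isConj_iff.1 (show IsConj (A.hMul.torus (c ^ m)) (A.hMul.torus c₀) from
    ((isConj_iff.2 ⟨A.lift w, (A.emb_apply w _).symm⟩).trans (isConj_iff.2 ⟨P.ψ k, by
      rw [map_pow (A.emb w), ← h2, ← map_pow, conj_pow, map_mul, map_mul, map_inv]⟩).symm).trans
      (h.trans (isConj_iff.2 ⟨A.lift w₀, rfl⟩).symm))
  obtain ⟨n, hn', h3⟩ := A.faithful.exists_N_conj (A.mem_grp z)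
  obtain ⟨v, hv⟩ := S.exists_NW_of_mem_N hn'
  have h4 := h3 _ (A.hMul.torus_mem_H _) (hz ▸ A.hMul.torus_mem_H _)
  rw [hz, A.hMul.conj_torus_of_induces (NW_induces hv), map_pow] at h4
  replace h4 := hk h4
  have hv' := R.W_le_aut (NW_mem_W hv)
  have h5 : R.tAct (v * w * v⁻¹) (R.tAct v c) ^ Fintype.card F = R.tAct v c := by
    rw [mul_assoc, RS.tAct_mul hv', RS.tAct_mul (R.W_le_aut hw), RS.tAct_inv_tAct hv', ← map_pow, h1]
  have hc : orderOf (R.tAct v c) = orderOf g := by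
    rw [orderOf_injective (R.tAct (M := Ωˣ) v) (Function.LeftInverse.injective (RS.tAct_inv_tAct hv')) c,
      ← orderOf_emb hk w, ← h2,
      orderOf_injective _ P.inj]
    exact (MulAut.conj k).orderOf_eq g
  have hf : IsOfFinOrder c₀ := h4 ▸ (orderOf_pos_iff.1 (hc ▸ Nat.pos_of_ne_zero fun e => by
    simp [e, Fintype.one_lt_card.ne'] at hn)).pow
  have h6 : R.tAct (v * w * v⁻¹) c₀ = R.tAct w₀ c₀ := by
    obtain ⟨p, _, a, hp, ha⟩ := FiniteField.card' F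
    have := Fact.mk hp
    have := charP_of_injective_ringHom P.f.injective p
    refine div_eq_one.1 (eq_one_of_pow_char (p := p) (a := a) ?_)
    rw [← ha, div_pow, h0, ← h4, map_pow, ← pow_mul, mul_comm m, pow_mul, h5, div_self']
  have hW := mul_mem (mul_mem (NW_mem_W hv) hw) (inv_mem (NW_mem_W hv))
  have h7 : v * w * v⁻¹ * w₀⁻¹ ∈ R.Stab (R.tAct w₀ c₀) := ⟨mul_mem hW (inv_mem hw₀), by
    rw [RS.tAct_mul (R.W_le_aut hW), RS.tAct_inv_tAct (R.W_le_aut hw₀), h6]⟩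
  rw [RS.Stab_eq_WS ((R.tAct w₀).isOfFinOrder hf)] at h7
  refine ⟨_, (Subgroup.closure_le _).2 ?_ h7, _, by rwa [inv_mul_cancel_right], hc, h4⟩
  rintro _ ⟨r, hr, rfl⟩
  exact R.refl_mem_WJ_iff.2 (hJ (by rw [RS.mem_Psi, ← h0, map_pow, RS.mem_Psi.1 hr, one_pow]))

include P in
/-- The semisimple elements of order divisible by `r` when the Sylow `r`-subgroups have order `r`. -/
theorem exists_tor_of_sylow [Finite G₀] (hk : Function.Injective A.hMul.torus) (hA : A.toAlgSys.Std)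
    {w₀ : Equiv.Perm Φ} (hw₀ : w₀ ∈ R.W) {c₀ : ι → Ωˣ} (h0 : R.tAct w₀ c₀ ^ Fintype.card F = c₀) {J : Set ι}
    (hJ : R.Psi c₀ ⊆ R.PhiJ J) (hr : (orderOf c₀).Prime) (h : ¬ orderOf c₀ ^ 2 ∣ Nat.card G₀) {g : G₀}
    (hn : (orderOf g).Coprime (Fintype.card F)) (hg : orderOf c₀ ∣ orderOf g) :
    ∃ w ∈ R.WJ J, ∃ c : ι → Ωˣ, R.tAct (w * w₀) c ^ Fintype.card F = c ∧ orderOf c = orderOf g := by
  obtain ⟨x, e⟩ : A.emb w₀ c₀ ∈ P.ψ.range := P.range_eq hk ▸ A.emb_mem_Fix hw₀ ((P.tw_eq w₀ c₀).trans h0)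
  obtain ⟨m, k, rfl⟩ := exists_conj_pow_of_not_sq_dvd hr h (x := x)
    (by rw [← orderOf_injective _ P.inj, e, orderOf_emb hk]) hg
  obtain ⟨w, hw, c, h1, h2, -⟩ := P.exists_tor_of_conj hk hA hw₀ h0 hJ hn (m := m)
    (e ▸ P.ψ.map_isConj (isConj_iff.2 ⟨k, rfl⟩))
  exact ⟨w, hw, c, h1, h2⟩

end StSys.FrobSys.Split

/-- Orders of semisimple elements that centralise a Sylow subgroup of prime order. -/
theorem Tab.orderOf_dvd_of_sylow {D : ChevalleyDatum} {A : Aux} (T : Tab D A) (E : Real D) {F : Type*} [Field F]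
    [Fintype F] (hk : Function.Injective (E.full (Univ F)).hMul.torus) {J wd : List ℕ} {N K C S : ℕ} {P : List (List ℤ)}
    (h : A.enumOK J wd N K C S (A.annF P) = true) {r : ℕ} (hr : r.Prime) (hq : r.Coprime (Fintype.card F))
    (h2 : ¬ r ^ 2 ∣ Nat.card (D.group F)) {y : List ℤ} (hy : ∃ i < A.l, ¬ (r : ℤ) ∣ y.getD i 0)
    (h3 : ∀ k < A.l, (r : ℤ) ∣ (sumTo A.l fun i => y.getD i 0 * A.co (A.wact wd (A.sim i)) k) * Fintype.card F -
      y.getD k 0)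
    (h4 : ∀ s < A.n, (r : ℤ) ∣ (sumTo A.l fun i => y.getD i 0 * A.ca i s) → ∀ i < A.l, i ∉ J → A.rt s i = 0)
    {g : D.group F} (hn : (orderOf g).Coprime (Fintype.card F)) (hg : r ∣ orderOf g) :
    ∃ a ∈ P, (orderOf g : ℤ) ∣ 1 + Fintype.card F * lval a (Fintype.card F) := by
  obtain ⟨w₀, hw₀, e, h5⟩ := T.ann_sound.{_} E h
  obtain ⟨Fr, ⟨Sp⟩⟩ := E.exists_split (algebraMap F (Univ F))
  obtain ⟨ζ, rfl⟩ := exists_orderOf_units (Ω := Univ F) (n := r) fun e => by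
    simpa [e, Sp.cast_card] using (Nat.isCoprime_iff_coprime.2 hq).map (Int.castRingHom (Univ F))
  have ho : orderOf (fun i : Fin D.rank => ζ ^ y.getD i 0) = orderOf ζ := by
    have := Fact.mk hr
    obtain ⟨i, hi, hy⟩ := hy
    refine orderOf_eq_prime (funext fun i => ?_) fun e =>
      hy (orderOf_dvd_iff_zpow_eq_one.2 (congrFun e ⟨i, T.lt_rank hi⟩))
    rw [Pi.pow_apply, ← zpow_natCast, ← zpow_mul, mul_comm, zpow_mul, zpow_natCast, pow_orderOf_eq_one, one_zpow,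
      Pi.one_apply]
  have : Finite (D.group F) := inferInstance
  obtain ⟨w, hw, c, a1, a2⟩ := Sp.exists_tor_of_sylow hk (E.std _) hw₀ (c₀ := fun i => ζ ^ y.getD i 0)
    (J := {j | (j : ℕ) ∈ J}) (funext fun k => by
      rw [RS.tAct_zpow, Pi.pow_apply, ← zpow_natCast, ← zpow_mul, ← orderOf_dvd_sub_iff_zpow_eq_zpow]
      convert h3 k (T.lt_l k) using 3
      rw [T.sumTo_fin, Matrix.vecMul, dotProduct]
      exact sum_congr rfl fun i _ => by rw [← T.simple E, ← e, ← T.coroot E]; rfl)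
    (fun s hs => (T.mem_PhiJ E _ s).2 fun i hi => h4 s (T.lt_n s) (by
      rw [RS.mem_Psi, RS.chi_zpow, ← orderOf_dvd_iff_zpow_eq_one, RS.ev_eq] at hs
      simpa only [T.sumTo_fin, T.pair_simple] using hs) i (T.lt_l i) hi) (ho ▸ hr) (ho ▸ h2) hn (ho ▸ hg)
  obtain ⟨k, b1, -, b2⟩ := h5 w hw
  exact ⟨_, by rw [List.getD_eq_getElem _ _ b1]; exact List.getElem_mem b1,
    a2 ▸ orderOf_dvd_iff_zpow_eq_one.2 (b2 _ c _ a1)⟩

end CL.Chev
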