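import Cfsg.Agent.Grp.Fitting

/-!
# Lifting power relations through sections

If `x` of prime order is conjugate to `x ^ a` in a section of a finite group, then some element of the same order is
conjugate to its `a`-th power in the group.
-/

set_option autoImplicit false

namespace CL.AltSec

open Subgroup

theorem exists_eigen_cent {M : Type*} [Group M] [Finite M] {P Z : Subgroup M} [hZ : Z.Normal] (hZP : Z ≤ P)
    (hc : ∀ z ∈ Z, ∀ y ∈ P, Commute z y) (h : M) (a : ℕ) {c : M} (hcP : c ∈ P) (hcZ : c ∉ Z)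
    (e : h * c * h⁻¹ * (c ^ a)⁻¹ ∈ Z) : ∃ c' ∈ P, c' ≠ 1 ∧ h * c' * h⁻¹ = c' ^ a := by
  by_cases h0 : ∃ z ∈ Z, z ≠ 1 ∧ h * z * h⁻¹ = z ^ a
  · obtain ⟨z, h1, h2, h3⟩ := h0
    exact ⟨z, hZP h1, h2, h3⟩
  push Not at h0
  let f : Z → Z := fun z => ⟨h * z * h⁻¹ * ((z : M) ^ a)⁻¹, mul_mem (hZ.conj_mem _ z.2 h) (inv_mem (pow_mem z.2 a))⟩
  have hf : Function.Injective f := fun z w hzw => by
    have e1 : h * z * h⁻¹ * ((z : M) ^ a)⁻¹ = h * w * h⁻¹ * ((w : M) ^ a)⁻¹ := congrArg Subtype.val hzw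
    by_contra hne
    refine h0 ((w : M)⁻¹ * z) (mul_mem (inv_mem w.2) z.2) (fun e2 => hne (Subtype.ext (inv_mul_eq_one.1 e2).symm)) ?_
    rw [(hc _ (inv_mem w.2) _ (hZP z.2)).mul_pow, inv_pow]
    calc h * ((w : M)⁻¹ * z) * h⁻¹ = (h * w * h⁻¹)⁻¹ * (h * z * h⁻¹ * ((z : M) ^ a)⁻¹) * (z : M) ^ a := by group
      _ = _ := by rw [e1]; group
  obtain ⟨z, hz⟩ := (Finite.injective_iff_surjective.1 hf) ⟨_, inv_mem e⟩
  have e1 : h * z * h⁻¹ * ((z : M) ^ a)⁻¹ = (h * c * h⁻¹ * (c ^ a)⁻¹)⁻¹ := congrArg Subtype.val hz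
  refine ⟨c * z, mul_mem hcP (hZP z.2), fun e2 => hcZ (eq_inv_of_mul_eq_one_left e2 ▸ inv_mem z.2), ?_⟩
  rw [(hc _ z.2 _ hcP).symm.mul_pow]
  have e3 := (hc _ e _ (pow_mem hcP a)).eq
  calc h * (c * z) * h⁻¹ = (h * c * h⁻¹ * (c ^ a)⁻¹) * c ^ a * (h * z * h⁻¹ * ((z : M) ^ a)⁻¹) * (z : M) ^ a := by group
    _ = _ := by rw [e3, e1]; group

theorem exists_eigen {M : Type*} [Group M] [Finite M] {P : Subgroup M} [P.Normal] (hP : Group.IsNilpotent P) (h : M)
    (a : ℕ) (Z : Subgroup M) (hZ : Z.Normal) (hZP : Z ≤ P) {c : M} (hcP : c ∈ P) (hcZ : c ∉ Z)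
    (e : h * c * h⁻¹ * (c ^ a)⁻¹ ∈ Z) : ∃ c' ∈ P, c' ≠ 1 ∧ h * c' * h⁻¹ = c' ^ a := by
  induction Z using WellFoundedLT.induction generalizing c with
  | ind Z ih =>
  by_cases h0 : Z = ⊥
  · subst h0
    exact ⟨c, hcP, fun e' => hcZ (e' ▸ one_mem _), mul_inv_eq_one.1 (mem_bot.1 e)⟩
  have hlt : ⁅Z, P⁆ < Z :=
    lt_of_le_of_ne (commutator_le_left _ _) fun e' => h0 (CL.Grp.eq_bot_of_le_commutator hP hZP e'.ge)
  let q := QuotientGroup.mk' ⁅Z, P⁆
  have hq : Function.Surjective q := QuotientGroup.mk'_surjective _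
  have := hZ.map q hq
  obtain ⟨_, ⟨c', h1, rfl⟩, h2, h3⟩ := exists_eigen_cent (P := P.map q) (Z := Z.map q) (map_mono hZP) (by
    rintro _ ⟨z, hz, rfl⟩ _ ⟨y, hy, rfl⟩
    rw [← commutatorElement_eq_one_iff_commute, ← map_commutatorElement]
    exact (QuotientGroup.eq_one_iff _).2 (commutator_mem_commutator hz hy)) (q h) a (mem_map_of_mem q hcP)
    (fun h' => hcZ (by
      rwa [← mem_comap, comap_map_eq, QuotientGroup.ker_mk', sup_eq_left.2 hlt.le] at h'))
    (by simpa using mem_map_of_mem q e)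
  refine ih _ hlt inferInstance (hlt.le.trans hZP) h1 (fun h' => h2 ((QuotientGroup.eq_one_iff _).2 h')) ?_
  rw [← QuotientGroup.eq_one_iff]
  change q _ = 1
  rw [map_mul, map_mul, map_mul, map_inv, map_inv, map_pow, h3, mul_inv_cancel]

theorem exists_eigen_prime {M : Type*} [Group M] [Finite M] {s : ℕ} [hs : Fact s.Prime] {P : Subgroup M}
    (hP : IsPGroup s P) {h : M} {a : ℕ} {c : M} (hcP : c ∈ P) (h1 : c ≠ 1) (e : h * c * h⁻¹ = c ^ a) :
    ∃ c' ∈ P, orderOf c' = s ∧ h * c' * h⁻¹ = c' ^ a := by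
  obtain ⟨k, hk⟩ := IsPGroup.iff_orderOf.1 hP ⟨c, hcP⟩
  rw [← Subgroup.orderOf_coe] at hk
  change orderOf c = _ at hk
  obtain _ | k := k
  · exact absurd (orderOf_eq_one_iff.1 (by simpa using hk)) h1
  refine ⟨c ^ s ^ k, pow_mem hcP _, ?_, by rw [← conj_pow, e, ← pow_mul, ← pow_mul, mul_comm]⟩
  rw [orderOf_pow_of_dvd (pow_ne_zero _ hs.out.ne_zero) (hk ▸ pow_dvd_pow s k.le_succ), hk, pow_succ,
    Nat.mul_div_cancel_left _ (pow_pos hs.out.pos _)]

theorem exists_min {H A : Type*} [Group H] [Group A] [Finite H] {π : H →* A} (hπ : Function.Surjective π)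
    (Y : Subgroup A) : ∃ M : Subgroup H, (π.comp M.subtype).range = Y ∧
      ∀ L : Subgroup M, L.map (π.comp M.subtype) = Y → L = ⊤ := by
  obtain ⟨M, hM, hmin⟩ := (wellFounded_lt (α := Subgroup H)).has_min {M | M.map π = Y}
    ⟨Y.comap π, map_comap_eq_self_of_surjective hπ Y⟩
  refine ⟨M, by rw [MonoidHom.range_comp, range_subtype]; exact hM, fun L hL => ?_⟩
  by_contra hne
  refine hmin (L.map M.subtype) (by rw [Set.mem_ofPred_eq, map_map]; exact hL) (lt_of_le_of_ne (map_subtype_le L) fun e => hne ?_)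
  exact map_injective M.subtype_injective (e.trans (by rw [← MonoidHom.range_eq_map, range_subtype]))

theorem exists_normal {M A : Type*} [Group M] [Group A] [Finite M] {π : M →* A}
    (hmin : ∀ L : Subgroup M, L.map π = π.range → L = ⊤) {s : ℕ} [hs : Fact s.Prime] {x : A} (hx : x ∈ π.range)
    (ho : orderOf x = s) (hn : ∀ y ∈ π.range, y * x * y⁻¹ ∈ zpowers x) :
    ∃ P : Subgroup M, P.Normal ∧ IsPGroup s P ∧ ∃ c ∈ P, π c = x := by
  let N := (zpowers x).comap π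
  have hN : N.Normal := ⟨fun n hn' g => by
    obtain ⟨k, hk⟩ := mem_zpowers_iff.1 (mem_comap.1 hn')
    rw [mem_comap, map_mul, map_mul, map_inv, ← hk, ← conj_zpow]
    exact zpow_mem (hn _ ⟨g, rfl⟩) k⟩
  obtain ⟨Q⟩ : Nonempty (Sylow s N) := inferInstance
  let f : N →* zpowers x := (π.comp N.subtype).codRestrict _ fun n => n.2
  have hf : Function.Surjective f := by
    rintro ⟨_, k, rfl⟩
    obtain ⟨c, rfl⟩ := hx
    exact ⟨⟨c ^ k, by rw [mem_comap, map_zpow]; exact zpow_mem (mem_zpowers _) k⟩, Subtype.ext (map_zpow π c k)⟩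
  have h1 : (Q : Subgroup N).map f = ⊤ :=
    ((Q.mapSurjective hf).is_maximal' ((IsPGroup.of_card (n := 1) (by rw [Nat.card_zpowers, ho, pow_one])).to_subgroup ⊤)
      le_top).symm
  obtain ⟨c, hc, e⟩ : (⟨x, mem_zpowers x⟩ : zpowers x) ∈ (Q : Subgroup N).map f := h1 ▸ mem_top _
  have e' : π c = x := congrArg Subtype.val e
  have hc' : (c : M) ∈ (Q : Subgroup N).map N.subtype := ⟨c, hc, rfl⟩
  refine ⟨(Q : Subgroup N).map N.subtype, normalizer_eq_top_iff.1 (hmin _ (le_antisymm (map_le_range _ _) ?_)),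
    Q.isPGroup'.map _, c, hc', e'⟩
  rw [MonoidHom.range_eq_map, ← Q.normalizer_sup_eq_top, Subgroup.map_sup, sup_le_iff]
  refine ⟨le_rfl, (map_comap_le _ _).trans (zpowers_le.2 ⟨c, le_normalizer hc', e'⟩)⟩

theorem exists_lift_aux {M A : Type*} [Group M] [Group A] [Finite M] {π : M →* A}
    (hmin : ∀ L : Subgroup M, L.map π = π.range → L = ⊤) {s : ℕ} [hs : Fact s.Prime] {x : A} (hx : x ∈ π.range)
    (ho : orderOf x = s) (hn : ∀ y ∈ π.range, y * x * y⁻¹ ∈ zpowers x) :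
    ∃ P : Subgroup M, P.Normal ∧ IsPGroup s P ∧ ∀ (h : M) (a : ℕ), π h * x * (π h)⁻¹ = x ^ a →
      ∃ c ∈ P, orderOf c = s ∧ h * c * h⁻¹ = c ^ a := by
  obtain ⟨P, h1, h2, c, h3, rfl⟩ := exists_normal hmin hx ho hn
  refine ⟨P, h1, h2, fun h a e => ?_⟩
  obtain ⟨c', h4, h5, h6⟩ := exists_eigen h2.isNilpotent h a (P ⊓ π.ker) inferInstance inf_le_left h3
    (fun h' => hs.out.ne_one (by rw [← ho, h'.2, orderOf_one]))
    (mem_inf.2 ⟨mul_mem (h1.conj_mem _ h3 h) (inv_mem (pow_mem h3 a)), by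
      rw [MonoidHom.mem_ker, map_mul, map_mul, map_mul, map_inv, map_inv, map_pow, e, mul_inv_cancel]⟩)
  exact exists_eigen_prime h2 h4 h5 h6

theorem conj_mem_zpowers {A : Type*} [Group A] [Finite A] {x : A} {S : Set A} (h : ∀ y ∈ S, y * x * y⁻¹ ∈ zpowers x) :
    ∀ y ∈ closure S, y * x * y⁻¹ ∈ zpowers x := by
  have : closure S ≤ normalizer (zpowers x : Set A) := (closure_le _).2 fun y hy =>
    mem_normalizer_fintype fun n hn => by
      obtain ⟨k, rfl⟩ := mem_zpowers_iff.1 hn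
      rw [← conj_zpow]
      exact zpow_mem (h y hy) k
  exact fun y hy => (mem_normalizer_iff.1 (this hy) x).1 (mem_zpowers x)

/-- One prime. -/
theorem lift_one {H A : Type*} [Group H] [Group A] [Finite H] {π : H →* A} (hπ : Function.Surjective π) {s : ℕ}
    (hs : s.Prime) {x g : A} (ho : orderOf x = s) {a : ℕ} (e : g * x * g⁻¹ = x ^ a) :
    ∃ c h : H, orderOf c = s ∧ h * c * h⁻¹ = c ^ a := by
  have := Fact.mk hs
  have := Finite.of_surjective π hπ
  obtain ⟨M, h1, h2⟩ := exists_min hπ (closure {x, g})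
  obtain ⟨P, -, -, h3⟩ := exists_lift_aux (π := π.comp M.subtype) (fun L e => h2 L (e.trans h1))
    (h1 ▸ subset_closure (by simp)) ho (h1 ▸ conj_mem_zpowers (by
      rintro y (rfl | rfl)
      · simp
      · exact e ▸ pow_mem (mem_zpowers _) _))
  obtain ⟨h, rfl⟩ : g ∈ (π.comp M.subtype).range := h1 ▸ subset_closure (by simp)
  obtain ⟨c, -, h4, h5⟩ := h3 h a e
  exact ⟨c, h, (Subgroup.orderOf_coe c).trans h4, congrArg Subtype.val h5⟩

/-- Two primes. -/
theorem lift_two {H A : Type*} [Group H] [Group A] [Finite H] {π : H →* A} (hπ : Function.Surjective π) {s t : ℕ}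
    (hs : s.Prime) (ht : t.Prime) (hst : s ≠ t) {x y g : A} (ho : orderOf x = s) (ho' : orderOf y = t)
    (hxy : Commute x y) {a : ℕ} (e : g * x * g⁻¹ = x ^ a) (e' : g * y * g⁻¹ = y ^ a) :
    ∃ c h : H, orderOf c = s * t ∧ h * c * h⁻¹ = c ^ a := by
  have := Fact.mk hs
  have := Fact.mk ht
  have := Finite.of_surjective π hπ
  obtain ⟨M, h1, h2⟩ := exists_min hπ (closure {x, y, g})
  obtain ⟨P, p1, p2, h3⟩ := exists_lift_aux (π := π.comp M.subtype) (fun L e => h2 L (e.trans h1))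
    (h1 ▸ subset_closure (by simp)) ho (h1 ▸ conj_mem_zpowers (by
      rintro y (rfl | rfl | rfl)
      · simp
      · simp [hxy.symm.eq]
      · exact e ▸ pow_mem (mem_zpowers _) _))
  obtain ⟨Q, q1, q2, h3'⟩ := exists_lift_aux (π := π.comp M.subtype) (fun L e => h2 L (e.trans h1))
    (h1 ▸ subset_closure (by simp)) ho' (h1 ▸ conj_mem_zpowers (by
      rintro y (rfl | rfl | rfl)
      · simp [hxy.eq]
      · simp
      · exact e' ▸ pow_mem (mem_zpowers _) _))
  obtain ⟨h, rfl⟩ : g ∈ (π.comp M.subtype).range := h1 ▸ subset_closure (by simp)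
  obtain ⟨c, c1, h4, h5⟩ := h3 h a e
  obtain ⟨d, d1, h4', h5'⟩ := h3' h a e'
  have hcd : Commute c d := commute_of_normal_of_disjoint P Q p1 q1 (IsPGroup.disjoint_of_ne s t hst P Q p2 q2) c d c1 d1
  refine ⟨(c * d : M), h, (Subgroup.orderOf_coe _).trans ?_, congrArg Subtype.val (show h * (c * d) * h⁻¹ = (c * d) ^ a from ?_)⟩
  · rw [hcd.orderOf_mul_eq_mul_orderOf_of_coprime (by rw [h4, h4']; exact (Nat.coprime_primes hs ht).2 hst), h4, h4']
  · rw [hcd.mul_pow, ← h5, ← h5']; group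

theorem exists_alt_inj {m n : ℕ} (h : m ≤ n) :
    ∃ ψ : alternatingGroup (Fin m) →* alternatingGroup (Fin n), Function.Injective ψ :=
  ⟨((Equiv.Perm.extendDomainHom (Fin.castLEEmb h).toEquivRange).comp
    (alternatingGroup (Fin m)).subtype).codRestrict _ fun g => by
      rw [Equiv.Perm.mem_alternatingGroup]
      exact (Equiv.Perm.sign_extendDomain _ _).trans g.2,
    fun _ _ e => Subtype.ext (Equiv.Perm.extendDomainHom_injective _ (congrArg Subtype.val e))⟩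

/-- A section isomorphic to an alternating group gives sections for the smaller degrees. -/
theorem exists_surj {G : Type*} [Group G] {r m : ℕ} (hm : m ≤ r) (H : Subgroup G) (K : Subgroup H) [K.Normal]
    (h : Nonempty (H ⧸ K ≃* alternatingGroup (Fin r))) :
    ∃ (L : Subgroup G) (π : L →* alternatingGroup (Fin m)), Function.Surjective π := by
  obtain ⟨e⟩ := h
  obtain ⟨ψ, hψ⟩ := exists_alt_inj hm
  let π : H →* alternatingGroup (Fin r) := e.toMonoidHom.comp (QuotientGroup.mk' K)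
  have hπ : Function.Surjective π := e.surjective.comp (QuotientGroup.mk'_surjective K)
  let L := ψ.range.comap π
  let f : L →* ψ.range := (π.comp L.subtype).codRestrict _ fun x => x.2
  have hf : Function.Surjective f := fun ⟨y, hy⟩ => by
    obtain ⟨x, rfl⟩ := hπ y
    exact ⟨⟨x, hy⟩, rfl⟩
  exact ⟨L.map H.subtype, ((MonoidHom.ofInjective hψ).symm.toMonoidHom.comp f).comp
    (equivMapOfInjective L H.subtype H.subtype_injective).symm.toMonoidHom,
    ((MonoidHom.ofInjective hψ).symm.surjective.comp hf).comp (MulEquiv.surjective _)⟩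

end CL.AltSec
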