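import Cfsg.Agent.Chev.AlgSpec

/-!
# Invariants of elements of prime order in the torus
-/

set_option autoImplicit false

namespace CL.AltSec

open CL.Chev StSys Matrix

variable {ι Φ : Type} [Fintype ι] [DecidableEq ι] {R : RS ι Φ}

/-- A simple reflection on coordinates modulo `s`. -/
def sr (C : Matrix ι ι ℤ) {s : ℕ} (i : ι) (y : ι → ZMod s) : ι → ZMod s :=
  fun k => if k = i then y i - ∑ j, y j * (C j i : ZMod s) else y k

theorem inv_W {C : Matrix ι ι ℤ} (hC : R.cartanM = C) {s : ℕ} {α : Type*} {I : (ι → ZMod s) → α}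
    (hI : ∀ i y, I (sr C i y) = I y) {w : Equiv.Perm Φ} (hw : w ∈ R.W) (y : ι → ℤ) :
    I (fun k => ((y ᵥ* R.wM w) k : ZMod s)) = I fun k => (y k : ZMod s) := by
  obtain ⟨l, rfl⟩ := R.exists_wprod_of_mem_W hw
  clear hw
  induction l with
  | nil => simp
  | cons a l ih =>
    rw [wprod_cons, RS.wM_mul (R.sperm_mem_aut a), ← vecMul_vecMul, ← ih, ← hI a fun k => ((y ᵥ* R.wM (wprod R.sperm l)) k : ZMod s)]
    congr 1
    funext k
    rw [← RS.refl_simple, RS.vecMul_wM_refl, RS.ev_eq, R.coroot_simple, ← hC]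
    by_cases h : k = a
    · subst h
      simp [sr, R.pair_simple_simple]
    · simp [sr, h]

variable {Ω : Type*} [Field Ω] {G : Type*} [Group G] {S : StSys R Ω G} [Finite Φ]

theorem exists_tAct (A : S.AlgSys) {c d : ι → Ωˣ} {g : G} (h : g * A.hMul.torus c * g⁻¹ = A.hMul.torus d) :
    ∃ w ∈ R.W, A.hMul.torus (R.tAct w c) = A.hMul.torus d := by
  obtain ⟨n, h1, h2⟩ := A.faithful.exists_N_conj (A.mem_grp g)
  obtain ⟨w, h3, h4⟩ := S.exists_induces_of_mem_N h1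
  exact ⟨w, h3, by rw [← A.hMul.conj_torus_of_induces h4, h2 _ (A.hMul.torus_mem_H c) (h ▸ A.hMul.torus_mem_H d), h]⟩

theorem inv_of_conj (A : S.AlgSys) {e s : ℕ} (he : ∀ z, A.hMul.torus z = 1 → z ^ e = 1) (hse : s.Coprime e)
    {C : Matrix ι ι ℤ} (hC : R.cartanM = C) {α : Type*} {I : (ι → ZMod s) → α} (hI : ∀ i y, I (sr C i y) = I y)
    {ζ : Ωˣ} (hζ : orderOf ζ = s) {y y' : ι → ℤ} {g : G}
    (h : g * A.hMul.torus (fun i => ζ ^ y i) * g⁻¹ = A.hMul.torus fun i => ζ ^ y' i) :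
    I (fun k => (y' k : ZMod s)) = I fun k => (y k : ZMod s) := by
  obtain ⟨w, h1, h2⟩ := exists_tAct A h
  rw [← inv_W hC hI h1 y]
  congr 1
  funext k
  rw [RS.tAct_zpow, ← mul_inv_eq_one, ← map_inv, ← map_mul] at h2
  have h3 : (ζ ^ ((y ᵥ* R.wM w) k - y' k)) ^ e = 1 := by
    rw [_root_.zpow_sub]; exact congrFun (he _ h2) k
  have h4 : (ζ ^ ((y ᵥ* R.wM w) k - y' k)) ^ s = 1 := by
    rw [← zpow_natCast, ← _root_.zpow_mul, mul_comm, _root_.zpow_mul, zpow_natCast, ← hζ, pow_orderOf_eq_one, _root_.one_zpow]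
  have h5 := pow_gcd_eq_one.2 ⟨h4, h3⟩
  rw [hse, pow_one, ← orderOf_dvd_iff_zpow_eq_one, hζ] at h5
  exact (ZMod.intCast_eq_intCast_iff_dvd_sub _ _ _).2 h5

theorem toral [IsAlgClosed Ω] [Uncountable Ω] (A : S.AlgSys) (hA : A.Std) {φ : Ω ≃+* Ω} {q : ℕ} (hφ : ∀ t, φ t = t ^ q)
    (hq2 : 2 ≤ q) (hq : (q : Ω) = 0) {e s : ℕ} (he : ∀ z, A.hMul.torus z = 1 → z ^ e = 1) (hs : s.Prime)
    (hsq : s.Coprime q) (hse : s.Coprime e) {C : Matrix ι ι ℤ} (hC : R.cartanM = C) {α : Type*}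
    {I : (ι → ZMod s) → α} (hI : ∀ i y, I (sr C i y) = I y) {g : G} (h1 : A.act φ g = g) (ho : orderOf g = s) :
    ∃ y : ι → ZMod s, y ≠ 0 ∧ (∀ (h : G) (a : ℕ), h * g * h⁻¹ = g ^ a → I (fun k => a * y k) = I y) ∧
      ∀ (γ : S.GAut) (m : ι → ℕ), (∀ i t, γ.φ i t = t ^ m i) → γ.σ g = g →
        I (fun k => m (γ.π⁻¹ k) * y (γ.π⁻¹ k)) = I y := by
  have hg : g ^ s = 1 := ho ▸ pow_orderOf_eq_one g
  obtain ⟨x, d, -, rfl⟩ := AlgSys.exists_conj_torus_of_commute hφ hq2 hq hA A.hMul.conn_one (by simp) (a := 1) hs hsq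
    (s := g) (by simp) h1 (by rwa [pow_one])
  rw [conj_pow, conj_eq_one_iff] at hg
  obtain ⟨k, -, hk⟩ := Nat.exists_mul_mod_eq_one_of_coprime hse.symm hs.one_lt
  have h2 : A.hMul.torus (d ^ (e * k)) = A.hMul.torus d := by
    rw [map_pow, pow_eq_pow_mod _ hg, hk, pow_one]
  have h3 : (d ^ (e * k)) ^ s = 1 := by
    rw [← pow_mul, mul_comm, pow_mul, pow_mul, he _ (by rw [map_pow, hg]), one_pow]
  rw [← h2] at h1 ho ⊢
  generalize d ^ (e * k) = c at h1 ho h3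
  obtain ⟨ζ, hζ⟩ := exists_orderOf_units (Ω := Ω) (n := s) (by
    have := hsq.cast (R := Ω)
    rw [hq, isCoprime_zero_right] at this
    exact this.ne_zero)
  have : NeZero s := ⟨hs.ne_zero⟩
  have h4 : ∀ i, ∃ n : ℕ, ζ ^ n = c i := fun i =>
    let ⟨n, _, h⟩ := (hζ ▸ IsPrimitiveRoot.orderOf ζ : IsPrimitiveRoot ζ s).eq_pow_of_mem_rootsOfUnity
      ((mem_rootsOfUnity _ _).2 (congrFun h3 i))
    ⟨n, h⟩
  choose y hy using h4
  obtain rfl : c = fun i => ζ ^ (y i : ℤ) := funext fun i => by rw [zpow_natCast, hy]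
  refine ⟨fun i => y i, fun h0 => hs.ne_one ?_, fun h a h5 => ?_, fun γ m hm h5 => ?_⟩
  · have : (fun i => ζ ^ (y i : ℤ)) = 1 := funext fun i => by
      rw [zpow_natCast, Pi.one_apply, ← orderOf_dvd_iff_pow_eq_one, hζ, ← ZMod.natCast_eq_zero_iff]
      exact congrFun h0 i
    rw [← ho, this]; simp
  · have := inv_of_conj A he hse hC hI hζ (y := fun i => y i) (y' := fun i => a * y i) (g := x⁻¹ * h * x) (by
      rw [show (fun i => ζ ^ ((a : ℤ) * y i)) = (fun i => ζ ^ (y i : ℤ)) ^ a from funext fun i => by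
        rw [mul_comm, _root_.zpow_mul, zpow_natCast]; rfl, map_pow]
      rw [conj_pow] at h5
      rw [eq_comm, ← mul_right_inj x, ← mul_left_inj x⁻¹, ← h5]; group)
    simpa using this
  · have := inv_of_conj A he hse hC hI hζ (y := fun i => y i) (y' := fun k => m (γ.π⁻¹ k) * y (γ.π⁻¹ k))
      (g := (γ.σ x)⁻¹ * x) (by
      rw [map_mul, map_mul, map_inv, γ.map_torus A.hMul, (γ.τ_eq_iff _ fun k => ζ ^ ((m (γ.π⁻¹ k) : ℤ) * y (γ.π⁻¹ k))).2
        fun i => by rw [hm, show γ.π⁻¹ (γ.π i) = i from γ.π.symm_apply_apply i, mul_comm, _root_.zpow_mul, zpow_natCast, Units.val_pow_eq_pow_val]] at h5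
      rw [eq_comm, ← mul_right_inj (γ.σ x), ← mul_left_inj (γ.σ x)⁻¹, h5]; group)
    simpa using this

end CL.AltSec
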