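import Cfsg.Agent.Chev.AltSec2
import Cfsg.Agent.Chev.AltSec3
import Cfsg.Agent.Chev.AlgEnumData
import Cfsg.Agent.S1059

/-!
# Alternating sections of the groups of types `G₂` and `F₄`
-/

set_option autoImplicit false

namespace CL.AltSec

open Cfsg Cfsg.Lie CL.Chev CL.Cox StSys Alg Cert Subgroup

theorem pow_six_G2 {W : Type*} [Group W] (cs : CoxeterSystem CoxeterMatrix.G₂ W) (w : W) : w ^ 6 = 1 := by
  have hl : CoxeterMatrix.G₂.IsLiftable (![DihedralGroup.sr 0, DihedralGroup.sr 1] : Fin 2 → DihedralGroup 6) := by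
    unfold CoxeterMatrix.IsLiftable
    decide +kernel
  let φ : W →* DihedralGroup 6 := cs.lift ⟨_, hl⟩
  have h0 : φ (cs.simple 0) = DihedralGroup.sr 0 := cs.lift_apply_simple hl 0
  have h1 : φ (cs.simple 1) = DihedralGroup.sr 1 := cs.lift_apply_simple hl 1
  have hr : ∀ k : ℕ, φ ((cs.simple 0 * cs.simple 1) ^ k) = DihedralGroup.r k := by
    intro k
    rw [map_pow, map_mul, h0, h1, DihedralGroup.sr_mul_sr, sub_zero, DihedralGroup.r_one_pow]
  have hs : Function.Surjective φ := by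
    rintro (i | i)
    · exact ⟨_, (hr i.val).trans (by simp)⟩
    · exact ⟨cs.simple 0 * (cs.simple 0 * cs.simple 1) ^ i.val, by rw [map_mul, hr, h0]; simp⟩
  have := finite_G2 cs
  have hb : Function.Bijective φ := hs.bijective_of_nat_card_le (by rw [card_G2 cs, DihedralGroup.nat_card])
  exact hb.1 (by rw [map_pow, map_one]; exact (by decide +kernel : ∀ x : DihedralGroup 6, x ^ 6 = 1) _)

theorem card_sq_units (F : Type*) [Field F] : Nat.card {t : Fˣ // t ^ 2 = 1} ≤ 2 := by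
  have h : {t : Fˣ | t ^ 2 = 1} ⊆ {1, -1} := fun t ht => by
    have : (t : F) ^ 2 = 1 := by simpa using congrArg Units.val ht
    exact (mul_self_eq_one_iff.1 ((sq _).symm.trans this)).imp Units.ext Units.ext
  exact (Set.ncard_le_ncard h).trans ((Set.ncard_insert_le _ _).trans (by simp))

theorem not_alt_eight' {G : Type*} [Group G] {K N H : Subgroup G} [Finite K] (hHN : H ≤ N) (hNK : N ≤ K)
    (φ : N →* CoxeterMatrix.G₂.Group) (hφ : Function.Surjective φ) (hker : φ.ker = H.subgroupOf N) {m : ℕ} (hm : Odd m)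
    (hK : Nat.card K = Nat.card H * (4 * m)) {B F : Type*} [CommGroup B] [Finite B] [Field F] [Finite F]
    (f : B →* Fˣ × Fˣ) (hf : Function.Injective f) (T : B →* G) (hT : H ≤ T.range) (hT' : ∀ b, T b ∈ K) (L : Subgroup K)
    (π : L →* alternatingGroup (Fin 8)) (hπ : Function.Surjective π) : False := by
  have hH : Finite H := Finite.of_injective _ (inclusion_injective (hHN.trans hNK))
  have h1 : Nat.card N = Nat.card H * 12 := by
    rw [← card_G2 CoxeterMatrix.G₂.toCoxeterSystem, ← card_mul_index φ.ker, index_ker, MonoidHom.range_eq_top.2 hφ, hker,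
      Nat.card_congr (subgroupOfEquivOfLe hHN).toEquiv, card_top]
  have h2 := card_mul_index (N.subgroupOf K)
  rw [Nat.card_congr (subgroupOfEquivOfLe hNK).toEquiv, h1, hK, mul_assoc, mul_right_inj' Nat.card_pos.ne'] at h2
  refine not_alt_eight (N := N.subgroupOf K) (fun h => ?_) ?_ (T.codRestrict K hT') (fun n hn k e => ?_) L π hπ
  · obtain ⟨m, rfl⟩ := hm
    omega
  · refine (Nat.card_le_card_of_injective (β := {t : Fˣ // t ^ 2 = 1} × {t : Fˣ // t ^ 2 = 1})
      (fun b : {b : B // b ^ 2 = 1} => (⟨(f b).1, congrArg Prod.fst ((map_pow f _ 2).symm.trans ((congrArg f b.2).trans (map_one f)))⟩,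
        ⟨(f b).2, congrArg Prod.snd ((map_pow f _ 2).symm.trans ((congrArg f b.2).trans (map_one f)))⟩))
      fun a b e => Subtype.ext (hf (Prod.ext (Subtype.mk.inj (Prod.mk.inj e).1) (Subtype.mk.inj (Prod.mk.inj e).2)))).trans ?_
    rw [Nat.card_prod]
    exact Nat.mul_le_mul (card_sq_units F) (card_sq_units F)
  · have h3 : φ ⟨n, hn⟩ ^ 2 ^ (k + 1) = 1 := by
      rw [← map_pow, pow_succ, pow_mul, show (⟨n, hn⟩ : N) ^ 2 ^ k = 1 from Subtype.ext (congrArg Subtype.val e :),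
        one_pow, map_one]
    have h4 := pow_gcd_eq_one.2 ⟨h3, pow_six_G2 CoxeterMatrix.G₂.toCoxeterSystem _⟩
    rw [pow_succ', show 6 = 2 * 3 from rfl, Nat.gcd_mul_left, Nat.Coprime.pow_left k (by decide), mul_one, ← map_pow,
      ← MonoidHom.mem_ker, hker] at h4
    obtain ⟨b, hb⟩ := hT h4
    exact ⟨b, Subtype.ext hb⟩

theorem exists_tAct_pow {D : ChevalleyDatum} (E : Real D) (hd : (Matrix.of E.R.cartan).det.natAbs = 1) {F : Type*}
    [Field F] [Fintype F] {n : ℕ} (hn : n.Coprime (Fintype.card F)) {g h : D.group F} (ho : orderOf g = n) {a : ℕ}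
    (e : h * g * h⁻¹ = g ^ a) : ∃ c : Fin D.rank → (Univ F)ˣ, orderOf c = n ∧ ∃ w ∈ E.R.W, E.R.tAct w c = c ^ a := by
  obtain ⟨A, ⟨P⟩⟩ := E.exists_split (algebraMap F (Univ F))
  obtain ⟨φ, h1, h2⟩ := P.exists_act
  have hk : Function.Injective A.hMul.torus := (injective_iff_map_eq_one _).2 fun z hz => by
    simpa [hd] using E.pow_det_of_torus hz
  obtain ⟨x, c, h3⟩ := AlgSys.exists_conj_torus h1 Fintype.one_lt_card P.cast_card (E.std _) hk hn
    ((h2 _).trans (P.τ_ψ g)) (by rw [← map_pow, ← ho, pow_orderOf_eq_one, map_one])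
  obtain ⟨w, h4, h5⟩ := exists_tAct A.toAlgSys (c := c) (d := c ^ a) (g := x⁻¹ * P.ψ h * x) (by
    have := congrArg P.ψ e
    rw [map_mul, map_mul, map_inv, map_pow, h3, conj_pow] at this
    rw [map_pow, eq_comm, ← mul_right_inj x, ← mul_left_inj x⁻¹, ← this]; group)
  refine ⟨c, ?_, w, h4, hk h5⟩
  rw [← ho, ← orderOf_injective _ P.inj, h3, ← orderOf_injective _ hk]
  exact (orderOf_injective (MulAut.conj x).toMonoidHom (MulAut.conj x).injective _).symm

theorem dvd_of_enum {D : ChevalleyDatum} {A : Aux} (T : Tab D A) (E : Real D)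
    (hd : (Matrix.of E.R.cartan).det.natAbs = 1) {J : List ℕ} (hJ : ∀ j : Fin D.rank, (j : ℕ) ∈ J) {N K C S : ℕ}
    {P : List (List ℤ)} (hP : A.enumOK J [] N K C S (A.annF P) = true) {F : Type*} [Field F] [Fintype F] {n : ℕ}
    (hn : n.Coprime (Fintype.card F)) {g h : D.group F} (ho : orderOf g = n) {a b : ℕ} (e : h * g * h⁻¹ = g ^ a)
    (hab : a * b % n = 1) : ∃ k < P.length, (n : ℤ) ∣ 1 + b * lval (P.getD k []) b := by
  obtain ⟨c, h1, w, h2, h3⟩ := exists_tAct_pow E hd hn ho e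
  obtain ⟨w₀, -, h4, h5⟩ := T.ann_sound E hP
  obtain rfl : w₀ = 1 := Equiv.ext fun r => Fin.ext (h4 r)
  rw [Set.eq_univ_of_forall (s := {j : Fin D.rank | (j : ℕ) ∈ J}) hJ, RS.WJ_univ] at h5
  obtain ⟨k, b1, -, b3⟩ := h5 w h2
  exact ⟨k, b1, h1 ▸ orderOf_dvd_iff_zpow_eq_one.2 (b3 _ c _ (by
    rw [mul_one, h3, ← pow_mul, ← pow_mod_orderOf, h1, hab, pow_one]))⟩

theorem coprime_card {F : Type*} [Field F] [Fintype F] (p : ℕ) [hp : Fact p.Prime] [CharP F p] {s : ℕ} (hs : s.Prime)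
    (h : p ≠ s) : s.Coprime (Fintype.card F) := by
  obtain ⟨n, -, e⟩ := FiniteField.card F p
  exact e ▸ ((Nat.coprime_primes hs hp.out).2 h.symm).pow_right _

theorem det_G2 (E : Real chevG2) : (Matrix.of E.R.cartan).det.natAbs = 1 :=
  (congrArg (fun C : Matrix (Fin 2) (Fin 2) ℤ => C.det.natAbs) (E.cartanM_eq.trans datCartan_G2)).trans (by decide +kernel)

theorem det_F4 (E : Real chevF4) : (Matrix.of E.R.cartan).det.natAbs = 1 :=
  (congrArg (fun C : Matrix (Fin 4) (Fin 4) ℤ => C.det.natAbs) (E.cartanM_eq.trans datCartan_F4)).trans (by decide +kernel)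

theorem det_D4 (E : Real chevD4) : (Matrix.of E.R.cartan).det.natAbs = 4 :=
  (congrArg (fun C : Matrix (Fin 4) (Fin 4) ℤ => C.det.natAbs) (E.cartanM_eq.trans datCartan_D4)).trans (by decide +kernel)

variable {F : Type*} [Field F] [Fintype F] (p : ℕ) [Fact p.Prime] [CharP F p]

theorem not_alt_G2 (hp : p ≠ 5) (L : Subgroup (chevG2.group F)) (π : L →* alternatingGroup (Fin 7))
    (hπ : Function.Surjective π) : False := by
  obtain ⟨x, g, h1, h2⟩ := ex_seven_five
  obtain ⟨c, h, h3, h4⟩ := lift_one hπ Nat.prime_five h1 h2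
  exact absurd (dvd_of_enum tabG2 realG2 (det_G2 _) (by decide) enumG2 (coprime_card p Nat.prime_five hp)
    ((orderOf_coe c).trans h3) (b := 3) (congrArg Subtype.val h4) rfl) (by decide +kernel)

theorem not_alt_F4 (hp : p ≠ 11) (L : Subgroup (chevF4.group F)) (π : L →* alternatingGroup (Fin 11))
    (hπ : Function.Surjective π) : False := by
  obtain ⟨x, g, h1, h2⟩ := ex_eleven
  obtain ⟨c, h, h3, h4⟩ := lift_one hπ Nat.prime_eleven h1 h2
  exact absurd (dvd_of_enum tabF4 realF4 (det_F4 _) (by decide) enumF4 (coprime_card p Nat.prime_eleven hp)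
    ((orderOf_coe c).trans h3) (b := 4) (congrArg Subtype.val h4) rfl) (by decide +kernel)

theorem not_alt_F4' (hp : p ≠ 5) (hp' : p ≠ 7) (L : Subgroup (chevF4.group F)) (π : L →* alternatingGroup (Fin 12))
    (hπ : Function.Surjective π) : False := by
  obtain ⟨x, y, g, h1, h1', h0, h2, h2'⟩ := ex_twelve
  obtain ⟨c, h, h3, h4⟩ := lift_two hπ Nat.prime_five Nat.prime_seven (by decide) h1 h1' h0 h2 h2'
  exact absurd (dvd_of_enum tabF4 realF4 (det_F4 _) (by decide) enumF4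
    ((coprime_card p Nat.prime_five hp).mul_left (coprime_card p Nat.prime_seven hp'))
    ((orderOf_coe c).trans h3) (b := 33) (congrArg Subtype.val h4) rfl) (by decide +kernel)

omit [Fact p.Prime] in
theorem card_mod_four (hp : p = 5) : Fintype.card F % 4 = 1 := by
  obtain ⟨n, -, e⟩ := FiniteField.card F p
  rw [e, hp, Nat.pow_mod]; simp

omit [Fact p.Prime] in
theorem not_alt_G2' (hp : p = 5) (L : Subgroup (chevG2.group F)) (π : L →* alternatingGroup (Fin 8))
    (hπ : Function.Surjective π) : False := by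
  let E := realG2
  obtain ⟨φ, h1, h2, -⟩ := E.exists_monomial_hom isCartan_datG2 F
  have h3 := Cfsg.Agent.S1035.result (F := F) rfl (chevG2, 1) (by simp)
  have h4 := Cfsg.Agent.S1059.result (F := F) rfl
  have h5 := card_mod_four (F := F) p hp
  obtain ⟨k, hk⟩ : ∃ k, Fintype.card F = 4 * k + 1 := ⟨Fintype.card F / 4, by omega⟩
  rw [hk] at h3 h4
  refine not_alt_eight' (by rw [E.monomialSubgroup_eq, E.diagonalSubgroup_eq]; exact (E.S F).H_le_N)
    (by rw [E.monomialSubgroup_eq, E.group_eq]; exact (E.S F).N_le_grp) φ h1 h2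
    (m := (4 * k + 1) ^ 6 * (2 * k + 1) ^ 2 * ((4 * k + 1) ^ 4 + (4 * k + 1) ^ 2 + 1)) ?_ ?_
    (B := Fin 2 → Fˣ) (F := F) ((Pi.evalMonoidHom _ 0).prod (Pi.evalMonoidHom _ 1)) (fun a b e => ?_) (E.hMul F).torus
    (by rw [E.diagonalSubgroup_eq]; exact (E.hMul F).range_torus.ge)
    (fun b => by rw [E.group_eq]; exact (E.S F).H_le_grp ((E.hMul F).torus_mem_H b)) L π hπ
  · have h6 : Odd (4 * k + 1) := ⟨2 * k, by ring⟩
    exact (h6.pow.mul (Odd.pow ⟨k, rfl⟩)).mul ((h6.pow.add_odd h6.pow).add_one)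
  · rw [h4, (one_mul _).symm.trans h3, show (4 * k + 1) ^ 2 - 1 = 4 * k * (4 * k + 2) from Nat.sub_eq_of_eq_add (by ring),
      show (4 * k + 1) ^ 6 - 1 = 4 * k * (4 * k + 2) * ((4 * k + 1) ^ 4 + (4 * k + 1) ^ 2 + 1) from
        Nat.sub_eq_of_eq_add (by ring), Nat.add_sub_cancel, show chevG2.rank = 2 from rfl]
    ring
  · funext i
    fin_cases i
    exacts [(Prod.mk.inj e).1, (Prod.mk.inj e).2]

end CL.AltSec
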