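/-
Alternating sections of the exceptional groups: minimal extensions of alternating groups, lifting of subgroups of prime
power order, weights of abelian groups.
-/
import Cfsg.Agent.Known.AltGL5
import Cfsg.Agent.Chev.AltSec1
import Cfsg.Agent.Grp.Fitting

set_option autoImplicit false

open Equiv Equiv.Perm Module Subgroup Cfsg
open scoped commutatorElement

namespace CL.AltEx

open CL.Known CL.AltGL CL.Grp

universe u

section Lin
variable {k V : Type*} [Field k] [AddCommGroup V] [Module k V]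

theorem finrank_eigenspace_of_basis {ι : Type*} [Fintype ι] [DecidableEq k] (b : Basis ι k V) {f : End k V}
    {μ : ι → k} (h : ∀ i, f (b i) = μ i • b i) (c : k) :
    finrank k (f.eigenspace c) = (Finset.univ.filter fun i => μ i = c).card := by
  have h1 : f.eigenspace c = Submodule.span k (Set.range fun i : {i // μ i = c} => b i) := by
    refine le_antisymm (fun v hv => ?_) (Submodule.span_le.2 ?_)
    · rw [show (Set.range fun i : {i // μ i = c} => b i) = b '' {i | μ i = c} from (Set.image_eq_range _ _).symm,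
        Basis.mem_span_image]
      intro i hi
      have h2 : b.coord i ∘ₗ f = μ i • b.coord i := b.ext fun j => by
        by_cases e : j = i <;> simp [h, e]
      have h3 := LinearMap.congr_fun h2 v
      simp only [LinearMap.comp_apply, End.mem_eigenspace_iff.1 hv, map_smul, LinearMap.smul_apply, smul_eq_mul] at h3
      exact (mul_right_cancel₀ (Finsupp.mem_support_iff.1 hi) h3).symm
    · rintro _ ⟨i, rfl⟩
      exact End.mem_eigenspace_iff.2 ((h i).trans (by rw [i.2]))
  rw [h1, finrank_span_eq_card (b := fun i : {i // μ i = c} => b i) (b.linearIndependent.comp _ Subtype.val_injective),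
    Fintype.card_subtype]

variable [FiniteDimensional k V] [IsAlgClosed k]

/-- the weights of an abelian group of semisimple elements -/
theorem exists_weights [DecidableEq k] {D : Type*} [Group D] (σ : Representation k D V) (hc : ∀ a b : D, a * b = b * a)
    {l : ℕ} (hl : (l : k) ≠ 0) (h : ∀ g : D, g ^ l = 1) : ∃ χ : Fin (finrank k V) → D →* k,
      ∀ g c, finrank k (End.eigenspace (σ g) c) = (Finset.univ.filter fun i => χ i g = c).card := by
  have h1 := End.iSup_iInf_maxGenEigenspace_eq_top_of_iSup_maxGenEigenspace_eq_top_of_commute (fun g => σ g)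
    (fun a b _ => (show Commute a b from hc a b).map σ) fun g => End.iSup_maxGenEigenspace_eq_top _
  have h2 : ∀ g μ, End.maxGenEigenspace (σ g) μ = End.eigenspace (σ g) μ := fun g μ =>
    (End.isFinitelySemisimple_iff_isSemisimple.2 (End.isSemisimple_of_squarefree_aeval_eq_zero
      (Polynomial.X_pow_sub_one_separable_iff.2 hl).squarefree (by
        rw [map_sub, map_pow, Polynomial.aeval_X, map_one, ← map_pow, h, map_one, sub_self]))).maxGenEigenspace_eq_eigenspace μ
  obtain ⟨s, hs, h3, h4⟩ := exists_linearIndependent k {v : V | ∃ χ : D → k, ∀ g, σ g v = χ g • v}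
  have h5 : ⊤ ≤ Submodule.span k (Set.range ((↑) : s → V)) := by
    rw [Subtype.range_coe, h3, ← h1]
    refine iSup_le fun χ v hv => Submodule.subset_span ⟨χ, fun g => ?_⟩
    have := (Submodule.mem_iInf _).1 hv g
    rwa [h2, End.mem_eigenspace_iff] at this
  let b0 := Basis.mk h4 h5
  haveI := FiniteDimensional.fintypeBasisIndex b0
  let b := b0.reindex (Fintype.equivFinOfCardEq (finrank_eq_card_basis b0).symm)
  have h6 : ∀ i, ∃ χ : D → k, ∀ g, σ g (b i) = χ g • b i := fun i => by
    simp only [b, b0, Basis.reindex_apply, Basis.mk_apply]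
    exact hs (Subtype.mem _)
  choose χ hχ using h6
  refine ⟨fun i => ⟨⟨χ i, smul_left_injective k (b.ne_zero i) ?_⟩, fun x y => smul_left_injective k (b.ne_zero i) ?_⟩,
    fun g c => finrank_eigenspace_of_basis b (fun i => hχ i g) c⟩
  · simp [← hχ]
  · simp only [← hχ, map_mul, End.mul_apply, mul_smul]
    rw [hχ i y, map_smul, hχ i x, smul_comm]

omit [FiniteDimensional k V] [IsAlgClosed k] in
theorem card_ker_char {D : Type*} [Group D] [Finite D] {l : ℕ} (hl : l.Prime) (h : ∀ g : D, g ^ l = 1) (χ : D →* k)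
    [Decidable (χ = 1)] :
    l * Nat.card (MonoidHom.mker χ) = Nat.card D * if χ = 1 then l else 1 := by
  haveI := Fact.mk hl
  have h0 : Nat.card (MonoidHom.mker χ) = Nat.card χ.toHomUnits.ker :=
    Nat.card_congr (Equiv.subtypeEquivRight fun g => by simp [MonoidHom.mem_mker, Units.ext_iff])
  have h1 := χ.toHomUnits.ker.card_mul_index
  rw [index_ker] at h1
  have h2 : Nat.card χ.toHomUnits.range ∣ l := by
    have h3 : χ.toHomUnits.range ≤ rootsOfUnity l k := by
      rintro _ ⟨g, rfl⟩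
      rw [mem_rootsOfUnity, ← map_pow, h, map_one]
    haveI : IsCyclic χ.toHomUnits.range := isCyclic_of_injective _ (inclusion_injective h3)
    rw [← IsCyclic.exponent_eq_card]
    exact Monoid.exponent_dvd_of_forall_pow_eq_one fun x => Subtype.ext ((mem_rootsOfUnity _ _).1 (h3 x.2))
  rw [h0, ← h1]
  split_ifs with e
  · subst e
    rw [show (1 : D →* k).toHomUnits.range = ⊥ from MonoidHom.range_eq_bot_iff.2 (by ext; simp), card_bot]
    ring
  · rw [((Nat.dvd_prime hl).1 h2).resolve_left fun e' => e ?_]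
    · ring
    · ext g
      exact congrArg Units.val ((Subgroup.eq_bot_iff_forall _).1 (card_eq_one.1 e') _ ⟨g, rfl⟩)

omit [FiniteDimensional k V] [IsAlgClosed k] in
/-- counting the characters that vanish -/
theorem sum_count {D ι : Type*} [Group D] [Fintype D] [Fintype ι] [DecidableEq k] [DecidableEq (D →* k)] {l : ℕ}
    (hl : l.Prime) (h : ∀ g : D, g ^ l = 1) (χ : ι → D →* k) :
    l * ∑ g, (Finset.univ.filter fun i => χ i g = 1).card =
      Fintype.card D * (Fintype.card ι + (l - 1) * (Finset.univ.filter fun i => χ i = 1).card) := by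
  classical
  simp only [Finset.card_filter]
  rw [Finset.sum_comm, Finset.mul_sum, Finset.mul_sum]
  conv_rhs => rw [← Finset.card_univ (α := ι), Finset.card_eq_sum_ones, ← Finset.sum_add_distrib, Finset.mul_sum]
  refine Finset.sum_congr rfl fun i _ => ?_
  have := card_ker_char hl h (χ i)
  rw [Nat.card_eq_fintype_card (α := D), Nat.card_eq_fintype_card, Fintype.card_subtype, Finset.card_filter] at this
  simp only [MonoidHom.mem_mker] at this
  rw [this]
  have := hl.pos
  split_ifs <;> congr 1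
  omega

/-- the sum of the dimensions of the fixed spaces -/
theorem sum_fix {D : Type*} [Group D] [Fintype D] (σ : Representation k D V) (hc : ∀ a b : D, a * b = b * a) {l : ℕ}
    (hl : l.Prime) (hk : (l : k) ≠ 0) (h : ∀ g : D, g ^ l = 1) : ∃ d,
      l * ∑ g, finrank k (End.eigenspace (σ g) 1) = Fintype.card D * (finrank k V + (l - 1) * d) := by
  classical
  obtain ⟨χ, hχ⟩ := exists_weights σ hc hk h
  exact ⟨_, by simpa only [hχ, Fintype.card_fin] using sum_count hl h χ⟩

/-- elementary abelian `2`-groups with two types of involutions -/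
theorem card_dvd_of_two {D : Type*} [Group D] [Finite D] (σ : Representation k D V) (hk : ((2 : ℕ) : k) ≠ 0)
    (h : ∀ g : D, g ^ 2 = 1) {a b : ℕ} (hab : ∀ g : D, g ≠ 1 → finrank k (End.eigenspace (σ g) 1) = a ∨
      finrank k (End.eigenspace (σ g) 1) = b) :
    (Nat.card D : ℤ) ∣ 4 * ((finrank k V - a) * (finrank k V - b)) := by
  classical
  haveI := Fintype.ofFinite D
  have hc : ∀ a b : D, a * b = b * a := fun a b => by
    have i : ∀ x : D, x⁻¹ = x := fun x => inv_eq_of_mul_eq_one_right (by rw [← sq, h])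
    rw [← i (a * b), mul_inv_rev, i, i]
  obtain ⟨χ, hχ⟩ := exists_weights σ hc hk h
  let t : D → k → ℤ := fun _ x => if x = 1 then 1 else -1
  have s1 : ∀ ψ : D →* k, (Nat.card D : ℤ) ∣ ∑ g, t g (ψ g) := fun ψ => by
    have := card_ker_char Nat.prime_two h ψ
    rw [Nat.card_eq_fintype_card, Fintype.card_subtype, Finset.card_filter] at this
    have h2 : ∑ g, t g (ψ g) = 2 * ((∑ g, if g ∈ MonoidHom.mker ψ then 1 else 0 : ℕ) : ℤ) - Nat.card D := by
      rw [Nat.card_eq_fintype_card, ← Finset.card_univ, Finset.card_eq_sum_ones]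
      push_cast
      rw [Finset.mul_sum, ← Finset.sum_sub_distrib]
      refine Finset.sum_congr rfl fun g _ => ?_
      simp only [t, MonoidHom.mem_mker]
      split_ifs <;> norm_num
    rw [h2]
    exact dvd_sub (by exact_mod_cast this.symm ▸ dvd_mul_right _ _) dvd_rfl
  have hs : ∀ (ψ : D →* k) g, ψ g = 1 ∨ ψ g = -1 := fun ψ g => sq_eq_one_iff.1 (by rw [← map_pow, h, map_one])
  have h1 : (-1 : k) ≠ 1 := fun e => hk (by push_cast; linear_combination -e)
  have s2 : ∀ i j g, t g ((χ i * χ j) g) = t g (χ i g) * t g (χ j g) := fun i j g => by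
    rcases hs (χ i) g with e | e <;> rcases hs (χ j) g with e' | e' <;> simp [t, e, e', h1]
  have s3 : ∀ g, ∑ i, t g (χ i g) = 2 * (finrank k (End.eigenspace (σ g) 1) : ℤ) - finrank k V := fun g => by
    rw [hχ, Finset.card_filter]
    rw [show (finrank k V : ℤ) = ∑ _i : Fin (finrank k V), 1 by simp]
    push_cast
    rw [Finset.mul_sum, ← Finset.sum_sub_distrib]
    refine Finset.sum_congr rfl fun i _ => ?_
    simp only [t]
    split_ifs <;> norm_num
  have s4 : ∑ g, ((∑ i, t g (χ i g)) - (2 * a - finrank k V)) * ((∑ i, t g (χ i g)) - (2 * b - finrank k V)) =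
      4 * ((finrank k V - a) * (finrank k V - b)) := by
    rw [Finset.sum_eq_single 1 (fun g _ hg => by rcases hab g hg with e | e <;> simp [s3, e]) (by simp), s3, map_one,
      show End.eigenspace (1 : End k V) 1 = ⊤ from eq_top_iff.2 fun v _ => End.mem_eigenspace_iff.2 (by simp), finrank_top]
    ring
  rw [← s4]
  have s5 : (Nat.card D : ℤ) ∣ ∑ g, ∑ i, t g (χ i g) := by
    rw [Finset.sum_comm]; exact Finset.dvd_sum fun i _ => s1 _
  have s6 : (Nat.card D : ℤ) ∣ ∑ g, (∑ i, t g (χ i g)) * ∑ i, t g (χ i g) := by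
    simp only [Finset.sum_mul_sum, ← s2]
    rw [Finset.sum_comm]
    refine Finset.dvd_sum fun i _ => ?_
    rw [Finset.sum_comm]
    exact Finset.dvd_sum fun j _ => s1 _
  generalize (2 * a - finrank k V : ℤ) = A, (2 * b - finrank k V : ℤ) = B
  simp only [sub_mul, mul_sub, Finset.sum_sub_distrib, ← Finset.mul_sum, ← Finset.sum_mul]
  refine dvd_sub (dvd_sub s6 (s5.mul_left _)) (dvd_sub (s5.mul_right _) ?_)
  rw [Finset.sum_const, Finset.card_univ, ← Nat.card_eq_fintype_card, nsmul_eq_mul]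
  exact (dvd_mul_right _ _).mul_left _

end Lin

section Lift
variable {H A : Type*} [Group H] [Group A] [Finite H] {π : H →* A} {l : ℕ} [hl : Fact l.Prime]
  (hK : ¬ l ∣ Nat.card π.ker)
include hK

theorem eq_of_map_eq {P : Subgroup H} (hP : IsPGroup l P) {x y : H} (hx : x ∈ P) (hy : y ∈ P) (e : π x = π y) :
    x = y := by
  obtain ⟨n, hn⟩ := IsPGroup.iff_orderOf.1 hP ⟨_, mul_mem (inv_mem hx) hy⟩
  rw [← Subgroup.orderOf_coe] at hn
  have h1 := orderOf_dvd_natCard π.ker (show x⁻¹ * y ∈ π.ker by simp [MonoidHom.mem_ker, e])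
  rw [show orderOf (x⁻¹ * y) = _ from hn] at h1
  obtain rfl | h := n.eq_zero_or_pos
  · exact inv_mul_eq_one.1 (orderOf_eq_one_iff.1 (by simpa using hn))
  · exact absurd ((dvd_pow_self l h.ne').trans h1) hK

theorem exists_ker_conj {P P' : Subgroup H} (hP : IsPGroup l P) (hP' : IsPGroup l P') (e : P'.map π ≤ P.map π) :
    ∃ k, π k = 1 ∧ ∀ x ∈ P, ∀ y ∈ P', π x = π y → y = k * x * k⁻¹ := by
  let N := (P.map π).comap π
  obtain ⟨Q, hQ⟩ := (hP.comap_subtype (K := N)).exists_le_sylow
  obtain ⟨Q', hQ'⟩ := (hP'.comap_subtype (K := N)).exists_le_sylow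
  obtain ⟨n, rfl⟩ := MulAction.exists_smul_eq N Q Q'
  have h1 : ∀ x ∈ (Q : Subgroup N), (x : H) ∈ P := fun x hx => by
    obtain ⟨y, hy, e⟩ := x.2
    exact (show (x : H) = y from eq_of_map_eq hK (Q.isPGroup'.map N.subtype) (mem_map_of_mem _ hx)
      (mem_map_of_mem _ (hQ (show (⟨y, y, hy, rfl⟩ : N) ∈ P.comap N.subtype from hy))) e.symm) ▸ hy
  obtain ⟨z, hz, e'⟩ := n.2
  refine ⟨n * z⁻¹, by rw [map_mul, map_inv, e', mul_inv_cancel], fun x hx y hy h => ?_⟩
  have h2 := h1 _ (mem_pointwise_smul_iff_inv_smul_mem.1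
    (hQ' (show (⟨y, e (mem_map_of_mem π hy)⟩ : N) ∈ P'.comap N.subtype from hy)))
  change (n : H)⁻¹ * y * n ∈ P at h2
  rw [eq_of_map_eq hK hP hx (mul_mem (mul_mem hz h2) (inv_mem hz)) (by simp [e', h, mul_assoc])]
  group

/-- homomorphisms from `l`-groups that are conjugate modulo the kernel are conjugate -/
theorem exists_conj_hom {D : Type*} [Group D] (hD : IsPGroup l D) (s s' : D →* H) {g : H}
    (e : ∀ d, π (s' d) = π g * π (s d) * (π g)⁻¹) : ∃ g', π g' = π g ∧ ∀ d, s' d = g' * s d * g'⁻¹ := by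
  obtain ⟨k, h1, h2⟩ := exists_ker_conj hK (hD.of_surjective _ ((MulAut.conj g).toMonoidHom.comp s).rangeRestrict_surjective)
    (hD.of_surjective _ s'.rangeRestrict_surjective) (by
      rintro _ ⟨_, ⟨d, rfl⟩, rfl⟩
      exact ⟨_, ⟨d, rfl⟩, by simp [e]⟩)
  exact ⟨k * g, by rw [map_mul, h1, one_mul], fun d => by
    rw [h2 _ ⟨d, rfl⟩ _ ⟨d, rfl⟩ (by simp [e])]; simp [mul_assoc]⟩

theorem isConj_of_map (hπ : Function.Surjective π) {x y : H} {n : ℕ} (hx : x ^ l ^ n = 1) (hy : y ^ l ^ n = 1)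
    (e : IsConj (π x) (π y)) : IsConj x y := by
  obtain ⟨a, e⟩ := isConj_iff.1 e
  obtain ⟨g, rfl⟩ := hπ a
  have h : ∀ {x : H}, x ^ l ^ n = 1 → IsPGroup l (zpowers x) := fun {x} hx => by
    rintro ⟨_, k, rfl⟩
    exact ⟨n, Subtype.ext (show (x ^ k) ^ l ^ n = 1 by
      rw [← zpow_natCast, ← zpow_mul, mul_comm, zpow_mul, zpow_natCast, hx, one_zpow])⟩
  obtain ⟨k, -, h2⟩ := exists_ker_conj hK (h (x := g * x * g⁻¹) (by rw [conj_pow, hx]; simp)) (h hy)
    (by simp [e])
  exact isConj_iff.2 ⟨k * g, by rw [h2 _ (mem_zpowers _) _ (mem_zpowers _) (by simp [e])]; group⟩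

theorem exists_section (hπ : Function.Surjective π) {D : Type*} [Group D] (hD : IsPGroup l D) (θ : D →* A) :
    ∃ s : D →* H, ∀ d, π (s d) = θ d := by
  let N := θ.range.comap π
  obtain ⟨Q⟩ : Nonempty (Sylow l N) := inferInstance
  let f : N →* θ.range := (π.comp N.subtype).codRestrict _ fun n => n.2
  have hf : Function.Surjective f := fun ⟨y, hy⟩ => let ⟨x, hx⟩ := hπ y; ⟨⟨x, by rwa [mem_comap, hx]⟩, Subtype.ext hx⟩
  have h1 : (Q : Subgroup N).map f = ⊤ :=
    ((Q.mapSurjective hf).is_maximal' ((hD.of_surjective _ θ.rangeRestrict_surjective).to_subgroup ⊤) le_top).symm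
  let e := MulEquiv.ofBijective (f.comp (Q : Subgroup N).subtype) ⟨fun a b h => Subtype.ext (Subtype.ext
    (eq_of_map_eq hK (Q.isPGroup'.map N.subtype) (mem_map_of_mem _ a.2) (mem_map_of_mem _ b.2) (congrArg Subtype.val h))),
    fun y => let ⟨x, hx, e⟩ := h1.ge (mem_top y); ⟨⟨x, hx⟩, e⟩⟩
  exact ⟨N.subtype.comp ((Q : Subgroup N).subtype.comp (e.symm.toMonoidHom.comp θ.rangeRestrict)),
    fun d => congrArg Subtype.val (e.apply_symm_apply _)⟩

end Lift

/-- a minimal extension -/
structure Min {H A : Type*} [Group H] [Group A] (π : H →* A) : Prop where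
  surj : Function.Surjective π
  min : ∀ L : Subgroup H, L.map π = ⊤ → L = ⊤

theorem exists_isMin {H A : Type*} [Group H] [Group A] [Finite H] {π : H →* A} (hπ : Function.Surjective π) :
    ∃ M : Subgroup H, Min (π.comp M.subtype) :=
  let ⟨M, h1, h2⟩ := CL.AltSec.exists_min hπ ⊤
  ⟨M, MonoidHom.range_eq_top.1 h1, h2⟩

namespace Min
variable {H Ω : Type*} [Group H] [Fintype Ω] [DecidableEq Ω] {π : H →* alternatingGroup Ω} (hπ : Min π)
  (h5 : 5 ≤ Fintype.card Ω)
include hπ

theorem quot (N : Subgroup H) [N.Normal] (h : N ≤ π.ker) : Min (QuotientGroup.lift N π h) :=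
  ⟨fun a => let ⟨x, hx⟩ := hπ.surj a; ⟨x, hx⟩, fun L hL => by
    rw [← map_comap_eq_self_of_surjective (QuotientGroup.mk'_surjective N) L] at hL ⊢
    rw [hπ.min _ ((map_map _ _ _).symm.trans hL), map_top_of_surjective _ (QuotientGroup.mk'_surjective N)]⟩

theorem ker_le [Finite H] : π.ker ≤ fittingSubgroup H := by
  refine le_trans (le_iInf₂ fun M hM => ?_) frattini_le_fittingSubgroup
  by_contra hle
  refine hM.1 (hπ.min M ?_)
  rw [← map_comap_eq_self_of_surjective hπ.surj (M.map π), comap_map_eq, hM.2 _ (left_lt_sup.2 hle),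
    map_top_of_surjective π hπ.surj]

include h5

theorem normal (N : Subgroup H) [hN : N.Normal] : N = ⊤ ∨ N ≤ π.ker :=
  haveI : IsSimpleGroup (alternatingGroup Ω) := alternatingGroup.isSimpleGroup (by simpa using h5)
  (hN.map π hπ.surj).eq_bot_or_eq_top.symm.imp (hπ.min N) (map_eq_bot_iff N).1

theorem perfect : commutator H = ⊤ := hπ.min _ (by
  rw [map_commutator_eq, MonoidHom.range_eq_top.2 hπ.surj]
  exact commutator_alternatingGroup_eq_top (by simpa using h5))

theorem le_ker (N : Subgroup H) [N.Normal] [Group.IsSolvable N] : N ≤ π.ker := by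
  refine (hπ.normal h5 N).resolve_left fun e => ?_
  subst e
  haveI : Group.IsSolvable H := Group.isSolvable_of_surjective (f := (⊤ : Subgroup H).subtype) fun x => ⟨⟨x, trivial⟩, rfl⟩
  haveI : Nontrivial Ω := Fintype.one_lt_card_iff_nontrivial.1 (by omega)
  haveI := alternatingGroup.nontrivial_of_three_le_card (α := Ω) (by simpa using by omega)
  haveI := hπ.surj.nontrivial
  exact (Group.IsSolvable.commutator_lt_top_of_nontrivial H).ne (hπ.perfect h5)

theorem mem_center {x : H} (h4 : ∀ g : H, ⁅g, x⁆ ∈ center H) : x ∈ center H := by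
  have h5' : ∀ a b : H, ⁅a * b, x⁆ = ⁅a, x⁆ * ⁅b, x⁆ := fun a b => by
    rw [show ⁅a * b, x⁆ = a * ⁅b, x⁆ * a⁻¹ * ⁅a, x⁆ by simp only [commutatorElement_def]; group,
      mem_center_iff.1 (h4 b) a, mul_inv_cancel_right, mem_center_iff.1 (h4 b)]
  have : commutator H ≤ centralizer {x} := commutator_le.2 fun a _ b _ => by
    have h6 : ⁅a * b, x⁆ = ⁅b * a, x⁆ := by rw [h5', h5', mem_center_iff.1 (h4 b)]
    have h7 := h5' ⁅a, b⁆ (b * a)
    rw [show ⁅a, b⁆ * (b * a) = a * b by rw [commutatorElement_def]; group, h6, right_eq_mul] at h7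
    exact mem_centralizer_singleton_iff.2 (commutatorElement_eq_one_iff_mul_comm.1 h7)
  exact mem_center_iff.2 fun g => mem_centralizer_singleton_iff.1 (this (hπ.perfect h5 ▸ mem_top g))

end Min

namespace Min
variable {H : Type u} {Ω : Type*} [Group H] [Finite H] [Fintype Ω] [DecidableEq Ω] {π : H →* alternatingGroup Ω}
  (hπ : Min π) (h9 : 9 ≤ Fintype.card Ω) (l : ℕ) [hl : Fact l.Prime]
include hπ h9

/-- a noncentral normal `l`-subgroup is large -/
theorem exists_big (h : ¬ pCore l H ≤ center H) : ∃ R : Subgroup H, R.Normal ∧ IsPGroup l R ∧ ¬ R ≤ center H ∧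
    (∀ N : Subgroup H, N.Normal → N < R → N ≤ center H) ∧ ⁅R, R⁆ ≤ center H ∧ (∀ x ∈ R, x ^ l ∈ center H) ∧
    l ^ (Fintype.card Ω - 2) ≤ Nat.card (R.map (QuotientGroup.mk' (center H))) := by
  obtain ⟨R, ⟨hn, hP, hR⟩, hmin⟩ := (wellFounded_lt (α := Subgroup H)).has_min
    {R | R.Normal ∧ IsPGroup l R ∧ ¬ R ≤ center H} ⟨_, inferInstance, pCore_isPGroup l H, h⟩
  have h1 : ∀ N : Subgroup H, N.Normal → N < R → N ≤ center H := fun N hN hlt => by
    by_contra h
    exact hmin N ⟨hN, hP.to_le hlt.le, h⟩ hlt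
  have h2 : ⁅R, R⁆ ≤ center H := h1 _ inferInstance (lt_of_le_of_ne (commutator_le_left _ _) fun e =>
    hR (eq_bot_of_le_commutator hP.isNilpotent le_rfl e.ge ▸ bot_le))
  let φ := QuotientGroup.mk' (center H)
  have hφ : ∀ y, φ y = 1 ↔ y ∈ center H := fun y => QuotientGroup.eq_one_iff y
  have hc : ∀ a ∈ R, ∀ b ∈ R, Commute (φ a) (φ b) := fun a ha b hb => by
    rw [← commutatorElement_eq_one_iff_commute, ← map_commutatorElement, hφ]
    exact h2 (commutator_mem_commutator ha hb)
  have h3 : ∀ x ∈ R, x ^ l ∈ center H := by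
    let N : Subgroup H :=
      { carrier := {y | y ∈ R ∧ φ y ^ l = 1}
        one_mem' := ⟨one_mem _, by simp⟩
        mul_mem' := fun {a b} ha hb => ⟨mul_mem ha.1 hb.1, by rw [map_mul, (hc a ha.1 b hb.1).mul_pow, ha.2, hb.2, one_mul]⟩
        inv_mem' := fun {a} ha => ⟨inv_mem ha.1, by rw [map_inv, inv_pow, ha.2, inv_one]⟩ }
    have hN : N.Normal := ⟨fun a ha g => ⟨hn.conj_mem a ha.1 g, by
      rw [map_mul, map_mul, map_inv, conj_pow, ha.2, mul_one, mul_inv_cancel]⟩⟩
    rcases (show N ≤ R from fun _ h => h.1).lt_or_eq with h | h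
    · refine absurd (fun x hx => ?_) hR
      obtain ⟨n, hn⟩ := hP ⟨x, hx⟩
      have h4 : x ^ l ^ n ∈ center H := (show x ^ l ^ n = 1 from congrArg Subtype.val hn) ▸ one_mem _
      clear hn
      induction n with
      | zero => simpa using h4
      | succ n ih => exact ih (h1 N hN h ⟨pow_mem hx _, by rwa [← map_pow, hφ, ← pow_mul, ← pow_succ]⟩)
    · exact fun y hy => by rw [← hφ, map_pow]; exact (h.ge hy).2
  refine ⟨R, hn, hP, hR, h1, h2, h3, ?_⟩
  haveI := hn.map φ (QuotientGroup.mk'_surjective _)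
  obtain ⟨d, hd, μ, hμ⟩ := exists_matrix_rep (R.map φ) l
    (by rintro _ ⟨a, ha, rfl⟩ _ ⟨b, hb, rfl⟩; exact hc a ha b hb)
    (by rintro _ ⟨a, ha, rfl⟩; rw [← map_pow, hφ]; exact h3 a ha)
  rw [hd]
  refine Nat.pow_le_pow_right hl.out.pos ?_
  by_contra hd'
  have := (bound d).matrix l (μ.comp φ) (π := (Equiv.altCongrHom (Fintype.equivFin Ω)).toMonoidHom.comp π)
    ((Equiv.altCongrHom (Fintype.equivFin Ω)).surjective.comp hπ.surj) (fun x hx => ?_) h9 (by omega)
  · omega
  rcases hπ.normal (by omega) (μ.toHomUnits.comp φ).ker with e | e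
  · refine absurd (fun x hx => hπ.mem_center (by omega) fun g => ?_) hR
    rw [← hφ, map_commutatorElement, commutatorElement_eq_one_iff_mul_comm]
    exact hμ _ (congrArg Units.val (show μ.toHomUnits (φ g) = 1 from e.ge (mem_top g))) _ (mem_map_of_mem φ hx)
  · rw [MonoidHom.comp_apply, e (Units.ext hx), map_one]

theorem core_le (h : l ∣ Nat.card H) : pPrimeCore l H ≤ π.ker :=
  (hπ.normal (by omega) _).resolve_left fun e => not_dvd_card_pPrimeCore l H (by rwa [e, card_top])

theorem stem (h : pCore l H ≤ center H) (h' : pPrimeCore l H ≤ π.ker) : IsStemExtension (QuotientGroup.lift _ π h') := by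
  refine ⟨(hπ.quot _ h').surj, ?_, ((hπ.quot _ h').perfect (by omega)) ▸ le_top⟩
  rintro ⟨x⟩ hx
  obtain ⟨a, ha, b, hb, rfl⟩ := mem_sup_of_normal_right.1 (fittingSubgroup_le_pCore_sup_pPrimeCore l (hπ.ker_le hx))
  refine mem_center_iff.2 ?_
  rintro ⟨g⟩
  change ((g * (a * b) : H) : H ⧸ pPrimeCore l H) = (a * b * g : H)
  simp only [QuotientGroup.mk_mul, (QuotientGroup.eq_one_iff b).2 hb, mul_one]
  exact congrArg _ (mem_center_iff.1 (h ha) g)

theorem not_dvd (h : pCore l H ≤ center H) (h2 : l ≠ 2) : ¬ l ∣ Nat.card π.ker := fun hd => by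
  obtain ⟨⟨x, hx⟩, ho⟩ := exists_prime_orderOf_dvd_card' l hd
  rw [← Subgroup.orderOf_coe] at ho
  have h3 := orderOf_dvd_iff_pow_eq_one.1 ((orderOf_dvd_natCard _ (show (x : H ⧸ pPrimeCore l H) ∈ _ from hx)).trans
    (card_ker_dvd_two (hπ.stem h9 l h (hπ.core_le h9 l (hd.trans (card_subgroup_dvd_card _)))) (Or.inr (by simpa using by omega))))
  rw [← QuotientGroup.mk_pow, QuotientGroup.eq_one_iff] at h3
  have h4 := orderOf_dvd_natCard _ h3
  rw [Nat.Coprime.orderOf_pow (by rw [show orderOf x = l from ho]; exact (Nat.coprime_primes hl.out Nat.prime_two).2 h2),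
    show orderOf x = l from ho] at h4
  exact not_dvd_card_pPrimeCore l H h4

end Min

section PermConj
variable {Ω : Type*} [Fintype Ω] [DecidableEq Ω] {l : ℕ} [hl : Fact l.Prime]

theorem isConj_alt {σ τ : alternatingGroup Ω} (hσ : σ ^ l = 1) (hτ : τ ^ l = 1)
    (h : σ.1.support.card = τ.1.support.card) {c : Perm Ω} (hc : sign c = -1) (e : c * σ = σ * c) : IsConj σ τ := by
  have h1 := cycleType_of_pow_prime_eq_one (σ := σ.1) (congrArg Subtype.val hσ)
  have h2 := cycleType_of_pow_prime_eq_one (σ := τ.1) (congrArg Subtype.val hτ)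
  rw [← sum_cycleType, ← sum_cycleType, h1, h2, Multiset.sum_replicate, Multiset.sum_replicate, smul_eq_mul, smul_eq_mul,
    mul_left_inj' hl.out.ne_zero] at h
  obtain ⟨g, hg⟩ := isConj_iff.1 (isConj_iff_cycleType_eq.2 (h1.trans (h ▸ h2.symm)))
  rcases Int.units_eq_one_or (sign g) with h3 | h3
  · exact isConj_iff.2 ⟨⟨g, h3⟩, Subtype.ext hg⟩
  · refine isConj_iff.2 ⟨⟨g * c, by simp [mem_alternatingGroup, h3, hc]⟩, Subtype.ext ?_⟩
    change g * c * σ * (g * c)⁻¹ = τ
    rw [mul_assoc g, e, ← hg]; group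

omit hl in
theorem mem_alt_of_pow (ho : Odd l) {σ : Perm Ω} (h : σ ^ l = 1) : σ ∈ alternatingGroup Ω := by
  have := congrArg sign h
  rw [map_pow, map_one] at this
  rcases Int.units_eq_one_or (sign σ) with h3 | h3
  · exact h3
  · rw [h3, ho.neg_one_pow] at this; exact absurd this (by decide)

variable {ι : Type*}

theorem pow_eq_one_pi {l : ℕ} (a : Multiplicative (ι → ZMod l)) : a ^ l = 1 :=
  Multiplicative.toAdd.injective (funext fun i => by simp)

theorem isPGroup_pi {l : ℕ} : IsPGroup l (Multiplicative (ι → ZMod l)) := fun a => ⟨1, by rw [pow_one, pow_eq_one_pi]⟩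

/-- translations of blocks -/
def trP (ι : Type*) (l : ℕ) : Multiplicative (ι → ZMod l) →* Perm (ι × ZMod l) where
  toFun a := prodCongrRight fun i => Equiv.addRight (a.toAdd i)
  map_one' := Equiv.ext fun ⟨i, x⟩ => by simp
  map_mul' a b := Equiv.ext fun ⟨i, x⟩ => Prod.ext rfl (by simp [add_assoc, add_comm (b.toAdd i)])

variable [Fintype ι] [DecidableEq ι]

/-- translations of blocks -/
def trA (ι : Type*) [Fintype ι] [DecidableEq ι] {l : ℕ} [NeZero l] (ho : Odd l) :
    Multiplicative (ι → ZMod l) →* alternatingGroup (ι × ZMod l) :=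
  (trP ι l).codRestrict _ fun a => mem_alt_of_pow ho (by rw [← map_pow, pow_eq_one_pi, map_one])

/-- the number of nonzero coordinates -/
def wtz {l : ℕ} (a : ι → ZMod l) : ℕ := (Finset.univ.filter fun i => a i ≠ 0).card

theorem card_support_trP (a : Multiplicative (ι → ZMod l)) : (trP ι l a).support.card = wtz a.toAdd * l := by
  refine Eq.trans ?_ ((Finset.card_product _ _).trans (congrArg _ (Finset.card_univ.trans (ZMod.card l))))
  congr 1
  ext ⟨i, x⟩
  simp [trP]

theorem isConj_trA [Nontrivial ι] (ho : Odd l) {a : Multiplicative (ι → ZMod l)} {σ : alternatingGroup (ι × ZMod l)}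
    (hσ : σ ^ l = 1) (h : σ.1.support.card = wtz a.toAdd * l) : IsConj (trA ι ho a) σ := by
  have h0 : ∀ b, trA ι ho b ^ l = 1 := fun b => by rw [← map_pow, pow_eq_one_pi, map_one]
  by_cases e : ∃ i, a.toAdd i = 0
  · obtain ⟨i, e⟩ := e
    refine isConj_alt (h0 a) hσ ((card_support_trP a).trans h.symm) (c := swap (i, 0) (i, 1)) (sign_swap (by simp)) ?_
    exact swap_mul_eq_mul_swap _ _ _ |>.trans (by
      congr 2 <;> exact Equiv.symm_apply_eq _ |>.2 (by simp [trA, trP, e]))
  · obtain ⟨i, j, hij⟩ := exists_pair_ne ι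
    have h1 : wtz a.toAdd = wtz (fun _ : ι => (1 : ZMod l)) := by
      rw [wtz, wtz, Finset.filter_true_of_mem (p := fun i => a.toAdd i ≠ 0) fun i _ h => e ⟨i, h⟩,
        Finset.filter_true_of_mem fun _ _ => one_ne_zero]
    have h2 : ∀ τ : alternatingGroup (ι × ZMod l), τ ^ l = 1 → τ.1.support.card = wtz a.toAdd * l →
        IsConj (trA ι ho (.ofAdd fun _ => 1)) τ := fun τ h3 h4 =>
      isConj_alt (h0 _) h3 ((card_support_trP _).trans (h1 ▸ h4.symm)) (c := prodCongrLeft fun _ => swap i j)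
        (by simp [sign_prodCongrLeft, hij, ho.neg_one_pow]) (Equiv.ext fun x => rfl)
    exact (h2 _ (h0 a) (card_support_trP a)).symm.trans (h2 σ hσ h)

theorem sum_wt {D : Type*} [Fintype D] (w : D → ℕ) (n : ℕ) (hn : ∀ d, w d < n) {f : D → ℕ} {F : ℕ → ℕ}
    (h : ∀ d, f d = F (w d)) : ∑ d, f d = ∑ j ∈ Finset.range n, (Finset.univ.filter fun d => w d = j).card * F j := by
  rw [← Finset.sum_fiberwise_of_maps_to (t := Finset.range n) (g := w) fun d _ => Finset.mem_range.2 (hn d)]
  refine Finset.sum_congr rfl fun j _ => ?_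
  rw [← smul_eq_mul, ← Finset.sum_const]
  exact Finset.sum_congr rfl fun d hd => by rw [h, (Finset.mem_filter.1 hd).2]

end PermConj

theorem exists_surj' {G Ω : Type*} [Group G] [Fintype Ω] [DecidableEq Ω] {r : ℕ} (hm : Fintype.card Ω ≤ r)
    (H : Subgroup G) (K : Subgroup H) [K.Normal] (h : Nonempty (H ⧸ K ≃* alternatingGroup (Fin r))) :
    ∃ (L : Subgroup G) (π : L →* alternatingGroup Ω), Function.Surjective π :=
  let ⟨L, π, hπ⟩ := CL.AltSec.exists_surj hm H K h
  ⟨L, (Equiv.altCongrHom (Fintype.equivFin Ω)).symm.toMonoidHom.comp π, 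
    (Equiv.altCongrHom (Fintype.equivFin Ω)).symm.surjective.comp hπ⟩

end CL.AltEx
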