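/-
Alternating sections of the exceptional groups: normal forms of semisimple elements, toral subgroups, the rank of
abelian sections.
-/
import Cfsg.Agent.Chev.AltSec3
import Cfsg.Agent.Chev.AltSec6

set_option autoImplicit false

namespace CL.AltEx

open CL.Chev StSys Matrix Subgroup

theorem commute_left_of_coprime {G : Type*} [Group G] {a b k : G} {m n : ℕ} (h : m.Coprime n) (hab : Commute a b)
    (ha : a ^ m = 1) (hb : b ^ n = 1) (hk : Commute k (a * b)) : Commute k a := by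
  have h1 := Nat.gcd_eq_gcd_ab m n
  rw [h.gcd_eq_one, Nat.cast_one] at h1
  have := hk.zpow_right (n * Nat.gcdB m n)
  rwa [hab.mul_zpow, _root_.zpow_mul b, zpow_natCast, hb, _root_.one_zpow, mul_one, eq_sub_of_add_eq' h1.symm,
    _root_.zpow_sub, _root_.zpow_mul, zpow_natCast, ha, _root_.one_zpow, inv_one, mul_one, zpow_one] at this

theorem card_range_le' {B A : Type*} [Group B] [Finite B] [Group A] (hc : ∀ a b : B, a * b = b * a) (θ : B →* A) {l : ℕ}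
    (h : ∀ b, θ b ^ l = 1) : Nat.card θ.range ≤ Nat.card {b : B // b ^ l = 1} := by
  letI : CommGroup B := { (inferInstance : Group B) with mul_comm := hc }
  have h1 : (powMonoidHom l : B →* B).range ≤ θ.ker := by
    rintro _ ⟨b, rfl⟩
    rw [MonoidHom.mem_ker, powMonoidHom_apply, map_pow, h]
  rw [← index_ker]
  refine (Nat.le_of_dvd (Nat.pos_of_ne_zero index_ne_zero_of_finite) (index_dvd_of_le h1)).trans (le_of_eq ?_)
  rw [index_range]
  rfl

theorem exists_index_le {P X : Type*} [Group P] [MulAction P X] [Finite X] {l v : ℕ} [Fact l.Prime] (hP : IsPGroup l P)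
    (h : ¬ l ^ (v + 1) ∣ Nat.card X) : ∃ x : X, (MulAction.stabilizer P x).index ≤ l ^ v := by
  classical
  by_contra! hne
  have := Fintype.ofFinite (MulAction.orbitRel.Quotient P X)
  refine h ?_
  rw [Nat.card_congr (MulAction.selfEquivSigmaOrbits P X), Nat.card_sigma]
  refine Finset.dvd_sum fun ω _ => ?_
  obtain ⟨n, hn⟩ := hP.card_orbit ω.out
  have h1 := hne ω.out
  rw [MulAction.index_stabilizer, ← Nat.card_coe_set_eq, hn] at h1
  rw [hn]
  exact pow_dvd_pow _ ((Nat.pow_lt_pow_iff_right (Fact.out : l.Prime).one_lt).1 h1)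

variable {ι Φ : Type} [Fintype ι] [DecidableEq ι] {R : RS ι Φ} [Finite Φ]

/-- The fundamental alcove. -/
def Alc (R : RS ι Φ) (s : ℕ) (y : ι → ℤ) : Prop := (∀ i, 0 ≤ R.evr y (R.simple i)) ∧ ∀ r, R.evr y r ≤ s

theorem exists_alc (y : ι → ℤ) {s : ℕ} (hs : 0 < s) :
    ∃ w ∈ R.W, ∃ y', Alc R s y' ∧ ∀ k, (s : ℤ) ∣ y' k - (y ᵥ* R.wM w) k := by
  have := Fintype.ofFinite Φ
  obtain ⟨y', ⟨w, hw, h1⟩, hmin⟩ := (InvImage.wf (fun y => (∑ r, R.evr y r ^ 2).toNat) Nat.lt_wfRel.wf).has_min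
    {y' | ∃ w ∈ R.W, ∀ k, (s : ℤ) ∣ y' k - (y ᵥ* R.wM w) k} ⟨y, 1, one_mem _, by simp⟩
  have h2 : ∀ w' ∈ R.W, ∀ z : ι → ℤ, ∀ k, (s : ℤ) ∣ (y' ᵥ* R.wM w' + (s : ℤ) • z) k - (y ᵥ* R.wM (w' * w)) k :=
    fun w' hw' z k => by
      rw [RS.wM_mul (R.W_le_aut hw'), ← vecMul_vecMul, Pi.add_apply, add_sub_right_comm, ← Pi.sub_apply, ← sub_vecMul]
      exact dvd_add (Finset.dvd_sum fun i _ => (h1 i).mul_right _) (dvd_mul_right _ _)
  have h3 : ∀ r, R.evr y' r ≤ s := fun r => by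
    by_contra! hlt
    refine hmin _ ⟨_, mul_mem (R.refl_mem_W r) hw, h2 _ (R.refl_mem_W r) (R.coroot r)⟩
      ((Int.toNat_lt_toNat (lt_of_lt_of_le (by nlinarith)
        (Finset.single_le_sum (f := fun r => R.evr y' r ^ 2) (fun _ _ => sq_nonneg _) (Finset.mem_univ r)))).2 ?_)
    have h4 := (R.lin_ev y').two_mul_sum r
    have h5 := R.sum_pair_sq_pos r
    simp only [RS.vecMul_wM_refl, RS.ev_add, RS.ev_sub, RS.ev_smul, RS.ev_coroot]
    rw [show ∑ x, (R.evr y' x - R.evr y' r * R.pair r x + s * R.pair r x) ^ 2 = ∑ x, R.evr y' x ^ 2 -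
      (R.evr y' r - s) * (2 * ∑ x, R.pair r x * R.evr y' x) + (R.evr y' r - s) ^ 2 * ∑ x, R.pair r x ^ 2 by
        simp only [Finset.mul_sum, ← Finset.sum_sub_distrib, ← Finset.sum_add_distrib]
        exact Finset.sum_congr rfl fun x _ => by ring, h4]
    have h6 := mul_pos (mul_pos h5 (sub_pos.2 hlt)) (Int.natCast_pos.2 hs)
    nlinarith
  obtain ⟨w', hw', h4⟩ := (R.lin_ev y').exists_WS R.lin_ht Set.univ
  replace hw' := RS.WS_le_W _ hw'
  refine ⟨_, mul_mem hw' hw, y' ᵥ* R.wM w', ⟨fun i => ?_, fun r => ?_⟩, by simpa using h2 w' hw' 0⟩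
  · simpa [RS.ev_vecMul' (R.W_le_aut hw')] using h4 (R.simple i) trivial
  · rw [RS.ev_vecMul' (R.W_le_aut hw')]; exact h3 _

variable {Ω : Type*} [Field Ω] {G : Type*} [Group G] {S : StSys R Ω G}

/-- The setting. -/
structure Ctx (A : S.AlgSys) (φ : Ω ≃+* Ω) (q e : ℕ) : Prop where
  std : A.Std
  frob : ∀ t, φ t = t ^ q
  two_le : 2 ≤ q
  cast : (q : Ω) = 0
  ker' : ∀ z : ι → Ωˣ, matPow Ωˣ (Matrix.of R.cartan) z = 1 → z ^ e = 1

omit [Finite Φ] in
theorem fix_pow {A : S.AlgSys} {φ : Ω ≃+* Ω} {g : G} (h : A.act φ g = g) (k : ℕ) : A.act (φ ^ k) g = g := by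
  induction k with
  | zero => simp
  | succ k ih => rw [pow_succ, map_mul, MulAut.mul_apply, h, ih]

/-- The elements that are fixed by a power of the Frobenius map. -/
def Alg (A : S.AlgSys) (φ : Ω ≃+* Ω) : Subgroup G where
  carrier := {g | ∃ N, 0 < N ∧ A.act (φ ^ N) g = g}
  one_mem' := ⟨1, one_pos, map_one _⟩
  mul_mem' := fun ⟨N, h1, h2⟩ ⟨M, h3, h4⟩ => ⟨N * M, mul_pos h1 h3, by
    rw [map_mul, pow_mul, fix_pow h2, ← pow_mul, mul_comm N, pow_mul, fix_pow h4]⟩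
  inv_mem' := fun ⟨N, h1, h2⟩ => ⟨N, h1, by rw [map_inv, h2]⟩

omit [Finite Φ] in
theorem exists_fix {A : S.AlgSys} {φ : Ω ≃+* Ω} {a b : G} (ha : a ∈ Alg A φ) (hb : b ∈ Alg A φ) :
    ∃ N, 0 < N ∧ A.act (φ ^ N) a = a ∧ A.act (φ ^ N) b = b :=
  let ⟨N, h1, h2⟩ := ha
  let ⟨M, h3, h4⟩ := hb
  ⟨N * M, mul_pos h1 h3, by rw [pow_mul, fix_pow h2], by rw [mul_comm N, pow_mul, fix_pow h4]⟩

theorem commute_of_psi (A : S.AlgSys) {c d : ι → Ωˣ} (hc : A.hMul.Conn c) (h : R.Psi c ⊆ R.Psi d) {g : G}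
    (hg : Commute g (A.hMul.torus c)) : Commute g (A.hMul.torus d) := by
  obtain ⟨w, hw, u, hu, t, u', hu', rfl⟩ := (A.faithful.commute_iff A.hMul hc (A.mem_grp g)).1 hg
  rw [RS.Stab_eq_WS hc.1] at hw
  exact (((A.hMul.commute_XS (Set.inter_subset_right.trans h) hu).mul_left ((Commute.all t d).map _)).mul_left
    (A.hMul.commute_of_NW (S.nW_mem_NW (RS.WS_le_W _ hw)) (RS.WS_le_Stab d (closure_mono (Set.image_mono h) hw)))).mul_left
    (A.hMul.commute_XS (Set.inter_subset_right.trans h) hu')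

/-- if `C(a) ≤ C(b)` then `b` lies in every maximal torus that contains `a` -/
theorem exists_W_of_le (A : S.AlgSys) {a : ι → Ωˣ} {g : G} (h : g * A.hMul.torus a * g⁻¹ ∈ S.H) : ∃ w ∈ R.W, ∀ b,
    (∀ k, Commute k (A.hMul.torus a) → Commute k (A.hMul.torus b)) →
      g * A.hMul.torus b * g⁻¹ = A.hMul.torus (R.tAct w b) := by
  obtain ⟨n, h1, h2⟩ := A.faithful.exists_N_conj (A.mem_grp g)
  obtain ⟨w, h3, h4⟩ := S.exists_induces_of_mem_N h1
  refine ⟨w, h3, fun b hb => ?_⟩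
  have h5 := (hb (n⁻¹ * g) (by
    have := h2 _ (A.hMul.torus_mem_H a) h
    calc n⁻¹ * g * A.hMul.torus a = n⁻¹ * (g * A.hMul.torus a * g⁻¹) * g := by group
      _ = _ := by rw [← this]; group)).eq
  rw [← A.hMul.conj_torus_of_induces h4]
  calc _ = n * (n⁻¹ * g * A.hMul.torus b) * g⁻¹ := by group
    _ = _ := by rw [h5]; group

omit [Finite Φ] [DecidableEq ι] [Fintype ι] in
theorem exists_exp {ζ : Ωˣ} {s : ℕ} (hζ : orderOf ζ = s) (hs : s ≠ 0) {c : ι → Ωˣ} (h : c ^ s = 1) :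
    ∃ y : ι → ℤ, c = fun i => ζ ^ y i := by
  have : NeZero s := ⟨hs⟩
  choose y hy using fun i => (hζ ▸ IsPrimitiveRoot.orderOf ζ : IsPrimitiveRoot ζ s).eq_pow_of_mem_rootsOfUnity
    ((mem_rootsOfUnity _ _).2 (congrFun h i))
  exact ⟨fun i => y i, funext fun i => by rw [zpow_natCast, (hy i).2]⟩

omit [Finite Φ] [DecidableEq ι] [Fintype ι] in
theorem exp_pow {ζ : Ωˣ} {s : ℕ} (hζ : orderOf ζ = s) (y : ι → ℤ) : (fun i => ζ ^ y i) ^ s = 1 := funext fun i => by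
  rw [Pi.pow_apply, ← zpow_natCast, ← _root_.zpow_mul, mul_comm, _root_.zpow_mul, zpow_natCast, ← hζ, pow_orderOf_eq_one,
    _root_.one_zpow, Pi.one_apply]

omit [Finite Φ] in
theorem psi_subset {ζ : Ωˣ} {s : ℕ} (hζ : orderOf ζ = s) {y : ι → ℤ} (h : ∀ r, |R.evr y r| < s) (η : Ωˣ) :
    R.Psi (fun i => ζ ^ y i) ⊆ R.Psi fun i => η ^ y i := fun r hr => by
  rw [RS.mem_Psi, RS.chi_zpow] at hr ⊢
  rw [← orderOf_dvd_iff_zpow_eq_one, hζ] at hr
  rw [Int.eq_zero_of_abs_lt_dvd hr (h r), zpow_zero]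

namespace Ctx

variable {A : S.AlgSys} {φ : Ω ≃+* Ω} {q e : ℕ} (C : Ctx A φ q e)
include C

omit [Finite Φ] in
theorem ker (z : ι → Ωˣ) (h : A.hMul.torus z = 1) : z ^ e = 1 :=
  C.ker' z ((A.hMul.torus_commute_iff A.faithful.uFaithful z).1 fun _ _ => by simp [h])

omit [Finite Φ] in
theorem pow {N : ℕ} (hN : 0 < N) : Ctx A (φ ^ N) (q ^ N) e :=
  ⟨C.std, ringEquiv_pow_apply C.frob N, C.two_le.trans (Nat.le_self_pow hN.ne' q),
    by rw [Nat.cast_pow, C.cast, zero_pow hN.ne'], C.ker'⟩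

omit [Finite Φ] in
theorem cast_ne {s : ℕ} (h : s.Coprime q) : (s : Ω) ≠ 0 := by
  have := h.cast (R := Ω)
  rw [C.cast, isCoprime_zero_right] at this
  exact this.ne_zero

omit [Finite Φ] in
theorem torus_mem {c : ι → Ωˣ} {m : ℕ} (hm : m.Coprime q) (h : c ^ m = 1) : A.hMul.torus c ∈ Alg A φ := by
  have h0 : 0 < m := Nat.pos_of_ne_zero (by rintro rfl; have := C.two_le; simp at hm; omega)
  refine ⟨m.totient, Nat.totient_pos.2 h0, ?_⟩
  rw [AlgSys.act_torus, show umap (φ ^ m.totient) c = c ^ q ^ m.totient from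
    funext fun i => Units.ext (by simp [ringEquiv_pow_apply C.frob]),
    pow_eq_pow_of_modEq (Nat.ModEq.pow_totient hm.symm) h, pow_one]

omit [Finite Φ] in
theorem inj {c d : ι → Ωˣ} {m : ℕ} (hm : m.Coprime e) (hc : c ^ m = 1) (hd : d ^ m = 1)
    (h : A.hMul.torus c = A.hMul.torus d) : c = d := by
  have := pow_gcd_eq_one.2 ⟨show (c * d⁻¹) ^ m = 1 by rw [mul_pow, inv_pow, hc, hd, inv_one, mul_one],
    C.ker _ (by rw [map_mul, map_inv, h, mul_inv_cancel])⟩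
  rwa [hm, pow_one, mul_inv_eq_one] at this

omit [Finite Φ] in
theorem conn {c : ι → Ωˣ} {m : ℕ} (h0 : m ≠ 0) (hm : m.Coprime e) (h : c ^ m = 1) : A.hMul.Conn c :=
  ⟨isOfFinOrder_iff_pow_eq_one.2 ⟨m, Nat.pos_of_ne_zero h0, h⟩, fun w _ e =>
    C.inj hm (by rw [← map_pow, h, map_one]) h e⟩

omit [Finite Φ] in
theorem exists_root {c : ι → Ωˣ} {m : ℕ} (hm : m.Coprime e) (h : A.hMul.torus c ^ m = 1) :
    ∃ d, d ^ m = 1 ∧ A.hMul.torus d = A.hMul.torus c := by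
  have h1 := Nat.gcd_eq_gcd_ab m e
  rw [hm.gcd_eq_one, Nat.cast_one] at h1
  refine ⟨c ^ (e * Nat.gcdB m e), ?_, ?_⟩
  · rw [← zpow_natCast, ← _root_.zpow_mul, mul_right_comm, mul_comm (e : ℤ), _root_.zpow_mul, _root_.zpow_mul, zpow_natCast,
      zpow_natCast, C.ker _ (by rw [map_pow, h]), _root_.one_zpow]
  · rw [map_zpow, eq_sub_of_add_eq' h1.symm, _root_.zpow_sub, _root_.zpow_mul, zpow_natCast, h, _root_.one_zpow, inv_one,
      mul_one, zpow_one]

theorem exists_W {κ : Type*} {c d : κ → ι → Ωˣ} {m : ℕ} (hm : m.Coprime e) (hc : ∀ i, c i ^ m = 1) (hd : ∀ i, d i ^ m = 1)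
    {g : G} (h : ∀ i, g * A.hMul.torus (c i) * g⁻¹ = A.hMul.torus (d i)) : ∃ w ∈ R.W, ∀ i, R.tAct w (c i) = d i := by
  obtain ⟨n, h1, h2⟩ := A.faithful.exists_N_conj (A.mem_grp g)
  obtain ⟨w, h3, h4⟩ := S.exists_induces_of_mem_N h1
  exact ⟨w, h3, fun i => C.inj hm (by rw [← map_pow, hc, map_one]) (hd i) (by
    rw [← A.hMul.conj_torus_of_induces h4, h2 _ (A.hMul.torus_mem_H _) (h i ▸ A.hMul.torus_mem_H _), h])⟩

variable [IsAlgClosed Ω] [Uncountable Ω]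

theorem step {c : ι → Ωˣ} {m r : ℕ} (hm : m.Coprime (q * e)) (hc : c ^ m = 1) (hr : r.Prime) (hr' : r.Coprime (q * e))
    {s : G} (hs : s ∈ Alg A φ) (h1 : Commute s (A.hMul.torus c)) (h2 : s ^ r = 1) :
    ∃ x d, d ^ r = 1 ∧ Commute x (A.hMul.torus c) ∧ s = x * A.hMul.torus d * x⁻¹ ∧ (m.Coprime r → x ∈ Alg A φ) := by
  have h0 : m ≠ 0 := by rintro rfl; have := C.two_le; simp at hm; omega
  have h3 := C.torus_mem hm.coprime_mul_right_right hc
  obtain ⟨N, hN, a1, a2⟩ := exists_fix h3 hs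
  have C' := C.pow hN
  obtain ⟨x, d, a3, rfl⟩ := AlgSys.exists_conj_torus_of_commute C'.frob C'.two_le C'.cast C.std
    (C.conn h0 hm.coprime_mul_left_right hc) a1 (a := 1) hr (hr'.coprime_mul_right_right.pow_right N) h1 a2 (by rwa [pow_one])
  rw [conj_pow, conj_eq_one_iff] at h2
  obtain ⟨d, a4, a5⟩ := C.exists_root hr'.coprime_mul_left_right h2
  rw [← a5] at hs ⊢
  by_cases hmr : m.Coprime r
  swap
  · exact ⟨x, d, a4, a3, rfl, fun h => absurd h hmr⟩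
  have a6 : (c * d) ^ (m * r) = 1 := by rw [mul_pow, pow_mul, hc, one_pow, mul_comm m, pow_mul, a4, one_pow, one_mul]
  obtain ⟨M, hM, b1, b2⟩ := exists_fix (C.torus_mem (hm.mul_left hr').coprime_mul_right_right a6) (mul_mem h3 hs)
  have C' := C.pow hM
  obtain ⟨k, b3, b4⟩ := (C.std.isFrob C'.two_le C'.frob).exists_fixed_conj
    (C.conn (mul_ne_zero h0 hr.ne_zero) (hm.mul_left hr').coprime_mul_left_right a6) (x := 1) (y := x) (by simpa using b1)
    (by rwa [map_mul A.hMul.torus, ← mul_assoc, a3.eq, mul_assoc _ x, mul_assoc])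
  rw [map_mul] at b3
  have hcd : Commute (A.hMul.torus c) (A.hMul.torus d) := (Commute.all c d).map _
  have e1 : A.hMul.torus c ^ m = 1 := by rw [← map_pow, hc, map_one]
  have e2 : A.hMul.torus d ^ r = 1 := by rw [← map_pow, a4, map_one]
  refine ⟨x * k⁻¹, d, a4, a3.mul_left (commute_left_of_coprime hmr hcd e1 e2 b3).inv_left, ?_,
    fun _ => ⟨M, hM, by simpa using b4⟩⟩
  rw [mul_assoc x k⁻¹, (commute_left_of_coprime hmr.symm hcd.symm e2 e1 (hcd.eq ▸ b3)).inv_left.eq]; group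

/-- The normal form of an element of prime order. -/
theorem normal {r : ℕ} (hr : r.Prime) (hr' : r.Coprime (q * e)) {ζ : Ωˣ} (hζ : orderOf ζ = r) {s : G} (hs : s ∈ Alg A φ)
    (h : s ^ r = 1) : ∃ x ∈ Alg A φ, ∃ y, Alc R r y ∧ s = x * A.hMul.torus (fun i => ζ ^ y i) * x⁻¹ := by
  obtain ⟨x, d, h1, -, rfl, h2⟩ := C.step (c := 1) (m := 1) (by simp) (by simp) hr hr' hs (by simp) h
  obtain ⟨y, rfl⟩ := exists_exp hζ hr.ne_zero h1
  obtain ⟨w, hw, y', h3, h4⟩ := exists_alc (R := R) y hr.pos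
  refine ⟨x * (S.nW w)⁻¹, mul_mem (h2 (by simp)) (inv_mem ⟨1, one_pos, A.act_nW _ _⟩), y', h3, ?_⟩
  rw [show (fun i => ζ ^ y' i) = R.tAct w fun i => ζ ^ y i from funext fun k => by
    rw [RS.tAct_zpow, ← mul_inv_eq_one, ← _root_.zpow_sub, ← orderOf_dvd_iff_zpow_eq_one, hζ]; exact h4 k,
    ← A.hMul.conj_torus_of_induces (NW_induces (S.nW_mem_NW hw))]
  group

omit [Uncountable Ω] in
/-- The rank of elementary abelian sections. -/
theorem rank_le {l v : ℕ} [hl : Fact l.Prime] (hl' : l.Coprime (q * e)) (hv : ¬ l ^ (v + 1) ∣ Nat.card R.W)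
    {P B : Type*} [Group P] [Finite P] [Group B] (hP : IsPGroup l P) (ψ : P →* G) (hψ : Function.Injective ψ)
    (hf : ∀ g, A.act φ (ψ g) = ψ g) (θ : P →* B) (hθ : ∀ g, θ g ^ l = 1) :
    Nat.card θ.range ≤ l ^ (Fintype.card ι + v) := by
  have := Fintype.ofFinite (R.Stab (1 : ι → Ωˣ))
  have hN : 0 < (l ^ (v + 1)).totient := Nat.totient_pos.2 (pow_pos hl.out.pos _)
  have C' := C.pow hN
  have h1 := AlgSys.card_fixed_Flag (A := A) C'.frob C'.two_le C'.cast A.hMul.conn_one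
  set N := (l ^ (v + 1)).totient
  let X := {y // y ∈ A.Flag 1 ∧ A.actQ (φ ^ N) y = y}
  have : Finite X := Nat.finite_of_card_ne_zero (by
    rw [h1]; exact (Finset.sum_pos (fun _ _ => pow_pos (by have := C'.two_le; omega) _) Finset.univ_nonempty).ne')
  letI : MulAction P X :=
    { smul := fun g y => ⟨ψ g • y.1, AlgSys.smul_mem_Flag (by simp) y.2.1, by rw [A.actQ_smul, fix_pow (hf g), y.2.2]⟩
      one_smul := fun y => Subtype.ext (show ψ 1 • y.1 = y.1 by simp)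
      mul_smul := fun a b y => Subtype.ext (show ψ (a * b) • y.1 = ψ a • ψ b • y.1 by rw [map_mul, mul_smul]) }
  obtain ⟨y, hy⟩ := exists_index_le (X := X) (v := v) hP fun h => hv (by
    have h2 := Nat.ModEq.pow_totient (hl'.coprime_mul_right_right.symm.pow_right (v + 1))
    have h3 : Nat.card X ≡ Nat.card R.W [MOD l ^ (v + 1)] := by
      rw [h1, show R.W = R.Stab (1 : ι → Ωˣ) from Subgroup.ext fun w => by simp [RS.mem_Stab], Nat.card_eq_fintype_card]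
      refine (Nat.ModEq.sum (g := fun _ => 1) fun w _ => ?_).trans (by simp [Nat.ModEq])
      simpa using h2.pow (R.inv w ∩ R.Psi (1 : ι → Ωˣ)).ncard
    exact (Nat.modEq_zero_iff_dvd).1 (h3.symm.trans (Nat.modEq_zero_iff_dvd.2 h)))
  obtain ⟨x, hx⟩ := QuotientGroup.mk_surjective y.1
  let P₀ := MulAction.stabilizer P y
  have h2 : ∀ g : P₀, ∃ u ∈ S.U, ∃ c, x⁻¹ * ψ g * x = u * A.hMul.torus c := fun g => by
    have h3 : ψ g • y.1 = y.1 := congrArg Subtype.val g.2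
    rw [← hx, MulAction.Quotient.smul_mk, eq_comm, QuotientGroup.eq] at h3
    obtain ⟨u, hu, h, hh, e⟩ := S.mem_B_iff.1 h3
    obtain ⟨c, rfl⟩ := A.hMul.mem_H_iff.1 hh
    exact ⟨u, hu, c, by simpa [mul_assoc] using e⟩
  choose u hu c hc using h2
  have h3 : ∀ g : P₀, x⁻¹ * ψ g * x ∈ S.U → g = 1 := fun g hg => by
    obtain ⟨n, hn⟩ := hP g
    obtain ⟨v, -, h4⟩ := A.hMul.exists_conj_torus A.faithful (fun _ h => h) R.closed_pos
      (C.cast_ne (hl'.coprime_mul_right_right.pow_left n)) 1 hg (by rw [map_one, mul_one, inv_conj_pow, ← map_pow, hn]; simp)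
    simp only [map_one, mul_one, mul_inv_cancel] at h4
    exact Subtype.ext (hψ (by rw [← mul_right_inj x⁻¹, ← mul_left_inj x, h4]; simp))
  have hU : ∀ c, ∀ u ∈ S.U, A.hMul.torus c * u * (A.hMul.torus c)⁻¹ ∈ S.U := fun c u hu =>
    (mem_normalizer_iff.1 (S.H_le_normalizer_U (A.hMul.torus_mem_H c)) u).1 hu
  have h4 : ∀ a b : P₀, A.hMul.torus (c a) = A.hMul.torus (c b) → a = b := fun a b e => by
    rw [← mul_inv_eq_one]
    refine h3 _ ?_
    rw [show x⁻¹ * ψ (a * b⁻¹ : P₀) * x = x⁻¹ * ψ a * x * (x⁻¹ * ψ b * x)⁻¹ by simp [mul_assoc], hc, hc, e]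
    simpa [mul_assoc] using mul_mem (hu a) (inv_mem (hu b))
  have h5 : ∀ a b : P₀, A.hMul.torus (c (a * b)) = A.hMul.torus (c a) * A.hMul.torus (c b) := fun a b => by
    have e : u (a * b) * A.hMul.torus (c (a * b)) = u a * A.hMul.torus (c a) * (u b * A.hMul.torus (c b)) := by
      rw [← hc, ← hc, ← hc]; simp [mul_assoc]
    rw [← mul_inv_eq_one]
    refine A.faithful.eq_one_of_mem_U_H ?_
      (mul_mem (A.hMul.torus_mem_H _) (inv_mem (mul_mem (A.hMul.torus_mem_H _) (A.hMul.torus_mem_H _))))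
    rw [eq_inv_mul_iff_mul_eq.2 e]
    simpa [mul_assoc] using mul_mem (inv_mem (hu (a * b))) (mul_mem (hu a) (hU (c a) _ (hu b)))
  let τ : P₀ →* G := MonoidHom.mk' (fun a => A.hMul.torus (c a)) h5
  have h6 := card_range_le' (fun a b => h4 _ _ (by rw [h5, h5, ← map_mul, mul_comm, map_mul])) (θ.comp P₀.subtype)
    fun b => hθ b
  obtain ⟨ζ, hζ⟩ := exists_orderOf_units (C.cast_ne hl'.coprime_mul_right_right)
  have h7 : ∀ b : {b : P₀ // b ^ l = 1}, ∃ y : ι → ZMod l, A.hMul.torus (fun i => ζ ^ (y i).val) = τ b := fun b => by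
    obtain ⟨d, h8, h9⟩ := C.exists_root (c := c b) hl'.coprime_mul_left_right (by
      rw [show A.hMul.torus (c b) = τ b from rfl, ← map_pow, b.2, map_one])
    obtain ⟨y, rfl⟩ := exists_exp hζ hl.out.ne_zero h8
    refine ⟨fun i => y i, Eq.trans (congrArg _ (funext fun i => ?_)) h9⟩
    rw [← zpow_natCast, ZMod.val_intCast, ← hζ, zpow_mod_orderOf]
  choose z hz using h7
  have h8 := Nat.card_le_card_of_injective z fun a b e => Subtype.ext (h4 _ _ ((hz a).symm.trans (e ▸ hz b)))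
  rw [Nat.card_fun, Nat.card_zmod, Nat.card_eq_fintype_card (α := ι)] at h8
  have h9 := (P₀.map θ.rangeRestrict).card_mul_index
  rw [← h9, pow_add]
  refine Nat.mul_le_mul (le_trans (le_of_eq ?_) (h6.trans h8)) (le_trans (Nat.le_of_dvd
    (Nat.pos_of_ne_zero index_ne_zero_of_finite) (index_map_dvd _ θ.rangeRestrict_surjective)) hy)
  rw [← card_map_of_injective θ.range.subtype_injective, Subgroup.map_map, MonoidHom.range_comp, range_subtype]
  rfl

omit [Uncountable Ω] in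
theorem not_dvd {l v : ℕ} [Fact l.Prime] (hl' : l.Coprime (q * e)) (h2 : l ≠ 2) (hv : ¬ l ^ (v + 1) ∣ Nat.card R.W)
    {H κ : Type*} [Group H] [Finite H] [Fintype κ] [DecidableEq κ] {π : H →* alternatingGroup κ} (hπ : Min π)
    (h9 : 9 ≤ Fintype.card κ) (hr : Fintype.card ι + v + 2 < Fintype.card κ) (ψ : H →* G) (hψ : Function.Injective ψ)
    (hf : ∀ g, A.act φ (ψ g) = ψ g) : ¬ l ∣ Nat.card π.ker := by
  refine hπ.not_dvd h9 l (by_contra fun h => ?_) h2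
  obtain ⟨N, -, h3, -, -, -, h4, h5⟩ := hπ.exists_big h9 l h
  have h6 := C.rank_le hl' hv h3 (ψ.comp N.subtype) (hψ.comp N.subtype_injective) (fun g => hf g)
    ((QuotientGroup.mk' (center H)).comp N.subtype) fun g => (map_pow _ _ _).symm.trans
      ((QuotientGroup.eq_one_iff _).2 (h4 _ g.2))
  rw [MonoidHom.range_comp, range_subtype] at h6
  have := (Nat.pow_le_pow_iff_right (Fact.out : l.Prime).one_lt).1 (h5.trans h6)
  omega

end Ctx

end CL.AltEx
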