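/-
Alternating sections of the exceptional groups: counting weights on semisimple elements.
-/
import Cfsg.Agent.Chev.AltSec7
import Cfsg.Agent.Chev.AltSec4
import Cfsg.Agent.Chev.CoxPoincareE8

set_option autoImplicit false

namespace CL.AltEx

open Cfsg Cfsg.Lie CL.Chev StSys Matrix Subgroup Cert Finset

section Chr
variable {ι Φ : Type} [Fintype ι] [DecidableEq ι] (R : RS ι Φ) {M : Type*} [CommGroup M] {κ : Type*}

/-- The character of the torus attached to an element of the root lattice. -/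
def chr (m : ι → ℤ) : (ι → M) →* M := ∏ i, R.chi M (R.simple i) ^ m i

theorem chr_apply (m : ι → ℤ) (c : ι → M) : chr R m c = ∏ i, R.chi M (R.simple i) c ^ m i := by
  simp [chr, MonoidHom.finsetProd_apply]

theorem chr_root (r : Φ) (c : ι → M) : chr R (R.root r) c = R.chi M r c := by rw [chr_apply, R.chi_eq_prod]

theorem chr_zpow (m : ι → ℤ) (ζ : M) (y : ι → ℤ) :
    chr R m (fun i => ζ ^ y i) = ζ ^ ∑ i, m i * R.evr y (R.simple i) := by
  simp only [chr_apply, RS.chi_zpow, zpow_finset_sum, ← _root_.zpow_mul, mul_comm]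

theorem evr_eq_sum (y : ι → ℤ) (r : Φ) : R.evr y r = ∑ i, R.root r i * R.evr y (R.simple i) := by
  simp only [RS.evr, R.root_simple]; exact R.pairv_eq_sum_right _ _

theorem chr_sperm (i : ι) (m : ι → ℤ) (c : ι → M) :
    chr R m (R.tAct (R.sperm i) c) = chr R (m - (∑ l, R.cartan i l * m l) • Pi.single i 1) c := by
  have h : ∀ j, R.chi M (R.simple j) (R.tAct (R.sperm i) c) =
      R.chi M (R.simple j) c ^ (1 : ℤ) * R.chi M (R.simple i) c ^ (- R.cartan i j) := fun j => by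
    rw [← RS.chi_of_comb (k := R.sref i (R.simple j)) (by
      rw [R.root_sref, R.pair_simple_simple, one_smul, neg_smul, sub_eq_add_neg]),
      ← RS.chi_tAct (R.sperm_mem_aut i) (R.sref i _), RS.sperm_apply, RS.sref_sref]
  simp only [chr_apply, h, mul_zpow, prod_mul_distrib, zpow_one, ← _root_.zpow_mul, ← zpow_finset_sum, Pi.sub_apply,
    _root_.zpow_sub, Pi.smul_apply, smul_eq_mul]
  congr 1
  rw [prod_eq_single i (fun j _ hj => by simp [hj]) (by simp)]
  simp [← _root_.zpow_neg]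

/-- The family `L` is permuted by the Weyl group. -/
def Cl (L : κ → ι → ℤ) : Prop :=
  Function.Injective L ∧ ∀ i j, ∃ j', L j' = L j - (∑ l, R.cartan i l * L j l) • Pi.single i 1

theorem cl_root : Cl R R.root := ⟨R.root_inj, fun i j => ⟨_, R.root_sref' i j⟩⟩

variable {R} {L : κ → ι → ℤ}

theorem Cl.exists_perm (h : Cl R L) {w : Equiv.Perm Φ} (hw : w ∈ R.W) :
    ∃ σ : Equiv.Perm κ, ∀ (c : ι → M) j, chr R (L j) (R.tAct w c) = chr R (L (σ j)) c := by
  obtain ⟨l, rfl⟩ := R.exists_wprod_of_mem_W hw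
  clear hw
  induction l with
  | nil => exact ⟨1, fun c j => by simp⟩
  | cons i l ih =>
    obtain ⟨σ, hσ⟩ := ih
    choose f hf using h.2 i
    have h1 : Function.Involutive f := fun j => h.1 (by
      rw [hf, hf]
      simp [mul_sub, sum_sub_distrib, Pi.single_apply, R.cartan_self, mul_comm (2 : ℤ), mul_two])
    exact ⟨σ * h1.toPerm, fun c j => by
      rw [wprod_cons, RS.tAct_mul (R.sperm_mem_aut i), chr_sperm, ← hf, hσ]; rfl⟩

open Classical in
/-- The number of weights that vanish. -/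
noncomputable def cz (R : RS ι Φ) [Fintype κ] (L : κ → ι → ℤ) (c : ι → M) : ℕ := #{j | chr R (L j) c = 1}

theorem Cl.cz_tAct [Fintype κ] (h : Cl R L) {w : Equiv.Perm Φ} (hw : w ∈ R.W) (c : ι → M) :
    cz R L (R.tAct w c) = cz R L c := by
  obtain ⟨σ, hσ⟩ := h.exists_perm (M := M) hw
  exact card_equiv σ fun j => by simp [hσ]

theorem cz_one [Fintype κ] : cz R L (1 : ι → M) = Fintype.card κ := by simp [cz]

theorem sum_cz [Fintype κ] {F : Type*} [Field F] (L : κ → ι → ℤ) {D : Type*} [Group D] [Fintype D] {l : ℕ} (hl : l.Prime)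
    (h : ∀ g : D, g ^ l = 1) (c : D →* (ι → Fˣ)) : ∃ d, l * ∑ g, cz R L (c g) =
      Fintype.card D * (Fintype.card κ + (l - 1) * d) ∧ (d = 0 → ∀ j, ∃ g, chr R (L j) (c g) ≠ 1) := by
  classical
  refine ⟨#{j | (Units.coeHom F).comp ((chr R (L j)).comp c) = 1}, ?_, fun h j => ?_⟩
  · rw [← sum_count hl h fun j => (Units.coeHom F).comp ((chr R (L j)).comp c)]
    refine congrArg _ (sum_congr rfl fun g _ => congrArg card ?_)
    ext; simp
  by_contra! h'
  exact (filter_eq_empty_iff.1 (card_eq_zero.1 h)) (mem_univ j) (MonoidHom.ext fun g => by simp [h'])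

end Chr

/-- `f` holds for the points of the alcove. -/
def allAlc (th : List ℕ) : ℕ → (List ℤ → Bool) → Bool :=
  List.rec (fun _ f => f []) (fun t _ ih s f => allLt (Nat.succ (Nat.div s t)) fun v =>
    force (Nat.sub s (Nat.mul t v)) fun s' => ih s' fun a => f (Int.ofNat v :: a)) th

theorem allAlc_sound {l : ℕ} {θ a : ℕ → ℕ} (hθ : ∀ i < l, 0 < θ i) {s : ℕ} {f : List ℤ → Bool}
    (h : allAlc (listTo l θ) s f = true) (ha : ∑ i ∈ range l, θ i * a i ≤ s) : f (listTo l fun i => (a i : ℤ)) = true := by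
  induction l generalizing s f with
  | zero => exact h
  | succ l ih =>
    rw [sum_range_succ] at ha
    have h1 := (allLt_iff (Nat.succ (Nat.div s (θ l))) fun v => force (Nat.sub s (Nat.mul (θ l) v)) fun s' =>
      allAlc (listTo l θ) s' fun a => f (Int.ofNat v :: a)).1 h (a l) (Nat.lt_succ_of_le
      ((Nat.le_div_iff_mul_le (hθ l (by omega))).2 (by rw [mul_comm]; omega)))
    rw [force_eq] at h1
    exact ih (fun i hi => hθ i (by omega)) h1 (Nat.le_sub_of_add_le ha)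

/-- A sum over a list. -/
def hsum (f : ℤ → ℕ) (v : List ℤ) : ℕ := List.rec 0 (fun a _ ih => Nat.add (f a) ih) v

theorem hsum_listTo (f : ℤ → ℕ) (n : ℕ) (g : ℕ → ℤ) : hsum f (listTo n g) = ∑ j : Fin n, f (g j) := by
  rw [Fin.sum_univ_eq_sum_range fun j => f (g j)]
  induction n with
  | zero => rfl
  | succ n ih => rw [sum_range_succ_comm, ← ih]; rfl

theorem map_listTo {α β : Type} (f : α → β) (n : ℕ) (g : ℕ → α) : (listTo n g).map f = listTo n fun i => f (g i) := by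
  induction n with
  | zero => rfl
  | succ n ih => exact congrArg (f (g n) :: ·) ih

/-- The points of the alcove that are conjugate to their `g`-th multiple satisfy `Q`. -/
def ratOK (l n : ℕ) (L : ℕ → ℕ → ℤ) (θ : ℕ → ℕ) (s g : ℕ) (Q : List ℤ → ℕ → Bool) : Bool :=
  forceZM (listTo n fun j => listTo l (L j)) fun T => allAlc (listTo l θ) s fun a =>
    forceZL (T.map fun m => dot m a % s) fun v =>
      !(Nat.beq (hsum (fun z => 256 ^ (g * z % s).toNat) v) (hsum (fun z => 256 ^ z.toNat) v)) ||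
        Q a (hsum (fun z => cond (beqZ z 0) 1 0) v)

theorem ratOK_sound {Φ : Type} {l n s g : ℕ} {R : RS (Fin l) Φ} {L : ℕ → ℕ → ℤ}
    (hL : Cl R fun (j : Fin n) (i : Fin l) => L j i) {θ : ℕ → ℕ} (hθ : ∀ i < l, 0 < θ i) {t : Φ}
    (ht : ∀ i : Fin l, R.root t i = θ i) {Q : List ℤ → ℕ → Bool} (h : ratOK l n L θ s g Q = true) {M : Type*}
    [CommGroup M] {ζ : M} (hζ : orderOf ζ = s) {y : Fin l → ℤ} (hy : Alc R s y) {w : Equiv.Perm Φ} (hw : w ∈ R.W)
    (e : R.tAct w (fun i => ζ ^ y i) = (fun i => ζ ^ y i) ^ g) :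
    ∃ a : ℕ → ℕ, (∀ i : Fin l, R.evr y (R.simple i) = a i) ∧
      Q (listTo l fun i => (a i : ℤ)) (cz R (fun (j : Fin n) (i : Fin l) => L j i) fun i => ζ ^ y i) = true := by
  let a : ℕ → ℕ := fun i => if h : i < l then (R.evr y (R.simple ⟨i, h⟩)).toNat else 0
  have ha : ∀ i : Fin l, R.evr y (R.simple i) = a i := fun i => by simp [a, hy.1 i]
  refine ⟨a, ha, ?_⟩
  rw [ratOK, forceZM_eq] at h
  replace h := allAlc_sound (a := a) hθ h (by
    have := hy.2 t
    simp only [evr_eq_sum R y t, ht, ha] at this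
    rw [← Fin.sum_univ_eq_sum_range fun i => θ i * a i]
    exact_mod_cast this)
  simp only [forceZL_eq, map_listTo, dot_listTo, hsum_listTo, ← Fin.sum_univ_eq_sum_range fun i => L _ i * a i,
    ← ha] at h
  obtain ⟨σ, hσ⟩ := hL.exists_perm (M := M) hw
  rw [← Equiv.sum_comp σ fun j : Fin n => 256 ^ ((∑ i : Fin l, L j i * R.evr y (R.simple i)) % s).toNat,
    sum_congr rfl fun j _ => (show _ = 256 ^ ((∑ i : Fin l, L (σ j) i * R.evr y (R.simple i)) % s).toNat from ?_),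
    Nat.beq_refl, Bool.not_true, Bool.false_or] at h
  · convert h using 2
    rw [cz, card_filter]
    refine sum_congr rfl fun j _ => ?_
    rw [chr_zpow, ← orderOf_dvd_iff_zpow_eq_one, hζ]
    by_cases h' : (s : ℤ) ∣ ∑ i : Fin l, L j i * R.evr y (R.simple i) <;> simp [h', beqZ]
  · have := hσ (fun i => ζ ^ y i) j
    rw [e, map_pow, chr_zpow, chr_zpow, ← zpow_natCast, ← _root_.zpow_mul, zpow_eq_zpow_iff_modEq, hζ] at this
    rw [← this, Int.mul_emod, Int.emod_emod_of_dvd _ dvd_rfl, ← Int.mul_emod, mul_comm]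

section Ctx
variable {ι Φ : Type} [Fintype ι] [DecidableEq ι] {R : RS ι Φ} [Finite Φ] {Ω : Type*} [Field Ω] {G : Type*} [Group G]
  {S : StSys R Ω G} {A : S.AlgSys} {φ : Ω ≃+* Ω} {q e : ℕ} (C : Ctx A φ q e)
include C

theorem Ctx.cz_conj {κ : Type*} [Fintype κ] {L : κ → ι → ℤ} (hL : Cl R L) {c d : ι → Ωˣ} {m : ℕ} (hm : m.Coprime e)
    (hc : c ^ m = 1) (hd : d ^ m = 1) (h : IsConj (A.hMul.torus c) (A.hMul.torus d)) : cz R L d = cz R L c := by
  obtain ⟨g, h⟩ := isConj_iff.1 h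
  obtain ⟨w, hw, h1⟩ := C.exists_W (c := fun _ : Unit => c) (d := fun _ => d) hm (fun _ => hc) (fun _ => hd) fun _ => h
  rw [← h1 (), hL.cz_tAct hw]

omit [Finite Φ] in
theorem Ctx.eq_one {ζ : Ωˣ} {s : ℕ} (hζ : orderOf ζ = s) (hs : s.Coprime e) {y : ι → ℤ}
    (h : ∀ i, (s : ℤ) ∣ R.evr y (R.simple i)) : (fun i => ζ ^ y i) = 1 := by
  have := pow_gcd_eq_one.2 ⟨exp_pow hζ y, C.ker' _ (funext fun i => by
    rw [← RS.chi_simple, RS.chi_zpow, Pi.one_apply, ← orderOf_dvd_iff_zpow_eq_one, hζ]; exact h i)⟩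
  rwa [hs, pow_one] at this

omit [Finite Φ] in
/-- a toral elementary abelian group -/
theorem Ctx.exists_hom {D : Type*} [Group D] {m : ℕ} (hm : m.Coprime e) (h : ∀ g : D, g ^ m = 1) (s : D →* G) {x : G}
    (hx : ∀ g, x⁻¹ * s g * x ∈ S.H) :
    ∃ c : D →* (ι → Ωˣ), ∀ g, c g ^ m = 1 ∧ s g = x * A.hMul.torus (c g) * x⁻¹ := by
  have h1 : ∀ g, ∃ c, c ^ m = 1 ∧ s g = x * A.hMul.torus c * x⁻¹ := fun g => by
    obtain ⟨c, hc⟩ := A.hMul.mem_H_iff.1 (hx g)
    obtain ⟨d, h1, h2⟩ := C.exists_root (c := c) hm (by rw [hc, inv_conj_pow, ← map_pow, h]; simp)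
    exact ⟨d, h1, by rw [h2, hc]; group⟩
  choose c h1 h2 using h1
  refine ⟨MonoidHom.mk' c fun a b => C.inj hm (h1 _) (by rw [mul_pow, h1, h1, one_mul]) ?_, fun g => ⟨h1 g, h2 g⟩⟩
  rw [← mul_right_inj x, ← mul_left_inj x⁻¹, ← h2, map_mul, map_mul, h2, h2]; group

variable [IsAlgClosed Ω] [Uncountable Ω]

/-- The normal form of a rational element. -/
theorem Ctx.normal_rat {r : ℕ} (hr : r.Prime) (hr' : r.Coprime (q * e)) {ζ : Ωˣ} (hζ : orderOf ζ = r) {s : G}
    (hs : s ∈ Alg A φ) (h : s ^ r = 1) {g : ℕ} (hg : IsConj s (s ^ g)) : ∃ x ∈ Alg A φ, ∃ y, Alc R r y ∧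
      s = x * A.hMul.torus (fun i => ζ ^ y i) * x⁻¹ ∧ ∃ w ∈ R.W, R.tAct w (fun i => ζ ^ y i) = (fun i => ζ ^ y i) ^ g := by
  obtain ⟨x, hx, y, hy, rfl⟩ := C.normal hr hr' hζ hs h
  obtain ⟨k, hk⟩ := isConj_iff.1 hg
  obtain ⟨w, hw, h1⟩ := C.exists_W (c := fun _ : Unit => fun i => ζ ^ y i) (d := fun _ => (fun i => ζ ^ y i) ^ g)
    hr'.coprime_mul_left_right (fun _ => exp_pow hζ y) (fun _ => by rw [← pow_mul, mul_comm, pow_mul, exp_pow hζ, one_pow])
    (g := x⁻¹ * k * x) fun _ => by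
      rw [map_pow, eq_comm, ← mul_right_inj x, ← mul_left_inj x⁻¹, ← conj_pow, ← hk]; group
  exact ⟨x, hx, y, hy, rfl, w, hw, h1 ()⟩

end Ctx

theorem exists_ctx {D : ChevalleyDatum} (E : Real D) {e : ℕ} {B : Matrix (Fin D.rank) (Fin D.rank) ℤ}
    (hB : datCartan D * B = (e : ℤ) • 1) (F : Type*) [Field F] [Fintype F] (p : ℕ) [Fact p.Prime] [CharP F p] :
    ∃ (A : (E.Sg (Alg.Univ (ZMod p))).AlgSys) (φ : Alg.Univ (ZMod p) ≃+* Alg.Univ (ZMod p))
      (ψ : D.group F →* D.group (Alg.Univ (ZMod p))),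
      Ctx A φ (Fintype.card F) e ∧ Function.Injective ψ ∧ ∀ g, A.act φ (ψ g) = ψ g := by
  letI := ZMod.algebra F p
  obtain ⟨A, ⟨P⟩⟩ := E.exists_split (IsAlgClosed.lift : F →ₐ[ZMod p] Alg.Univ (ZMod p)).toRingHom
  obtain ⟨φ, h1, h2⟩ := P.exists_act
  refine ⟨A.toAlgSys, φ, P.ψ, ⟨E.std _, h1, Fintype.one_lt_card, P.cast_card, fun z hz => ?_⟩, P.inj,
    fun g => (h2 _).trans (P.τ_ψ g)⟩
  have := matPow_mul (M := (Alg.Univ (ZMod p))ˣ) E.R.cartanM B z
  rwa [show matPow _ E.R.cartanM z = 1 from hz, map_one, E.cartanM_eq, hB, matPow_smul, matPow_one] at this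

theorem card_W {D : ChevalleyDatum} (E : Real D) {M : CoxeterMatrix (Fin D.rank)} (hM : CL.Cox.IsCartan M (datCartan D)) :
    Nat.card E.R.W = Nat.card M.Group :=
  (Nat.card_congr (E.R.equivW (E.isCartan hM) M.toCoxeterSystem).toEquiv).symm

end CL.AltEx
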