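/-
Alternating sections of the groups of type `E₇`.
-/
import Cfsg.Agent.Chev.AltSec8

set_option autoImplicit false

namespace CL.AltEx

open Cfsg Cfsg.Lie CL.Chev StSys Matrix Subgroup Cert Finset

theorem mem_of_single {ι : Type*} [Fintype ι] [DecidableEq ι] {l : ℕ} [NeZero l] {K : Subgroup (Multiplicative (ι → ZMod l))}
    (h : ∀ i, Multiplicative.ofAdd (Pi.single i 1) ∈ K) (a : Multiplicative (ι → ZMod l)) : a ∈ K := by
  rw [show a = ∏ i, Multiplicative.ofAdd (Pi.single i 1) ^ (a.toAdd i).val from Multiplicative.toAdd.injective (by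
    ext j; simp [toAdd_prod, Pi.single_apply, -ZMod.natCast_val, ZMod.natCast_zmod_val])]
  exact prod_mem fun i _ => pow_mem (h i) _

theorem wtz_pow {ι : Type*} [Fintype ι] {l : ℕ} [Fact l.Prime] (a : Multiplicative (ι → ZMod l)) {g : ℕ}
    (h : (g : ZMod l) ≠ 0) : wtz (a ^ g).toAdd = wtz a.toAdd := by simp [wtz, h]

/-- the lift of the group generated by disjoint cycles -/
theorem exists_tr {ι H : Type*} [Fintype ι] [DecidableEq ι] [Nontrivial ι] {l : ℕ} [Fact l.Prime] (ho : Odd l) [Group H]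
    [Finite H] {π : H →* alternatingGroup (ι × ZMod l)} (hπ : Function.Surjective π) (hK : ¬ l ∣ Nat.card π.ker)
    {s : Multiplicative (ι → ZMod l) →* H} (hs : ∀ d, π (s d) = trA ι ho d) :
    (∀ a, s a = 1 → a = 1) ∧ ∀ a b, wtz b.toAdd = wtz a.toAdd → IsConj (s a) (s b) := by
  have h0 : ∀ a, s a ^ l ^ 1 = 1 := fun a => by rw [pow_one, ← map_pow, pow_eq_one_pi, map_one]
  refine ⟨fun a h => Multiplicative.toAdd.injective (funext fun i => ?_), fun a b h => isConj_of_map hK hπ (h0 a) (h0 b) ?_⟩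
  · simpa [trA, trP] using congrArg (fun g => (g.1 (i, 0)).2) ((hs a).symm.trans ((congrArg π h).trans (map_one π)))
  · rw [hs, hs]
    exact isConj_trA ho (by rw [← map_pow, pow_eq_one_pi, map_one]) ((card_support_trP b).trans (by rw [h]))

theorem abs_evr_le {ι Φ : Type} [Fintype ι] [DecidableEq ι] {R : RS ι Φ} {θ a : ι → ℕ} (h : ∀ r i, |R.root r i| ≤ θ i)
    {y : ι → ℤ} (ha : ∀ i, R.evr y (R.simple i) = a i) (r : Φ) : |R.evr y r| ≤ ∑ i, (θ i : ℤ) * a i := by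
  rw [evr_eq_sum]
  refine (abs_sum_le_sum_abs _ _).trans (sum_le_sum fun i _ => ?_)
  rw [abs_mul, ha, Nat.abs_cast]
  exact mul_le_mul_of_nonneg_right (h r i) (Nat.cast_nonneg _)

section Ctx
variable {Φ : Type} [Finite Φ] {Ω : Type*} [Field Ω] {G : Type*} [Group G] [IsAlgClosed Ω] [Uncountable Ω]

theorem Ctx.step2 {ι : Type} [Fintype ι] [DecidableEq ι] {R : RS ι Φ} {S : StSys R Ω G} {A : S.AlgSys} {φ : Ω ≃+* Ω}
    {q e : ℕ} (C : Ctx A φ q e) {c : ι → Ωˣ} {m r : ℕ} (hm : m.Coprime (q * e)) (hc : c ^ m = 1) (hr : r.Prime)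
    (hr' : r.Coprime (q * e)) (hmr : m.Coprime r) {s t : G} (hs : s ∈ Alg A φ) (ht : t ∈ Alg A φ)
    (h1 : Commute s (A.hMul.torus c)) (h1' : Commute t (A.hMul.torus c)) (h2 : s ^ r = 1) (h2' : t ^ r = 1)
    (h : Commute t s) : ∃ x, Commute x (A.hMul.torus c) ∧ x⁻¹ * s * x ∈ S.H ∧ x⁻¹ * t * x ∈ S.H := by
  obtain ⟨x, d, a1, a2, rfl, a3⟩ := C.step hm hc hr hr' hs h1 h2
  obtain ⟨z, d', -, b2, b3, -⟩ := C.step (c := c * d) (m := m * r) (hm.mul_left hr')
    (by rw [mul_pow, pow_mul, hc, one_pow, mul_comm m, pow_mul, a1, one_pow, one_mul]) hr hr' (s := x⁻¹ * t * x)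
    (mul_mem (mul_mem (inv_mem (a3 hmr)) ht) (a3 hmr))
    (map_mul A.hMul.torus c d ▸ ((a2.inv_left.mul_left h1').mul_left a2).mul_right (by simpa [mul_assoc] using h.conj x⁻¹))
    (by rw [inv_conj_pow, h2']; simp)
  rw [map_mul] at b2
  have hcd : Commute (A.hMul.torus c) (A.hMul.torus d) := (Commute.all c d).map _
  have e1 : A.hMul.torus c ^ m = 1 := by rw [← map_pow, hc, map_one]
  have e2 : A.hMul.torus d ^ r = 1 := by rw [← map_pow, a1, map_one]
  refine ⟨x * z, a2.mul_left (commute_left_of_coprime hmr hcd e1 e2 b2), ?_, ?_⟩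
  · rw [show (x * z)⁻¹ * (x * A.hMul.torus d * x⁻¹) * (x * z) = z⁻¹ * (A.hMul.torus d * z) by group,
      ← (commute_left_of_coprime hmr.symm hcd.symm e2 e1 (hcd.eq ▸ b2)).eq, inv_mul_cancel_left]
    exact A.hMul.torus_mem_H d
  · rw [show (x * z)⁻¹ * t * (x * z) = z⁻¹ * (x⁻¹ * t * x) * z by group, b3]
    simpa [mul_assoc] using A.hMul.torus_mem_H d'

omit [Finite Φ] [IsAlgClosed Ω] [Uncountable Ω] in
theorem Ctx.exists_hom' {ι : Type} [Fintype ι] [DecidableEq ι] {R : RS ι Φ} {S : StSys R Ω G} {A : S.AlgSys} {φ : Ω ≃+* Ω}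
    {q e : ℕ} (C : Ctx A φ q e) {κ : Type*} [Fintype κ] [DecidableEq κ] {l : ℕ} [NeZero l] (hl : l.Coprime e)
    (s : Multiplicative (κ → ZMod l) →* G) {x : G} (h : ∀ i, x⁻¹ * s (.ofAdd (Pi.single i 1)) * x ∈ S.H) :
    ∃ c : Multiplicative (κ → ZMod l) →* (ι → Ωˣ), ∀ g, c g ^ l = 1 ∧ s g = x * A.hMul.torus (c g) * x⁻¹ :=
  C.exists_hom hl pow_eq_one_pi s fun g => by
    simpa using mem_of_single (K := S.H.comap ((MulAut.conj x⁻¹).toMonoidHom.comp s)) (fun i => by simpa using h i) g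

theorem Ctx.rat {l : ℕ} {R : RS (Fin l) Φ} {S : StSys R Ω G} {A : S.AlgSys} {φ : Ω ≃+* Ω} {q e : ℕ} (C : Ctx A φ q e)
    {n r g : ℕ} {L : ℕ → ℕ → ℤ} (hL : Cl R fun (j : Fin n) (i : Fin l) => L j i) {θ : ℕ → ℕ} (hθ : ∀ i < l, 0 < θ i)
    {t : Φ} (ht : ∀ i : Fin l, R.root t i = θ i) {Q : List ℤ → ℕ → Bool}
    (h : ratOK l n L θ r g (fun a k => a.all (fun z => beqZ (z % r) 0) || Q a k) = true) (hr : r.Prime)
    (hr' : r.Coprime (q * e)) {ζ : Ωˣ} (hζ : orderOf ζ = r) {s : G} (hs : s ∈ Alg A φ) (h1 : s ^ r = 1) (h2 : s ≠ 1)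
    (hg : IsConj s (s ^ g)) : ∃ x ∈ Alg A φ, ∃ y, s = x * A.hMul.torus (fun i => ζ ^ y i) * x⁻¹ ∧
      ∃ a : ℕ → ℕ, (∀ i : Fin l, R.evr y (R.simple i) = a i) ∧
        Q (listTo l fun i => (a i : ℤ)) (cz R (fun (j : Fin n) (i : Fin l) => L j i) fun i => ζ ^ y i) = true := by
  obtain ⟨x, hx, y, hy, e, w, hw, h3⟩ := C.normal_rat hr hr' hζ hs h1 hg
  obtain ⟨a, ha, h4⟩ := ratOK_sound hL hθ ht h hζ hy hw h3
  refine ⟨x, hx, y, e, a, ha, (Bool.or_eq_true_iff.1 h4).resolve_left fun h5 => h2 ?_⟩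
  rw [e, C.eq_one hζ hr'.coprime_mul_left_right fun i => ha i ▸ Int.dvd_of_emod_eq_zero
    ((beqZ_iff _ _).1 ((all_listTo _ _ _).1 h5 i i.2))]
  simp

end Ctx

theorem isConj_of_eq {G : Type*} [Group G] {a b x y : G} (h : x * a * x⁻¹ = y * b * y⁻¹) : IsConj a b :=
  (isConj_iff.2 ⟨x, h⟩).trans (isConj_iff.2 ⟨y, rfl⟩).symm

/-- Twice the weights of the module of dimension 56. -/
def w56 (j i : ℕ) : ℤ := sdig 0xbcdecba9cdecba9adecba9abecba9abccba9abcaba9abcc9a9abca9a9abaa9a9a9aa9a989aa9a789aa9a9abcab89abca989abaa989a9aa98989aa98789aa989aba8989a9a898989a898789a8989a98898989889878988989878898787889876788989a98878989887878988789878878787887876788789876878787687876768787656878987667878766787676678765667876546787654658987667678766767676676765667676546767654476765465676544567652456763245674324565432456 (7 * j + i)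

/-- The highest root. -/
def th7 (i : ℕ) : ℕ := [2, 2, 3, 4, 3, 2, 1].getD i 0

theorem datCartan_E7 : datCartan chevE7 = CL.Cox.cE7 := matrix_ext_of_all (n := 7) (by decide +kernel)

theorem cl56 {Φ : Type} {R : RS (Fin 7) Φ} (hC : R.cartanM = CL.Cox.cE7) :
    Cl R fun (j : Fin 56) (i : Fin 7) => w56 j i := by
  have h : ∀ i j, R.cartan i j = CL.Cox.cE7 i j := fun i j => congrFun (congrFun hC i) j
  refine ⟨fun j j' e => (by decide +kernel : ∀ j j' : Fin 56, (∀ i : Fin 7, w56 j i = w56 j' i) → j = j') j j' (congrFun e),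
    fun i j => ?_⟩
  obtain ⟨j', e⟩ := (by decide +kernel : ∀ (i : Fin 7) (j : Fin 56), ∃ j' : Fin 56, ∀ k : Fin 7,
    w56 j' k = w56 j k - if k = i then ∑ l : Fin 7, CL.Cox.cE7 i l * w56 j l else 0) i j
  exact ⟨j', funext fun k => (e k).trans (by simp [h, Pi.single_apply])⟩

theorem rat7 : ratOK 7 56 w56 th7 7 3
    (fun a k => a.all (fun z => beqZ (z % (7 : ℕ)) 0) || decide (k ∈ [2, 8, 20])) = true := by decide +kernel

theorem rat5 : ratOK 7 56 w56 th7 5 2 (fun a k => a.all (fun z => beqZ (z % (5 : ℕ)) 0) ||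
    (decide (k = 16) && (ltZ (dot (listTo 7 fun i => th7 i) a) 5 ||
      beqZ (dot (listTo 7 fun i => [0, 1, 0, 0, 1, 0, 1].getD i 0) a % 2) 1))) = true := by decide +kernel

theorem root_th7 (i : Fin 7) : realE7.R.root ⟨125, by decide⟩ i = th7 i :=
  (tabE7.root _ _ i).trans ((by decide +kernel : ∀ i : Fin 7, auxE7.rt 125 i = th7 i) i)

theorem card_W7 : Nat.card realE7.R.W = 2903040 :=
  (card_W _ isCartan_datE7).trans (CL.Cox.card_E7 (W := CoxeterMatrix.E₇.Group) (CoxeterMatrix.toCoxeterSystem _))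

theorem inv_E7 : CL.Cox.cE7 * (!![4, 4, 6, 8, 6, 4, 2; 4, 7, 8, 12, 9, 6, 3; 6, 8, 12, 16, 12, 8, 4;
    8, 12, 16, 24, 18, 12, 6; 6, 9, 12, 18, 15, 10, 5; 4, 6, 8, 12, 10, 8, 4; 2, 3, 4, 6, 5, 4, 3] :
      Matrix (Fin 7) (Fin 7) ℤ) = ((2 : ℕ) : ℤ) • 1 :=
  matrix_ext_of_all (n := 7) (by decide +kernel)

theorem fact5 : Fact (Nat.Prime 5) := ⟨Nat.prime_five⟩
theorem fact7 : Fact (Nat.Prime 7) := ⟨Nat.prime_seven⟩
attribute [local instance] fact5 fact7

/-- Representatives. -/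
def rep7 (j : ℕ) : Multiplicative (Fin 2 → ZMod 7) := .ofAdd fun i => if i.val < j then 1 else 0

theorem wtz_rep7 : (∀ a : Multiplicative (Fin 2 → ZMod 7), wtz a.toAdd = wtz (rep7 (wtz a.toAdd)).toAdd) ∧
    (∀ a : Multiplicative (Fin 2 → ZMod 7), wtz a.toAdd < 3) ∧ rep7 0 = 1 ∧
    #{a : Multiplicative (Fin 2 → ZMod 7) | wtz a.toAdd = 0} = 1 ∧
    #{a : Multiplicative (Fin 2 → ZMod 7) | wtz a.toAdd = 1} = 12 ∧
    #{a : Multiplicative (Fin 2 → ZMod 7) | wtz a.toAdd = 2} = 36 ∧ Fintype.card (Multiplicative (Fin 2 → ZMod 7)) = 49 ∧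
    rep7 1 ≠ 1 ∧ rep7 2 ≠ 1 := by
  decide +kernel

section Main
variable {Φ : Type} [Finite Φ] {Ω : Type*} [Field Ω] {G : Type*} [Group G] [IsAlgClosed Ω] [Uncountable Ω]
  {R : RS (Fin 7) Φ} {S : StSys R Ω G} {A : S.AlgSys} {φ : Ω ≃+* Ω} {q : ℕ} (C : Ctx A φ q 2)
  (hC : R.cartanM = CL.Cox.cE7) (hW : Nat.card R.W = 2903040) {t : Φ} (ht : ∀ i : Fin 7, R.root t i = th7 i)
  {H : Type*} [Group H] [Finite H] {χ : H →* G} (hχ : Function.Injective χ) (hf : ∀ g, A.act φ (χ g) = χ g)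
include C hC hW ht hχ hf

theorem aux_E7 (hc : Nat.Coprime 7 (q * 2)) {π : H →* alternatingGroup (Fin 2 × ZMod 7)} (hM : Min π) : False := by
  have hK := C.not_dvd (v := 1) hc (by decide) (by rw [hW]; decide) hM (by decide) (by decide) χ hχ hf
  obtain ⟨s, hs⟩ := exists_section hK hM.surj isPGroup_pi (trA (Fin 2) (by decide))
  obtain ⟨h1, h2⟩ := exists_tr _ hM.surj hK hs
  have h3 : ∀ a, χ (s a) ∈ Alg A φ := fun a => ⟨1, one_pos, by rw [pow_one]; exact hf _⟩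
  have h4 : ∀ a, χ (s a) ^ 7 = 1 := fun a => by rw [← map_pow, ← map_pow, pow_eq_one_pi, map_one, map_one]
  obtain ⟨ζ, hζ⟩ := exists_orderOf_units (C.cast_ne hc.coprime_mul_right_right)
  obtain ⟨x, hx, y, -, e⟩ := C.normal Nat.prime_seven hc hζ (h3 (.ofAdd (Pi.single 0 1))) (h4 _)
  obtain ⟨z, d, -, a1, a2, -⟩ := C.step hc (exp_pow hζ y) Nat.prime_seven hc (s := x⁻¹ * χ (s (.ofAdd (Pi.single 1 1))) * x)
    (mul_mem (mul_mem (inv_mem hx) (h3 _)) hx) (by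
      simpa [e, mul_assoc] using (((Commute.all (Multiplicative.ofAdd (Pi.single 1 1)) (.ofAdd (Pi.single 0 1))).map s).map
        χ).conj x⁻¹) (by rw [inv_conj_pow, h4]; simp)
  obtain ⟨c, h5⟩ := C.exists_hom' hc.coprime_mul_left_right (χ.comp s) (x := x * z) (Fin.forall_fin_two.2 ⟨by
    rw [MonoidHom.comp_apply, e, show (x * z)⁻¹ * (x * A.hMul.torus (fun i => ζ ^ y i) * x⁻¹) * (x * z) =
      z⁻¹ * (A.hMul.torus (fun i => ζ ^ y i) * z) by group, ← a1.eq, inv_mul_cancel_left]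
    exact A.hMul.torus_mem_H _, by
    rw [MonoidHom.comp_apply, show ∀ t, (x * z)⁻¹ * t * (x * z) = z⁻¹ * (x⁻¹ * t * x) * z from fun t => by group, a2]
    simpa [mul_assoc] using A.hMul.torus_mem_H d⟩)
  have h6 : ∀ a, a ≠ 1 → cz R (fun (j : Fin 56) (i : Fin 7) => w56 j i) (c a) ∈ [2, 8, 20] := fun a ha => by
    obtain ⟨x', -, y', e', a', -, h7⟩ := C.rat (cl56 hC) (by decide) ht rat7 Nat.prime_seven hc hζ (h3 a) (h4 a)
      (fun h => ha (h1 a (hχ (h.trans (map_one χ).symm)))) (by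
        rw [← map_pow, ← map_pow]; exact χ.map_isConj (h2 _ _ (wtz_pow a (by decide))))
    rw [C.cz_conj (cl56 hC) hc.coprime_mul_left_right (exp_pow hζ y') (h5 a).1 (isConj_of_eq (e'.symm.trans (h5 a).2))]
    exact of_decide_eq_true h7
  obtain ⟨k, h7, -⟩ := sum_cz (R := R) (fun (j : Fin 56) (i : Fin 7) => w56 j i) Nat.prime_seven pow_eq_one_pi c
  have h10 : ∀ a, cz R (fun (j : Fin 56) (i : Fin 7) => w56 j i) (c a) =
      cz R (fun (j : Fin 56) (i : Fin 7) => w56 j i) (c (rep7 (wtz a.toAdd))) := fun a =>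
    C.cz_conj (cl56 hC) hc.coprime_mul_left_right (h5 (rep7 (wtz a.toAdd))).1 (h5 a).1 ((isConj_iff.2
      ⟨x * z, (h5 (rep7 (wtz a.toAdd))).2.symm⟩).trans ((χ.map_isConj (h2 (rep7 (wtz a.toAdd)) a (wtz_rep7.1 a))).trans
        (isConj_iff.2 ⟨x * z, (h5 a).2.symm⟩).symm))
  have h8 := h6 (rep7 1) wtz_rep7.2.2.2.2.2.2.2.1
  have h9 := h6 (rep7 2) wtz_rep7.2.2.2.2.2.2.2.2
  have h11 : cz R (fun (j : Fin 56) (i : Fin 7) => w56 j i) (1 : Fin 7 → Ωˣ) = Fintype.card (Fin 56) := cz_one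
  generalize (cz R (fun (j : Fin 56) (i : Fin 7) => w56 j i) : (Fin 7 → Ωˣ) → ℕ) = f at h7 h8 h9 h10 h11
  rw [sum_wt (fun a => wtz a.toAdd) 3 wtz_rep7.2.1 (F := fun j => f (c (rep7 j))) h10, sum_range_succ, sum_range_succ,
    sum_range_one, wtz_rep7.2.2.1, map_one, h11,
    wtz_rep7.2.2.2.1, wtz_rep7.2.2.2.2.1, wtz_rep7.2.2.2.2.2.1, wtz_rep7.2.2.2.2.2.2.1, Fintype.card_fin] at h7
  simp only [List.mem_cons, List.not_mem_nil, or_false] at h8 h9
  omega

theorem aux_E7' (hb : ∀ r (i : Fin 7), |R.root r i| ≤ th7 i) (hc : Nat.Coprime 5 (q * 2)) (hc' : Nat.Coprime 11 (q * 2))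
    {π : H →* alternatingGroup (Fin 3 × ZMod 5)} (hM : Min π) : False := by
  have hK := C.not_dvd (v := 1) hc (by decide) (by rw [hW]; decide) hM (by decide) (by decide) χ hχ hf
  obtain ⟨s, hs⟩ := exists_section hK hM.surj isPGroup_pi (trA (Fin 3) (by decide))
  obtain ⟨h1, h2⟩ := exists_tr _ hM.surj hK hs
  have h3 : ∀ a, χ (s a) ∈ Alg A φ := fun a => ⟨1, one_pos, by rw [pow_one]; exact hf _⟩
  have h4 : ∀ a, χ (s a) ^ 5 = 1 := fun a => by rw [← map_pow, ← map_pow, pow_eq_one_pi, map_one, map_one]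
  have h0 : ∀ a b, Commute (χ (s a)) (χ (s b)) := fun a b => ((Commute.all a b).map s).map χ
  obtain ⟨ζ, hζ⟩ := exists_orderOf_units (C.cast_ne hc.coprime_mul_right_right)
  obtain ⟨η, hη⟩ := exists_orderOf_units (C.cast_ne hc'.coprime_mul_right_right)
  have h6 := fun a (ha : a ≠ 1) => C.rat (cl56 hC) (by decide) ht rat5 Nat.prime_five hc hζ (h3 a) (h4 a)
    (fun h => ha (h1 a (hχ (h.trans (map_one χ).symm)))) (by
      rw [← map_pow, ← map_pow]; exact χ.map_isConj (h2 _ _ (wtz_pow a (by decide))))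
  obtain ⟨x, hx, y, e, a, ha, h7⟩ := h6 (.ofAdd (Pi.single 0 1)) (by decide)
  have h8 : ∀ r, |R.evr y r| < (5 : ℕ) := fun r => by
    refine (abs_evr_le (θ := fun i : Fin 7 => th7 i) (a := fun i : Fin 7 => a i) hb ha r).trans_lt ?_
    rw [Bool.and_eq_true, Bool.or_eq_true, ltZ_iff, beqZ_iff, dot_listTo, dot_listTo] at h7
    rw [Fin.sum_univ_eq_sum_range fun i => (th7 i : ℤ) * a i]
    refine h7.2.resolve_right fun h => ?_
    rw [← Fin.sum_univ_eq_sum_range fun i => [0, 1, 0, 0, 1, 0, 1].getD i 0 * (a i : ℤ)] at h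
    simp only [← ha, RS.ev_eq, RS.pair_simple_simple, mul_sum, mul_left_comm _ (y _)] at h
    rw [sum_comm, Int.emod_eq_zero_of_dvd (dvd_sum fun k _ => by
      rw [← mul_sum]
      simp only [← RS.cartanM_apply, hC]
      exact ((by decide +kernel : ∀ k : Fin 7, (2 : ℤ) ∣ ∑ i : Fin 7, [0, 1, 0, 0, 1, 0, 1].getD i 0 * CL.Cox.cE7 k i)
        k).mul_left _)] at h
    exact absurd h (by decide)
  have h9 : ∀ b, Commute (x⁻¹ * χ (s b) * x) (A.hMul.torus fun i => η ^ y i) := fun b =>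
    commute_of_psi A (C.conn (by decide) hc.coprime_mul_left_right (exp_pow hζ y)) (psi_subset hζ h8 η)
      (by simpa [e, mul_assoc] using (h0 b (.ofAdd (Pi.single 0 1))).conj x⁻¹)
  obtain ⟨z, a1, a2, a3⟩ := C.step2 hc' (exp_pow hη y) Nat.prime_five hc (by decide)
    (mul_mem (mul_mem (inv_mem hx) (h3 (.ofAdd (Pi.single 1 1)))) hx)
    (mul_mem (mul_mem (inv_mem hx) (h3 (.ofAdd (Pi.single 2 1)))) hx) (h9 _) (h9 _) (by rw [inv_conj_pow, h4]; simp)
    (by rw [inv_conj_pow, h4]; simp) (by simpa using (h0 _ _).conj x⁻¹)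
  replace a1 := commute_of_psi A (C.conn (by decide) hc'.coprime_mul_left_right (exp_pow hη y))
    (psi_subset hη (fun r => (h8 r).trans (by decide)) ζ) a1
  obtain ⟨c, h5⟩ := C.exists_hom' hc.coprime_mul_left_right (χ.comp s) (x := x * z) (Fin.forall_fin_succ.2 ⟨by
    rw [MonoidHom.comp_apply, e, show (x * z)⁻¹ * (x * A.hMul.torus (fun i => ζ ^ y i) * x⁻¹) * (x * z) =
      z⁻¹ * (A.hMul.torus (fun i => ζ ^ y i) * z) by group, ← a1.eq, inv_mul_cancel_left]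
    exact A.hMul.torus_mem_H _, Fin.forall_fin_two.2 ⟨by simpa [mul_assoc] using a2, by simpa [mul_assoc] using a3⟩⟩)
  obtain ⟨k, h10, -⟩ := sum_cz (R := R) (fun (j : Fin 56) (i : Fin 7) => w56 j i) Nat.prime_five pow_eq_one_pi c
  rw [← add_sum_erase _ _ (mem_univ 1), sum_const_nat (m := 16) fun a ha => by
      obtain ⟨x', -, y', e', a', -, h7⟩ := h6 a (ne_of_mem_erase ha)
      rw [C.cz_conj (cl56 hC) hc.coprime_mul_left_right (exp_pow hζ y') (h5 a).1 (isConj_of_eq (e'.symm.trans (h5 a).2))]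
      exact of_decide_eq_true (Bool.and_eq_true_iff.1 h7).1,
    card_erase_of_mem (mem_univ _), card_univ, map_one, cz_one,
    show Fintype.card (Multiplicative (Fin 3 → ZMod 5)) = 125 by decide +kernel, Fintype.card_fin] at h10
  omega

end Main

variable {F : Type*} [Field F] [Fintype F] (p : ℕ) [Fact p.Prime] [CharP F p]

theorem not_alt_E7 (hp : p ≠ 7) (L : Subgroup (chevE7.group F)) (π : L →* alternatingGroup (Fin 2 × ZMod 7))
    (hπ : Function.Surjective π) : False :=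
  let ⟨_, _, ψ, C, hψ, hf⟩ := exists_ctx realE7 (datCartan_E7 ▸ inv_E7) F p
  let ⟨M, hM⟩ := exists_isMin hπ
  aux_E7 (R := realE7.R) C (realE7.cartanM_eq.trans datCartan_E7) card_W7 root_th7
    (χ := ψ.comp (L.subtype.comp M.subtype)) (hψ.comp (L.subtype_injective.comp M.subtype_injective)) (fun _ => hf _)
    ((CL.AltSec.coprime_card p Nat.prime_seven hp).mul_right (by decide)) hM

theorem not_alt_E7' (hp : p = 7) (L : Subgroup (chevE7.group F)) (π : L →* alternatingGroup (Fin 3 × ZMod 5))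
    (hπ : Function.Surjective π) : False :=
  let ⟨_, _, ψ, C, hψ, hf⟩ := exists_ctx realE7 (datCartan_E7 ▸ inv_E7) F p
  let ⟨M, hM⟩ := exists_isMin hπ
  aux_E7' (R := realE7.R) C (realE7.cartanM_eq.trans datCartan_E7) card_W7 root_th7
    (χ := ψ.comp (L.subtype.comp M.subtype)) (hψ.comp (L.subtype_injective.comp M.subtype_injective)) (fun _ => hf _)
    (fun r i => (congrArg abs (tabE7.root _ r i)).trans_le
      ((by decide +kernel : ∀ (r : Fin 126) (i : Fin 7), |auxE7.rt r i| ≤ th7 i) r i))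
    ((CL.AltSec.coprime_card p Nat.prime_five (by omega)).mul_right (by decide))
    ((CL.AltSec.coprime_card p Nat.prime_eleven (by omega)).mul_right (by decide)) hM

end CL.AltEx
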