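/-
Alternating sections of the groups of type `E₈`: tables.
-/
import Cfsg.Agent.Chev.AltSec9

set_option autoImplicit false

namespace CL.AltEx

open Cfsg Cfsg.Lie CL.Chev StSys Matrix Subgroup Cert Finset

/-- The highest root. -/
def th8 (i : ℕ) : ℕ := [2, 3, 4, 6, 5, 4, 3, 2].getD i 0

theorem rat17 : ratOK 8 240 auxE8.rt th8 17 3 (fun a _ => a.all (fun z => beqZ (z % (17 : ℕ)) 0) || false) = true := by
  decide +kernel

theorem rat3 : ratOK 8 240 auxE8.rt th8 3 1 (fun a k => a.all (fun z => beqZ (z % (3 : ℕ)) 0) ||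
    (decide (k ∈ [72, 78, 84, 126]) && (!decide (k = 84) || ltZ (dot (listTo 8 fun i => th8 i) a) 3))) = true := by
  decide +kernel

theorem datCartan_E8 : datCartan chevE8 = CL.Cox.cE8 := matrix_ext_of_all (n := 8) (by decide +kernel)

theorem root_th8 (i : Fin 8) : realE8.R.root ⟨239, by decide⟩ i = th8 i :=
  (tabE8.root _ _ i).trans ((by decide +kernel : ∀ i : Fin 8, auxE8.rt 239 i = th8 i) i)

theorem root_E8 : realE8.R.root = fun (j : Fin 240) (i : Fin 8) => auxE8.rt j i :=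
  funext fun j => funext fun i => tabE8.root _ j i

theorem abs_root_E8 (r : Fin 240) (i : Fin 8) : |realE8.R.root r i| ≤ th8 i :=
  (congrArg abs (tabE8.root _ r i)).trans_le ((by decide +kernel : ∀ (r : Fin 240) (i : Fin 8), |auxE8.rt r i| ≤ th8 i) r i)

theorem card_W8 : Nat.card realE8.R.W = 696729600 :=
  (card_W _ isCartan_datE8).trans (CL.Cox.card_E8 (W := CoxeterMatrix.E₈.Group) (CoxeterMatrix.toCoxeterSystem _))

/-- The inverse of the Cartan matrix. -/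
def iE8 : Matrix (Fin 8) (Fin 8) ℤ := !![4, 5, 7, 10, 8, 6, 4, 2; 5, 8, 10, 15, 12, 9, 6, 3; 7, 10, 14, 20, 16, 12, 8, 4;
  10, 15, 20, 30, 24, 18, 12, 6; 8, 12, 16, 24, 20, 15, 10, 5; 6, 9, 12, 18, 15, 12, 8, 4; 4, 6, 8, 12, 10, 8, 6, 3;
  2, 3, 4, 6, 5, 4, 3, 2]

theorem inv_E8 : CL.Cox.cE8 * iE8 = ((1 : ℕ) : ℤ) • 1 := matrix_ext_of_all (n := 8) (by decide +kernel)

theorem ex_nineteen : ∃ x g : alternatingGroup (Fin 19), orderOf x = 17 ∧ g * x * g⁻¹ = x ^ 3 :=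
  have : Fact (Nat.Prime 17) := ⟨by norm_num⟩
  ⟨AltSec.pm ![1, 2, 3, 4, 5, 6, 7, 8, 9, 10, 11, 12, 13, 14, 15, 16, 0, 17, 18]
    ![16, 0, 1, 2, 3, 4, 5, 6, 7, 8, 9, 10, 11, 12, 13, 14, 15, 17, 18],
    AltSec.pm ![0, 3, 6, 9, 12, 15, 1, 4, 7, 10, 13, 16, 2, 5, 8, 11, 14, 18, 17]
      ![0, 6, 12, 1, 7, 13, 2, 8, 14, 3, 9, 15, 4, 10, 16, 5, 11, 18, 17],
    orderOf_eq_prime (by decide +kernel) (by decide +kernel), by decide +kernel⟩

/-- The first `m` blocks. -/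
def inc (m : ℕ) : Multiplicative (Fin m → ZMod 3) →* Multiplicative (Fin 2 × ZMod 3 → ZMod 3) where
  toFun a := .ofAdd fun i => if h : 3 * i.1.val + i.2.val < m then a.toAdd ⟨_, h⟩ else 0
  map_one' := congrArg Multiplicative.ofAdd (funext fun i => by simp)
  map_mul' a b := congrArg Multiplicative.ofAdd (funext fun i => by
    by_cases h : 3 * i.1.val + i.2.val < m <;> simp [h])

/-- Representatives. -/
def rep3 (j : ℕ) : Multiplicative (Fin 2 × ZMod 3 → ZMod 3) := .ofAdd fun i => if 3 * i.1.val + i.2.val < j then 1 else 0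

theorem cnt_inc : ∀ m ∈ [4, 5, 6], (∀ a, wtz (inc m a).toAdd < 7 ∧ wtz (inc m a).toAdd = wtz (rep3 (wtz (inc m a).toAdd)).toAdd) ∧
    (∀ j < 7, #{a | wtz (inc m a).toAdd = j} = Nat.choose m j * 2 ^ j) ∧
    Fintype.card (Multiplicative (Fin m → ZMod 3)) = 3 ^ m := by
  decide +kernel

theorem inc_four : (∀ a, ∃ b, inc 4 a = inc 5 b) ∧ rep3 0 = 1 ∧ ∀ j < 6, rep3 (j + 1) ≠ 1 := by decide +kernel

theorem levi_num : ∀ a ∈ [72, 78, 84, 126], ∀ b ∈ [72, 78, 84, 126], ∀ c ∈ [72, 78, 84, 126], ∀ d ∈ [72, 78, 84, 126],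
    27 ∣ 248 + 8 * (8 + a) + 24 * (8 + b) + 32 * (8 + c) + 16 * (8 + d) → ∀ e ∈ [72, 78, 84, 126],
    81 ∣ 248 + 10 * (8 + a) + 40 * (8 + b) + 80 * (8 + c) + 80 * (8 + d) + 32 * (8 + e) →
    248 + 10 * (8 + a) + 40 * (8 + b) + 80 * (8 + c) + 80 * (8 + d) + 32 * (8 + e) ≤
      3 * (248 + 8 * (8 + a) + 24 * (8 + b) + 32 * (8 + c) + 16 * (8 + d)) → ∀ f ∈ [72, 78, 84, 126],
    243 ∣ 248 + 12 * (8 + a) + 60 * (8 + b) + 160 * (8 + c) + 240 * (8 + d) + 192 * (8 + e) + 64 * (8 + f) → a = 84 := by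
  decide +kernel

end CL.AltEx
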