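/-
Alternating sections of the groups of type `E₈`.
-/
import Cfsg.Agent.Chev.AltSec10

set_option autoImplicit false

namespace CL.AltEx

open Cfsg Cfsg.Lie CL.Chev StSys Matrix Subgroup Cert Finset Module

theorem sq_step {M : Type*} [CommGroup M] (h : ∀ c : M, c ^ 17 = 1) (g g' : M →* M) (hg : ∀ b, g' b = g (g b)) {k : ℕ}
    (hk : k ∈ [1, 2, 4]) (e : ∃ b ≠ 1, ∃ ν < 17, ν ^ k % 17 = 16 ∧ g' b = b ^ ν) :
    ∃ b ≠ 1, ∃ ν < 17, ν ^ (2 * k) % 17 = 16 ∧ g b = b ^ ν := by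
  obtain ⟨b, hb, ν, h1, h2, e⟩ := e
  obtain ⟨μ, h3, h4, h5, h6, h7⟩ := (by decide +kernel : ∀ k ∈ [1, 2, 4], ∀ ν < 17, ν ^ k % 17 = 16 → ∃ μ < 17, 0 < μ ∧
    μ * μ % 17 = ν % 17 ∧ μ ^ (2 * k) % 17 = 16 ∧ (17 - μ) ^ (2 * k) % 17 = 16) k hk ν h1 h2
  by_cases h8 : g b * b ^ μ = 1
  · exact ⟨b, hb, 17 - μ, by omega, h7, by rw [eq_inv_of_mul_eq_one_left h8, pow_sub _ h3.le, h, one_mul]⟩
  · exact ⟨_, h8, μ, h3, h6, by
      rw [map_mul, map_pow, ← hg, e, mul_pow, ← pow_mul, mul_comm, pow_eq_pow_of_modEq h5 (h b)]⟩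

theorem tAct_pow {ι Φ : Type} [Fintype ι] [DecidableEq ι] {R : RS ι Φ} {M : Type*} [CommGroup M] {w : Equiv.Perm Φ}
    (hw : w ∈ R.aut) {D : Type*} {c : D → ι → M} {α : D → D} (h : ∀ g, R.tAct w (c g) = c (α g)) (n : ℕ) (g : D) :
    R.tAct (w ^ n) (c g) = c (α^[n] g) := by
  induction n with
  | zero => simp
  | succ n ih => rw [pow_succ', RS.tAct_mul hw, ih, h, Function.iterate_succ_apply']

/-- The Weyl group of type `E₈` has no element of order 16. -/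
theorem not_sixteen {Φ : Type} [Finite Φ] {R : RS (Fin 8) Φ} (hC : R.cartanM = CL.Cox.cE8)
    (hL : Cl R fun (j : Fin 240) (i : Fin 8) => auxE8.rt j i) {t : Φ} (ht : ∀ i : Fin 8, R.root t i = th8 i)
    (hb : ∀ r (i : Fin 8), |R.root r i| ≤ th8 i) {w : Equiv.Perm Φ} (hw : w ∈ R.W) : ¬ 16 ∣ orderOf w := fun hd => by
  have h1 := orderOf_pow_orderOf_div (orderOf_pos w).ne' hd
  replace hw := pow_mem hw (orderOf w / 16)
  generalize w ^ (orderOf w / 16) = u at h1 hw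
  have ha := R.W_le_aut hw
  let ζ : Multiplicative (ZMod 17) := .ofAdd 1
  have hζ : orderOf ζ = 17 := (orderOf_ofAdd_eq_addOrderOf _).trans (ZMod.addOrderOf_one 17)
  have h0 : ∀ c : Fin 8 → Multiplicative (ZMod 17), c ^ 17 = 1 := fun c => funext fun i => by
    simpa using pow_card_eq_one' (x := c i)
  have hB : iE8 * CL.Cox.cE8 = 1 := mul_eq_one_comm.1 (by simpa using inv_E8)
  obtain ⟨c, h2⟩ : ∃ c : Fin 8 → Multiplicative (ZMod 17), R.tAct (u ^ 8) c ≠ c := by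
    by_contra! h
    refine pow_ne_one_of_lt_orderOf (x := u) (n := 8) (by decide) (by omega) (Equiv.ext fun r => R.root_inj (funext fun i => ?_))
    have h2 := RS.chi_tAct (pow_mem ha 8) r fun k => ζ ^ iE8 i k
    have h3 : ∀ r, R.evr (iE8 i) r = R.root r i := fun r => by
      rw [evr_eq_sum, sum_eq_single i (fun j _ hj => ?_) (by simp)]
      all_goals simp only [RS.ev_eq, RS.pair_simple_simple, ← RS.cartanM_apply, hC, ← Matrix.mul_apply, hB]
      · simp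
      · simp [Matrix.one_apply_ne' hj]
    rw [h, RS.chi_zpow, RS.chi_zpow, zpow_eq_zpow_iff_modEq, hζ, h3, h3] at h2
    have h4 := abs_le.1 (hb r i)
    have h5 := abs_le.1 (hb ((u ^ 8) r) i)
    have h6 := (by decide : ∀ i : Fin 8, th8 i ≤ 6) i
    have := h2.dvd
    change _ = R.root r i
    omega
  have h3 : ∀ (n : ℕ) (c : Fin 8 → Multiplicative (ZMod 17)), R.tAct (u ^ (2 * n)) c = R.tAct (u ^ n) (R.tAct (u ^ n) c) :=
    fun n c => by rw [two_mul, pow_add, RS.tAct_mul (pow_mem ha n)]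
  obtain ⟨b, h4, ν, h5, h6, h7⟩ := sq_step h0 _ _ (h3 1) (k := 4) (by decide) (sq_step h0 _ _ (h3 2) (k := 2) (by decide)
    (sq_step h0 _ _ (h3 4) (k := 1) (by decide) ⟨R.tAct (u ^ 8) c / c, fun h => h2 (div_eq_one.1 h), 16, by decide, rfl, by
      rw [map_div, ← h3, show u ^ (2 * (2 * 4)) = 1 from orderOf_dvd_iff_pow_eq_one.1 (by rw [h1]), RS.tAct_one, eq_comm,
        ← mul_inv_eq_one, inv_div, ← pow_succ, h0]⟩))
  obtain ⟨j, -, h8⟩ := (by decide +kernel : ∀ ν < 17, ν ^ 8 % 17 = 16 → ∃ j < 16, ν ^ j % 17 = 3 % 17) ν h5 h6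
  have h9 := tAct_pow ha (c := fun n : ℕ => b ^ n) (α := (ν * ·)) (fun n => by rw [map_pow, ← pow_one u, h7, pow_mul]) j 1
  rw [pow_one, mul_left_iterate_apply_one, pow_eq_pow_of_modEq h8 (h0 b)] at h9
  obtain ⟨v, hv, y, a1, a2⟩ := exists_alc (R := R) (fun i => ((b i).toAdd.val : ℤ)) (s := 17) (by decide)
  have a3 : (fun i => ζ ^ y i) = R.tAct v b := by
    rw [show b = fun i => ζ ^ ((b i).toAdd.val : ℤ) from funext fun i => by
      rw [zpow_natCast, ← ofAdd_nsmul, nsmul_one, ZMod.natCast_zmod_val]; rfl, RS.tAct_zpow]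
    exact funext fun k => by rw [← mul_inv_eq_one, ← _root_.zpow_sub, ← orderOf_dvd_iff_zpow_eq_one, hζ]; exact a2 k
  obtain ⟨a, a4, a5⟩ := ratOK_sound hL (by decide) ht rat17 hζ a1 (mul_mem (mul_mem hv (pow_mem hw j)) (inv_mem hv)) (by
    rw [a3, mul_assoc, RS.tAct_mul (R.W_le_aut hv), RS.tAct_mul (pow_mem ha j), RS.tAct_inv_tAct (R.W_le_aut hv), h9,
      map_pow])
  have a6 := matPow_mul (M := Multiplicative (ZMod 17)) R.cartanM iE8 fun i => ζ ^ y i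
  rw [show matPow _ R.cartanM (fun i => ζ ^ y i) = 1 from funext fun i => (R.chi_simple i _).symm.trans (by
    rw [RS.chi_zpow, Pi.one_apply, ← orderOf_dvd_iff_zpow_eq_one, hζ, a4]
    exact Int.dvd_of_emod_eq_zero ((beqZ_iff _ _).1 ((all_listTo _ _ _).1 (Bool.or_false _ ▸ a5) i i.2))), map_one, hC,
    mul_eq_one_comm.1 hB, matPow_one, a3] at a6
  exact h4 (by rw [← RS.tAct_inv_tAct (R.W_le_aut hv) b, a6, map_one])

section Lam
variable {ι Φ : Type} [Fintype ι] [DecidableEq ι] {R : RS ι Φ} [Finite Φ] {Ω : Type*} [Field Ω] {G : Type*} [Group G]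
  {S : StSys R Ω G} {A : S.AlgSys} {φ : Ω ≃+* Ω} {q e : ℕ} (C : Ctx A φ q e)
include C

/-- The cocharacters attached to the conjugates of an element whose centralizer is a Levi subgroup. -/
theorem Ctx.exists_lam {l : ℕ} (hl : l.Prime) (hl' : l.Coprime (q * e)) {ζ : Ωˣ} (hζ : orderOf ζ = l) {y : ι → ℤ}
    (hy : ∀ r, |R.evr y r| < l) : ∃ lam : G → Ωˣ → G,
      ∀ g t, t = g * A.hMul.torus (fun i => ζ ^ y i) * g⁻¹ →
        (∀ θ, lam t θ = g * A.hMul.torus (fun i => θ ^ y i) * g⁻¹) ∧ (∀ k θ, k * lam t θ * k⁻¹ = lam (k * t * k⁻¹) θ) ∧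
        (∀ k θ, Commute k t → Commute k (lam t θ)) ∧ ∀ z, z⁻¹ * t * z ∈ S.H →
          ∃ y', (∀ r, |R.evr y' r| < l) ∧ ∀ θ, lam t θ = z * A.hMul.torus (fun i => θ ^ y' i) * z⁻¹ := by
  classical
  have h0 := fun θ {k} => commute_of_psi A (C.conn hl.ne_zero hl'.coprime_mul_left_right (exp_pow hζ y))
    (psi_subset hζ hy θ) (g := k)
  let lam : G → Ωˣ → G := fun t θ => if h : ∃ g, t = g * A.hMul.torus (fun i => ζ ^ y i) * g⁻¹ then
    h.choose * A.hMul.torus (fun i => θ ^ y i) * h.choose⁻¹ else 1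
  have h1 : ∀ g θ, lam (g * A.hMul.torus (fun i => ζ ^ y i) * g⁻¹) θ = g * A.hMul.torus (fun i => θ ^ y i) * g⁻¹ :=
    fun g θ => by
      have h : ∃ g', g * A.hMul.torus (fun i => ζ ^ y i) * g⁻¹ = g' * A.hMul.torus (fun i => ζ ^ y i) * g'⁻¹ := ⟨g, rfl⟩
      have h2 := h.choose_spec
      simp only [lam, dif_pos h]
      generalize h.choose = g' at h2
      have := (h0 θ (k := g⁻¹ * g') (by
        rw [commute_iff_eq, ← mul_left_inj g'⁻¹, mul_assoc g⁻¹, mul_assoc g⁻¹, ← h2]; group)).eq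
      rw [← mul_right_inj g⁻¹, ← mul_assoc, ← mul_assoc, this]; group
  refine ⟨lam, ?_⟩
  rintro g _ rfl
  have h2 : ∀ k θ, k * lam (g * A.hMul.torus (fun i => ζ ^ y i) * g⁻¹) θ * k⁻¹ =
      lam (k * (g * A.hMul.torus (fun i => ζ ^ y i) * g⁻¹) * k⁻¹) θ := fun k θ => by
    rw [h1, show ∀ a, k * (g * a * g⁻¹) * k⁻¹ = k * g * a * (k * g)⁻¹ from fun a => by group,
      show ∀ a, k * (g * a * g⁻¹) * k⁻¹ = k * g * a * (k * g)⁻¹ from fun a => by group, h1]
  refine ⟨h1 g, h2, fun k θ h => ?_, fun z h => ?_⟩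
  · rw [commute_iff_eq, ← mul_inv_eq_iff_eq_mul, h2, h.eq, mul_inv_cancel_right]
  obtain ⟨w, hw, h3⟩ := exists_W_of_le A (g := z⁻¹ * g) (a := fun i => ζ ^ y i) (by simpa [mul_assoc] using h)
  exact ⟨y ᵥ* R.wM w, fun r => by rw [RS.ev_vecMul' (R.W_le_aut hw)]; exact hy _, fun θ => by
    rw [h1, ← RS.tAct_zpow, ← h3 _ fun k => h0 θ]; group⟩

variable [IsAlgClosed Ω] [Uncountable Ω]

theorem Ctx.toral_E (h3 : Nat.Coprime 3 (q * e)) {ζ : Ωˣ} (hζ : orderOf ζ = 3) {y : ι → ℤ}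
    (hy : ∀ r, |R.evr y r| < (3 : ℕ)) {n : Fin 2 → ℕ} (hn : ∀ b, (n b).Prime ∧ (n b).Coprime (q * e) ∧ 7 ≤ n b)
    (hn' : n 0 ≠ n 1) {t : Fin 2 → ZMod 3 → G} (ht : ∀ b u, ∃ g ∈ Alg A φ, t b u = g * A.hMul.torus (fun i => ζ ^ y i) * g⁻¹)
    (hc : ∀ b u b' u', Commute (t b u) (t b' u')) {x : Fin 2 → G} (hx : ∀ b, x b ∈ Alg A φ ∧ x b ^ 3 = 1)
    (hx' : Commute (x 1) (x 0)) (hxt : ∀ b b' u, x b * t b' u * (x b)⁻¹ = t b' (u + if b' = b then 1 else 0)) :
    ∃ z, ∀ b, z⁻¹ * x b * z ∈ S.H ∧ z⁻¹ * (t b 0 * t b 1 * t b 2) * z ∈ S.H := by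
  obtain ⟨lam, hl⟩ := C.exists_lam Nat.prime_three h3 hζ hy
  choose g hg e using ht
  have l1 := fun b u => (hl _ _ (e b u)).1
  have l2 := fun b u => (hl _ _ (e b u)).2.1
  have l3 := fun b u => (hl _ _ (e b u)).2.2.1
  have l4 := fun b u => (hl _ _ (e b u)).2.2.2
  have l5 : ∀ b u θ b' u' θ', Commute (lam (t b u) θ) (lam (t b' u') θ') := fun b u θ b' u' θ' =>
    l3 _ _ _ _ (l3 _ _ _ _ (hc _ _ _ _)).symm
  choose η hη using fun b => exists_orderOf_units (C.cast_ne (hn b).2.1.coprime_mul_right_right)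
  have h4 : ∀ b u, t b u ∈ Alg A φ ∧ t b u ^ 3 = 1 := fun b u => by
    rw [e, conj_pow, ← map_pow, exp_pow hζ, map_one, mul_one, mul_inv_cancel]
    exact ⟨mul_mem (mul_mem (hg _ _) (C.torus_mem h3.coprime_mul_right_right (exp_pow hζ y))) (inv_mem (hg _ _)), rfl⟩
  have h5 : ∀ b, (n b).Coprime 3 := fun b => (Nat.coprime_primes (hn b).1 Nat.prime_three).2 (by have := (hn b).2.2; omega)
  let c : Fin 2 → Ωˣ → G := fun b θ => lam (t b 0) θ * lam (t b 1) θ * lam (t b 2) θ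
  have f1 : ∀ b, ∃ z Y, (∀ r, |R.evr Y r| < n b) ∧ ∀ θ, c b θ = z * A.hMul.torus (fun i => θ ^ Y i) * z⁻¹ := fun b => by
    have h6 : ∀ u, Commute ((g b 0)⁻¹ * t b u * g b 0) (A.hMul.torus fun i => η b ^ y i) := fun u => by
      simpa [l1, mul_assoc] using (l3 b 0 _ (η b) (hc b u b 0)).conj (g b 0)⁻¹
    have h7 := fun u => mul_mem (mul_mem (inv_mem (hg b 0)) (h4 b u).1) (hg b 0)
    have h8 : ∀ u, ((g b 0)⁻¹ * t b u * g b 0) ^ 3 = 1 := fun u => by rw [inv_conj_pow, (h4 b u).2]; simp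
    obtain ⟨z, a1, a2, a3⟩ := C.step2 (hn b).2.1 (exp_pow (hη b) y) Nat.prime_three h3 (h5 b) (h7 1) (h7 2) (h6 1) (h6 2)
      (h8 1) (h8 2) (by simpa using (hc b 2 b 1).conj (g b 0)⁻¹)
    replace a1 := commute_of_psi A (C.conn (hn b).1.ne_zero (hn b).2.1.coprime_mul_left_right (exp_pow (hη b) y))
      (psi_subset (hη b) (fun r => (hy r).trans (by have := (hn b).2.2; omega)) ζ) a1
    obtain ⟨y0, b0, c0⟩ := l4 b 0 (g b 0 * z) (by
      rw [e, show ∀ a, (g b 0 * z)⁻¹ * (g b 0 * a * (g b 0)⁻¹) * (g b 0 * z) = z⁻¹ * (a * z) from fun a => by group,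
        ← a1.eq, inv_mul_cancel_left]
      exact A.hMul.torus_mem_H _)
    obtain ⟨y1, b1, c1⟩ := l4 b 1 (g b 0 * z) (by simpa [mul_assoc] using a2)
    obtain ⟨y2, b2, c2⟩ := l4 b 2 (g b 0 * z) (by simpa [mul_assoc] using a3)
    refine ⟨g b 0 * z, y0 + y1 + y2, fun r => ?_, fun θ => ?_⟩
    · have := (hn b).2.2
      have := abs_lt.1 (b0 r)
      have := abs_lt.1 (b1 r)
      have := abs_lt.1 (b2 r)
      rw [RS.ev_add, RS.ev_add, abs_lt]
      omega
    · rw [show (fun i => θ ^ (y0 + y1 + y2) i) = (fun i => θ ^ y0 i) * (fun i => θ ^ y1 i) * fun i => θ ^ y2 i from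
        funext fun i => by simp [_root_.zpow_add], map_mul, map_mul]
      simp only [c, c0, c1, c2]; group
  have f2 : ∀ b θ b', Commute (x b') (c b θ) := fun b θ b' => by
    rw [commute_iff_eq, ← mul_inv_eq_iff_eq_mul]
    simp only [c, ← MulAut.conj_apply, map_mul]
    simp only [MulAut.conj_apply, l2, hxt]
    split_ifs
    · rw [zero_add, show (1 + 1 : ZMod 3) = 2 from rfl, show (2 + 1 : ZMod 3) = 0 from rfl, (l5 b 0 θ b 1 θ).eq,
        mul_assoc, mul_assoc, (l5 b 0 θ b 2 θ).eq]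
    · simp only [add_zero]
  have f3 : ∀ b, c b (η b) ∈ Alg A φ ∧ c b (η b) ^ n b = 1 := fun b => by
    have h6 : ∀ u, lam (t b u) (η b) ∈ Alg A φ := fun u => l1 b u _ ▸ mul_mem (mul_mem (hg _ _)
      (C.torus_mem (hn b).2.1.coprime_mul_right_right (exp_pow (hη b) y))) (inv_mem (hg _ _))
    obtain ⟨z, Y, -, h7⟩ := f1 b
    exact ⟨mul_mem (mul_mem (h6 0) (h6 1)) (h6 2), by rw [h7, conj_pow, ← map_pow, exp_pow (hη b)]; simp⟩
  have f4 : Commute (c 1 (η 1)) (c 0 (η 0)) :=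
    have h : ∀ u, Commute (lam (t 1 u) (η 1)) (c 0 (η 0)) := fun u =>
      ((l5 _ _ _ _ _ _).mul_right (l5 _ _ _ _ _ _)).mul_right (l5 _ _ _ _ _ _)
    ((h 0).mul_left (h 1)).mul_left (h 2)
  have h6 : (n 0).Coprime (n 1) := (Nat.coprime_primes (hn 0).1 (hn 1).1).2 hn'
  obtain ⟨k, hk, y0, -, e0⟩ := C.normal (hn 0).1 (hn 0).2.1 (hη 0) (f3 0).1 (f3 0).2
  obtain ⟨k', d, a1, a2, a3, a4⟩ := C.step (hn 0).2.1 (exp_pow (hη 0) y0) (hn 1).1 (hn 1).2.1
    (s := k⁻¹ * c 1 (η 1) * k) (mul_mem (mul_mem (inv_mem hk) (f3 1).1) hk) (by simpa [e0, mul_assoc] using f4.conj k⁻¹)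
    (by rw [inv_conj_pow, (f3 1).2]; simp)
  have a5 := mul_mem hk (a4 h6)
  have a6 : (k * k')⁻¹ * c 0 (η 0) * (k * k') = A.hMul.torus fun i => η 0 ^ y0 i := by
    rw [e0, show ∀ a, (k * k')⁻¹ * (k * a * k⁻¹) * (k * k') = k'⁻¹ * (a * k') from fun a => by group, ← a2.eq,
      inv_mul_cancel_left]
  have a7 : (k * k')⁻¹ * c 1 (η 1) * (k * k') = A.hMul.torus d := by
    rw [show ∀ a, (k * k')⁻¹ * a * (k * k') = k'⁻¹ * (k⁻¹ * a * k) * k' from fun a => by group, a3]; group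
  generalize k * k' = K at a5 a6 a7
  have a8 : ∀ b, Commute (K⁻¹ * x b * K) (A.hMul.torus ((fun i => η 0 ^ y0 i) * d)) := fun b => by
    rw [map_mul, ← a6, ← a7]
    exact Commute.mul_right (by simpa using (f2 0 _ b).conj K⁻¹) (by simpa using (f2 1 _ b).conj K⁻¹)
  have a9 : ∀ b, (K⁻¹ * x b * K) ^ 3 = 1 := fun b => by rw [inv_conj_pow, (hx b).2]; simp
  have a10 := fun b => mul_mem (mul_mem (inv_mem a5) (hx b).1) a5
  obtain ⟨z, b1, b2, b3⟩ := C.step2 ((hn 0).2.1.mul_left (hn 1).2.1) (by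
    rw [mul_pow, pow_mul, exp_pow (hη 0), one_pow, mul_comm (n 0), pow_mul, a1, one_pow, one_mul]) Nat.prime_three h3
    ((h5 0).mul_left (h5 1)) (a10 0) (a10 1) (a8 0) (a8 1) (a9 0) (a9 1) (by simpa using hx'.conj K⁻¹)
  rw [map_mul] at b1
  have hcd : Commute (A.hMul.torus fun i => η 0 ^ y0 i) (A.hMul.torus d) := (Commute.all _ d).map _
  have e1 : A.hMul.torus (fun i => η 0 ^ y0 i) ^ n 0 = 1 := by rw [← map_pow, exp_pow (hη 0), map_one]
  have e2 : A.hMul.torus d ^ n 1 = 1 := by rw [← map_pow, a1, map_one]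
  have b4 : ∀ b, (K * z)⁻¹ * c b (η b) * (K * z) ∈ S.H := by
    simp only [show ∀ a, (K * z)⁻¹ * a * (K * z) = z⁻¹ * (K⁻¹ * a * K * z) from fun a => by group, Fin.forall_fin_two, a6,
      a7, ← (commute_left_of_coprime h6 hcd e1 e2 b1).eq, inv_mul_cancel_left,
      ← (commute_left_of_coprime h6.symm hcd.symm e2 e1 (hcd.eq ▸ b1)).eq]
    exact ⟨A.hMul.torus_mem_H _, A.hMul.torus_mem_H _⟩
  refine ⟨K * z, fun b => ⟨(Fin.forall_fin_two (p := fun b => (K * z)⁻¹ * x b * (K * z) ∈ S.H)).2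
    ⟨by simpa [mul_assoc] using b2, by simpa [mul_assoc] using b3⟩ b, ?_⟩⟩
  obtain ⟨z', Y, c1, c2⟩ := f1 b
  obtain ⟨w, -, c3⟩ := exists_W_of_le A (g := (K * z)⁻¹ * z') (a := fun i => η b ^ Y i) (by
    simpa [c2, mul_assoc] using b4 b)
  have c4 := c3 _ fun k => commute_of_psi A (C.conn (hn b).1.ne_zero (hn b).2.1.coprime_mul_left_right (exp_pow (hη b) Y))
    (psi_subset (hη b) c1 ζ)
  have c5 := c2 ζ
  simp only [c, l1, ← e] at c5
  rw [c5, show ∀ a, (K * z)⁻¹ * (z' * a * z'⁻¹) * (K * z) = (K * z)⁻¹ * z' * a * ((K * z)⁻¹ * z')⁻¹ from fun a => by group,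
    c4]
  exact A.hMul.torus_mem_H _

end Lam

theorem finrank_eigen_conj {k V G : Type*} [Field k] [AddCommGroup V] [Module k V] [Group G] (ρ : Representation k G V)
    {a b : G} (h : IsConj a b) (c : k) : finrank k (End.eigenspace (ρ b) c) = finrank k (End.eigenspace (ρ a) c) := by
  obtain ⟨g, rfl⟩ := isConj_iff.1 h
  let e : V ≃ₗ[k] V := LinearEquiv.ofLinearMap (ρ g) (ρ g⁻¹) (by simp [← End.mul_eq_comp, ← map_mul, End.one_eq_id])
    (by simp [← End.mul_eq_comp, ← map_mul, End.one_eq_id])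
  rw [← e.finrank_map_eq (End.eigenspace (ρ a) c), show End.eigenspace (ρ (g * a * g⁻¹)) c = _ from Submodule.ext fun v => ?_]
  simp only [Submodule.mem_map_equiv, End.mem_eigenspace_iff, map_mul, End.mul_apply]
  exact ⟨fun h => by simpa [e] using congrArg (ρ g⁻¹) h, fun h => by simpa [e] using congrArg (ρ g) h⟩

/-- The adjoint module. -/
def adj (D : ChevalleyDatum) (F : Type*) [Field F] : Representation F (D.group F) (D.Idx → F) :=
  (Matrix.toLinAlgEquiv' : Matrix D.Idx D.Idx F ≃ₐ[F] _).toMonoidHom.comp ((Units.coeHom _).comp (D.group F).subtype)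

theorem finrank_adj {D : ChevalleyDatum} (E : Real D) {F : Type*} [Field F] (hM : (E.Sg F).HMul) (c : Fin D.rank → Fˣ) :
    finrank F (End.eigenspace (adj D F (hM.torus c)) 1) = D.rank + cz E.R E.R.root c := by
  classical
  have h : ((hM.torus c : GL D.Idx F) : Matrix D.Idx D.Idx F) =
      diagonal (Sum.elim (fun _ => 1) fun s => (E.R.chi Fˣ s c : F)) := by
    induction c using Pi.mulSingle_induction with
    | one => simp
    | mul a b ha hb =>
      rw [map_mul, Subgroup.coe_mul, Units.val_mul, ha, hb, diagonal_mul_diagonal]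
      congr; ext (i | i) <;> simp
    | mulSingle i t =>
      rw [hM.torus_mulSingle]
      refine ((E.h_val _ _).trans (E.hMat_eq _ t.ne_zero)).trans ?_
      simp [RS.chi_mulSingle]
  rw [finrank_eigenspace_of_basis (Pi.basisFun F D.Idx) (μ := Sum.elim (fun _ => 1) fun s => (E.R.chi Fˣ s c : F))
    fun i => by simp [adj, h, Matrix.toLinAlgEquiv'_apply, ← Pi.single_smul'], card_filter, Fintype.sum_sum_type, cz,
    card_filter]
  simp [chr_root]

/-- Translations of two blocks of nine points. -/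
def eP : Multiplicative (Fin 2 × Fin 2 → ZMod 3) →* Equiv.Perm ((Fin 2 × ZMod 3) × ZMod 3) where
  toFun e := ⟨fun x => ((x.1.1, x.1.2 + e.toAdd (x.1.1, 0)), x.2 + e.toAdd (x.1.1, 1)),
    fun x => ((x.1.1, x.1.2 - e.toAdd (x.1.1, 0)), x.2 - e.toAdd (x.1.1, 1)), fun x => by simp, fun x => by simp⟩
  map_one' := Equiv.ext fun x => by simp
  map_mul' a b := Equiv.ext fun x => by simp [add_assoc, add_comm (b.toAdd _)]

/-- Translations of two blocks of nine points. -/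
def eA : Multiplicative (Fin 2 × Fin 2 → ZMod 3) →* alternatingGroup ((Fin 2 × ZMod 3) × ZMod 3) :=
  eP.codRestrict _ fun a => mem_alt_of_pow (l := 3) (by decide) (by rw [← map_pow, pow_eq_one_pi, map_one])

/-- An automorphism of order 16. -/
def alE : Multiplicative (Fin 2 × Fin 2 → ZMod 3) →* Multiplicative (Fin 2 × Fin 2 → ZMod 3) where
  toFun e := .ofAdd fun i => if i.1 = 1 then e.toAdd (0, i.2) else if i.2 = 0 then e.toAdd (1, 1) else
    e.toAdd (1, 0) + e.toAdd (1, 1)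
  map_one' := by decide
  map_mul' a b := congrArg Multiplicative.ofAdd (funext fun i => by
    simp only [toAdd_mul, toAdd_ofAdd, Pi.add_apply]; split_ifs <;> ring)

/-- An element of order 16. -/
def hA : alternatingGroup ((Fin 2 × ZMod 3) × ZMod 3) :=
  ⟨⟨fun x => if x.1.1 = 0 then ((1, x.1.2), x.2) else ((0, x.2), x.1.2 + x.2),
    fun x => if x.1.1 = 1 then ((0, x.1.2), x.2) else ((1, x.2 - x.1.2), x.1.2), by decide, by decide⟩,
    Equiv.Perm.mem_alternatingGroup.2 (by decide +kernel)⟩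

/-- The 3-cycles. -/
def tA (b : Fin 2) (u : ZMod 3) : Multiplicative (Fin 2 × ZMod 3 → ZMod 3) := .ofAdd (Pi.single (b, u) 1)

theorem perm_E8 : (∀ e, eA (alE e) = hA * eA e * hA⁻¹) ∧ (∀ b b' u, eA (.ofAdd (Pi.single (b, 0) 1)) *
      trA _ (by decide) (tA b' u) * (eA (.ofAdd (Pi.single (b, 0) 1)))⁻¹ =
        trA _ (by decide) (tA b' (u + if b' = b then 1 else 0))) ∧
    (∀ b, eA (.ofAdd (Pi.single (b, 1) 1)) = trA _ (by decide) (tA b 0 * tA b 1 * tA b 2)) ∧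
    (∀ b u, wtz (tA b u).toAdd = wtz (rep3 1).toAdd) ∧ (∀ e, eA e = 1 → e = 1) ∧
    ¬ Function.IsPeriodicPt alE (2 ^ 3) (.ofAdd 1) ∧ Function.IsPeriodicPt alE (2 ^ (3 + 1)) (.ofAdd 1) := by
  refine ⟨?_, ?_, ?_, ?_, ?_, ?_, ?_⟩ <;> decide +kernel

theorem isPGroup_E8 : IsPGroup 3 ((trA (Fin 2 × ZMod 3) (l := 3) (by decide)).range ⊔ eA.range :) :=
  (isPGroup_pi.of_surjective _ (MonoidHom.rangeRestrict_surjective _)).to_sup_of_normal_left'
    (isPGroup_pi.of_surjective _ (MonoidHom.rangeRestrict_surjective _)) (le_normalizer_iff.2 (by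
      rintro _ ⟨e, rfl⟩ _ ⟨a, rfl⟩
      exact ⟨.ofAdd fun i => a.toAdd (i.1, i.2 - e.toAdd (i.1, 0)), Subtype.ext (Equiv.ext fun x => by
        simp [eA, eP, trA, trP, Equiv.Perm.inv_def, Equiv.prodCongrRight]; ring)⟩))

section Main
variable {Φ : Type} [Finite Φ] {Ω : Type*} [Field Ω] {G : Type*} [Group G] [IsAlgClosed Ω] [Uncountable Ω]
  {R : RS (Fin 8) Φ} {S : StSys R Ω G} {A : S.AlgSys} {φ : Ω ≃+* Ω} {q : ℕ} (C : Ctx A φ q 1)
  (hL : Cl R fun (j : Fin 240) (i : Fin 8) => auxE8.rt j i) {t : Φ} (ht : ∀ i : Fin 8, R.root t i = th8 i)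
  {H : Type*} [Group H] [Finite H] {χ : H →* G} (hχ : Function.Injective χ) (hf : ∀ g, A.act φ (χ g) = χ g)
include C hL ht hχ hf

theorem aux_E8' (hc : Nat.Coprime 17 (q * 1)) {π : H →* alternatingGroup (Fin 19)} (hπ : Function.Surjective π) :
    False := by
  obtain ⟨x, g, h1, h2⟩ := ex_nineteen
  obtain ⟨c, h, h3, h4⟩ := AltSec.lift_one hπ (by norm_num) h1 h2
  obtain ⟨ζ, hζ⟩ := exists_orderOf_units (C.cast_ne hc.coprime_mul_right_right)
  obtain ⟨-, -, -, -, -, -, h5⟩ := C.rat hL (by decide) ht rat17 (by norm_num) hc hζ (s := χ c)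
    ⟨1, one_pos, by rw [pow_one]; exact hf _⟩ (by rw [← map_pow, ← h3, pow_orderOf_eq_one, map_one])
    (fun e => by rw [hχ (e.trans (map_one χ).symm), orderOf_one] at h3; omega)
    (map_pow χ _ _ ▸ χ.map_isConj (isConj_iff.2 ⟨h, h4⟩))
  exact absurd h5 (by decide)

theorem aux_E8 (hC : R.cartanM = CL.Cox.cE8) (hW : Nat.card R.W = 696729600) (hb : ∀ r (i : Fin 8), |R.root r i| ≤ th8 i)
    {V : Type*} [AddCommGroup V] [Module Ω V] [FiniteDimensional Ω V] (ρ : Representation Ω G V) (hV : finrank Ω V = 248)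
    (hρ : ∀ c, finrank Ω (End.eigenspace (ρ (A.hMul.torus c)) 1) =
      8 + cz R (fun (j : Fin 240) (i : Fin 8) => auxE8.rt j i) c)
    (hc : Nat.Coprime 3 (q * 1)) {n : Fin 2 → ℕ} (hn : ∀ b, (n b).Prime ∧ (n b).Coprime (q * 1) ∧ 7 ≤ n b)
    (hn' : n 0 ≠ n 1) {π : H →* alternatingGroup ((Fin 2 × ZMod 3) × ZMod 3)} (hM : Min π) : False := by
  classical
  have hK := C.not_dvd (v := 5) hc (by decide) (by rw [hW]; decide) hM (by decide) (by decide) χ hχ hf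
  obtain ⟨s, hs⟩ := exists_section hK hM.surj isPGroup_E8 (Subgroup.subtype _)
  let sD := s.comp ((inclusion le_sup_left).comp (MonoidHom.rangeRestrict _))
  let sE := s.comp ((inclusion le_sup_right).comp (MonoidHom.rangeRestrict _))
  have hE : ∀ d, π (sE d) = eA d := fun _ => hs _
  obtain ⟨h1, h2⟩ := exists_tr (by decide) hM.surj hK (s := sD) fun _ => hs _
  have h3 : ∀ a, χ a ∈ Alg A φ := fun a => ⟨1, one_pos, by rw [pow_one]; exact hf _⟩
  have h4 : ∀ a, χ (sD a) ^ 3 = 1 := fun a => by rw [← map_pow, ← map_pow, pow_eq_one_pi, map_one, map_one]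
  obtain ⟨ζ, hζ⟩ := exists_orderOf_units (C.cast_ne hc.coprime_mul_right_right)
  have h5 := fun j (hj : j < 6) => C.rat hL (by decide) ht rat3 Nat.prime_three hc hζ (h3 (sD (rep3 (j + 1)))) (h4 _)
    (fun h => inc_four.2.2 j hj (h1 _ (hχ (h.trans (map_one χ).symm)))) (by rw [pow_one])
  let f : ℕ → ℕ := fun j => finrank Ω (End.eigenspace (ρ (χ (sD (rep3 j)))) 1)
  have h6 : ∀ j < 6, ∃ k ∈ [72, 78, 84, 126], f (j + 1) = 8 + k := fun j hj => by
    obtain ⟨x, -, y, e, a, -, h7⟩ := h5 j hj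
    exact ⟨_, of_decide_eq_true (Bool.and_eq_true_iff.1 h7).1,
      (finrank_eigen_conj ρ (isConj_iff.2 ⟨x, e.symm⟩) 1).trans (hρ _)⟩
  obtain ⟨ψ, hψ⟩ := exists_weights (ρ.comp (χ.comp sD)) mul_comm (C.cast_ne hc.coprime_mul_right_right) pow_eq_one_pi
  have h7 : ∀ m ∈ [4, 5, 6], 3 * ∑ j ∈ range 7, Nat.choose m j * 2 ^ j * f j =
      3 ^ m * (248 + 2 * #{i | (ψ i).comp (inc m) = 1}) := fun m hm => by
    obtain ⟨a1, a2, a3⟩ := cnt_inc m hm
    have := sum_count Nat.prime_three pow_eq_one_pi fun i => (ψ i).comp (inc m)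
    rw [sum_wt (fun a => wtz (inc m a).toAdd) 7 (fun a => (a1 a).1) (F := f)
      (f := fun g => #{i | (ψ i).comp (inc m) g = 1}) fun a => (hψ _ 1).symm.trans (finrank_eigen_conj ρ (χ.map_isConj (h2 _ _ (a1 a).2)) 1), a3, (Fintype.card_fin _).trans hV] at this
    rw [← this]
    exact congrArg _ (sum_congr rfl fun j hj => by rw [a2 j (mem_range.1 hj)])
  have h8 : #{i | (ψ i).comp (inc 5) = 1} ≤ #{i | (ψ i).comp (inc 4) = 1} := card_le_card fun i => by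
    simp only [mem_filter, mem_univ, true_and]
    exact fun h => MonoidHom.ext fun a => let ⟨b, e⟩ := inc_four.1 a
      (congrArg (ψ i) e).trans (DFunLike.congr_fun h b)
  have h9 : f 0 = 248 := by
    simp only [f]
    rw [inc_four.2.1, map_one, map_one, map_one, show End.eigenspace (1 : End Ω V) 1 = ⊤ from eq_top_iff.2 fun v _ => End.mem_eigenspace_iff.2 (by simp),
      finrank_top, hV]
  have h10 : f 1 = 8 + 84 := by
    obtain ⟨k1, a1, e1⟩ := h6 0 (by decide)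
    obtain ⟨k2, a2, e2⟩ := h6 1 (by decide)
    obtain ⟨k3, a3, e3⟩ := h6 2 (by decide)
    obtain ⟨k4, a4, e4⟩ := h6 3 (by decide)
    obtain ⟨k5, a5, e5⟩ := h6 4 (by decide)
    obtain ⟨k6, a6, e6⟩ := h6 5 (by decide)
    have b4 := h7 4 (by decide)
    have b5 := h7 5 (by decide)
    have b6 := h7 6 (by decide)
    rw [zero_add] at e1
    simp only [sum_range_succ, sum_range_zero, h9, e1, e2, e3, e4, e5, e6, zero_add, Nat.choose, Nat.reducePow,
      Nat.reduceAdd, Nat.reduceMul] at b4 b5 b6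
    rw [show f 1 = _ from e1, levi_num k1 a1 k2 a2 k3 a3 k4 a4 (by omega) k5 a5 (by omega) (by omega) k6 a6 (by omega)]
  obtain ⟨x, hx, y, e, a, ha, h11⟩ := h5 0 (by decide)
  have h12 : ∀ r, |R.evr y r| < (3 : ℕ) := fun r => by
    refine (abs_evr_le (θ := fun i : Fin 8 => th8 i) (a := fun i : Fin 8 => a i) hb ha r).trans_lt ?_
    rw [add_left_cancel (((finrank_eigen_conj ρ (isConj_iff.2 ⟨x, e.symm⟩) 1).trans (hρ _)).symm.trans h10),
      Bool.and_eq_true, Bool.or_eq_true, ltZ_iff, dot_listTo] at h11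
    rw [Fin.sum_univ_eq_sum_range fun i => (th8 i : ℤ) * a i]
    exact h11.2.resolve_left (by decide)
  obtain ⟨z, h13⟩ := C.toral_E hc hζ h12 hn hn' (t := fun b u => χ (sD (tA b u))) (fun b u => by
      obtain ⟨k, hk⟩ := isConj_iff.1 (h2 _ _ (perm_E8.2.2.2.1 b u))
      exact ⟨χ k * x, mul_mem (h3 k) hx, by rw [← hk, map_mul, map_mul, map_inv, e]; group⟩)
    (fun _ _ _ _ => ((Commute.all _ _).map sD).map χ) (x := fun b => χ (sE (.ofAdd (Pi.single (b, 0) 1))))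
    (fun b => ⟨h3 _, by rw [← map_pow, ← map_pow, pow_eq_one_pi, map_one, map_one]⟩) (((Commute.all _ _).map sE).map χ)
    fun b b' u => by
      simp only [sD, sE, MonoidHom.comp_apply]
      rw [← map_inv, ← map_inv, ← map_mul, ← map_mul, ← map_mul, ← map_mul]
      exact congrArg χ (congrArg s (Subtype.ext (perm_E8.2.1 b b' u)))
  obtain ⟨c, h14⟩ := C.exists_hom' (Nat.coprime_one_right 3) (χ.comp sE) (x := z) fun i => by
    obtain ⟨b, i⟩ := i
    refine (Fin.forall_fin_two (p := fun i => z⁻¹ * χ (sE (.ofAdd (Pi.single (b, i) 1))) * z ∈ S.H)).2 ⟨(h13 b).1, ?_⟩ i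
    rw [show sE (.ofAdd (Pi.single (b, 1) 1)) = sD (tA b 0 * tA b 1 * tA b 2) from
      congrArg s (Subtype.ext (perm_E8.2.2.1 b)), map_mul, map_mul, map_mul, map_mul]
    exact (h13 b).2
  obtain ⟨g, hg⟩ := hM.surj hA
  obtain ⟨k, -, hk⟩ := exists_conj_hom hK isPGroup_pi sE (sE.comp alE) (g := g) fun d => by
    rw [hg, MonoidHom.comp_apply, hE, hE, perm_E8.1]
  obtain ⟨w, hw, h15⟩ := C.exists_W (c := c) (d := fun d => c (alE d)) (Nat.coprime_one_right 3) (fun d => (h14 d).1)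
    (fun d => (h14 _).1) (g := z⁻¹ * χ k * z) fun d => by
      have a1 := congrArg χ (hk d)
      rw [map_mul, map_mul, map_inv] at a1
      rw [← mul_right_inj z, ← mul_left_inj z⁻¹, ← (h14 _).2]
      refine Eq.trans ?_ (a1.trans (congrArg (χ k * · * (χ k)⁻¹) (h14 d).2)).symm
      group
  refine not_sixteen hC hL ht hb hw ?_
  rw [← show _ = 16 from Function.minimalPeriod_eq_prime_pow perm_E8.2.2.2.2.2.1 perm_E8.2.2.2.2.2.2]
  refine Function.IsPeriodicPt.minimalPeriod_dvd ?_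
  have a1 := tAct_pow (R.W_le_aut hw) h15 (orderOf w) (.ofAdd 1)
  rw [pow_orderOf_eq_one, RS.tAct_one] at a1
  have a2 := hχ ((h14 _).2.trans (a1 ▸ (h14 _).2.symm))
  exact (injective_iff_map_eq_one eA).2 perm_E8.2.2.2.2.1 ((hE _).symm.trans ((congrArg π a2).trans (hE _)))

end Main

variable {F : Type*} [Field F] [Fintype F] (p : ℕ) [Fact p.Prime] [CharP F p]

theorem not_alt_E8' (hp : p = 3) (L : Subgroup (chevE8.group F)) (π : L →* alternatingGroup (Fin 19))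
    (hπ : Function.Surjective π) : False :=
  let ⟨_, _, ψ, C, hψ, hf⟩ := exists_ctx realE8 (datCartan_E8 ▸ inv_E8) F p
  aux_E8' (R := realE8.R) C (root_E8 ▸ cl_root _) root_th8 (χ := ψ.comp L.subtype) (hψ.comp L.subtype_injective)
    (fun _ => hf _) ((CL.AltSec.coprime_card p (by norm_num) (by omega)).mul_right (by decide)) hπ

theorem not_alt_E8 (hp : p ≠ 3) (L : Subgroup (chevE8.group F)) (π : L →* alternatingGroup ((Fin 2 × ZMod 3) × ZMod 3))
    (hπ : Function.Surjective π) : False := by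
  obtain ⟨A, _, ψ, C, hψ, hf⟩ := exists_ctx realE8 (datCartan_E8 ▸ inv_E8) F p
  obtain ⟨M, hM⟩ := exists_isMin hπ
  obtain ⟨n, h1, h2⟩ : ∃ n : Fin 2 → ℕ, (∀ b, (n b).Prime ∧ p ≠ n b ∧ 7 ≤ n b) ∧ n 0 ≠ n 1 := by
    by_cases h : p = 7
    · exact ⟨![11, 13], by rw [h]; decide +kernel⟩
    by_cases h' : p = 11
    · exact ⟨![7, 13], by rw [h']; decide +kernel⟩
    exact ⟨![7, 11], Fin.forall_fin_two.2 ⟨⟨Nat.prime_seven, h, le_rfl⟩, Nat.prime_eleven, h', by decide⟩, by decide⟩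
  exact aux_E8 (R := realE8.R) C (root_E8 ▸ cl_root _) root_th8 (χ := ψ.comp (L.subtype.comp M.subtype))
    (hψ.comp (L.subtype_injective.comp M.subtype_injective)) (fun _ => hf _) (realE8.cartanM_eq.trans datCartan_E8) card_W8
    abs_root_E8 (adj chevE8 _) (by rw [finrank_fintype_fun_eq_card, Fintype.card_sum, Fintype.card_fin, Fintype.card_fin]; rfl)
    (fun c => root_E8 ▸ finrank_adj realE8 A.hMul c)
    ((CL.AltSec.coprime_card p Nat.prime_three hp).mul_right (by decide))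
    (fun b => ⟨(h1 b).1, (CL.AltSec.coprime_card p (h1 b).1 (h1 b).2.1).mul_right (by simp), (h1 b).2.2⟩) h2 hM

end CL.AltEx
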