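import Cfsg.Agent.Chev.AltSec1

/-!
# Explicit elements of small alternating groups, and a 2-local obstruction to sections of degree 8
-/

set_option autoImplicit false

namespace CL.AltSec

open Subgroup

/-- An even permutation from its table and the table of its inverse. -/
def pm {n : ℕ} (f g : Fin n → Fin n) (h1 : ∀ i, g (f i) = i := by decide) (h2 : ∀ i, f (g i) = i := by decide)
    (h3 : Equiv.Perm.sign (⟨f, g, h1, h2⟩ : Equiv.Perm (Fin n)) = 1 := by decide +kernel) : alternatingGroup (Fin n) :=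
  ⟨⟨f, g, h1, h2⟩, h3⟩

theorem ex_seven_five : ∃ x g : alternatingGroup (Fin 7), orderOf x = 5 ∧ g * x * g⁻¹ = x ^ 2 :=
  have := Fact.mk Nat.prime_five
  ⟨pm ![1, 2, 3, 4, 0, 5, 6] ![4, 0, 1, 2, 3, 5, 6], pm ![0, 2, 4, 1, 3, 6, 5] ![0, 3, 1, 4, 2, 6, 5],
    orderOf_eq_prime (by decide +kernel) (by decide +kernel), by decide +kernel⟩

theorem ex_seven_seven : ∃ x g : alternatingGroup (Fin 7), orderOf x = 7 ∧ g * x * g⁻¹ = x ^ 2 :=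
  have := Fact.mk Nat.prime_seven
  ⟨pm ![1, 2, 3, 4, 5, 6, 0] ![6, 0, 1, 2, 3, 4, 5], pm ![0, 2, 4, 6, 1, 3, 5] ![0, 4, 1, 5, 2, 6, 3],
    orderOf_eq_prime (by decide +kernel) (by decide +kernel), by decide +kernel⟩

theorem ex_eleven : ∃ x g : alternatingGroup (Fin 11), orderOf x = 11 ∧ g * x * g⁻¹ = x ^ 3 :=
  have := Fact.mk Nat.prime_eleven
  ⟨pm ![1, 2, 3, 4, 5, 6, 7, 8, 9, 10, 0] ![10, 0, 1, 2, 3, 4, 5, 6, 7, 8, 9],
    pm ![0, 3, 6, 9, 1, 4, 7, 10, 2, 5, 8] ![0, 4, 8, 1, 5, 9, 2, 6, 10, 3, 7],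
    orderOf_eq_prime (by decide +kernel) (by decide +kernel), by decide +kernel⟩

theorem ex_twelve : ∃ x y g : alternatingGroup (Fin 12), orderOf x = 5 ∧ orderOf y = 7 ∧ Commute x y ∧
    g * x * g⁻¹ = x ^ 17 ∧ g * y * g⁻¹ = y ^ 17 :=
  have := Fact.mk Nat.prime_five
  have := Fact.mk Nat.prime_seven
  ⟨pm ![1, 2, 3, 4, 0, 5, 6, 7, 8, 9, 10, 11] ![4, 0, 1, 2, 3, 5, 6, 7, 8, 9, 10, 11],
    pm ![0, 1, 2, 3, 4, 6, 7, 8, 9, 10, 11, 5] ![0, 1, 2, 3, 4, 11, 5, 6, 7, 8, 9, 10],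
    pm ![0, 2, 4, 1, 3, 5, 8, 11, 7, 10, 6, 9] ![0, 3, 1, 4, 2, 5, 10, 8, 6, 11, 9, 7],
    orderOf_eq_prime (by decide +kernel) (by decide +kernel), orderOf_eq_prime (by decide +kernel) (by decide +kernel),
    (by decide +kernel : _ * _ = _ * _), by decide +kernel, by decide +kernel⟩

/-- The tables of a subgroup of order 32. -/
def tab32 : List (List (Fin 8)) :=
  [[0, 1, 2, 3, 4, 5, 6, 7], [0, 1, 2, 3, 5, 4, 7, 6], [0, 1, 3, 2, 4, 5, 7, 6], [0, 1, 3, 2, 5, 4, 6, 7], [1, 0, 2, 3, 4, 5, 7, 6], [1, 0, 2, 3, 5, 4, 6, 7], [1, 0, 3, 2, 4, 5, 6, 7], [1, 0, 3, 2, 5, 4, 7, 6], [2, 3, 0, 1, 6, 7, 4, 5], [2, 3, 0, 1, 7, 6, 5, 4], [2, 3, 1, 0, 6, 7, 5, 4], [2, 3, 1, 0, 7, 6, 4, 5], [3, 2, 0, 1, 6, 7, 5, 4], [3, 2, 0, 1, 7, 6, 4, 5], [3, 2, 1, 0, 6, 7, 4, 5], [3, 2, 1, 0, 7, 6, 5, 4], [4, 5, 6, 7, 2, 3, 0, 1], [4, 5, 6, 7, 3, 2, 1, 0], [4, 5, 7, 6, 2, 3, 1, 0], [4, 5, 7,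 6, 3, 2, 0, 1], [5, 4, 6, 7, 2, 3, 1, 0], [5, 4, 6, 7, 3, 2, 0, 1], [5, 4, 7, 6, 2, 3, 0, 1], [5, 4, 7, 6, 3, 2, 1, 0], [6, 7, 4, 5, 0, 1, 2, 3], [6, 7, 4, 5, 1, 0, 3, 2], [6, 7, 5, 4, 0, 1, 3, 2], [6, 7, 5, 4, 1, 0, 2, 3], [7, 6, 4, 5, 0, 1, 3, 2], [7, 6, 4, 5, 1, 0, 2, 3], [7, 6, 5, 4, 0, 1, 2, 3], [7, 6, 5, 4, 1, 0, 3, 2]]

theorem tab32_mul : ∀ g ∈ ([[7, 6, 5, 4, 0, 1, 2, 3], [6, 7, 5, 4, 1, 0, 2, 3], [4, 5, 6, 7, 3, 2, 1, 0],
    [5, 4, 6, 7, 3, 2, 0, 1]] : List (List (Fin 8))), ∀ f ∈ tab32, f.map (fun i : Fin 8 => g.getD i 0) ∈ tab32 := by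
  decide +kernel

theorem tab32_pow : ∀ f ∈ tab32, ∀ i : Fin 8, f.getD (f.getD (f.getD (f.getD i 0 :) 0 :) 0 :) 0 = i := by decide +kernel

/-- The table of a map. -/
def tb (f : Fin 8 → Fin 8) : List (Fin 8) := [f 0, f 1, f 2, f 3, f 4, f 5, f 6, f 7]

theorem tb_getD (f : Fin 8 → Fin 8) (i : Fin 8) : (tb f).getD i 0 = f i := by fin_cases i <;> rfl

theorem tb_comp (f g : Fin 8 → Fin 8) : (tb f).map (fun i : Fin 8 => (tb g).getD i 0) = tb fun i => g (f i) := by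
  simp only [tb_getD]; rfl

theorem isPGroup_of_tab {y z : alternatingGroup (Fin 8)} (h1 : tb y.1 = [7, 6, 5, 4, 0, 1, 2, 3])
    (h2 : tb z.1 = [6, 7, 5, 4, 1, 0, 2, 3]) (h3 : tb y⁻¹.1 = [4, 5, 6, 7, 3, 2, 1, 0])
    (h4 : tb z⁻¹.1 = [5, 4, 6, 7, 3, 2, 0, 1]) : IsPGroup 2 (closure {y, z} : Subgroup (alternatingGroup (Fin 8))) := by
  have h : ∀ g ∈ closure ({y, z} : Set (alternatingGroup (Fin 8))), tb g.1 ∈ tab32 := fun g hg => by
    induction hg using closure_induction_left with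
    | one => exact List.mem_cons.2 (.inl rfl)
    | mul_left x hx y _ ih =>
      refine (tb_comp y.1 x.1 ▸ tab32_mul (tb x.1) ?_ _ ih :)
      rcases hx with rfl | rfl <;> simp [h1, h2]
    | inv_mul_cancel x hx y _ ih =>
      refine (tb_comp y.1 x⁻¹.1 ▸ tab32_mul (tb x⁻¹.1) ?_ _ ih :)
      rcases hx with rfl | rfl
      · rw [h3]; simp
      · rw [h4]; simp
  exact fun ⟨g, hg⟩ => ⟨2, Subtype.ext (Subtype.ext (Equiv.ext fun i => by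
    have := tab32_pow _ (h g hg) i
    simp only [tb_getD] at this
    exact this))⟩

theorem ex_eight : ∃ y z : alternatingGroup (Fin 8), IsPGroup 2 (closure {y, z} : Subgroup (alternatingGroup (Fin 8))) ∧
    (y ^ 2) ^ 2 = 1 ∧ (z ^ 2) ^ 2 = 1 ∧ [1, y ^ 2, z ^ 2, (z * y * z⁻¹) ^ 2, y ^ 2 * z ^ 2].Nodup :=
  ⟨pm ![7, 6, 5, 4, 0, 1, 2, 3] ![4, 5, 6, 7, 3, 2, 1, 0], pm ![6, 7, 5, 4, 1, 0, 2, 3] ![5, 4, 6, 7, 3, 2, 0, 1],
    isPGroup_of_tab rfl rfl rfl rfl, by decide +kernel, by decide +kernel, by decide +kernel⟩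

theorem card_range_le {B A : Type*} [CommGroup B] [Finite B] [Group A] (θ : B →* A) (h : ∀ b, θ b ^ 2 = 1) :
    Nat.card θ.range ≤ Nat.card {b : B // b ^ 2 = 1} := by
  have h1 : (powMonoidHom 2 : B →* B).range ≤ θ.ker := by
    rintro _ ⟨b, rfl⟩
    rw [MonoidHom.mem_ker, powMonoidHom_apply, map_pow, h]
  rw [← index_ker]
  refine (Nat.le_of_dvd (Nat.pos_of_ne_zero index_ne_zero_of_finite) (index_dvd_of_le h1)).trans (le_of_eq ?_)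
  rw [index_range]
  rfl

/-- No alternating section of degree 8 when the squares of a Sylow 2-subgroup lie in an abelian group of rank 2. -/
theorem not_alt_eight {G : Type*} [Group G] [Finite G] {N : Subgroup G} (hN : ¬ 2 ∣ N.index) {B : Type*} [CommGroup B]
    [Finite B] (hB : Nat.card {b : B // b ^ 2 = 1} ≤ 4) (T : B →* G)
    (hsq : ∀ n ∈ N, ∀ k, n ^ 2 ^ k = 1 → n ^ 2 ∈ T.range) (L : Subgroup G) (π : L →* alternatingGroup (Fin 8))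
    (hπ : Function.Surjective π) : False := by
  have := Fact.mk Nat.prime_two
  obtain ⟨y, z, h1, h2, h3, h4⟩ := ex_eight
  obtain ⟨Q, hQ⟩ := h1.exists_le_sylow
  obtain ⟨P, rfl⟩ := Sylow.mapSurjective_surjective hπ 2 Q
  obtain ⟨a, ha, rfl⟩ : y ∈ (P : Subgroup L).map π := hQ (subset_closure (by simp))
  obtain ⟨b, hb, rfl⟩ : z ∈ (P : Subgroup L).map π := hQ (subset_closure (by simp))
  have hP := P.isPGroup'.map L.subtype
  obtain ⟨x, hx⟩ := hP.nonempty_fixed_point_of_prime_not_dvd_card (G ⧸ N) hN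
  obtain ⟨g, rfl⟩ := QuotientGroup.mk_surjective x
  let T' : B →* G := (MulAut.conj g).toMonoidHom.comp T
  have h5 : ∀ c ∈ (P : Subgroup L), ∃ d, T' d = (c ^ 2 : L) := fun c hc => by
    have e : ((c * g : G) : G ⧸ N) = g := hx ⟨c, c, hc, rfl⟩
    obtain ⟨k, hk⟩ := P.isPGroup' ⟨c, hc⟩
    have hk' : (c : G) ^ 2 ^ k = 1 := congrArg (fun u : P => ((u : L) : G)) hk
    obtain ⟨d, hd⟩ := hsq (g⁻¹ * c * g⁻¹⁻¹) (by simpa [mul_assoc] using QuotientGroup.eq.1 e.symm) k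
      (by rw [conj_pow, hk']; simp)
    rw [conj_pow] at hd
    exact ⟨d, by simp [T', hd, mul_assoc]⟩
  let B₁ := L.comap T'
  let θ₁ : B₁ →* alternatingGroup (Fin 8) := π.comp ((T'.comp B₁.subtype).codRestrict L fun u => u.2)
  let B₂ := (θ₁.comp (powMonoidHom 2)).ker
  have h6 : ∀ c ∈ (P : Subgroup L), (π c ^ 2) ^ 2 = 1 → π c ^ 2 ∈ (θ₁.comp B₂.subtype).range := fun c hc e => by
    obtain ⟨d, hd⟩ := h5 c hc
    have h7 : d ∈ B₁ := by rw [mem_comap, hd]; exact (c ^ 2).2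
    have h8 : θ₁ ⟨d, h7⟩ = π c ^ 2 := (congrArg π (Subtype.ext hd)).trans (map_pow π c 2)
    exact ⟨⟨⟨d, h7⟩, by rw [MonoidHom.mem_ker, MonoidHom.comp_apply, powMonoidHom_apply, map_pow, h8, e]⟩, h8⟩
  have h7 := card_range_le (θ₁.comp B₂.subtype) fun u => (map_pow θ₁ _ 2).symm.trans u.2
  have h8 : Nat.card {b : B₂ // b ^ 2 = 1} ≤ Nat.card {b : B // b ^ 2 = 1} :=
    Nat.card_le_card_of_injective (fun u => ⟨u.1.1.1, congrArg (fun v : B₂ => v.1.1) u.2⟩)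
      fun u v e => Subtype.ext (Subtype.ext (Subtype.ext (Subtype.mk.inj e)))
  classical
  have h9 : ([1, π a ^ 2, π b ^ 2, (π b * π a * (π b)⁻¹) ^ 2, π a ^ 2 * π b ^ 2].toFinset : Set _) ⊆
      ((θ₁.comp B₂.subtype).range : Set (alternatingGroup (Fin 8))) := by
    intro u hu
    simp only [List.coe_toFinset, List.mem_cons, List.not_mem_nil, or_false, Set.mem_ofPred_eq] at hu
    rcases hu with rfl | rfl | rfl | rfl | rfl
    · exact one_mem _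
    · exact h6 a ha h2
    · exact h6 b hb h3
    · have := h6 (b * a * b⁻¹) (mul_mem (mul_mem hb ha) (inv_mem hb))
      rw [map_mul, map_mul, map_inv] at this
      exact this (by rw [conj_pow, conj_pow, h2]; simp)
    · exact mul_mem (h6 a ha h2) (h6 b hb h3)
  have h10 := Set.ncard_le_ncard h9
  rw [Set.ncard_coe_finset, List.toFinset_card_of_nodup h4] at h10
  have h11 := h10.trans (h7.trans (h8.trans hB))
  simp at h11

end CL.AltSec
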