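import Cfsg.Agent.Chev.AltSec4
import Cfsg.Agent.Chev.TwRealF4

/-!
# Alternating sections of the groups `³D₄(q)` and `²F₄(q)`
-/

set_option autoImplicit false

namespace CL.AltSec

open Cfsg Cfsg.Lie CL.Chev CL.Cox StSys Alg Cert Subgroup Matrix

/-- A code for the multiset of squares. -/
def sqc {s : ℕ} (l : List (ZMod s)) : ℕ := (l.map fun x => 13 ^ (x * x).val).sum

def jF (a b c d : ZMod 7) : ℕ :=
  sqc [b - c, b - c + d, b - d, a - 2 * b + c, a - b, a - b + d, a - b + c - d, a - c + d, a - d, a, a + b - c, 2 * a - b]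

theorem jF_inv : ∀ a b c d : ZMod 7, jF (b - a) b c d = jF a b c d ∧ jF a (a - b + c) c d = jF a b c d ∧
    jF a b (2 * b - c + d) d = jF a b c d ∧ jF a b c (c - d) = jF a b c d := by decide +kernel

theorem jF_zero : ∀ a b c d : ZMod 7, jF (2 * a) (2 * b) (2 * c) (2 * d) = jF a b c d → ∀ t : ZMod 7, t ≠ 0 →
    jF (t * d) (t * c) (t * 2 * b) (t * 2 * a) = jF a b c d → a = 0 ∧ b = 0 ∧ c = 0 ∧ d = 0 := by decide +kernel

def jD (a b c d : ZMod 5) : ℕ × ℕ :=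
  (sqc [c - d, b - c - d, a - b, a], sqc [c, b - c, a - b + d, a - d])

theorem jD_inv : ∀ a b c d : ZMod 5, jD (b - a) b c d = jD a b c d ∧ jD a (a - b + c + d) c d = jD a b c d ∧
    jD a b (b - c) d = jD a b c d ∧ jD a b c (b - d) = jD a b c d := by decide +kernel

theorem jD_zero : ∀ a b c d : ZMod 5, jD (2 * a) (2 * b) (2 * c) (2 * d) = jD a b c d → ∀ t : ZMod 5, t ≠ 0 →
    jD (t * d) (t * b) (t * a) (t * c) = jD a b c d → a = 0 ∧ b = 0 ∧ c = 0 ∧ d = 0 := by decide +kernel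

theorem jF_sr (i : Fin 4) (y : Fin 4 → ZMod 7) :
    jF (sr cF4 i y 0) (sr cF4 i y 1) (sr cF4 i y 2) (sr cF4 i y 3) = jF (y 0) (y 1) (y 2) (y 3) := by
  obtain ⟨h0, h1, h2, h3⟩ := jF_inv (y 0) (y 1) (y 2) (y 3)
  fin_cases i
  · refine (congr (congr (congr (congrArg jF ?_) ?_) ?_) ?_).trans h0 <;> simp [sr, cF4, Fin.sum_univ_four]; ring
  · refine (congr (congr (congr (congrArg jF ?_) ?_) ?_) ?_).trans h1 <;> simp [sr, cF4, Fin.sum_univ_four]; ring
  · refine (congr (congr (congr (congrArg jF ?_) ?_) ?_) ?_).trans h2 <;> simp [sr, cF4, Fin.sum_univ_four]; ring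
  · refine (congr (congr (congr (congrArg jF ?_) ?_) ?_) ?_).trans h3 <;> simp [sr, cF4, Fin.sum_univ_four]; ring

theorem jF_zero' (j : ℕ) (y : Fin 4 → ZMod 7)
    (h1 : jF ((2 : ℕ) * y 0) ((2 : ℕ) * y 1) ((2 : ℕ) * y 2) ((2 : ℕ) * y 3) = jF (y 0) (y 1) (y 2) (y 3))
    (h2 : jF ((2 ^ j * 1 : ℕ) * y 3) ((2 ^ j * 1 : ℕ) * y 2) ((2 ^ j * 2 : ℕ) * y 1) ((2 ^ j * 2 : ℕ) * y 0) =
      jF (y 0) (y 1) (y 2) (y 3)) : y = 0 := by
  have h0 : (2 : ZMod 7) ≠ 0 := by decide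
  have := Fact.mk Nat.prime_seven
  obtain ⟨e0, e1, e2, e3⟩ := jF_zero _ _ _ _ h1 (2 ^ j) (pow_ne_zero _ h0) (by simpa using h2)
  exact funext fun i => by fin_cases i <;> assumption

theorem jD_sr (i : Fin 4) (y : Fin 4 → ZMod 5) :
    jD (sr cD4 i y 0) (sr cD4 i y 1) (sr cD4 i y 2) (sr cD4 i y 3) = jD (y 0) (y 1) (y 2) (y 3) := by
  obtain ⟨h0, h1, h2, h3⟩ := jD_inv (y 0) (y 1) (y 2) (y 3)
  fin_cases i
  · refine (congr (congr (congr (congrArg jD ?_) ?_) ?_) ?_).trans h0 <;> simp [sr, cD4, Fin.sum_univ_four]; ring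
  · refine (congr (congr (congr (congrArg jD ?_) ?_) ?_) ?_).trans h1 <;> simp [sr, cD4, Fin.sum_univ_four]; ring
  · refine (congr (congr (congr (congrArg jD ?_) ?_) ?_) ?_).trans h2 <;> simp [sr, cD4, Fin.sum_univ_four]; ring
  · refine (congr (congr (congr (congrArg jD ?_) ?_) ?_) ?_).trans h3 <;> simp [sr, cD4, Fin.sum_univ_four]; ring

theorem act_map {D : ChevalleyDatum} (E : Real D) {K Ω : Type*} [Field K] [Fintype K] [Field Ω] (f : K →+* Ω)
    {σ : Ω ≃+* Ω} (hσ : ∀ t, σ t = t ^ Fintype.card K) {g : D.group Ω} {g₀ : GL D.Idx K}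
    (h : (g : GL D.Idx Ω) = GeneralLinearGroup.map f g₀) : (E.algSys Ω).act σ g = g := by
  refine Subtype.ext ((E.coe_act σ g).trans ?_)
  rw [h]
  ext i j
  change σ (f _) = f _
  rw [hσ, ← map_pow, FiniteField.pow_card]

theorem exists_pow_char {K : Type*} [Field K] [Finite K] (p : ℕ) [Fact p.Prime] [CharP K p] (θ : K ≃+* K) :
    ∃ j, ∀ t, θ t = t ^ p ^ j := by
  let _ := ZMod.algebra K p
  obtain ⟨j, hj⟩ := FiniteField.exists_forall_apply_eq_pow (ZMod p) p K (AlgEquiv.ofRingEquiv (f := θ) fun x =>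
    DFunLike.congr_fun (Subsingleton.elim ((θ : K →+* K).comp (algebraMap (ZMod p) K)) (algebraMap (ZMod p) K)) x)
  exact ⟨j, fun t => (hj t).trans (by rw [Nat.card_zmod])⟩

variable {K : Type*} [Field K] [Fintype K]

theorem not_alt_3D4 (p : ℕ) [Fact p.Prime] [CharP K p] (hp : p ≠ 5) {q : ℕ} (hq : IsPrimePow q)
    (hK : Fintype.card K = q ^ 3) (L : Subgroup (twistedD4 K q)) (π : L →* alternatingGroup (Fin 7))
    (hπ : Function.Surjective π) : False := by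
  obtain ⟨x, g, h1, h2⟩ := ex_seven_five
  obtain ⟨c, h, h3, h4⟩ := lift_one hπ Nat.prime_five h1 h2
  let E := realD4
  let f := algebraMap K (Univ K)
  obtain ⟨A, a1, a2, -, a3, ψ, a4⟩ := exists_frobD4 E f hq hK
  obtain ⟨σ, hσ⟩ := exists_frob_of_card f (FiniteField.isPrimePow_card K) (pow_one _).symm
  have hc := coprime_card (F := K) p Nat.prime_five hp
  obtain ⟨y, b1, b2, b3⟩ := toral (E.algSys (Univ K)) (E.std _) hσ Fintype.one_lt_card
    (cast_eq_zero_of_card f (pow_one _).symm) a3 Nat.prime_five hc (by decide) (E.cartanM_eq.trans datCartan_D4)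
    (I := fun y : Fin 4 → ZMod 5 => jD (y 0) (y 1) (y 2) (y 3)) jD_sr (g := ψ c) (act_map E f hσ (a4 _))
    (by rw [orderOf_coe, MulEquiv.orderOf_eq, orderOf_coe, h3])
  have b4 := b2 (ψ h) 2 (by
    rw [← coe_inv, ← coe_mul, ← coe_mul, ← coe_pow, ← map_inv, ← map_mul, ← map_mul, ← map_pow]
    exact congrArg (fun u : L => (ψ u : chevD4.group (Univ K))) h4)
  have b5 := b3 A.γ (fun _ => q) (fun i t => (A.φ_eq i t).trans (by rw [a1])) (ψ c).2
  rw [a2] at b5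
  obtain ⟨e0, e1, e2, e3⟩ := jD_zero _ _ _ _ b4 q (fun e => by
    rw [hK] at hc
    exact absurd (Nat.Coprime.eq_one_of_dvd hc (dvd_pow ((ZMod.natCast_eq_zero_iff _ _).1 e) (by decide))) (by decide)) b5
  exact b1 (funext fun i => by fin_cases i <;> assumption)

theorem not_alt_3D4' {q : ℕ} (hq : IsPrimePow q) (h4 : q % 4 = 1) (hK : Fintype.card K = q ^ 3)
    (L : Subgroup (twistedD4 K q)) (π : L →* alternatingGroup (Fin 8)) (hπ : Function.Surjective π) : False := by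
  let E := realD4
  have hT := isTwD4 E hq hK
  obtain ⟨φ, h1, h2⟩ := hT.exists_monomial_hom
  obtain ⟨A, θ, a1, -, D⟩ := hT.ex'
  have h3 := hT.card_aux.2
  obtain ⟨k, rfl⟩ : ∃ k, q = 4 * k + 1 := ⟨q / 4, by omega⟩
  let B := A.τ.eqLocus (MonoidHom.id _)
  refine not_alt_eight' (inf_le_inf_right _ (E.S K).H_le_N) inf_le_right φ h1 h2
    (m := (4 * k + 1) ^ 12 * (2 * k + 1) ^ 2 * ((4 * k + 1) * (4 * k) + 1) * ((4 * k + 1) ^ 4 + (4 * k + 1) ^ 8 + 1)) ?_ ?_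
    (B := B) (F := K) (((Pi.evalMonoidHom _ 0).prod (Pi.evalMonoidHom _ 1)).comp B.subtype) (fun a b e => ?_)
    ((E.S K).grp.subtype.comp (a1.hMul.torus.comp B.subtype)) (fun g hg => ?_) (fun b => a1.torus_mem D b.1 b.2) L π hπ
  · have h6 : Odd (4 * k + 1) := ⟨2 * k, by ring⟩
    exact ((h6.pow.mul (Odd.pow ⟨k, rfl⟩)).mul ⟨(4 * k + 1) * (2 * k), by ring⟩).mul (h6.pow.add_odd h6.pow).add_one
  · have key : ∀ n : ℕ, ((4 * k + 1 : ℕ) : ℚ) ^ 12 * n * ((1 + (4 * k + 1 : ℕ)) * (1 + (4 * k + 1 : ℕ) ^ 3) *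
        (1 + (4 * k + 1 : ℕ) ^ 4 + (4 * k + 1 : ℕ) ^ 8)) = (n * (4 * ((4 * k + 1) ^ 12 * (2 * k + 1) ^ 2 *
          ((4 * k + 1) * (4 * k) + 1) * ((4 * k + 1) ^ 4 + (4 * k + 1) ^ 8 + 1))) : ℕ) := fun n => by push_cast; ring
    exact Nat.cast_injective (R := ℚ) (h3.trans (key _))
  · obtain ⟨-, a2, a3⟩ := (a1.τ_eq_iff a.1).1 a.2
    obtain ⟨-, b2, b3⟩ := (a1.τ_eq_iff b.1).1 b.2
    have e0 : a.1 0 = b.1 0 := (Prod.mk.inj e).1
    have e2 : a.1 2 = b.1 2 := Units.ext (by rw [← a2, ← b2, e0])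
    refine Subtype.ext (funext fun i => ?_)
    fin_cases i
    exacts [e0, (Prod.mk.inj e).2, e2, Units.ext (a3.symm.trans ((congrArg _ (congrArg _ e2)).trans b3))]
  · obtain ⟨c, c1, c2⟩ := a1.exists_torus (g := ⟨g, hT.le hg.2⟩) (mem_res_H.2 hg.1) (D.fix _ hg.2)
    exact ⟨⟨c, c1⟩, congrArg Subtype.val c2⟩

theorem not_alt_2F4 {m : ℕ} (hK : Fintype.card K = 2 ^ (2 * m + 1)) (L : Subgroup (twistedF4 K (2 ^ m)))
    (π : L →* alternatingGroup (Fin 7)) (hπ : Function.Surjective π) : False := by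
  obtain ⟨x, g, h1, h2⟩ := ex_seven_seven
  obtain ⟨c, h, h3, h4⟩ := lift_one hπ Nat.prime_seven h1 h2
  let E := realF4
  let f := algebraMap K (Univ K)
  have := Fact.mk Nat.prime_two
  have : CharP K 2 := charP_of_card_eq_prime_pow hK
  have : CharP (Univ K) 2 := charP_of_injective_algebraMap f.injective 2
  have hT := isTwF4 E hK
  obtain ⟨A, θ, c₀, d₀, a1, D, -⟩ := hT.ex'
  obtain ⟨j, hj⟩ := exists_pow_char 2 θ
  obtain ⟨σ, hσ⟩ := exists_frob_of_card f (FiniteField.isPrimePow_card K) (pow_one _).symm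
  obtain ⟨γ, g1, g2⟩ := tabF4.exists_gAutG nCheckF4 E graphCheckF4 (Univ K) (by exact_mod_cast CharP.cast_eq_zero _ 2)
    ⟨frobeniusEquiv _ 2, fun _ => rfl⟩
  have hπ' : γ.π = piF4 :=
    Equiv.ext fun i => Fin.ext ((g1 i).trans ((by decide : ∀ i : Fin 4, dig 0x123 4 i = (piF4 i : ℕ)) i))
  let τ := iterateFrobeniusEquiv (Univ K) 2 j
  let γ' := γ.comp ((E.algSys _).act τ) τ ((E.algSys _).act_x τ)
  have hφ : ∀ (i : Fin 4) t, γ'.φ i t = t ^ (2 ^ j * ![2, 2, 1, 1] i) := fun i t => (g2 i _).trans (by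
    rw [pow_mul, (by decide +kernel : ∀ i : Fin 4, auxF4.glam 2 (auxF4.sim i) = ![2, 2, 1, 1] i) i]; rfl)
  have hφ₀ : ∀ (i : Fin 4) t, A.φ i t = t ^ (2 ^ j * ![2, 2, 1, 1] i) := fun i t => by
    rw [pow_mul, ← hj]
    fin_cases i
    exacts [a1.φ0 t, a1.φ1 t, (a1.φ2 t).trans (pow_one _).symm, (a1.φ3 t).trans (pow_one _).symm]
  have hle : (E.S K).grp ≤ (chevF4.group (Univ K)).comap (GeneralLinearGroup.map f) := by
    rw [E.group_eq]
    exact (E.S K).XS_le_iff.2 fun r _ t => by rw [Subgroup.mem_comap, E.map_x]; exact (E.S _).x_mem_grp _ _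
  let ψ : (E.S K).grp →* chevF4.group (Univ K) :=
    ((GeneralLinearGroup.map f).comp (E.S K).grp.subtype).codRestrict _ fun g => hle g.2
  have hψ : Function.Injective ψ := fun a b e => Subtype.ext (Units.ext (Matrix.map_injective f.injective
    (congrArg (fun g : chevF4.group (Univ K) => ((g : GL chevF4.Idx (Univ K)) : Matrix chevF4.Idx chevF4.Idx (Univ K))) e)))
  have hx : ∀ r t, ψ ((E.S K).res.x r t) = (E.Sg (Univ K)).x r (f t) := fun r t => Subtype.ext (E.map_x f r t)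
  have hπ₀ : ∀ i, A.π i = γ'.π i := fun i => DFunLike.congr_fun (a1.π_eq.trans hπ'.symm) i
  have hφ₁ : ∀ i t, f (A.φ i t) = γ'.φ i (f t) := fun i t =>
    (congrArg f (hφ₀ i t)).trans ((map_pow f _ _).trans (hφ i _).symm)
  have hfix : ∀ g, γ'.σ (ψ g) = ψ (A.σ g) := DFunLike.congr_fun ((E.S K).res.hom_ext_top (E.S K).res_grp
    (a := γ'.σ.toMonoidHom.comp ψ) (b := ψ.comp A.σ.toMonoidHom)
    (fun i t => (congrArg γ'.σ (hx _ t)).trans ((γ'.σ_pos i _).trans (((congrArg ψ (A.σ_pos i t)).trans (hx _ _)).trans 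
      (congr (congrArg (fun k => (E.Sg (Univ K)).x (E.R.simple k)) (hπ₀ i)) (hφ₁ i t))).symm))
    fun i t => (congrArg γ'.σ (hx _ t)).trans ((γ'.σ_neg i _).trans (((congrArg ψ (A.σ_neg i t)).trans (hx _ _)).trans 
      (congr (congrArg (fun k => (E.Sg (Univ K)).x (E.R.neg (E.R.simple k))) (hπ₀ i)) (hφ₁ i t))).symm))
  let χ : L →* chevF4.group (Univ K) := ψ.comp ((inclusion hT.le).comp L.subtype)
  have hχ : Function.Injective χ := hψ.comp ((inclusion_injective hT.le).comp L.subtype_injective)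
  obtain ⟨y, b1, b2, b3⟩ := toral (E.algSys (Univ K)) (E.std _) hσ Fintype.one_lt_card
    (cast_eq_zero_of_card f (pow_one _).symm) (fun z hz => det_F4 E ▸ E.pow_det_of_torus hz) Nat.prime_seven
    (coprime_card 2 Nat.prime_seven (by decide)) (by decide) (E.cartanM_eq.trans datCartan_F4)
    (I := fun y : Fin 4 → ZMod 7 => jF (y 0) (y 1) (y 2) (y 3)) jF_sr (g := χ c) (act_map E f hσ rfl)
    (by rw [orderOf_injective _ hχ, h3])
  have b4 := b2 (χ h) 2 (by rw [← map_inv, ← map_mul, ← map_mul, ← map_pow, h4])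
  have b5 := b3 γ' _ hφ ((hfix _).trans (congrArg ψ (D.fix _ c.1.2)))
  rw [show γ'.π = piF4 from hπ'] at b5
  exact b1 (jF_zero' j y b4 b5)

end CL.AltSec
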