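import Cfsg.Agent.Chev.RealAut
import Cfsg.Prelude.Def_E6

/-!
# The cubic form in 27 variables: tables, polarisations, derivations
-/

set_option autoImplicit false

namespace CL.Chev.Cub

open Cfsg Cfsg.Lie Cert Matrix

def crT : ℕ := 0x12982b640007000c0045cb000000000004814a82e50008000c000001172c00000009d016b8040004000000000000045cb04a6000018c810001c003020d5000000012050000601a014002000300000835400027400000ce8001000100000000000020d502b6063200000040007000cf6240000000a82f806800000050008000c0003d8900016b833a000000004000400000000000f625051000000000000095018dd0019003000000041440000000240b601d7002c00540000000001051000052c0d7028004c00900072040000000025400000f8034006400c000001c810000902c0003c1105c00b001500000000072054b0000084400a00130024030c00000000018d03e0000000d001900300000c300000601cf0440000017002c0054000000030c0d70211000000028004c00944008000f00357a00000000000000080647000d0018000000d5e800000000002180ab00140024000000000357a000008804280110020003c19b4c00000000002000006381c00340060000066d300000008000180802c00500090000000019b4c22000003a000044008000fc56400000000064018e0000007000d001800031590000180a6020000000b001400240000000c5644280e800000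
def sgT : ℕ := 0x156121451405555469051455405558491451555404956114510155645464514550152558514515550184955145005551a45545145405612555145155400155556121451550155469051455550158491451405554956114515405645464514555402558514510155584955145150151a45545145550212555145051450155556121451550155469051455550158494514405554956114515405645464514555402558545140155584955145150151a4554514555021255
def wtT : ℕ := 0x61965161585989185515919115546522592548624694649425495458156055254952851a585564556
def arT : ℕ := 0x34005c00a00000000000041000000000006400b001300000000000000010400000000000f002000000000400c801a000000000f00000044000000000416002e00000000200044000000000000006600500000000000006000d000000004000320068000000060000001c0000000004005800b80000000d001c0000000000000040980140000000000000001800000017d018f000000000000000180000000000280d3600000000000018000000000000000297744000000000000000000180000000b64000018f000000000001800000000001306400036000000001800000000000000013b000074400000000000000000000000460f3000300000000000000000000000007358030003000000000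002400504001000000000c801a00000024000000b004001000000016002e0000005000b000000040010000002600500000000000000900005f400000903c0000000000000900000000a0340001408000000000090000000000000a5c0002c11000000000000000008b7d000000000025800000000000008a000280d0000000005340000000008a00000000297000000000b7000000000d001700280000000000001483000000000000000080e0002d9000000000903c0000000080e00000004c19000000014080000080e0000000000004ec00000002c110000000000000000001183c0001c0020001000000000010116c800000000000004b000000001010000260c8000000000000a6800010100000000027600000000000016e000000000006b387800c0012000000000000000006b3800010001a00280000000000000000000017b540f00180024000000000000000149c80000010001a0028000000000017b540000000044007000b0000000000002939000000000044007000b00000000000000003c008000000c0020018000000680003c00000110000000c00202a000000b800080011000000000000c00248000001400000000000000e6b0000000002000280020000003000680600000028000c000000340030000000e0006000000280150000005c006800e0000000060000002824000000a03200580098000000000000000008398000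0000780100000001800380000030006400780000022000000018003800005400b0010002200000000000018003800090013000000300068006000000200000000c0019030000000e00006000000200000015002c06800e000000000600000020000024004c000000000cc000000002b8000000000c7800000cc000000000000481800000001b000cc000000000000000004aa00000003a200000000000000005a92000000380040002000000000005a9200000000008000a0008000012002804000a0000000030000000d01200000058004000a0000000540000017028005800000004000a000000900000028000120028003800800000000000030006520000005800038008000000000005400b2800580000000038008000000000090013000000008700000ae0000000000000481e000087000000001206000000000000a04087000000000000012a800000000001608800000005402b80000000000000000012c000054000004818000000000000000029a5400000000004aa00000000000000005b818002a004800000000000000000000a41e000a801200000000000000000000020e6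
def srT : ℕ := 0x596595555015554514555555a955545951651655545565594651555165555161655555941559594555955195514595565155155994555556155618555556155551a155561555555885555556455525525556455556454956455555549525555555556a14515555555501965955652515559455655445955459559455651559455555254956455555255591591555255555256455555548955549555549591555255549555255549555145155556a55555519585554655519554655519519555561554655555554056596555590955555255591591555549591555255555255554096595555554056596555555554065965555554055659655554055565965555501555659655555565156514556545565565115595945555650556555554055565965545995515955165545955165545165559551955114515555556a555945565155945155955651565165155556515945565145565559445565455655651945554556559455549555255549561555546555849555555495549555555015596595555a955545145594651555155915596515545566515565155155951651655555169551516555545859555165555165552552555559158555465555462555554955559155618555555585495645555554a1555615555558451455555555aa5965555555540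
def rtT : ℕ := 0x5d1d280009800000c580068cc03f7c000008b09ba03834c808c01280009800052a002d5801e3b8b09b800000c15140008000012800098004060038600488a03834c15140000044000005d1d20000c402f680193f00f400001120b63e6c6004400c808c0120052013ad00ade0075120b6000001728240004400080000120400083800a480103e6c6172824000008400046000005d1d82f00cd9007cf400000021c06a78d0b00840004600c808ca138058ac03b74021c06a000002c4c4000084000460008006080060a008900078d0b2c4c40000000000058f432e7e200448550000e400000f590074ac0100a58f4300000184115280460150000e40007ccc03b58008862e7e21841140000099200000150000e403f6801e2d0048380000099a8050dc13a000004485c0000f402f7401390000899a80000002a721003a012804601c007c0183b00a08800650dc12a7210000000003a992000001c3f00c5e005248004000000816d448c6c380001e00000448592f00ad3800a0800816d400000286b700380001e0128046cd80058a0006060048c6c286b7000000000380001e9920068c402d52003840000127000d40008a400000284882a509803a38c80000000000155800cb00075a2848800000182e595001e00c80000000020e8011760093c2a509982e5800000e5c000000c8000001005e0c0300801880000068c1670d9a5c000003a3808000140320c0198700d068c1600000407cf005c015001e000802001e9100f89007e70d9a407cf0000000005ce5c0000000a75e0143000a588000000376cd6141811c0008c000003a395b200b19805ad00376cd40000116243011c0008c015001ee9e8076f803c7e0214181162430000000011c0008ce5c00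
def jrT : ℕ := 0x414a52c60f42105294418c1e84220f7a0a528a0f7c6307c1e2109f183ca210a307884203e307c60f108507bc42
def bsT : ℕ := 0x20f41440
def miT : ℕ := 0x8988989988a88877a8887798887898888889
def oT : ℕ := 0x222111111300322322012012030
def paT : ℕ := 0x4a53414482884003ce70000000800100a0
def pbT : ℕ := 0x5af78420f7bf0002af4c564029008380c0
def dpT : ℕ := 0x1101001111124322011101011111134322111101111111234322122111112111012111122211112211012211122212112212012212123322123222123221123312123212123211000101000001000000
def piT : ℕ := 0x313444555453452450211233200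
def pjT : ℕ := 0xb48d6717b560fb358f5258720c8b70400
def vaT : ℕ := 0x186030c061818c68000000000000000c00
def vlT : ℕ := 0x39ce6b5ac631ae7000000003000c001800
def triN : List (ℕ × ℕ × ℕ × ℤ) := [(0, 4, 8, 1), (0, 5, 7, -1), (1, 3, 8, -1), (1, 5, 6, 1), (2, 3, 7, 1), (2, 4, 6, -1), (9, 13, 17, 1), (9, 14, 16, -1), (10, 12, 17, -1), (10, 14, 15, 1), (11, 12, 16, 1), (11, 13, 15, -1), (18, 22, 26, 1), (18, 23, 25, -1), (19, 21, 26, -1), (19, 23, 24, 1), (20, 21, 25, 1), (20, 22, 24, -1), (0, 9, 18, -1), (0, 10, 21, -1), (0, 11, 24, -1), (1, 12, 18, -1), (1, 13, 21, -1), (1, 14, 24, -1), (2, 15, 18, -1), (2, 16, 21, -1), (2, 17, 24, -1), (3, 9, 19, -1), (3, 10, 22, -1), (3, 11, 25, -1), (4, 12, 19, -1), (4, 13, 22, -1), (4, 14, 25, -1), (5, 15, 19, -1), (5, 16, 22, -1), (5, 17, 25, -1), (6, 9, 20, -1), (6, 10, 23, -1), (6, 11, 26, -1), (7, 12, 20, -1), (7, 13, 23, -1), (7, 14, 26, -1), (8, 15, 20, -1), (8, 16, 23, -1), (8, 17, 26, -1)]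

/-- The signed two-bit digit. -/
def s2 (T i : ℕ) : ℤ := Int.subNatNat (dig T 2 i) 1
/-- The third point on the line through `a`, `b`. -/
def cr (a b : ℕ) : ℕ := dig crT 5 (Nat.add (Nat.mul 27 a) b)
/-- The sign of the monomial containing `a`, `b` (zero if there is none). -/
def sg (a b : ℕ) : ℤ := s2 sgT (Nat.add (Nat.mul 27 a) b)
/-- The weights. -/
def wt (j k : ℕ) : ℤ := s2 wtT (Nat.add (Nat.mul 6 j) k)
/-- `e_r v_j = sr r j • v_{ar r j}`. -/
def ar (r j : ℕ) : ℕ := dig arT 5 (Nat.add (Nat.mul 27 r) j)
def sr (r j : ℕ) : ℤ := s2 srT (Nat.add (Nat.mul 27 r) j)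

def ix (i : I27) : ℕ := 9 * i.1 + 3 * i.2.1 + i.2.2
def ofIx (n : ℕ) : I27 := (⟨n / 9 % 3, Nat.mod_lt _ (by decide)⟩, ⟨n / 3 % 3, Nat.mod_lt _ (by decide)⟩,
  ⟨n % 3, Nat.mod_lt _ (by decide)⟩)

theorem ix_lt (i : I27) : ix i < 27 := by revert i; decide +kernel
@[simp] theorem ofIx_ix (i : I27) : ofIx (ix i) = i := by revert i; decide +kernel
theorem ix_ofIx {n : ℕ} (h : n < 27) : ix (ofIx n) = n := by revert n; decide +kernel
theorem ofIx_eq_iff {n : ℕ} (h : n < 27) (i : I27) : ofIx n = i ↔ n = ix i :=
  ⟨fun e => by rw [← e, ix_ofIx h], fun e => by rw [e, ofIx_ix]⟩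
theorem ix_inj {i j : I27} : ix i = ix j ↔ i = j := ⟨fun e => by rw [← ofIx_ix i, e, ofIx_ix], congrArg ix⟩
theorem ofIx_vals : ofIx 0 = (0, 0, 0) ∧ ofIx 1 = (0, 0, 1) ∧ ofIx 2 = (0, 0, 2) ∧ ofIx 3 = (0, 1, 0) ∧ ofIx 4 = (0, 1, 1) ∧ ofIx 5 = (0, 1, 2) ∧ ofIx 6 = (0, 2, 0) ∧ ofIx 7 = (0, 2, 1) ∧ ofIx 8 = (0, 2, 2) ∧ ofIx 9 = (1, 0, 0) ∧ ofIx 10 = (1, 0, 1) ∧ ofIx 11 = (1, 0, 2) ∧ ofIx 12 = (1, 1, 0) ∧ ofIx 13 = (1, 1, 1) ∧ ofIx 14 = (1, 1, 2) ∧ ofIx 15 = (1, 2, 0) ∧ ofIx 16 = (1, 2, 1) ∧ ofIx 17 = (1, 2, 2) ∧ ofIx 18 = (2, 0, 0) ∧ ofIx 19 = (2, 0, 1) ∧ ofIx 20 = (2, 0, 2) ∧ ofIx 21 = (2, 1, 0) ∧ ofIx 22 = (2, 1, 1) ∧ ofIx 23 = (2, 1, 2) ∧ ofIx 24 = (2, 2, 0) ∧ ofIx 25 = (2, 2, 1) ∧ ofIx 26 = (2, 2, 2) := by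
  refine ⟨rfl, rfl, rfl, rfl, rfl, rfl, rfl, rfl, rfl, rfl, rfl, rfl, rfl, rfl, rfl, rfl, rfl, rfl, rfl, rfl, rfl, rfl, rfl, rfl, rfl, rfl, rfl⟩

variable {F : Type*} [Field F]

/-- The basis vectors. -/
def bv (F : Type*) [Field F] (i : I27) : I27 → F := Pi.single i 1

theorem bv_ofIx (i : I27) {n : ℕ} (h : n < 27) : bv F i (ofIx n) = if n = ix i then 1 else 0 := by
  simp only [bv, Pi.single_apply, ofIx_eq_iff h]

theorem zero_of_add {f : (I27 → F) → F} (h1 : ∀ u v, f (u + v) = f u + f v) (h2 : ∀ (c : F) i, f (c • bv F i) = 0)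
    (v : I27 → F) : f v = 0 := by
  have h0 : f 0 = 0 := by simpa using h2 0 (ofIx 0)
  induction v using Pi.single_induction with
  | zero => exact h0
  | add u v hu hv => rw [h1, hu, hv, add_zero]
  | single i c => simpa [bv, ← Pi.single_smul] using h2 c i

/-- The derivative of the cubic form at `v` in the direction `w`. -/
def Dv (v w : I27 → F) : F := (triN.map fun q => (q.2.2.2 : F) * (v (ofIx q.1) * v (ofIx q.2.1) * w (ofIx q.2.2.1) +
  v (ofIx q.1) * w (ofIx q.2.1) * v (ofIx q.2.2.1) + w (ofIx q.1) * v (ofIx q.2.1) * v (ofIx q.2.2.1))).sum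

def perms (q : ℕ × ℕ × ℕ × ℤ) : List (ℕ × ℕ × ℕ × ℤ) := [(q.1, q.2.1, q.2.2.1, q.2.2.2), (q.1, q.2.2.1, q.2.1, q.2.2.2),
  (q.2.1, q.1, q.2.2.1, q.2.2.2), (q.2.1, q.2.2.1, q.1, q.2.2.2), (q.2.2.1, q.1, q.2.1, q.2.2.2), (q.2.2.1, q.2.1, q.1, q.2.2.2)]

/-- The trilinear form. -/
def tv (u v w : I27 → F) : F :=
  ((triN.flatMap perms).map fun q => (q.2.2.2 : F) * (u (ofIx q.1) * v (ofIx q.2.1) * w (ofIx q.2.2.1))).sum

theorem tv_eq (u v w : I27 → F) : tv u v w = (triN.map fun q => (q.2.2.2 : F) *
    (u (ofIx q.1) * (v (ofIx q.2.1) * w (ofIx q.2.2.1) + v (ofIx q.2.2.1) * w (ofIx q.2.1)) +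
    u (ofIx q.2.1) * (v (ofIx q.1) * w (ofIx q.2.2.1) + v (ofIx q.2.2.1) * w (ofIx q.1)) +
    u (ofIx q.2.2.1) * (v (ofIx q.1) * w (ofIx q.2.1) + v (ofIx q.2.1) * w (ofIx q.1)))).sum := by
  rw [tv]
  induction triN with
  | nil => simp
  | cons q l ih =>
    rw [List.flatMap_cons, List.map_append, List.sum_append, ih]
    simp only [List.map_cons, List.sum_cons, perms, List.map_nil, List.sum_nil]
    ring

theorem cubicT_eq (v : I27 → F) :
    cubicT v = (triN.map fun q => (q.2.2.2 : F) * (v (ofIx q.1) * v (ofIx q.2.1) * v (ofIx q.2.2.1))).sum := by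
  simp only [triN, List.map_cons, List.map_nil, List.sum_cons, List.sum_nil, ofIx_vals, cubicT, mat3, det_fin_three,
    trace_fin_three, mul_apply, Fin.sum_univ_three, of_apply]
  push_cast
  ring

theorem cubicT_add (v w : I27 → F) : cubicT (v + w) = cubicT v + Dv v w + Dv w v + cubicT w := by
  simp only [cubicT_eq, Dv, ← List.sum_map_add, Pi.add_apply]
  exact congrArg _ (List.map_congr_left fun _ _ => by ring)

theorem Dv_add (u v w : I27 → F) : Dv (u + v) w = Dv u w + Dv v w + tv u v w := by
  simp only [tv_eq, Dv, ← List.sum_map_add, Pi.add_apply]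
  exact congrArg _ (List.map_congr_left fun _ _ => by ring)

theorem Dv_add_right (u v w : I27 → F) : Dv u (v + w) = Dv u v + Dv u w := by
  simp only [Dv, ← List.sum_map_add, Pi.add_apply]
  exact congrArg _ (List.map_congr_left fun _ _ => by ring)

theorem Dv_smul (c d : F) (v w : I27 → F) : Dv (c • v) (d • w) = c ^ 2 * d * Dv v w := by
  simp only [Dv, ← List.sum_map_mul_left, Pi.smul_apply, smul_eq_mul]
  exact congrArg _ (List.map_congr_left fun _ _ => by ring)

theorem tv_comm (u v w : I27 → F) : tv u v w = tv v u w := by linear_combination Dv_add v u w - Dv_add u v w + congrArg (Dv · w) (add_comm u v)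

theorem tv_comm' (u v w : I27 → F) : tv u v w = tv u w v := by
  simp only [tv_eq]
  exact congrArg _ (List.map_congr_left fun _ _ => by ring)

theorem tv_add (u u' v w : I27 → F) : tv (u + u') v w = tv u v w + tv u' v w := by
  simp only [tv, ← List.sum_map_add, Pi.add_apply]
  exact congrArg _ (List.map_congr_left fun _ _ => by ring)

theorem tv_smul (c : F) (u v w : I27 → F) : tv (c • u) v w = c * tv u v w := by
  simp only [tv, ← List.sum_map_mul_left, Pi.smul_apply, smul_eq_mul]
  exact congrArg _ (List.map_congr_left fun _ _ => by ring)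

theorem tv_add₂ (u v v' w : I27 → F) : tv u (v + v') w = tv u v w + tv u v' w := by
  rw [tv_comm, tv_add, tv_comm v, tv_comm v']
theorem tv_smul₂ (c : F) (u v w : I27 → F) : tv u (c • v) w = c * tv u v w := by rw [tv_comm, tv_smul, tv_comm v]
theorem tv_add₃ (u v w w' : I27 → F) : tv u v (w + w') = tv u v w + tv u v w' := by
  rw [tv_comm', tv_add₂, tv_comm' u w, tv_comm' u w']
theorem tv_smul₃ (c : F) (u v w : I27 → F) : tv u v (c • w) = c * tv u v w := by rw [tv_comm', tv_smul₂, tv_comm' u w]

theorem tri_spec : ∀ q ∈ triN, q.1 < 27 ∧ q.2.1 < 27 ∧ q.2.2.1 < 27 ∧ q.1 ≠ q.2.1 ∧ q.1 ≠ q.2.2.1 ∧ q.2.1 ≠ q.2.2.1 := by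
  decide +kernel

theorem tri_filter : allLt 27 (fun a => allLt 27 fun b => Nat.blt (cr a b) 27 &&
    decide (((triN.flatMap perms).filter fun q => Nat.beq q.1 a && Nat.beq q.2.1 b) =
      cond (beqZ (sg a b) 0) [] [(a, b, cr a b, sg a b)])) = true := by decide +kernel

theorem Dv_bv (i : I27) (w : I27 → F) : Dv (bv F i) w = 0 := by
  refine List.sum_eq_zero fun x hx => ?_
  obtain ⟨q, hq, rfl⟩ := List.mem_map.1 hx
  obtain ⟨a, b, c, d, e, f⟩ := tri_spec q hq
  rw [bv_ofIx i a, bv_ofIx i b, bv_ofIx i c]
  split_ifs <;> first | omega | simp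

theorem cubicT_bv (c : F) (i : I27) : cubicT (c • bv F i) = 0 := by
  rw [cubicT_eq]
  refine List.sum_eq_zero fun x hx => ?_
  obtain ⟨q, hq, rfl⟩ := List.mem_map.1 hx
  obtain ⟨a, b, c, d, e, f⟩ := tri_spec q hq
  simp only [Pi.smul_apply, bv_ofIx i a, bv_ofIx i b, bv_ofIx i c]
  split_ifs <;> first | omega | simp

theorem cr_lt {a b : ℕ} (ha : a < 27) (hb : b < 27) : cr a b < 27 := by
  have := tri_filter
  simp only [allLt_iff, Bool.and_eq_true, Nat.blt_eq] at this
  exact (this a ha b hb).1

theorem tv_bv (i j : I27) (w : I27 → F) : tv (bv F i) (bv F j) w = sg (ix i) (ix j) * w (ofIx (cr (ix i) (ix j))) := by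
  have h1 := tri_filter
  simp only [allLt_iff, Bool.and_eq_true, decide_eq_true_eq, cond_beqZ] at h1
  have h2 : ∀ q ∈ triN.flatMap perms, q.1 < 27 ∧ q.2.1 < 27 := by decide +kernel
  have h3 : ∀ l : List (ℕ × ℕ × ℕ × ℤ), (∀ q ∈ l, q.1 < 27 ∧ q.2.1 < 27) →
      (l.map fun q => (q.2.2.2 : F) * (bv F i (ofIx q.1) * bv F j (ofIx q.2.1) * w (ofIx q.2.2.1))).sum =
      ((l.filter fun q => Nat.beq q.1 (ix i) && Nat.beq q.2.1 (ix j)).map fun q => (q.2.2.2 : F) * w (ofIx q.2.2.1)).sum :=
    fun l hl => by
      induction l with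
      | nil => simp
      | cons q l ih =>
        rw [List.map_cons, List.sum_cons, ih fun q hq => hl q (List.mem_cons_of_mem _ hq), List.filter_cons,
          bv_ofIx i (hl q List.mem_cons_self).1, bv_ofIx j (hl q List.mem_cons_self).2]
        by_cases a : q.1 = ix i <;> by_cases b : q.2.1 = ix j <;> simp [a, b, beq_iff']
  rw [tv, h3 _ h2, (h1 _ (ix_lt i) _ (ix_lt j)).2]
  split_ifs with h <;> simp [h]

section Invariance

variable (hF : ∃ s : F, s ≠ 0 ∧ s ≠ 1) {g : Matrix I27 I27 F} (hg : ∀ v, cubicT (g *ᵥ v) = cubicT v)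
include hF hg

theorem Dv_inv (v w : I27 → F) : Dv (g *ᵥ v) (g *ᵥ w) = Dv v w := by
  obtain ⟨s, h0, h1⟩ := hF
  have key : ∀ s : F, s * (Dv (g *ᵥ v) (g *ᵥ w) - Dv v w) + s ^ 2 * (Dv (g *ᵥ w) (g *ᵥ v) - Dv w v) = 0 := fun s => by
    have a := hg (v + s • w)
    rw [mulVec_add, cubicT_add, cubicT_add, hg, hg, mulVec_smul] at a
    have b := Dv_smul 1 s v w
    have c := Dv_smul s 1 w v
    have d := Dv_smul 1 s (g *ᵥ v) (g *ᵥ w)
    have e := Dv_smul s 1 (g *ᵥ w) (g *ᵥ v)
    rw [one_smul] at b c d e
    linear_combination a + b + c - d - e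
  refine sub_eq_zero.1 (mul_left_cancel₀ (mul_ne_zero h0 (sub_ne_zero.2 h1)) ?_)
  linear_combination s ^ 2 * key 1 - key s

theorem tv_inv (u v w : I27 → F) : tv (g *ᵥ u) (g *ᵥ v) (g *ᵥ w) = tv u v w := by
  have a := Dv_add (g *ᵥ u) (g *ᵥ v) (g *ᵥ w)
  rw [← mulVec_add, Dv_inv hF hg, Dv_inv hF hg, Dv_inv hF hg] at a
  linear_combination Dv_add u v w - a

end Invariance

/-- Derivations of the cubic form. -/
def IsDer (y : Matrix I27 I27 F) : Prop := ∀ v w, Dv v (y *ᵥ w) + tv v (y *ᵥ v) w = 0

theorem IsDer.tri {y : Matrix I27 I27 F} (h : IsDer y) (u v w : I27 → F) :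
    tv (y *ᵥ u) v w + tv u (y *ᵥ v) w + tv u v (y *ᵥ w) = 0 := by
  have := h (u + v) w
  rw [Dv_add, mulVec_add, tv_add, tv_add₂, tv_add₂, tv_comm v (y *ᵥ u)] at this
  linear_combination this - h u w - h v w

theorem isDer_of_basis {y : Matrix I27 I27 F} (h1 : ∀ i j w, tv (y *ᵥ bv F i) (bv F j) w + tv (bv F i) (y *ᵥ bv F j) w +
    tv (bv F i) (bv F j) (y *ᵥ w) = 0) (h2 : ∀ i w, tv (bv F i) (y *ᵥ bv F i) w = 0) : IsDer y := fun v w => by
  have h3 : ∀ u v, tv (y *ᵥ u) v w + tv u (y *ᵥ v) w + tv u v (y *ᵥ w) = 0 := fun u v => by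
    refine zero_of_add (f := fun u => tv (y *ᵥ u) v w + tv u (y *ᵥ v) w + tv u v (y *ᵥ w)) (fun a b => ?_) (fun c i => ?_) u
    · simp only [mulVec_add, tv_add]; ring
    · refine zero_of_add (f := fun v => tv (y *ᵥ (c • bv F i)) v w + tv (c • bv F i) (y *ᵥ v) w +
        tv (c • bv F i) v (y *ᵥ w)) (fun a b => ?_) (fun d j => ?_) v
      · simp only [mulVec_add, tv_add₂]; ring
      · simp only [mulVec_smul, tv_smul, tv_smul₂]
        linear_combination c * d * h1 i j w
  refine zero_of_add (f := fun v => Dv v (y *ᵥ w) + tv v (y *ᵥ v) w) (fun a b => ?_) (fun c i => ?_) v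
  · simp only [Dv_add, mulVec_add, tv_add, tv_add₂]
    linear_combination h3 a b + tv_comm b (y *ᵥ a) w
  · have := Dv_smul c 1 (bv F i) (y *ᵥ w)
    rw [one_smul, Dv_bv] at this
    simp only [mulVec_smul, tv_smul, tv_smul₂, this, h2, mul_zero, add_zero]

theorem IsDer.add {y z : Matrix I27 I27 F} (h : IsDer y) (h' : IsDer z) : IsDer (y + z) := fun v w => by
  rw [add_mulVec, add_mulVec, Dv_add_right, tv_add₂]
  linear_combination h v w + h' v w

theorem IsDer.smul {y : Matrix I27 I27 F} (h : IsDer y) (c : F) : IsDer (c • y) := fun v w => by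
  have := Dv_smul 1 c v (y *ᵥ w)
  rw [one_smul] at this
  rw [smul_mulVec, smul_mulVec, this, tv_smul₂]
  linear_combination c * h v w

theorem IsDer.self {y : Matrix I27 I27 F} (h : IsDer y) (v : I27 → F) : Dv v (y *ᵥ v) = 0 := by
  refine zero_of_add (f := fun v => Dv v (y *ᵥ v)) (fun a b => ?_) (fun c i => ?_) v
  · simp only [Dv_add, mulVec_add, Dv_add_right, tv_add₃]
    linear_combination h a b + h b a + tv_comm' a b (y *ᵥ a) + tv_comm a b (y *ᵥ b) + tv_comm' b a (y *ᵥ b)
  · rw [mulVec_smul, Dv_smul, Dv_bv, mul_zero]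

theorem IsDer.conj (hF : ∃ s : F, s ≠ 0 ∧ s ≠ 1) {g : GL I27 F} (hg : g ∈ E6univ F) {y : Matrix I27 I27 F} (h : IsDer y) :
    IsDer ((g : Matrix I27 I27 F) * y * ((g⁻¹ : GL I27 F) : Matrix I27 I27 F)) := fun v w => by
  have e : ∀ u, (g : Matrix I27 I27 F) *ᵥ ((g⁻¹ : GL I27 F) : Matrix I27 I27 F) *ᵥ u = u := fun u => by
    rw [mulVec_mulVec, Units.mul_inv, one_mulVec]
  have := h (((g⁻¹ : GL I27 F) : Matrix I27 I27 F) *ᵥ v) (((g⁻¹ : GL I27 F) : Matrix I27 I27 F) *ᵥ w)
  rw [← Dv_inv hF (g := g) hg, ← tv_inv hF (g := g) hg, e, e] at this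
  simpa only [mulVec_mulVec, Matrix.mul_assoc] using this

end CL.Chev.Cub
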