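import Cfsg.Agent.Chev.E6Two5
import Cfsg.Agent.S2401
import Cfsg.Agent.S0256

/-!
# Elements of order five of `²E₆(2)`
-/

set_option autoImplicit false

namespace CL.Chev

open Finset Alg CL.Cox V6
open scoped commutatorElement

theorem centralizer_equiv_prod {K L : Type*} [Group K] [Group L] [IsSimpleGroup L] (hL : Subgroup.center L = ⊥) {z : K}
    {p : ℕ} (hp : p.Prime) (hz : orderOf z = p) (φ : L →* K) (h1 : ∃ g, φ g ≠ 1) (h2 : ∀ g, Commute z (φ g))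
    (h3 : ∀ y, Commute y z → ∃ k : ℤ, ∃ g, y = z ^ k * φ g) :
    Nonempty (Subgroup.centralizer {z} ≃* Multiplicative (ZMod p) × L) := by
  have := Fact.mk hp
  have hφ : Function.Injective φ := φ.ker_eq_bot_iff.1 (φ.normal_ker.eq_bot_or_eq_top.resolve_right fun e =>
    h1.elim fun g hg => hg (show g ∈ φ.ker from e ▸ trivial))
  have hc : ∀ (a : Subgroup.zpowers z) g, Commute ((Subgroup.zpowers z).subtype a) (φ g) := by
    rintro ⟨_, k, rfl⟩ g; exact (h2 g).zpow_left k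
  have hψ : Function.Injective ((Subgroup.zpowers z).subtype.noncommCoprod φ hc) :=
    (injective_iff_map_eq_one _).2 fun ⟨a, g⟩ e => by
      rw [MonoidHom.noncommCoprod_apply] at e
      obtain rfl : g = 1 := Subgroup.mem_bot.1 (hL ▸ Subgroup.mem_center_iff.2 fun k => hφ (by
        rw [map_mul, map_mul, eq_inv_of_mul_eq_one_right e]; exact (hc a k).inv_left.eq.symm))
      exact Prod.ext (Subtype.ext (by simpa using e)) rfl
  have hr : Subgroup.centralizer {z} = ((Subgroup.zpowers z).subtype.noncommCoprod φ hc).range := by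
    ext y
    rw [Subgroup.mem_centralizer_singleton_iff]
    refine ⟨fun h => ?_, ?_⟩
    · obtain ⟨k, g, rfl⟩ := h3 y h
      exact ⟨(⟨_, k, rfl⟩, g), rfl⟩
    · rintro ⟨⟨⟨_, k, rfl⟩, g⟩, rfl⟩
      exact (((Commute.refl z).zpow_left k).mul_left (h2 g).symm).eq
  exact ⟨(MulEquiv.subgroupCongr hr).trans ((MonoidHom.ofInjective hψ).symm.trans
    ((mulEquivOfPrimeCardEq ((Nat.card_zpowers z).trans hz) (by simp)).prodCongr (.refl L)))⟩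

theorem exists_hom_alt_eight {G : Type*} [Group G] (x : Fin 4 → Fin 4 → G) (h1 : ∀ i j, x i j * x i j = 1)
    (h2 : ∀ i j k l, i ≠ j → k ≠ l → i ≠ l → j ≠ k → Commute (x i j) (x k l))
    (h3 : ∀ i j l, i ≠ j → j ≠ l → i ≠ l → ⁅x i j, x j l⁆ = x i l) :
    ∃ f : alternatingGroup (Fin 8) →* G, (∀ i j, i ≠ j → x i j ∈ f.range) ∧
      ∀ H : Subgroup G, (∀ i j, x i j ∈ H) → ∀ g, f g ∈ H := by
  obtain ⟨e, -⟩ := Cfsg.Agent.S2401.result (K := ZMod 2) 4 (by norm_num)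
  obtain ⟨e1⟩ := Cfsg.Agent.S0256.result (F := ZMod 2) (ZMod.card 2)
  have h0 : ∀ r : ZMod 2, r = 0 ∨ r = 1 := by decide
  let e2 := MulEquiv.ofBijective (QuotientGroup.mk' (Subgroup.center (Matrix.SpecialLinearGroup (Fin 4) (ZMod 2))))
    ⟨(injective_iff_map_eq_one _).2 fun g hg => by
      obtain ⟨r, hr, hg⟩ := Matrix.SpecialLinearGroup.mem_center_iff.1 ((QuotientGroup.eq_one_iff g).1 hg)
      rw [(h0 r).resolve_left (by rintro rfl; simp at hr), map_one] at hg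
      exact Subtype.ext hg.symm, QuotientGroup.mk'_surjective _⟩
  refine ⟨(PresentedGroup.toGroup (f := fun a => if a.2 = 0 then 1 else x a.1.1.1 a.1.1.2) ?_).comp
    (e.trans (e2.trans e1)).symm.toMonoidHom, fun i j hij => ⟨e.trans (e2.trans e1) (PresentedGroup.of (⟨(i, j), hij⟩, 1)), by
      rw [MonoidHom.comp_apply, MulEquiv.coe_toMonoidHom, MulEquiv.symm_apply_apply, PresentedGroup.toGroup.of]; simp⟩,
    fun H hH g => ?_⟩
  · rintro _ ((⟨a, t, u, rfl⟩ | ⟨a, b, t, u, e1, e2, rfl⟩) | ⟨⟨⟨i, j⟩, a⟩, ⟨⟨_, l⟩, b⟩, e1, t, u, rfl, rfl⟩) <;>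
      obtain rfl | rfl := h0 t <;> obtain rfl | rfl := h0 u <;> simp
    · simp [CharTwo.add_self_eq_zero, h1]
    · rw [(h2 _ _ _ _ a.2 b.2 e1 e2).eq]; simp
    · rw [← h3 _ _ _ a b e1, commutatorElement_def, mul_inv_cancel]
  · rw [MonoidHom.comp_apply, ← Subgroup.mem_comap]
    refine PresentedGroup.generated_by _ _ (fun a => ?_) _
    rw [Subgroup.mem_comap, PresentedGroup.toGroup.of]
    split_ifs
    exacts [one_mem _, hH _ _]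

namespace V6

/-- Words for the roots of a subsystem of type `A₃`. -/
def wA3 : Matrix (Fin 4) (Fin 4) (List (Fin 6) × Fin 6) := !![([], 1), ([], 1), ([1], 3), ([1, 3, 4, 5, 2, 3, 4, 1, 3, 0], 2);
  ([1], 1), ([], 1), ([], 3), ([3, 4, 5, 2, 3, 4, 1, 3, 0], 2); ([3, 1], 1), ([3], 3), ([], 1), ([4, 5, 2, 3, 4, 1, 3, 0], 2);
  ([1, 3, 4, 5, 2, 3, 4, 1, 3, 2, 0], 0), ([3, 4, 5, 2, 3, 4, 1, 3, 2, 0], 0), ([4, 5, 2, 3, 4, 1, 3, 2, 0], 0), ([], 1)]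

/-- The roots of a subsystem of type `A₃`. -/
def eA3 (i j : Fin 4) : V6 := act (wA3 i j).1 (un (wA3 i j).2)

theorem eA3_spec : (∀ i j, act [0] (eA3 i j).pi = eA3 i j ∧ (5 : ℤ) ∣ bl ⟨1, 0, 0, 0, 0, 2⟩ (eA3 i j)) ∧
    (∀ i j k l, i ≠ j → k ≠ l → i ≠ l → j ≠ k → 0 ≤ bl (eA3 i j) (eA3 k l)) ∧
    (∀ i j l, i ≠ j → j ≠ l → i ≠ l → bl (eA3 i j) (eA3 j l) = -1 ∧ bl (eA3 j l) (eA3 i j) = -1 ∧
      ∀ k, (eA3 i j).fn k + (eA3 j l).fn k = (eA3 i l).fn k) ∧ ∀ u ∈ pos, (5 : ℤ) ∣ bl ⟨1, 0, 0, 0, 0, 2⟩ u →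
      ∃ i j, i ≠ j ∧ u = eA3 i j ∧ ∀ k, -u.fn k = (eA3 j i).fn k := by
  refine ⟨?_, ?_, ?_, ?_⟩ <;> decide +kernel

end V6

namespace StSys

theorem AlgSys.exists_of_fixed {ι Φ : Type} [Fintype ι] [DecidableEq ι] {R : RS ι Φ} {Ω : Type*} [Field Ω] {G : Type*}
    [Group G] {S : StSys R Ω G} (A : S.AlgSys) [Finite Φ] {c : ι → Ωˣ} (hc : A.hMul.Conn c) {α : G →* G}
    (hα : ∀ r ∈ R.Psi c, ∀ t, α (S.x r t) = S.x r (t ^ 2)) (hH : ∀ g ∈ S.H, α g ∈ S.H) {L : Subgroup G}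
    (hL : ∀ r ∈ R.Psi c, S.x r 1 ∈ L) {g : G} (h1 : Commute g (A.hMul.torus c)) (h2 : α g = g) :
    ∃ l ∈ L, ∃ d, g = A.hMul.torus d * l := by
  have hS := A.faithful
  have k1 : ∀ B, B ⊆ R.Psi c → ∀ u ∈ S.XS B, α u ∈ S.XS B := fun B hB u hu =>
    Subgroup.mem_comap.1 (S.XS_le_iff.2 (fun r hr t => Subgroup.mem_comap.2 (hα r (hB hr) t ▸ S.x_mem_XS hr _)) hu)
  have k2 : ∀ u ∈ S.XS ({r | R.Pos r} ∩ R.Psi c), α u = u → u ∈ L := fun u hu e => by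
    obtain ⟨l, h1, h2⟩ := exists_list_of_finite (Set.toFinite ({r | R.Pos r} ∩ R.Psi c))
    obtain ⟨t, rfl⟩ := S.exists_prodL (fun _ h => h.1) (R.closed_pos.inter (RS.closed_Psi c)) h1 h2 hu
    refine S.prodL_mem fun r hr => ?_
    have := hS.uFaithful.prodL_inj h1 (fun r hr => ((h2 r).1 hr).1) (t := fun r => t r ^ 2) (by
      rw [← e, map_prodL]
      exact congrArg List.prod (List.map_congr_left fun r hr => (hα r ((h2 r).1 hr).2 _).symm)) r hr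
    obtain e | e := eq_zero_or_one_of_sq_eq_self this <;> simp [e, hL r ((h2 r).1 hr).2]
  obtain ⟨w, hw, u, hu, d, u', hu', rfl⟩ := (hS.commute_iff A.hMul hc (A.mem_grp g)).1 h1
  obtain ⟨n, ⟨n1, n2⟩, n3⟩ := exists_NW_WS (S := S) (K := L ⊓ α.eqLocus (.id G))
    (fun r hr => ⟨hL r hr, (hα r hr 1).trans (by simp)⟩) (RS.Stab_eq_WS (R := R) hc.1 ▸ hw)
  obtain ⟨e, he⟩ := A.hMul.mem_H_iff.1 (mul_mem (A.hMul.torus_mem_H d) (NW_mul_inv_mem_H (S.nW_mem_NW hw.1) n3))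
  have e1 : u * A.hMul.torus d * S.nW w * u' = u * A.hMul.torus e * n * u' := by rw [he]; group
  have a1 := S.XS_mono Set.inter_subset_left hu
  have a2 := S.XS_mono Set.inter_subset_left (k1 _ Set.inter_subset_right u hu)
  have a3 := A.hMul.torus_mem_H e
  rw [e1, map_mul, map_mul, map_mul, show α n = n from n2] at h2
  obtain ⟨b1, b2⟩ := hS.normal_form_unique (NW_induces n3) (mul_mem (S.U_le_B a2) (S.H_le_B (hH _ a3)))
    (mul_mem (S.U_le_B a1) (S.H_le_B a3)) (S.XS_mono Set.inter_subset_left (k1 _ Set.inter_subset_right u' hu'))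
    (S.XS_mono Set.inter_subset_left hu') h2
  obtain ⟨b3, b4⟩ := hS.eq_of_U_mul_N a2 a1 (S.H_le_N (hH _ a3)) (S.H_le_N a3) b1
  refine ⟨u * n * u', mul_mem (mul_mem (k2 u hu b3) n1) (k2 u' (S.XS_mono (fun r hr => by exact ⟨hr.1.1, hr.2⟩) hu') b2), e, ?_⟩
  rw [e1, (A.hMul.commute_XS (fun r hr => ?_) hu).eq, mul_assoc, mul_assoc, mul_assoc]
  have := congrArg α (A.hMul.conj_torus e r 1)
  rw [map_mul, map_mul, map_inv, b4, hα r hr.2, hα r hr.2, A.hMul.conj_torus, one_pow, mul_one, sq] at this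
  exact Units.ext (mul_left_cancel₀ (Units.ne_zero _) ((hS.uFaithful.x_injective r this).symm.trans (mul_one _).symm))

namespace FrobSys.SC

variable {Φ : Type} {R : RS (Fin 6) Φ} {Ω : Type*} [Field Ω] {G : Type*} [Group G] {S : StSys R Ω G}
  {A : S.FrobSys} (h : A.SC) [Finite Φ] [IsAlgClosed Ω] [Uncountable Ω] {ζ : Ωˣ} (hζ : orderOf ζ = 5)
  {K : Type*} [Group K] {θ : A.Fix →* K} (h1 : Function.Surjective θ)
  (h2 : ∀ g, θ g = 1 ↔ (g : G) ∈ Subgroup.center G)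
include h hζ

omit [Finite Φ] [IsAlgClosed Ω] [Uncountable Ω] in
theorem torus_five {d : Fin 6 → Ωˣ} (hd : A.tww [0] d = d) :
    (∀ r, R.chi Ωˣ r (d ^ 5) = 1) ∧ ∃ k : ℕ, d ^ 3 = tz ζ ⟨1, 0, 0, 0, 0, 2⟩ ^ k := by
  rw [h.tww_eq, ← matPow_one (M := Ωˣ) d, ← matPow_mul, Matrix.one_mul] at hd
  have a1 := matPow_eq_of_mod (pow_zero d) hd (X := cE6 * Matrix.diagonal fun _ => 5) (Y := 0)
    (U := !![-2,0,1,0,2,-4;0,10,0,-5,0,0;1,0,2,-5,4,2;0,-5,-5,10,-5,0;-2,0,6,-5,2,1;4,0,-2,0,1,-2]) (by decide +kernel)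
  have a2 := matPow_eq_of_mod (pow_zero d) hd (X := Matrix.diagonal fun _ => 3)
    (Y := !![3,0,0,0,0,6;0,0,0,0,0,0;0,0,0,0,0,0;0,0,0,0,0,0;0,0,0,0,0,0;0,0,0,0,0,0])
    (U := !![0,0,0,0,0,0;0,3,0,0,0,0;0,0,1,0,2,0;0,0,0,3,0,0;0,0,2,0,1,0;0,0,0,0,0,-3]) (by decide +kernel)
  have a3 : ∀ r, R.chi Ωˣ r (d ^ 5) = 1 := fun r => by
    rw [R.chi_eq_prod]
    refine prod_eq_one fun i _ => ?_
    have := congrFun a1 i
    rw [matPow_mul, matPow_diagonal, ← h.cartan] at this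
    rw [map_pow, R.chi_simple, ← zpow_natCast, Nat.cast_ofNat, ← RS.cartanM, this]
    simp [matPow_apply]
  obtain ⟨k, -, hk⟩ := (hζ ▸ IsPrimitiveRoot.coe_units_iff.2 (IsPrimitiveRoot.orderOf ζ)).eq_pow_of_pow_eq_one
    (ξ := ((d 0 ^ 3 : Ωˣ) : Ω)) (by
      rw [← Units.val_pow_eq_pow_val, ← pow_mul, mul_comm, pow_mul, Units.val_eq_one]; exact congrFun (h.pow_three a3) 0)
  refine ⟨a3, k, funext fun i => ?_⟩
  have := congrFun a2 i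
  rw [matPow_diagonal] at this
  rw [Pi.pow_apply, Pi.pow_apply, tz, ← zpow_natCast (ζ ^ _), ← zpow_mul, mul_comm, zpow_mul, zpow_natCast,
    Units.ext ((Units.val_pow_eq_pow_val ζ k).trans hk), ← zpow_natCast, Nat.cast_ofNat, this]
  fin_cases i <;> simp [matPow_apply, Fin.prod_univ_six, fn, zpow_ofNat, ← pow_mul]

include h1 h2

theorem exists_five [Finite K] (hK : ¬ 5 ^ 3 ∣ Nat.card K) {z : K} (hz : orderOf z = 5) : ∃ γ : A.Fix, θ γ = z ∧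
    ∃ x, A.τ x = x * wprod S.nS [0] ∧ x⁻¹ * γ * x = A.hMul.torus (tz ζ ⟨1, 0, 0, 0, 0, 2⟩) := by
  obtain ⟨x, -, Q, e, -, a2, -⟩ := h.exists_rank_two h1 h2 (ω := [0, 2, 3, 4, 5, 0, 2, 1, 3, 4, 0, 2, 1, 3, 0, 2, 1, 0])
    (y := ⟨3, 4, 4, 4, 1, 0⟩) (z := ⟨3, 4, 2, 3, 0, 1⟩) (hζ ▸ Nat.prime_five) (hζ ▸ by norm_num)
    (by rw [hζ]; decide +kernel) (by rw [hζ]; decide +kernel) ⟨4, 5, rfl, rfl, rfl, rfl⟩ (hζ ▸ hK) (P := Subgroup.zpowers z)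
    (.of_card (n := 1) (by rw [Nat.card_zpowers, hz, hζ, pow_one]))
  obtain ⟨γ, hγ, rfl⟩ : z ∈ Q.map θ := e ▸ Subgroup.mem_zpowers z
  obtain ⟨u, hu, e2⟩ := h.rank_two_conj hζ (by rintro rfl; simp at hz) (a2 γ hγ)
    [[], [4,2,3,0,2,1,3,4,5,4,3,2], [4,3,2,1,3,4,1,3,2], [4,3,2,1,3,4,5,1,3,2,0], [4,5,2,3,0,2,1,3,4,3,2,0],
     [0,2,1,3,4,5,3,4,2], [3,4,5,1,3,4,3,2], [5,4,3,2,1,3,4,5,1,3,4,1,3,2,0], [1,3,4,2,3,0,2,1,3,4,5,1,3,0,2,0],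
     [5,2,3,4,3,0,2,0], [5,2,1,3,4,2], [3,0,2,1,3,4,5,2,3,4,1,3,2], [3,0,2,1,3,4,0,2,0], [3,4,5,3,0,2,0],
     [5,3,4,2,3,0,2,1,3,4,5,2], [2,1,3,4,5,4,2,0], [5,3,4,2,3,0,2,1,3,4,2,0], [3,4,3,0,2], [3,0,2,1,3,4,5,0,2],
     [1,3,4,5,0,2,1,3,4,1,3,2,0], [4,5,0,2,1,3,4,2,0], [2,3,4,5,4,3,0,2], [1,3,4,2,3,0,2,1,3,4,1,3,0,2],
     [2,3,4,5,4,3,2,1,3,4,1,3,2], [1,3,4,5,1,3,4,3,2,0]] [⟨1, 0, 0, 0, 0, 2⟩] (by decide +kernel)
  obtain rfl := List.mem_singleton.1 hu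
  exact ⟨γ, rfl, exists_frame (A.hMul.conn_of_injective h.inj (isOfFinOrder_tz (by omega) _))
    ((h.tww_tz _).trans (tz_congr (by rw [hζ]; decide +kernel))) γ.2 e2⟩

theorem isConj_five [Finite K] (hK : ¬ 5 ^ 3 ∣ Nat.card K) {y z : K} (hy : orderOf y = 5) (hz : orderOf z = 5) :
    IsConj y z := by
  obtain ⟨γ, rfl, x, a1, a2⟩ := h.exists_five hζ h1 h2 hK hy
  obtain ⟨δ, rfl, x', b1, b2⟩ := h.exists_five hζ h1 h2 hK hz
  refine θ.map_isConj (isConj_iff.2 ⟨⟨x' * x⁻¹, ?_⟩, Subtype.ext ?_⟩)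
  · rw [mem_Fix, map_mul, map_inv, a1, b1]; group
  · calc _ = x' * (x⁻¹ * γ * x) * x'⁻¹ := by simp [mul_assoc]
      _ = _ := by rw [a2, ← b2]; group

theorem centralizer_five [Finite K] [IsSimpleGroup K] (hK : ¬ 5 ^ 3 ∣ Nat.card K) {z : K} (hz : orderOf z = 5) :
    Nonempty (Subgroup.centralizer {z} ≃* Multiplicative (ZMod 5) × alternatingGroup (Fin 8)) := by
  obtain ⟨γ, rfl, x, a1, a2⟩ := h.exists_five hζ h1 h2 hK hz
  have hf := (h.frame_nil h1 h2).of_jx a1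
  rw [← jx_apply] at a2
  obtain ⟨ρ, hρ⟩ : ∃ ρ : Fin 4 → Fin 4 → Φ, ∀ i j, R.root (ρ i j) = (eA3 i j).fn :=
    ⟨_, fun i j => h.root_wprod (wA3 i j).1 (root_simple (wA3 i j).2)⟩
  obtain ⟨c1, c2, c3, c4⟩ := eA3_spec
  have b1 : ∀ r ∈ R.Psi (tz ζ ⟨1, 0, 0, 0, 0, 2⟩), ∃ i j, i ≠ j ∧ r = ρ i j ∧ R.neg r = ρ j i :=
    h.forall_root (fun r hr e => by
      obtain ⟨i, j, e1, e2, e3⟩ := hr (RS.neg_mem_Psi.2 e)
      exact ⟨j, i, e1.symm, by rw [← e3, R.neg_neg], e2⟩) fun r u hu hr e => by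
      obtain ⟨i, j, e1, rfl, e3⟩ := c4 u hu (by simpa [hζ] using (h.mem_Psi hr).1 e)
      exact ⟨i, j, e1, R.root_inj (hr.trans (hρ i j).symm), R.root_inj (by rw [R.root_neg, hr, hρ]; exact funext e3)⟩
  have b2 := fun i j => h.Fr_x (hρ i j) (c1 i j).1
  choose ξ hξ using fun i j => (hf.range _).2 ((b2 i j 1).trans (by rw [one_pow]))
  obtain ⟨f, f1, f2⟩ := exists_hom_alt_eight ξ (fun i j => hf.inj (by rw [map_mul, hξ, x_mul_self h.two, map_one]))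
    (fun i j k l e1 e2 e3 e4 => hf.inj (by
      rw [map_mul, map_mul, hξ, hξ]
      exact commute_of_pair_nonneg h.len (h.pair_eq (hρ i j) (hρ k l) ▸ c2 i j k l e1 e2 e3 e4) 1 1))
    fun i j l e1 e2 e3 => hf.inj (by
      obtain ⟨d1, d2, d3⟩ := c3 i j l e1 e2 e3
      rw [← h.pair_eq (hρ _ _) (hρ _ _)] at d1 d2
      rw [map_commutatorElement, hξ, hξ, hξ, A.faithful.uFaithful.comm_A2 (RS.SimplyLaced.noG2 h.len) d1 d2, S.cast_η h.two,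
        one_mul, one_mul, R.root_inj (a₂ := ρ i l) ((RS.root_refl_of_neg_one d1).trans (by rw [hρ, hρ, hρ]; exact funext d3))])
  have o5 : γ ^ 5 = 1 := hf.inj (by rw [map_pow, a2, ← map_pow, ← hζ, tz_pow, map_one, map_one])
  have := alternatingGroup.isSimpleGroup (α := Fin 8) (by simp)
  refine centralizer_equiv_prod (alternatingGroup.center_eq_bot (by simp)) Nat.prime_five hz (θ.comp f) ?_
    (fun g => Commute.map (Subgroup.mem_centralizer_singleton_iff.1 (f2 _ (fun i j => ?_) g)).symm θ) fun y hy => ?_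
  · obtain ⟨g, hg⟩ := f1 0 1 (by decide)
    refine ⟨g, fun e => one_ne_zero (A.faithful.uFaithful.x_injective (ρ 0 1) (a₂ := 0) ?_)⟩
    have := congrArg (A.jx x) (h.ker_spec h2 _ e).2
    rwa [hg, map_pow, hξ, pow_succ, sq, x_mul_self h.two, one_mul, map_one, ← S.x_zero (ρ 0 1)] at this
  · exact Subgroup.mem_centralizer_singleton_iff.2 (hf.inj (by
      rw [map_mul, map_mul, hξ, a2]; exact A.hMul.commute_x ((h.mem_Psi (hρ i j)).2 (by simpa [hζ] using (c1 i j).2)) 1))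
  obtain ⟨δ, rfl⟩ := h1 y
  obtain ⟨z1, z2⟩ := h.ker_spec h2 (γ⁻¹ * (δ * γ * δ⁻¹)) (by simp [hy.eq])
  have z3 : (γ * (γ⁻¹ * (δ * γ * δ⁻¹))) ^ 5 = 1 := by rw [mul_inv_cancel_left, conj_pow, o5]; simp
  rw [Commute.mul_pow (Subgroup.mem_center_iff.1 z1 γ), o5, one_mul] at z3
  have z4 : Commute δ γ := mul_inv_eq_iff_eq_mul.1
    (inv_mul_eq_one.1 ((pow_eq_one_iff_of_coprime (by norm_num)).1 ⟨z3, z2⟩)).symm
  obtain ⟨_, ⟨_, ⟨g, rfl⟩, rfl⟩, d, e⟩ := A.exists_of_fixed (A.hMul.conn_of_injective h.inj (isOfFinOrder_tz (by omega) _))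
    (α := A.Fr [0]) (L := f.range.map (A.jx x)) (fun r hr => by obtain ⟨i, j, -, rfl, -⟩ := b1 r hr; exact b2 i j)
    (fun g hg => by obtain ⟨d, rfl⟩ := A.hMul.mem_H_iff.1 hg; exact A.Fr_torus _ d ▸ A.hMul.torus_mem_H _)
    (fun r hr => by obtain ⟨i, j, e, rfl, -⟩ := b1 r hr; exact ⟨_, f1 i j e, hξ i j⟩) (a2 ▸ z4.map (A.jx x))
    ((hf.range _).1 ⟨δ, rfl⟩)
  rw [← mul_inv_eq_iff_eq_mul, ← map_inv, ← map_mul] at e
  obtain ⟨d1, k, d2⟩ := h.torus_five hζ (h.inj ((A.Fr_torus _ d).symm.trans ((hf.range _).1 ⟨_, e⟩)))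
  have e3 : (δ * (f g)⁻¹) ^ 3 = γ ^ k := hf.inj (by rw [map_pow, map_pow, e, a2, ← map_pow, d2, map_pow])
  have e5 : θ (δ * (f g)⁻¹) ^ 5 = 1 := by
    have := (inferInstance : (Subgroup.center G).Normal).conj_mem _ (A.torus_mem_center.2 d1) x
    rw [map_pow, ← e, ← map_pow, jx_apply] at this
    rw [← map_pow, h2]
    simpa [mul_assoc] using this
  refine ⟨2 * k, g, ?_⟩
  rw [MonoidHom.comp_apply, ← mul_inv_eq_iff_eq_mul, ← map_inv, ← map_mul, mul_comm, zpow_mul, zpow_natCast, ← map_pow, ← e3,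
    map_pow, zpow_ofNat, ← pow_mul, pow_succ, e5, one_mul]

end FrobSys.SC

end StSys

end CL.Chev
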