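import Cfsg.Agent.Chev.EGData
import Cfsg.Agent.Chev.RealTab
import Cfsg.Agent.Known.StbData

/-!
# The root data of `Chev/EGData` for the types `F₄`, `E₆`, `E₇`, `E₈`
-/

set_option autoImplicit false

namespace CL.Chev

open Cfsg Cfsg.Lie Cert Finset

/-- The finite conditions behind `RS.Thomp`. -/
def Cert.Aux.thompChk (A : Aux) (D : ChevalleyDatum) {n : ℕ} (e : Fin n → Fin D.rank) (k : Fin D.rank)
    (lam : Fin D.rank → ℤ) (l : List (Fin D.rank)) (σ : Fin D.rank → Fin D.rank) : Bool :=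
  decide ((∀ i j, A.ca (e i) (A.sim (e j)) = if i = j then 2 else if i.val + 1 = j ∨ j.val + 1 = i then -1 else 0) ∧
    (∀ i, A.ca k (A.sim (e i)) = if i.val = 0 then -1 else 0) ∧
    (∀ j : Fin D.rank, 0 ≤ ∑ i, lam i * A.ca i (A.sim j) ∧ (∑ i, lam i * A.ca i (A.sim j) = 0 ↔ ∃ i, e i = j) ∧
      l.foldr (fun (i : Fin D.rank) s => A.w i s) (A.sim j) = A.ng (A.sim (σ j)) ∧
      ∑ i, lam i * A.ca i (A.sim (σ j)) = ∑ i, lam i * A.ca i (A.sim j)) ∧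
    ∀ r : Fin D.nroots, |∑ i, lam i * A.ca i r| ≤ 7)

namespace Tab

variable {D : ChevalleyDatum} {A : Aux} (T : Tab D A) (E : Real D)
include T

theorem wprod_val (l : List (Fin D.rank)) (r : Fin D.nroots) :
    (wprod E.R.sperm l r : ℕ) = l.foldr (fun (i : Fin D.rank) s => A.w i s) r := by
  induction l with
  | nil => rfl
  | cons a l ih => rw [wprod_cons, Equiv.Perm.mul_apply, RS.sperm_apply, T.sref, ih]; rfl

theorem pairv_root (lam : Fin D.rank → ℤ) (r : Fin D.nroots) : E.R.pairv lam (E.R.root r) = ∑ i, lam i * A.ca i r := by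
  simp only [RS.pairv, ← T.pair_simple E, RS.pair_simple_left]

theorem rs_chain (f : Fin D.rank → ℕ)
    (h : (∀ i j, f i = f j → i = j) ∧ ∀ i, (∀ k, f i ≤ f k) ∨ ∃ j, f j < f i ∧ A.ca j (A.sim i) = -1) : E.R.Chain :=
  ⟨f, h.1, by simpa only [T.cartan] using h.2⟩

theorem thomp {n : ℕ} (hn : n ≠ 1) (e : Fin n → Fin D.rank) (k : Fin D.rank) (lam : Fin D.rank → ℤ)
    (l : List (Fin D.rank)) (σ : Fin D.rank → Fin D.rank)
    (h : A.thompChk D e k lam l σ = true) : E.R.Thomp := by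
  obtain ⟨h1, h2, h3, h4⟩ := of_decide_eq_true h
  have hw : wprod E.R.sperm l ∈ E.R.W := StSys.NW_mem_W ((E.S ℚ).wprod_mem_NW l)
  have hσ : ∀ j, wprod E.R.sperm l (E.R.simple j) = E.R.neg (E.R.simple (σ j)) := fun j =>
    Fin.ext (by rw [T.wprod_val, T.neg, T.simple, T.simple, (h3 j).2.2.1])
  simp only [← T.simple E, ← T.pairv_root E] at h3 h4
  exact ⟨n, e, Pi.single k 1, lam, hn, fun i j => by rw [T.cartan, h1, aVec_aVec],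
    fun i => by simpa [Pi.single_apply, T.cartan] using h2 i, fun i => (h3 _).2.1.2 ⟨i, rfl⟩,
    fun r => RS.pairv_ne_zero (fun i => (h3 i).1) fun i => (h3 i).2.1.1, h4, _, hw,
    RS.pairv_aut_eq_neg hw fun i => by rw [hσ, RS.root_neg, RS.pairv_neg_right, (h3 i).2.2.2], fun i =>
      ((h3 _).2.1.1 ((h3 _).2.2.2.trans ((h3 _).2.1.2 ⟨i, rfl⟩))).imp fun j hj => by rw [hσ, hj]⟩

end Tab

theorem chain_F4 (E : Real chevF4) : E.R.Chain := tabF4.rs_chain E (fun i => 3 - i) (by decide +kernel)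
theorem chain_E6 (E : Real chevE6) : E.R.Chain := tabE6.rs_chain E (fun i => if i.val = 1 then 9 else i) (by decide +kernel)
theorem chain_E7 (E : Real chevE7) : E.R.Chain := tabE7.rs_chain E (fun i => if i.val = 1 then 9 else i) (by decide +kernel)
theorem chain_E8 (E : Real chevE8) : E.R.Chain := tabE8.rs_chain E (fun i => if i.val = 1 then 9 else i) (by decide +kernel)

theorem thomp_F4 (E : Real chevF4) : E.R.Thomp :=
  tabF4.thomp E (n := 2) (by simp) (![1, 0] : Fin 2 → Fin 4) (2 : Fin 4) (![3, 6, 9, 5] : Fin 4 → ℤ)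
    ([0, 1, 0, 2, 1, 0, 2, 1, 2, 3, 2, 1, 0, 2, 1, 2, 3, 2, 1, 0, 2, 1, 2, 3] : List (Fin 4)) id (by decide +kernel)

theorem thomp_E6 (E : Real chevE6) : E.R.Thomp :=
  tabE6.thomp E (n := 3) (by simp) (![2, 3, 4] : Fin 3 → Fin 6) (0 : Fin 6) (![3, 4, 5, 7, 5, 3] : Fin 6 → ℤ)
    ([0, 1, 2, 0, 3, 1, 2, 0, 3, 2, 4, 3, 1, 2, 0, 3, 2, 4, 3, 1, 5, 4, 3, 1, 2, 0, 3, 2, 4, 3, 1, 5, 4, 3, 2, 0] :
      List (Fin 6)) (![5, 1, 4, 3, 2, 0] : Fin 6 → Fin 6) (by decide +kernel)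

theorem thomp_E7 (E : Real chevE7) : E.R.Thomp :=
  tabE7.thomp E (n := 4) (by simp) (![2, 3, 4, 5] : Fin 4 → Fin 7) (0 : Fin 7) (![5, 7, 9, 13, 10, 7, 4] : Fin 7 → ℤ)
    ([0, 1, 2, 0, 3, 1, 2, 0, 3, 2, 4, 3, 1, 2, 0, 3, 2, 4, 3, 1, 5, 4, 3, 1, 2, 0, 3, 2, 4, 3, 1, 5, 4, 3, 2, 0, 6, 5, 4,
      3, 1, 2, 0, 3, 2, 4, 3, 1, 5, 4, 3, 2, 0, 6, 5, 4, 3, 1, 2, 3, 4, 5, 6] : List (Fin 7)) id (by decide +kernel)

theorem thomp_E8 (E : Real chevE8) : E.R.Thomp :=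
  tabE8.thomp E (n := 6) (by simp) (![2, 3, 4, 5, 6, 7] : Fin 6 → Fin 8) (0 : Fin 8)
    (![9, 13, 17, 25, 20, 15, 10, 5] : Fin 8 → ℤ)
    ([0, 1, 2, 0, 3, 1, 2, 0, 3, 2, 4, 3, 1, 2, 0, 3, 2, 4, 3, 1, 5, 4, 3, 1, 2, 0, 3, 2, 4, 3, 1, 5, 4, 3, 2, 0, 6, 5, 4,
      3, 1, 2, 0, 3, 2, 4, 3, 1, 5, 4, 3, 2, 0, 6, 5, 4, 3, 1, 2, 3, 4, 5, 6, 7, 6, 5, 4, 3, 1, 2, 0, 3, 2, 4, 3, 1, 5, 4,
      3, 2, 0, 6, 5, 4, 3, 1, 2, 3, 4, 5, 6, 7, 6, 5, 4, 3, 1, 2, 0, 3, 2, 4, 3, 1, 5, 4, 3, 2, 0, 6, 5, 4, 3, 1, 2, 3, 4,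
      5, 6, 7] : List (Fin 8)) id (by decide +kernel)

end CL.Chev
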