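/-
Squares of semisimple classes in `G₂(q)` and `B₂(q)`, with the computations for `q = 4`.
-/
import Cfsg.Agent.Chev.EGRk2
import Cfsg.Agent.Chev.TwReal
import Cfsg.Agent.Chev.TwG2

set_option autoImplicit false

namespace CL.Chev

open Matrix CL.GL2 GLv Cfsg.Lie Cert

theorem Cert.exists_ev {F : Type*} [CommRing F] (a b c d f g : F) :
    ∃ e : ℕ →* F, e 2 = a ∧ e 3 = b ∧ e 5 = c ∧ e 7 = d ∧ e 11 = f ∧ e 13 = g := by
  refine ⟨evF fun p => if p = 2 then a else if p = 3 then b else if p = 5 then c else if p = 7 then d else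
    if p = 11 then f else g, ?_, ?_, ?_, ?_, ?_, ?_⟩ <;> rw [evF_prime _ (by norm_num)] <;> simp

namespace Real

variable {D : ChevalleyDatum} (E : Real D) {F : Type*} [Field F]

/-- The root elements, indexed by numbers. -/
noncomputable def xS (r : ℕ) (t : F) : D.group F := ⟨E.xN r t, E.group_eq F ▸ E.xN_mem_grp r t⟩

theorem xS_coe (r : Fin D.nroots) (t : F) : E.xS r t = (E.Sg F).x r t := Subtype.ext (E.xN_coe r t)

theorem xS_add (r : ℕ) (t u : F) : E.xS r (t + u) = E.xS r t * E.xS r u := by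
  by_cases h : r < D.nroots
  · simp only [E.xS_coe ⟨r, h⟩, StSys.x_add]
  · exact Subtype.ext (by simp [xS, xN, h])

theorem xS_zero (r : ℕ) : E.xS r (0 : F) = 1 := mul_left_cancel (a := E.xS r 0) (by rw [← xS_add, add_zero, mul_one])

end Real

/-- `r` is a root of the unipotent radical attached to `{k}`. -/
def Cert.Aux.inU (A : Aux) (k r : ℕ) : Prop := r < A.n ∧ (∀ i < A.l, 0 ≤ A.rt r i) ∧ ∃ i < A.l, i ≠ k ∧ A.rt r i ≠ 0

instance (A : Aux) (k r : ℕ) : Decidable (A.inU k r) := by unfold Aux.inU; infer_instance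

namespace Tab

variable {D : ChevalleyDatum} {A : Aux} (T : Tab D A) (E : Real D) {F : Type*} [Field F]
include T

theorem wordS_eq (e : ℕ →* F) (h2 : (2 : F) = 0) (w w' : List (ℕ × Aux.Poly))
    (h : ((w ++ w').all fun a => Nat.blt a.1 A.n) = true ∧ A.sameWord 2 w w' = true) :
    (w.map fun a => E.xS a.1 (Aux.evalP e a.2)).prod = (w'.map fun a => E.xS a.1 (Aux.evalP e a.2)).prod :=
  Subtype.ext (by simpa [Real.word, Function.comp_def, Real.xS] using T.word_eq E e (by simpa using h2) w w' h)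

theorem inU_iff (k : Fin D.rank) (r : Fin D.nroots) : A.inU k r ↔ E.R.Pos r ∧ r ∉ E.R.PhiJ (Set.range ![k]) := by
  simp only [Aux.inU, T.lt_n, true_and, T.pos_iff E, T.mem_PhiJ E, not_forall]
  exact and_congr_right' ⟨fun ⟨i, h1, h2, h3⟩ => ⟨⟨i, T.lt_rank h1⟩, by simpa [Fin.ext_iff], h3⟩,
    fun ⟨i, h1, h2⟩ => ⟨i, T.lt_l i, by simpa [Fin.ext_iff] using h1, h2⟩⟩

theorem xS_mem_UJ {k : Fin D.rank} {r : ℕ} (h : A.inU k r) (t : F) : E.xS r t ∈ (E.Sg F).UJ (Set.range ![k]) :=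
  E.xS_coe ⟨r, T.lt_nroots h.1⟩ t ▸ (E.Sg F).x_mem_XS ((T.inU_iff E k ⟨r, _⟩).1 h) t

theorem xS_mem_VJ {k : Fin D.rank} {r : ℕ} (h : r < A.n ∧ A.inU k (A.ng r)) (t : F) :
    E.xS r t ∈ (E.Sg F).VJ (Set.range ![k]) := by
  have := (T.inU_iff E k (E.R.neg ⟨r, T.lt_nroots h.1⟩)).1 (T.neg E _ ▸ h.2)
  exact E.xS_coe ⟨r, T.lt_nroots h.1⟩ t ▸ (E.Sg F).x_mem_XS (by simpa [E.R.pos_neg_iff] using this) t

theorem exists_VJ_mul (k : Fin D.rank) (e : ℕ →* F) (h2 : (2 : F) = 0) (w w₁ w₂ : List (ℕ × Aux.Poly))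
    (h : (((w ++ (w₁ ++ w₂)).all fun a => Nat.blt a.1 A.n) = true ∧ A.sameWord 2 w (w₁ ++ w₂) = true) ∧
      ∀ a ∈ w₁, a.1 < A.n ∧ A.inU k (A.ng a.1)) : ∃ y ∈ (E.Sg F).VJ (Set.range ![k]),
      (w.map fun a => E.xS a.1 (Aux.evalP e a.2)).prod = y * (w₂.map fun a => E.xS a.1 (Aux.evalP e a.2)).prod :=
  ⟨_, list_prod_mem (List.forall_mem_map.2 fun a ha => T.xS_mem_VJ E (h.2 a ha) _),
    by rw [T.wordS_eq E e h2 _ _ h.1, List.map_append, List.prod_append]⟩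

theorem exists_of_mem_VJ {k : Fin D.rank} (L : List ℕ) (h : L.Nodup ∧ (∀ r ∈ L, r < A.n) ∧ ∀ r < A.n, r ∈ L ↔ A.inU k r)
    {v : D.group F} (hv : v ∈ (E.Sg F).VJ (Set.range ![k])) :
    ∃ t : ℕ → F, v = (L.map fun r => E.xS (A.ng r) (t r)).prod := by
  obtain ⟨l, rfl⟩ := Real.exists_map_val fun r hr => T.lt_nroots (h.2.1 r hr)
  obtain ⟨t, rfl⟩ := (E.Sg F).opp.exists_prodL (fun _ h => h.1) (E.R.closed_UJ _) (l := l) (h.1.of_map _)
    (fun r => by rw [← List.mem_map_of_injective Fin.val_injective, h.2.2 _ (T.lt_n r), T.inU_iff E]; rfl)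
    ((E.Sg F).opp_UJ _ ▸ hv)
  refine ⟨fun r => if h : r < D.nroots then t ⟨r, h⟩ else 0, ?_⟩
  simp [StSys.prodL, Function.comp_def, ← T.neg E, E.xS_coe]

theorem xS_mul_xS_neg (i : Fin D.rank) {t c : F} (h : 1 + t * c ≠ 0) : E.xS (A.sim i) t * E.xS (A.ng (A.sim i)) c =
    E.xS (A.ng (A.sim i)) (c / (1 + t * c)) * (E.full F).hMul.torus (Pi.mulSingle i (.mk0 _ h)) *
      E.xS (A.sim i) (t / (1 + t * c)) := by
  simpa only [← T.simple E, ← T.neg E, E.xS_coe, StSys.HMul.torus_mulSingle, Units.val_mk0] using (E.full F).hMul.x_mul_x_neg _ h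

variable {E} {k : Fin D.rank} {m : Fin D.rank → ℤ} (B : StSys.GLMap (E.full F).hMul ![k] m)

theorem ψ_lo (t : F) : B.ψ (lo 0 t) = E.xS (A.sim k) t := by rw [B.ψ_lo, ← T.simple E, E.xS_coe]; rfl
theorem ψ_up (t : F) : B.ψ (up 0 t) = E.xS (A.ng (A.sim k)) t := by
  rw [B.ψ_up, ← T.simple E, ← T.neg E, E.xS_coe]; rfl

theorem exists_inSq [Fintype F] (p : ℕ) [Fact p.Prime] [CharP F p] (h3 : 3 ≤ Fintype.card F) {i : Fin D.rank}
    (hw : ∀ i, E.R.w0 (E.R.simple i) = E.R.neg (E.R.simple i))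
    (h : decide ((∀ j, j ≠ i ↔ j = k) ∧ A.ca i (A.sim k) ≠ 0 ∧ ∑ j, m j * A.ca j (A.sim k) = -1 ∧ ∀ r : Fin D.nroots,
      (∀ j, j ≠ k → A.rt r j = 0) ∨ (∑ j, m j * A.ca j r, A.ca k r) ∈ [(1, -1), (0, 1), (1, 0), (2, -1), (1, 1), (2, -2),
        (0, 2), (-1, 1), (0, -1), (-1, 0), (-2, 1), (-1, -1), (-2, 2), (0, -2)]) = true)
    (h4 : Fintype.card F = 4 → ∀ A : StSys.GLMap (E.full F).hMul ![k] m, ∀ v ∈ (E.Sg F).VJ (Set.range ![k]), v ≠ 1 →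
      ∀ u ∈ (E.Sg F).UJ (Set.range ![k]), A.Mv (fun y => y.val.trace ≠ 0 ∨ IsScal y.val) (v * A.ψ (lo 0 1) * u)) :
    ∃ x : D.group F, ¬ p ∣ orderOf x ∧ ∀ g, InSq x g := by
  obtain ⟨h5, h6, h7, h8⟩ := of_decide_eq_true h
  refine E.exists_inSq p h3 (i := i) (by ext j; simpa using h5 j) (by rwa [T.cartan]) (by simpa only [T.cartan]) hw
    (fun r hr => ?_) h4
  rw [T.pairv_root, T.pair_simple]
  exact (h8 r).resolve_left fun h => hr ((T.mem_PhiJ E _ r).2 fun j hj => h j (by simpa using hj))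

end Tab

theorem exists_div_eq {F : Type*} [Field F] {t c : F} (h : t * c ≠ 1) : ∃ s, 1 + s * c ≠ 0 ∧ s / (1 + s * c) = t := by
  have := sub_ne_zero.2 h.symm
  have e : 1 + t / (1 - t * c) * c = (1 - t * c)⁻¹ := by field_simp; ring
  exact ⟨t / (1 - t * c), by simpa [e], by rw [e]; field_simp⟩

section

variable {F : Type*} [Field F] (h2 : (2 : F) = 0) (h3 : ∀ t : F, t ≠ 0 → t ^ 3 = 1) {ω : F} (hω : ω ^ 2 + ω + 1 = 0)
include h2 hω

theorem exists_cubic_ne {a b c d : F} (h : a = 0 ∧ b ≠ 0 ∨ b = 0 ∧ (c ≠ 0 ∨ d ≠ 0)) :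
    ∃ t, t * a ≠ 1 ∧ t * b + t * t * c + t * t * t * d ≠ 0 := by
  by_contra! h0
  have h4 := h0 1
  have h5 := h0 ω
  have h6 := h0 (ω + 1)
  have := zero_ne_one' F
  by_cases 1 * a = 1 <;> by_cases ω * a = 1 <;> by_cases (ω + 1) * a = 1 <;> grind

theorem mv_B2 (E : Real chevB2) (A : StSys.GLMap (E.full F).hMul ![(0 : Fin 2)] (![0, 1] : Fin 2 → ℤ)) {v u : chevB2.group F}
    (hv : v ∈ (E.Sg F).VJ (Set.range ![(0 : Fin 2)])) (h1 : v ≠ 1) (hu : u ∈ (E.Sg F).UJ (Set.range ![(0 : Fin 2)])) :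
    A.Mv (fun y => y.val.trace ≠ 0 ∨ IsScal y.val) (v * A.ψ (lo 0 1) * u) := by
  have T := tabB2
  have U := fun r h t => T.xS_mem_UJ E (F := F) (k := (0 : Fin 2)) (r := r) h t
  have V := fun r h t => T.xS_mem_VJ E (F := F) (k := (0 : Fin 2)) (r := r) h t
  have lo_eq : ∀ t, A.ψ (lo 0 t) = E.xS 5 t := T.ψ_lo A
  have up_eq : ∀ t, A.ψ (up 0 t) = E.xS 2 t := T.ψ_up A
  have c1 : ∀ a b c : F, a ≠ b → ∀ u ∈ (E.Sg F).UJ (Set.range ![(0 : Fin 2)]),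
      A.Mv (fun y => y.val.trace ≠ 0 ∨ IsScal y.val) (E.xS 3 a * (E.xS 1 b * E.xS 0 c) * A.ψ (lo 0 1) * u) :=
    fun a b c h u hu => by
      obtain ⟨t, ht, ht'⟩ : ∃ t, t ≠ 0 ∧ 1 + t * a ≠ 0 := by
        by_cases e : 1 + a = 0
        · exact ⟨ω, fun e => by simp [e] at hω, fun e' => one_ne_zero (α := F) (by grind)⟩
        · exact ⟨1, one_ne_zero, by simpa⟩
      obtain ⟨e, e2, e3, e5, -⟩ := exists_ev (t / (1 + t * a)) b c 0 0 0
      obtain ⟨y, hy, i1⟩ := T.exists_VJ_mul E (0 : Fin 2) e h2 [(4, [(1, 2)]), (1, [(1, 3)]), (0, [(1, 5)])]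
        [(1, [(1, 3)]), (0, [(1, 2 * 3 * 3), (1, 5)])] [(2, [(1, 2 * 3)]), (4, [(1, 2)])] (by decide +kernel)
      have i2 : E.xS 4 t * E.xS 3 a = E.xS 3 _ * _ * E.xS 4 _ := T.xS_mul_xS_neg E (1 : Fin 2) ht'
      simp only [List.map, List.prod_cons, List.prod_nil, Aux.evalP, List.sum_cons, List.sum_nil, map_mul, e2, e3, e5,
        Int.cast_one, one_mul, add_zero, mul_one] at i1
      have i3 : (E.full F).hMul.torus (Pi.mulSingle (1 : Fin 2) (.mk0 _ ht')) = A.ψ (dg 1 (.mk0 _ ht')) :=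
        (congrArg _ (show @Eq (Fin 2 → Fˣ) (Pi.mulSingle 1 _) fun k => _ ^ (![0, 1] : Fin 2 → ℤ) k by
          ext k; fin_cases k <;> simp)).trans (A.ψ_dg _).symm
      refine .of_mul (y := dg 1 (.mk0 _ ht') * up 0 (t / (1 + t * a) * b)) (U 4 (by decide +kernel) t) hu
        (mul_mem (V 3 (by decide +kernel) (a / (1 + t * a))) (StSys.GLMap.conj_VJ (A := A) (dg 1 (.mk0 _ ht')) hy))
        (U 4 (by decide +kernel) (t / (1 + t * a))) ?_ (.inl ?_)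
      · rw [← mul_assoc, i2, mul_assoc, i1, map_mul, up_eq, i3]
        simp only [mul_assoc, inv_mul_cancel_left]
      · simp only [Units.val_mul, lo_val2, up_val2, dg_val2, mul_fin_two]
        simp
        field_simp
        exact fun e => h (mul_left_cancel₀ ht (by grind))
  obtain ⟨t, rfl⟩ := T.exists_of_mem_VJ E [4, 6, 7] (by decide +kernel) hv
  change E.xS 3 _ * (E.xS 1 _ * (E.xS 0 _ * 1)) ≠ 1 at h1
  change A.Mv _ (E.xS 3 _ * (E.xS 1 _ * (E.xS 0 _ * 1)) * _ * _)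
  rw [mul_one] at h1 ⊢
  generalize t 4 = a, t 6 = b, t 7 = c at *
  by_cases h : a = b
  swap
  · exact c1 a b c h u hu
  subst h
  by_cases hc : c = 0
  · have ha : a ≠ 0 := fun e => h1 (by simp [e, hc, E.xS_zero])
    obtain ⟨e, e2, e3, -⟩ := exists_ev a⁻¹ a 0 0 0 0
    obtain ⟨y, hy, i1⟩ := T.exists_VJ_mul E (0 : Fin 2) e h2 [(7, [(1, 2)]), (3, [(1, 3)]), (1, [(1, 3)])]
      [(3, [(1, 2 * 3 * 3), (1, 3)]), (1, [(1, 3)])] [(5, [(1, 2 * 3)]), (7, [(1, 2)])] (by decide +kernel)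
    simp only [List.map, List.prod_cons, List.prod_nil, Aux.evalP, List.sum_cons, List.sum_nil, map_mul, e2, e3,
      Int.cast_one, one_mul, add_zero, mul_one, inv_mul_cancel₀ ha] at i1
    refine .of_mul (y := lo 0 1) (U 7 (by decide +kernel) a⁻¹) hu hy (U 7 (by decide +kernel) a⁻¹)
      (by rw [hc, E.xS_zero, mul_one, i1, lo_eq, mul_assoc]) (.inr ?_)
    simp [IsScal, lo_val2, one_add_one_eq_two, h2]
  refine .of_conj_lo ω hu fun u hu => ?_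
  obtain ⟨e, e2, e3, e5, -⟩ := exists_ev ω a c 0 0 0
  have i1 := T.wordS_eq E e h2 [(5, [(1, 2)]), (3, [(1, 3)]), (1, [(1, 3)]), (0, [(1, 5)])]
    [(3, [(1, 2 * 2 * 5), (1, 3)]), (1, [(1, 2 * 5), (1, 3)]), (0, [(1, 5)]), (5, [(1, 2)])] (by decide +kernel)
  simp only [List.map, List.prod_cons, List.prod_nil, Aux.evalP, List.sum_cons, List.sum_nil, map_mul, e2, e3, e5,
    Int.cast_one, one_mul, add_zero, mul_one] at i1
  rw [lo_eq ω, i1]
  simpa only [mul_assoc, mul_inv_cancel_left] using c1 (ω * ω * c + a) (ω * c + a) c (fun e => hc (by grind)) u hu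

include h3 in
theorem mv_G2 (E : Real chevG2) (A : StSys.GLMap (E.full F).hMul ![(1 : Fin 2)] (![1, 1] : Fin 2 → ℤ)) {v u : chevG2.group F}
    (hv : v ∈ (E.Sg F).VJ (Set.range ![(1 : Fin 2)])) (h1 : v ≠ 1) (hu : u ∈ (E.Sg F).UJ (Set.range ![(1 : Fin 2)])) :
    A.Mv (fun y => y.val.trace ≠ 0 ∨ IsScal y.val) (v * A.ψ (lo 0 1) * u) := by
  have T := tabG2
  have U := fun r h t => T.xS_mem_UJ E (F := F) (k := (1 : Fin 2)) (r := r) h t
  have V := fun r h t => T.xS_mem_VJ E (F := F) (k := (1 : Fin 2)) (r := r) h t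
  have lo_eq : ∀ t, A.ψ (lo 0 t) = E.xS 6 t := T.ψ_lo A
  have up_eq : ∀ t, A.ψ (up 0 t) = E.xS 5 t := T.ψ_up A
  have c1 : ∀ a b c d f : F, a = 0 ∧ b ≠ 0 ∨ b = 0 ∧ (c ≠ 0 ∨ d ≠ 0) →
      ∀ u ∈ (E.Sg F).UJ (Set.range ![(1 : Fin 2)]), A.Mv (fun y => y.val.trace ≠ 0 ∨ IsScal y.val)
        (E.xS 4 a * (E.xS 3 b * (E.xS 2 c * (E.xS 1 d * E.xS 0 f))) * A.ψ (lo 0 1) * u) := fun a b c d f h u hu => by
    obtain ⟨_, h, h'⟩ := exists_cubic_ne h2 hω h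
    obtain ⟨t, ht, rfl⟩ := exists_div_eq h
    obtain ⟨e, e2, e3, e5, e7, e11, -⟩ := exists_ev (t / (1 + t * a)) b c d f 0
    obtain ⟨y, hy, i1⟩ := T.exists_VJ_mul E (1 : Fin 2) e h2
      [(7, [(1, 2)]), (3, [(1, 3)]), (2, [(1, 5)]), (1, [(1, 7)]), (0, [(1, 11)])]
      [(3, [(1, 3), (1, 2 * 2 * 7)]), (2, [(1, 5), (1, 2 * 7)]), (1, [(1, 7)]),
        (0, [(1, 2 * 3 * 7), (1, 11), (1, 2 * 5 * 5)])] [(5, [(1, 2 * 3), (1, 2 * 2 * 5), (1, 2 * 2 * 2 * 7)]),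
        (7, [(1, 2)])] (by decide +kernel)
    have i2 : E.xS 7 t * E.xS 4 a = E.xS 4 _ * _ * E.xS 7 _ := T.xS_mul_xS_neg E (0 : Fin 2) ht
    simp only [List.map, List.prod_cons, List.prod_nil, Aux.evalP, List.sum_cons, List.sum_nil, map_mul, e2, e3, e5, e7,
      e11, Int.cast_one, one_mul, add_zero, mul_one, ← add_assoc] at i1
    generalize Units.mk0 _ ht = s, t / (1 + t * a) = t' at *
    have i3 : (E.full F).hMul.torus (Pi.mulSingle (0 : Fin 2) s) = A.ψ (dia (s ^ 2) s⁻¹) := by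
      rw [A.ψ_dia, ← StSys.HMul.torus_mulSingle (E.full F).hMul, ← map_mul]
      exact congrArg _ (show @Eq (Fin 2 → Fˣ) (Pi.mulSingle 0 s) ((fun k => (s ^ 2 * s⁻¹) ^ (![1, 1] : Fin 2 → ℤ) k) *
        (Pi.mulSingle 1 s⁻¹ : Fin 2 → Fˣ)) by ext k; fin_cases k <;> simp [pow_two])
    refine .of_mul (y := dia (s ^ 2) s⁻¹ * up 0 (t' * b + t' * t' * c + t' * t' * t' * d)) (U 7 (by decide +kernel) t) hu
      (mul_mem (V 4 (by decide +kernel) (a / (1 + t * a))) (StSys.GLMap.conj_VJ (A := A) (dia (s ^ 2) s⁻¹) hy))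
      (U 7 (by decide +kernel) t') (by
        rw [← mul_assoc, i2, mul_assoc, i1, map_mul, up_eq, i3]; simp only [mul_assoc, inv_mul_cancel_left]) (.inl ?_)
    simp only [Units.val_mul, lo_val2, up_val2, dia_val, mul_fin_two, trace_fin_two_of, Units.val_pow_eq_pow_val,
      Units.val_inv_eq_inv_val, show (s : F)⁻¹ = s ^ 2 by field_simp; exact (h3 _ s.ne_zero).symm]
    exact fun e => mul_ne_zero (pow_ne_zero 2 s.ne_zero) h' (by linear_combination e - s ^ 2 * h2)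
  have c2 : ∀ a b c d f s : F, A.ψ (lo 0 s) * (E.xS 4 a * (E.xS 3 b * (E.xS 2 c * (E.xS 1 d * E.xS 0 f)))) *
      (A.ψ (lo 0 s))⁻¹ = E.xS 4 (a + s * b) * (E.xS 3 b * (E.xS 2 (s * b * b + c) *
        (E.xS 1 (s * s * b * b * b + s * f + d) * E.xS 0 f))) := fun a b c d f s => by
    obtain ⟨e, e2, e3, e5, e7, e11, e13⟩ := exists_ev s b c d f a
    have i1 := T.wordS_eq E e h2 [(6, [(1, 2)]), (4, [(1, 13)]), (3, [(1, 3)]), (2, [(1, 5)]), (1, [(1, 7)]), (0, [(1, 11)])]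
      [(4, [(1, 13), (1, 2 * 3)]), (3, [(1, 3)]), (2, [(1, 2 * 3 * 3), (1, 5)]),
        (1, [(1, 2 * 2 * 3 * 3 * 3), (1, 2 * 11), (1, 7)]), (0, [(1, 11)]), (6, [(1, 2)])] (by decide +kernel)
    simp only [List.map, List.prod_cons, List.prod_nil, Aux.evalP, List.sum_cons, List.sum_nil, map_mul, e2, e3, e5, e7,
      e11, e13, Int.cast_one, one_mul, add_zero, mul_one, ← add_assoc] at i1
    rw [lo_eq, i1]; group
  obtain ⟨t, rfl⟩ := T.exists_of_mem_VJ E [7, 8, 9, 10, 11] (by decide +kernel) hv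
  change E.xS 4 _ * (E.xS 3 _ * (E.xS 2 _ * (E.xS 1 _ * (E.xS 0 _ * 1)))) ≠ 1 at h1
  change A.Mv _ (E.xS 4 _ * (E.xS 3 _ * (E.xS 2 _ * (E.xS 1 _ * (E.xS 0 _ * 1)))) * _ * _)
  rw [mul_one] at h1 ⊢
  generalize t 7 = a, t 8 = b, t 9 = c, t 10 = d, t 11 = f at *
  by_cases hb : b = 0
  swap
  · refine .of_conj_lo (a / b) hu fun u hu => ?_
    rw [c2]
    exact c1 _ _ _ _ _ (.inl ⟨by field_simp; linear_combination a * h2, hb⟩) u hu
  subst hb
  by_cases h : c ≠ 0 ∨ d ≠ 0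
  · exact c1 a 0 c d f (.inr ⟨rfl, h⟩) u hu
  obtain ⟨rfl, rfl⟩ : c = 0 ∧ d = 0 := by simpa using h
  by_cases hf : f = 0
  swap
  · exact .of_conj_lo 1 hu fun u hu => by rw [c2]; exact c1 _ _ _ _ _ (.inr ⟨rfl, .inr (by simpa)⟩) u hu
  have ha : a ≠ 0 := fun e => h1 (by simp [e, hf, E.xS_zero])
  obtain ⟨e, e2, e3, -⟩ := exists_ev a⁻¹ a 0 0 0 0
  have i1 := T.wordS_eq E e h2 [(8, [(1, 2)]), (4, [(1, 3)])] [(4, [(1, 3)]), (6, [(1, 2 * 3)]), (8, [(1, 2)])]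
    (by decide +kernel)
  simp only [List.map, List.prod_cons, List.prod_nil, Aux.evalP, List.sum_cons, List.sum_nil, map_mul, e2, e3,
    Int.cast_one, one_mul, add_zero, mul_one, inv_mul_cancel₀ ha] at i1
  refine .of_mul (y := lo 0 1) (U 8 (by decide +kernel) a⁻¹) hu (V 4 (by decide +kernel) a) (U 8 (by decide +kernel) a⁻¹)
    (by simp only [hf, E.xS_zero, mul_one, i1, lo_eq, mul_assoc]) (.inr ?_)
  simp [IsScal, lo_val2, one_add_one_eq_two, h2]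

end

theorem exists_omega_of_card_four {F : Type*} [Field F] [Fintype F] (h : Fintype.card F = 4) :
    (2 : F) = 0 ∧ (∀ t : F, t ≠ 0 → t ^ 3 = 1) ∧ ∃ ω : F, ω ^ 2 + ω + 1 = 0 := by
  have h3 : ∀ t : F, t ≠ 0 → t ^ 3 = 1 := fun t ht => by simpa [h] using FiniteField.pow_card_sub_one_eq_one t ht
  obtain ⟨h2, ω, h1, h0⟩ := field_four h
  exact ⟨h2, h3, ω, mul_left_cancel₀ (sub_ne_zero.2 h1) (by linear_combination h0)⟩

variable {F : Type*} [Field F] [Fintype F] (p : ℕ) [Fact p.Prime] [CharP F p] (h3 : 3 ≤ Fintype.card F)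
include h3

theorem exists_inSq_G2 : ∃ x : chevG2.group F, ¬ p ∣ orderOf x ∧ ∀ g, InSq x g :=
  tabG2.exists_inSq (E := realG2) p h3 (i := (0 : Fin 2)) (w0_simple_G2 (realG2.cartanM_eq.trans datCartan_G2))
    (by decide +kernel) fun h A _ hv h1 _ hu => (exists_omega_of_card_four h).2.2.elim fun _ hω =>
      mv_G2 (exists_omega_of_card_four h).1 (exists_omega_of_card_four h).2.1 hω _ A hv h1 hu

theorem exists_inSq_B2 : ∃ x : chevB2.group F, ¬ p ∣ orderOf x ∧ ∀ g, InSq x g :=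
  tabB2.exists_inSq (E := realB2) p h3 (i := (1 : Fin 2)) (RS.w0_simple_eq_neg (ι := Fin 2) (R := realB2.R)
    (A := !![2, -2; -1, 2]) (realB2.cartanM_eq.trans (matrix_ext_of_all (n := 2) (by decide +kernel))) (by decide +kernel))
    (by decide +kernel) fun h A _ hv h1 _ hu => (exists_omega_of_card_four h).2.2.elim fun _ hω =>
      mv_B2 (exists_omega_of_card_four h).1 hω _ A hv h1 hu

end CL.Chev
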