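/-
The Levi subgroup `GL₂(q)` of `²F₄(q)`.
-/
import Cfsg.Agent.Chev.EGTri1
import Cfsg.Agent.Known.TwSF4

set_option autoImplicit false

namespace CL.Chev

open Matrix CL.GL2 GLv Cfsg

namespace StSys

variable {Φ : Type} {F : Type*} [Field F] {G : Type*} [Group G] {R : RS (Fin 4) Φ}

/-- The root elements of the orbit `{α₀, α₃}`. -/
def xJ (S : StSys R F G) (θ : F ≃+* F) (t : F) : G := S.x (R.simple 0) (θ t) * S.x (R.simple 3) t

namespace GAut.IsF4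

variable {S : StSys R F G} {A : S.GAut} {θ : F ≃+* F} {c d : Φ} (h : A.IsF4 θ c d)
include h

theorem two : (2 : F) = 0 := h.suzP.two

/-- The map from `GL₂` to the Levi subgroup of the node `0`. -/
noncomputable def gl0 : GLMap h.hMul ![0] (Pi.single 1 1) :=
  (h.hMul.nonempty_glMap (by simp [Pi.single_apply, h.ca]; rfl) (exists_SL2' h.hMul _)).some

/-- The map from `GL₂` to the Levi subgroup of the node `3`. -/
noncomputable def gl3 : GLMap h.hMul ![3] (Pi.single 2 1) :=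
  (h.hMul.nonempty_glMap (by simp [Pi.single_apply, h.ca]; rfl) (exists_SL2' h.hMul _)).some

theorem chi_s (i : Fin 4) (a : Fin 4 → Fˣ) :
    R.chi Fˣ (R.simple i) a = a 0 ^ Cox.cF4 0 i * a 1 ^ Cox.cF4 1 i * a 2 ^ Cox.cF4 2 i * a 3 ^ Cox.cF4 3 i := by
  simp only [R.chi_apply, R.pair_simple_simple, h.ca, Fin.prod_univ_four]

theorem commute_gl (y y' : GL2 F) : Commute (h.gl0.ψ y) (h.gl3.ψ y') := by
  have key : ∀ {g : G}, g ∈ S.XS (R.PhiJ {0}) → (∀ t, Commute g (h.gl3.ψ (dg 1 t))) → Commute g (h.gl3.ψ y') :=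
    fun {g} hg h1 => (Subgroup.mem_centralizer_singleton_iff.1 ((eq_top_GL
      (K := (Subgroup.centralizer {g}).comap h.gl3.ψ)
      (fun i t => Subgroup.mem_centralizer_singleton_iff.2 (by
        rw [h.gl3.ψ_lo, Subsingleton.elim i 0]; exact (S.commute_of_cartan (h.ca 0 3) hg (S.x_mem_L _ _)).symm))
      (fun i t => Subgroup.mem_centralizer_singleton_iff.2 (by
        rw [h.gl3.ψ_up, Subsingleton.elim i 0]; exact (S.commute_of_cartan (h.ca 0 3) hg (S.x_neg_mem_L _ _)).symm))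
      fun t => Subgroup.mem_centralizer_singleton_iff.2 (h1 t).symm).ge (Subgroup.mem_top y'))).symm
  have h2 : ∀ y t, Commute (h.gl0.ψ y) (h.gl3.ψ (dg 1 t)) := fun y t => by
    rw [h.gl3.ψ_dg]
    exact (h.gl0.commute_torus (fun i => by rw [Subsingleton.elim i 0]; simp [h.chi_s, Cox.cF4]) y).symm
  refine Subgroup.mem_centralizer_singleton_iff.1 ((eq_top_GL
    (K := (Subgroup.centralizer {h.gl3.ψ y'}).comap h.gl0.ψ)
    (fun i t => Subgroup.mem_centralizer_singleton_iff.2 (key ?_ (h2 _)))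
    (fun i t => Subgroup.mem_centralizer_singleton_iff.2 (key ?_ (h2 _)))
    fun t => Subgroup.mem_centralizer_singleton_iff.2 ?_).ge (Subgroup.mem_top y))
  · rw [h.gl0.ψ_lo, Subsingleton.elim i 0]; exact S.x_mem_L _ _
  · rw [h.gl0.ψ_up, Subsingleton.elim i 0]; exact S.x_neg_mem_L _ _
  · rw [h.gl0.ψ_dg]
    exact h.gl3.commute_torus (fun i => by rw [Subsingleton.elim i 0]; simp [h.chi_s, Cox.cF4]) y'

/-- The Levi subgroup as an image. -/
noncomputable def psi : GL2 F →* G :=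
  ((h.gl0.ψ.comp (GeneralLinearGroup.map (θ : F →+* F))).noncommCoprod h.gl3.ψ fun _ _ => h.commute_gl _ _).comp
    ((MonoidHom.id _).prod (MonoidHom.id _))

theorem psi_apply (y : GL2 F) : h.psi y = h.gl0.ψ (GeneralLinearGroup.map (θ : F →+* F) y) * h.gl3.ψ y := rfl

theorem psi_lo (t : F) : h.psi (lo 0 t) = S.xJ θ t := by
  rw [psi_apply, h.gl3.ψ_lo, show GeneralLinearGroup.map (θ : F →+* F) (lo (0 : Fin 1) t) = lo 0 (θ t) from
    Units.ext (by ext a b; fin_cases a <;> fin_cases b <;> simp [lo_val2]), h.gl0.ψ_lo]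
  rfl

theorem psi_up (t : F) : h.psi (up 0 t) = S.opp.xJ θ t := by
  rw [psi_apply, h.gl3.ψ_up, show GeneralLinearGroup.map (θ : F →+* F) (up (0 : Fin 1) t) = up 0 (θ t) from
    Units.ext (by ext a b; fin_cases a <;> fin_cases b <;> simp [up_val2]), h.gl0.ψ_up]
  rfl

theorem psi_dia (a b : Fˣ) : h.psi (dia a b) =
    h.hMul.torus ![Units.map (θ : F →* F) b, Units.map (θ : F →* F) (a * b), a * b, b] := by
  rw [psi_apply, show GeneralLinearGroup.map (θ : F →+* F) (dia a b) = dia (Units.map (θ : F →* F) a)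
    (Units.map (θ : F →* F) b) from Units.ext (by ext a b; fin_cases a <;> fin_cases b <;> simp [dia_val]),
    h.gl0.ψ_dia, h.gl3.ψ_dia, ← h.hMul.torus_mulSingle, ← h.hMul.torus_mulSingle, ← map_mul h.hMul.torus,
    ← map_mul h.hMul.torus, ← map_mul h.hMul.torus]
  congr 1
  ext i : 1
  fin_cases i <;> simp

theorem psi_dia_mem_H (a b : Fˣ) : h.psi (dia a b) ∈ S.H := h.psi_dia a b ▸ h.hMul.torus_mem_H _

theorem psi_torus {a : Fin 4 → Fˣ} (ha : A.τ a = a) : h.psi (dia (a 2 / a 3) (a 3)) = h.hMul.torus a := by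
  obtain ⟨h1, h2⟩ := (h.τ_eq_iff a).1 ha
  rw [psi_dia]
  congr 1
  ext i
  fin_cases i <;> simp [h1, h2]

theorem psi_mem_LJ (y : GL2 F) : h.psi y ∈ S.LJ (jF4 0) :=
  mul_mem (sup_le_sup_left (S.XS_mono (R.PhiJ_mono (by simp [jF4]))) _ (h.gl0.mem_LJ _))
    (sup_le_sup_left (S.XS_mono (R.PhiJ_mono (by simp [jF4]))) _ (h.gl3.mem_LJ _))

theorem σ_xJ (t : F) : A.σ (S.xJ θ t) = S.xJ θ t ∧ A.σ (S.opp.xJ θ t) = S.opp.xJ θ t := by
  obtain ⟨p0, -, -, p3⟩ := h.π_eq ▸ piF4_apply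
  exact ⟨A.fix_pair (h.ca 0 3) p0 p3 ((h.φ0 _).trans (h.sq t)) (h.φ3 t),
    A.opp.fix_pair (h.ca 0 3) p0 p3 ((h.φ0 _).trans (h.sq t)) (h.φ3 t)⟩

theorem σ_psi (y : GL2 F) : A.σ (h.psi y) = h.psi y :=
  (eq_top_GL (K := (A.σ.toMonoidHom.comp h.psi).eqLocus h.psi)
    (fun i t => show A.σ (h.psi _) = _ by rw [Subsingleton.elim i 0, psi_lo]; exact (h.σ_xJ t).1)
    (fun i t => show A.σ (h.psi _) = _ by rw [Subsingleton.elim i 0, psi_up]; exact (h.σ_xJ t).2)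
    fun t => show A.σ (h.psi _) = _ by
      rw [show dg 1 t = dia t 1 from Units.ext (by rw [dg_val2, dia_val]; rfl), psi_dia, A.map_torus,
        (h.τ_eq_iff _).2 ⟨rfl, rfl⟩]).ge (Subgroup.mem_top y)

theorem psi_w : h.psi (lo 0 1 * up 0 (-1) * lo 0 1) = wprod S.nS (wF4 0) := by
  simp only [map_mul, psi_lo, psi_up, xJ, map_one, map_neg]
  simpa [wF4, nS] using S.prod_n_eq (l := [0, 3]) (by simp [h.ca, Cox.cF4]) 1

theorem π_mem (k : Fin 2) (i : Fin 4) : A.π i ∈ jF4 k ↔ i ∈ jF4 k := h.π_eq ▸ (orbit_jF4 k).apply_mem_iff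

variable [Finite Φ]

theorem wprod_NW (k : Fin 2) : (wprod S.nS (wF4 k), R.w0J (jF4 k)) ∈ S.NW := by
  rw [RS.w0J_eq_wprod h.cartan (wF4 k) (fun i hi => (mem_jF4 k i).2 hi) (by simp only [mem_jF4]; revert k; decide +kernel)]
  exact S.wprod_mem_NW _

theorem σ_wprod (k : Fin 2) : A.σ (wprod S.nS (wF4 k)) = wprod S.nS (wF4 k) := by
  rw [A.map_wprod, h.π_eq]
  refine h.adjoint.wprod_eq h.two ?_
  rw [← RS.w0J_eq_wprod h.cartan (J := jF4 k) (wF4 k) (fun i hi => (mem_jF4 k i).2 hi)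
    (by simp only [mem_jF4]; revert k; decide +kernel), ← RS.w0J_eq_wprod h.cartan (J := jF4 k) _
    (by simp only [mem_jF4]; revert k; decide) (by simp only [mem_jF4]; revert k; decide +kernel)]

omit [Finite Φ] in
theorem exists_lo {u : G} (hu : u ∈ S.XP (jF4 0)) (e : A.σ u = u) : ∃ t, h.psi (lo 0 t) = u :=
  (h.fix_pair_iff.1 ⟨hu, e⟩).imp fun t e => (h.psi_lo t).trans e.symm

theorem exists_up {u : G} (hu : u ∈ S.opp.XP (jF4 0)) (e : A.σ u = u) : ∃ t, h.psi (up 0 t) = u := by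
  obtain ⟨p0, -, -, p3⟩ := h.π_eq ▸ piF4_apply
  obtain ⟨t, rfl⟩ := (A.opp.fix_pair_iff h.faithful.opp.uFaithful (h.ca 0 3) p0 p3 fun t =>
    (h.φ3 _).trans ((congrArg θ (h.φ0 t)).trans (h.sq' t))).1 ⟨hu, e⟩
  refine ⟨θ t ^ 2, ?_⟩
  rw [psi_up, xJ, h.sq', ← h.φ0]
  rfl

theorem exists_psi {l : G} (hl : l ∈ S.LJ (jF4 0)) (e : A.σ l = l) : ∃ y, h.psi y = l := by
  have hS := h.faithful
  obtain ⟨n, w, hn, u, hu, u', hu', rfl⟩ := exists_bruhat (S.P_le_grp _ (S.LJ_le_P _ hl))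
  obtain ⟨e1, e2, e3⟩ := A.fixed_bruhat hS hn hu hu' e
  have hw := (hS.mem_P_iff_of_mem_cell ((mem_cell_iff hn).2 ⟨u, S.U_le_B hu, u', S.U_le_B
    (S.XS_mono (fun _ h => h.1) hu'), rfl⟩)).1 (S.LJ_le_P _ hl)
  have h1 : u' ∈ S.XP (jF4 0) := S.XS_mono (fun _ hr => And.intro hr.1 (R.inv_subset_PhiJ hw hr)) hu'
  have h2 := hS.mem_XP_of_mem_LJ hu (J := jF4 0) ((Subgroup.mul_mem_cancel_right _ (mem_LJ_of_NW hn hw)).1
    ((Subgroup.mul_mem_cancel_right _ (S.XP_le_LJ _ h1)).1 hl))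
  obtain ⟨t, rfl⟩ := h.exists_lo h2 e1
  obtain ⟨t', rfl⟩ := h.exists_lo h1 e3
  suffices ∃ y, h.psi y = n from this.elim fun y e => ⟨lo 0 t * y * lo 0 t', by rw [map_mul, map_mul, e]⟩
  by_cases h3 : w = 1
  · obtain ⟨a, ha, rfl⟩ := h.exists_torus (NW_one_iff.1 (h3 ▸ hn)) e2
    exact ⟨_, h.psi_torus ha⟩
  · obtain ⟨a, ha, e4⟩ := h.exists_torus (NW_mul_inv_mem_H ((A.isSym hS).eq_w0J (h.π_eq ▸ orbit_jF4 0) hw h3
      (A.commute_of_fixed hS hn e2) ▸ hn) (h.wprod_NW 0)) (by rw [map_mul, map_inv, e2, h.σ_wprod])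
    exact ⟨_, (map_mul _ _ _).trans ((congrArg₂ _ (h.psi_torus ha) h.psi_w).trans (eq_mul_inv_iff_mul_eq.1 e4))⟩

end GAut.IsF4

end StSys

end CL.Chev
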