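/-
Gauss decomposition with prescribed determinant of the Levi component in `²F₄(q)`.
-/
import Cfsg.Agent.Chev.EGOct1

set_option autoImplicit false

namespace CL.Chev

open Matrix CL.GL2 GLv Cfsg

namespace StSys

variable {Φ : Type} {F : Type*} [Field F] {G : Type*} [Group G]

namespace GAut

section
variable {ι : Type} [Fintype ι] [DecidableEq ι] {R : RS ι Φ} {S : StSys R F G} (A : S.GAut) (J : Set ι)

/-- A conjugate of `g` lies in the big cell and has the Levi component `l`. -/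
def MvJ (g l : G) : Prop := ∃ x, A.σ x = x ∧ ∃ v ∈ S.VJ J, ∃ u ∈ S.UJ J, x * g * x⁻¹ = v * l * u

variable {A J}

theorem MvJ.of_mul {g x n l l' a v u u' : G} (hx : A.σ x = x) (hu' : u' ∈ S.UJ J) (hl' : l' ∈ S.LJ J)
    (e : x * g * x⁻¹ = n * (u' * l')) (ha : a ∈ S.UJ J) (ha' : A.σ a = a) (hv : v ∈ S.VJ J) (hu : u ∈ S.UJ J)
    (e' : a * n = v * l * u) : A.MvJ J g (l * l') :=
  ⟨a * x, by rw [map_mul, ha', hx], v, hv, _, mul_mem (inv_conj_mem_of_normalizer (S.LJ_le_normalizer_UJ _ hl')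
    (mul_mem hu hu')) (inv_mem ha), by
      rw [show a * x * g * (a * x)⁻¹ = a * (x * g * x⁻¹) * a⁻¹ by group, e, ← mul_assoc a, e']; group⟩

end

variable {R : RS (Fin 4) Φ} {S : StSys R F G} (A : S.GAut)

/-- A word for the longest element. -/
def omF4 : List (Fin 4) := wF4 1 ++ wF4 0 ++ (wF4 1 ++ wF4 0) ++ (wF4 1 ++ wF4 0) ++ (wF4 1 ++ wF4 0)

/-- The two identities over the prime field. -/
def TwoF : Prop := ∀ ε : F, ε = 0 ∨ ε = 1 → ∃ a ∈ S.UJ (jF4 0), A.σ a = a ∧ ∃ v ∈ S.VJ (jF4 0), ∃ u ∈ S.UJ (jF4 0),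
  a * wprod S.nS omF4 = v * (S.x (R.simple 0) ε * S.x (R.simple 3) ε * wprod S.nS (wF4 0)) * u

variable {A}

namespace IsF4

variable {θ : F ≃+* F} {c d : Φ} (h : A.IsF4 θ c d)
include h

theorem wprod_omF4 (i : Fin 4) : wprod R.sperm omF4 (R.simple i) = R.neg (R.simple i) := R.root_inj (by
  rw [RS.root_wprod_simple h.cartan, R.root_neg, R.root_simple]; revert i; decide +kernel)

theorem exists_sq (z : Fˣ) : ∃ s : Fˣ, s * s = z :=
  ⟨Units.map (θ : F →* F) (Units.map (θ : F →* F) z), Units.ext (by simpa [pow_two] using h.sq z)⟩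

variable [Finite Φ] (hG : S.grp = ⊤)

theorem σ_om : A.σ (wprod S.nS omF4) = wprod S.nS omF4 := by
  simp only [omF4, wprod_append, map_mul, h.σ_wprod]

omit [Finite Φ] in
theorem conj_nI (s : Fˣ) : wprod S.nS (wF4 1) * h.psi (dia s 1) * (wprod S.nS (wF4 1))⁻¹ = (h.psi (dia s 1))⁻¹ := by
  have e : ∀ i ∈ [1, 2], ∀ t : Fˣ, wprod S.nS (wF4 1) * S.h (R.simple i) t * (wprod S.nS (wF4 1))⁻¹ =
      (S.h (R.simple i) t)⁻¹ := fun i hi t => by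
    rw [h.hMul.conj_h (S.induces_wprod _) _ t.ne_zero, ← h.hMul.h_neg_root _ t.ne_zero]
    congr 1
    refine R.root_inj ?_
    rw [RS.root_wprod_simple h.cartan, R.root_neg, R.root_simple]
    revert i; decide +kernel
  rw [psi_dia, show (![Units.map (θ : F →* F) 1, Units.map (θ : F →* F) (s * 1), s * 1, 1] : Fin 4 → Fˣ) =
    Pi.mulSingle 1 (Units.map (θ : F →* F) s) * Pi.mulSingle 2 s by ext i : 1; fin_cases i <;> simp, map_mul,
    h.hMul.torus_mulSingle, h.hMul.torus_mulSingle, (h.hMul.commute_h _ _ (Units.ne_zero _) s.ne_zero).mul_inv,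
    ← e 1 (by simp), ← e 2 (by simp)]
  group

include hG

theorem mem_of_fixed {K : Subgroup G} (D : A.TwData jF4 K) (hT : ∀ a, A.τ a = a → h.hMul.torus a ∈ K) {g : G}
    (e : A.σ g = g) : g ∈ K :=
  D.mem_of_fixed h.faithful hG (fun _ hg e => let ⟨a, ha, e'⟩ := h.exists_torus hg e; e' ▸ hT a ha) e

variable {K : Subgroup G} (D : A.TwData jF4 K) (hT : ∀ a, A.τ a = a → h.hMul.torus a ∈ K)
include D hT

theorem exists_gauss {n : G} (hn : n ∈ S.N) (e : A.σ n = n) : ∃ a ∈ S.U, A.σ a = a ∧ ∃ y ∈ S.V, A.σ y = y ∧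
    ∃ s t, ∃ x ∈ S.U, A.σ x = x ∧ a * n = y * h.psi (dia s t) * x := by
  obtain ⟨a, ha, k₁, y, hy, k₂, _, hb, e₁⟩ := D.exists_mul_eq_V_mul h.faithful hG hn (h.mem_of_fixed hG D hT e)
  replace k₁ := D.fix _ k₁
  replace k₂ := D.fix _ k₂
  obtain ⟨u, hu, k, hk, rfl⟩ := S.mem_B_iff.1 hb
  obtain ⟨k₃, k₄, -⟩ := A.fixed_bruhat h.faithful (S.mem_NW_of_mem_H hk) hu (one_mem _) (by
    rw [mul_one, ← inv_mul_eq_iff_eq_mul.2 e₁]; simp only [map_mul, map_inv, e, k₁, k₂])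
  obtain ⟨b, hb', rfl⟩ := h.exists_torus hk k₄
  exact ⟨a, ha, k₁, y, hy, k₂, _, _, _, inv_conj_mem_of_normalizer (S.H_le_normalizer_U hk) hu,
    by simp only [map_mul, map_inv, k₃, k₄], by rw [h.psi_torus hb', e₁]; group⟩

theorem exists_suz (z : Fˣ) : ∃ m ∈ S.XP (jF4 1), A.σ m = m ∧ ∃ y ∈ S.V, A.σ y = y ∧
    ∃ s t, s * t = z ∧ ∃ x ∈ S.U, A.σ x = x ∧ m * wprod S.nS (wF4 1) = y * h.psi (dia s t) * x := by
  obtain ⟨a, ha, k₁, y, hy, k₂, s, t, x, hx, k₃, e⟩ := h.exists_gauss hG D hT (NW_mem_N (h.wprod_NW 1)) (h.σ_wprod 1)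
  obtain ⟨m, hm, b, hb, k₄, k₅, rfl⟩ := exists_fixed_mul_UJ h.faithful (h.π_mem 1) ha k₁
  obtain ⟨r, hr⟩ := h.exists_sq (z / (s * t))
  have h1 := S.UJ_le_U _ (inv_conj_mem_of_normalizer (S.LJ_le_normalizer_UJ _ (mem_LJ_of_NW (h.wprod_NW 1)
    (R.w0J_mem _))) (inv_mem hb))
  have h2 := h.psi_dia_mem_H r 1
  have h3 := h.σ_psi (dia r 1)
  have h4 : h.psi (dia (r * s * r) t) = h.psi (dia r 1) * h.psi (dia s t) * h.psi (dia r 1) := by
    rw [← map_mul, ← map_mul]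
    exact congrArg _ (Units.ext (by simp [dia_val]))
  refine ⟨_, conj_mem_of_normalizer (S.H_le_normalizer_XS _ h2) hm, by simp only [map_mul, map_inv, h3, k₄], _,
    conj_mem_of_normalizer (S.H_le_normalizer_V h2) hy, by simp only [map_mul, map_inv, h3, k₂], r * s * r, t,
    by rw [mul_right_comm r, hr, mul_assoc, div_mul_cancel], _,
    inv_conj_mem_of_normalizer (S.H_le_normalizer_U h2) (mul_mem hx h1),
    by simp only [map_mul, map_inv, h3, k₃, k₅, h.σ_wprod], ?_⟩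
  rw [h4, mul_assoc, ← h.conj_nI]
  calc _ = h.psi (dia r 1) * (m * b * wprod S.nS (wF4 1)) * ((wprod S.nS (wF4 1))⁻¹ * b⁻¹ * wprod S.nS (wF4 1)) *
      h.psi (dia r 1) := by group
    _ = _ := by rw [e, h.conj_nI]; group

theorem exists_mul_eq {n : G} {w : Equiv.Perm Φ} (hn : (n, w) ∈ S.NW) (e : A.σ n = n)
    (hw : ∀ i ∈ jF4 1, ¬ R.Pos (w (R.simple i))) (z : Fˣ) :
    ∃ a ∈ S.UJ (jF4 0), A.σ a = a ∧ ∃ v ∈ S.VJ (jF4 0), ∃ y, GeneralLinearGroup.det y = z ∧ ∃ u ∈ S.UJ (jF4 0),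
      a * n = v * h.psi y * u := by
  have hS := h.faithful
  have hI := h.wprod_NW 1
  have kI := h.σ_wprod 1
  obtain ⟨a₁, ha₁, k₁, y, hy, k₂, s, t, u₁, hu₁, k₃, e₁⟩ := h.exists_gauss hG D hT (NW_mem_N (NW_mul hn (NW_inv hI)))
    (by rw [map_mul, map_inv, e, kI])
  obtain ⟨m, hm, u₂, hu₂, k₅, k₆, rfl⟩ := exists_fixed_mul_UJ hS (h.π_mem 1) hu₁ k₃
  obtain ⟨m', hm', k₇, y₂, hy₂, k₈, s', t', hz, x₂, hx₂, k₉, e₃⟩ := h.exists_suz hG D hT (z / (s * t))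
  have k₄ := h.σ_psi (dia s t)
  have hh₁ := h.psi_dia_mem_H s t
  generalize wprod S.nS (wF4 1) = nI at *
  have h0 : nI⁻¹ * (m⁻¹ * m') * nI ∈ S.XM (jF4 1) := (conj_mem_XP_iff (NW_induces hI)).1 (by
    simpa [mul_assoc] using mul_mem (inv_mem hm) hm')
  have h1 : n * (nI⁻¹ * (m⁻¹ * m') * nI) * n⁻¹ ∈ S.U := (NW_induces hn).conj_mem_XS (fun r hr => by
    have := R.not_pos_apply_of_simple_neg (NW_induces hn).1 hw ((R.pos_neg_iff r).2 hr.1) (by simpa using hr.2)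
    rwa [RS.aut_neg (NW_induces hn).1, R.pos_neg_iff, not_not] at this) h0
  have h2 := inv_conj_mem_of_normalizer (S.LJ_le_normalizer_UJ _ (mul_mem (S.XP_le_LJ _ (mul_mem (inv_mem hm) hm'))
    (mem_LJ_of_NW hI (R.w0J_mem _)))) hu₂
  obtain ⟨m₀, hm₀, a, ha, j₀, j₁, e₄⟩ := exists_fixed_mul_UJ hS (h.π_mem 0) (mul_mem ha₁ h1)
    (by simp only [map_mul, map_inv, e, k₁, k₅, k₇, kI])
  obtain ⟨m₂, hm₂, v, hv, j₂, -, e₅⟩ := exists_fixed_mul_UJ (A := A.opp) hS.opp (h.π_mem 0) (S.opp_U ▸ mul_mem hy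
    (conj_mem_of_normalizer (S.H_le_normalizer_V hh₁) hy₂)) (by
      change A.σ _ = _; simp only [map_mul, map_inv, k₂, k₄, k₈])
  obtain ⟨m₃, hm₃, u, hu, j₃, -, e₆⟩ := exists_fixed_mul_UJ hS (h.π_mem 0) (mul_mem hx₂ (S.UJ_le_U _ h2))
    (by simp only [map_mul, map_inv, k₅, k₆, k₇, k₉, kI])
  obtain ⟨t₀, rfl⟩ := h.exists_lo hm₀ j₀
  obtain ⟨t₂, rfl⟩ := h.exists_up hm₂ j₂
  obtain ⟨t₃, rfl⟩ := h.exists_lo hm₃ j₃
  refine ⟨a, ha, j₁, _, conj_mem_of_normalizer (S.LJ_le_normalizer_VJ _ (h.psi_mem_LJ ((lo 0 t₀)⁻¹ * up 0 t₂)))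
    (S.opp_UJ _ ▸ hv), (lo 0 t₀)⁻¹ * up 0 t₂ * dia s t * dia s' t' * lo 0 t₃, Units.ext ?_, u, hu, ?_⟩
  · have := congrArg Units.val hz
    simp only [Units.val_mul, Units.val_div_eq_div_val] at this
    simp [lo_val2, up_val2, dia_val, this, mul_div_cancel₀]
  calc _ = (h.psi (lo 0 t₀))⁻¹ * (a₁ * (n * nI⁻¹)) * (m⁻¹ * m' * nI) := by
        rw [← inv_mul_eq_iff_eq_mul.2 e₄]; group
    _ = (h.psi (lo 0 t₀))⁻¹ * y * h.psi (dia s t) * (m' * nI) * ((m⁻¹ * m' * nI)⁻¹ * u₂ * (m⁻¹ * m' * nI)) := by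
        rw [e₁]; group
    _ = (h.psi (lo 0 t₀))⁻¹ * (y * (h.psi (dia s t) * y₂ * (h.psi (dia s t))⁻¹)) * h.psi (dia s t) * h.psi (dia s' t') *
        (x₂ * ((m⁻¹ * m' * nI)⁻¹ * u₂ * (m⁻¹ * m' * nI))) := by rw [e₃]; group
    _ = _ := by rw [e₅, e₆]; simp only [map_mul, map_inv]; group

omit D hT in
theorem exists_conj_eq {g : G} (e : A.σ g = g) (hg : g ∉ S.P (jF4 0)) : ∃ x n w p, A.σ x = x ∧ (n, w) ∈ S.NW ∧
    A.σ n = n ∧ p ∈ S.P (jF4 0) ∧ A.σ p = p ∧ x * g * x⁻¹ = n * p ∧ (∀ i ∈ jF4 0, R.Pos (w (R.simple i))) ∧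
      ∀ i ∈ jF4 1, ¬ R.Pos (w (R.simple i)) := by
  have hS := h.faithful
  obtain ⟨n, w, hn, u, hu, u', hu', rfl⟩ := exists_bruhat (hG ▸ Subgroup.mem_top g)
  obtain ⟨e1, e2, e3⟩ := A.fixed_bruhat hS hn hu hu' e
  have h1 := S.B_le_P (jF4 0) (S.U_le_B (mul_mem (S.XS_mono (fun _ h => h.1) hu') hu))
  have h2 : w ∉ R.WJ (jF4 0) := fun h => hg (mem_P_iff.2 ⟨w, h, (mem_cell_iff hn).2 ⟨u, S.U_le_B hu, u', S.U_le_B
    (S.XS_mono (fun _ h => h.1) hu'), rfl⟩⟩)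
  have key : ∀ {n w}, (n, w) ∈ S.NW → A.σ n = n → ∀ k, ∀ i ∈ jF4 k, ¬ R.Pos (w (R.simple i)) →
      ∀ j ∈ jF4 k, ¬ R.Pos (w (R.simple j)) := fun {n w} hn e k i hi h1 j hj =>
    (h.π_eq ▸ orbit_jF4 k : IsOrbit A.π _).forall_of_exists (p := fun j => ¬ R.Pos (w (R.simple j))) (fun k => by
      rw [← (A.isSym hS).simple, ← Equiv.Perm.mul_apply, ← A.commute_of_fixed hS hn e, Equiv.Perm.mul_apply,
        (A.isSym hS).pos]) hi hj h1
  have key' : ∀ {n w}, (n, w) ∈ S.NW → A.σ n = n → w ≠ 1 → (∀ i ∈ jF4 0, R.Pos (w (R.simple i))) →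
      ∀ i ∈ jF4 1, ¬ R.Pos (w (R.simple i)) := fun {n w} hn e h1 h2 => by
    obtain ⟨i, hi⟩ := R.exists_simple_mem_inv (NW_mem_W hn) h1
    refine key hn e 1 i ?_ hi.2
    exact (mem_jF4 _ _).2 (((by decide : ∀ i : Fin 4, i ∈ wF4 0 ∨ i ∈ wF4 1) i).resolve_left
      fun e => hi.2 (h2 i ((mem_jF4 _ _).2 e)))
  by_cases h3 : ∀ i ∈ jF4 0, R.Pos (w (R.simple i))
  · exact ⟨u⁻¹, n, w, _, by rw [map_inv, e1], hn, e2, h1, by rw [map_mul, e1, e3], by group, h3,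
      key' hn e2 (fun e => h2 (e ▸ one_mem _)) h3⟩
  push Not at h3
  obtain ⟨i, hi, h3⟩ := h3
  have h4 := h.σ_wprod 0
  have h5 := NW_mul hn (h.wprod_NW 0)
  have h6 := R.pos_mul_w0J (NW_induces hn).1 (key hn e2 0 i hi h3)
  have h7 : A.σ (n * wprod S.nS (wF4 0)) = n * wprod S.nS (wF4 0) := by rw [map_mul, e2, h4]
  exact ⟨u⁻¹, _, _, _, by rw [map_inv, e1], h5, h7, mul_mem (inv_mem (mem_P_of_NW (h.wprod_NW 0) (R.w0J_mem _))) h1,
    by simp only [map_mul, map_inv, e1, e3, h4], by group, h6, key' h5 h7 (fun e => h2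
      ((Subgroup.mul_mem_cancel_right _ (R.w0J_mem _)).1 (e ▸ one_mem _))) h6⟩

omit hG D hT in
theorem exists_levi {p : G} (hp : p ∈ S.P (jF4 0)) (e : A.σ p = p) : ∃ u ∈ S.UJ (jF4 0), ∃ y, p = u * h.psi y := by
  obtain ⟨u, hu, l, hl, rfl⟩ := S.mem_P_iff_UJ_LJ.1 hp
  have h1 := inv_conj_mem_of_normalizer (S.LJ_le_normalizer_UJ _ hl) hu
  obtain ⟨y, rfl⟩ := h.exists_psi hl
    (fixed_VLU h.faithful (h.π_mem 0) (one_mem _) hl h1 (by simpa [mul_assoc] using e)).2.1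
  exact ⟨u, hu, y, rfl⟩

theorem stepA (h2 : A.TwoF) {g : G} (e : A.σ g = g) (hg : g ∉ S.P (jF4 0)) :
    ∃ y y' : GL2 F, (y * y').val.det = 1 ∧ ∀ γ : F, A.MvJ (jF4 0) g (h.psi (y * lo 0 γ * y')) := by
  have hS := h.faithful
  obtain ⟨x, n, w, p, hx, hn, e1, hp, e2, e3, h1, h3⟩ := h.exists_conj_eq hG e hg
  by_cases h4 : ∀ i ∈ jF4 0, w (R.simple i) ∉ R.PhiJ (jF4 0)
  · obtain ⟨u', hu', y', rfl⟩ := h.exists_levi hp e2
    obtain ⟨a, ha, e4, v, hv, y, hy, u, hu, e5⟩ := h.exists_mul_eq hG D hT hn e1 h3 (GeneralLinearGroup.det y')⁻¹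
    refine ⟨y, y', by simpa using congrArg Units.val (eq_inv_iff_mul_eq_one.1 hy), fun γ => ?_⟩
    rw [map_mul]
    refine .of_mul (a := a * (n * h.psi (lo 0 γ) * n⁻¹)) hx hu' (h.psi_mem_LJ _) e3 (mul_mem ha ?_)
      (by simp only [map_mul, map_inv, e1, e4, h.σ_psi]) hv
      (inv_conj_mem_of_normalizer (S.LJ_le_normalizer_UJ _ (h.psi_mem_LJ (lo 0 γ))) hu)
      (by rw [mul_assoc a, inv_mul_cancel_right, ← mul_assoc, e5, map_mul]; group)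
    rw [psi_lo]
    exact (NW_induces hn).conj_mem_XS (A := R.simple '' jF4 0) (by rintro _ ⟨i, hi, rfl⟩; exact ⟨h1 i hi, h4 i hi⟩)
      (mul_mem (S.x_mem_XS (Set.mem_image_of_mem _ (by simp [jF4])) _)
        (S.x_mem_XS (Set.mem_image_of_mem _ (by simp [jF4])) _))
  replace h4 : ∀ j ∈ jF4 0, w (R.simple j) ∈ R.PhiJ (jF4 0) := fun j hj => by
    push Not at h4
    obtain ⟨i, hi, h4⟩ := h4
    refine (h.π_eq ▸ orbit_jF4 0 : IsOrbit A.π _).forall_of_exists (p := fun j => w (R.simple j) ∈ R.PhiJ (jF4 0))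
      (fun k => ?_) hi hj h4
    rw [← (A.isSym hS).simple, ← Equiv.Perm.mul_apply, ← A.commute_of_fixed hS hn e1, Equiv.Perm.mul_apply]
    exact ⟨fun h5 => by simpa using (A.isSym hS).symm.mem_PhiJ (fun j hj => (h.π_mem 0 _).1 (by simpa using hj)) h5,
      (A.isSym hS).mem_PhiJ fun j => (h.π_mem 0 j).2⟩
  have hN := S.wprod_mem_NW omF4
  have h8 : w * R.w0J (jF4 0) = wprod R.sperm omF4 := by
    rw [RS.mul_w0J_eq_w0 (NW_mem_W hn) (fun j hj => ⟨h1 j hj, h4 j hj⟩) fun i hi => ?_,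
      R.eq_w0 (NW_mem_W hN) fun i => by simp [h.wprod_omF4, R.pos_neg_iff, R.pos_simple]]
    have h9 := h3 i (by rw [mem_jF4] at *; revert i; decide)
    refine ⟨h9, fun h5 => ?_⟩
    have hb : ∀ {r}, R.Pos r → r ∈ R.PhiJ (jF4 0) → r = R.simple 0 ∨ r = R.simple 3 := fun h1 h2 => by
      simpa [eq_comm, jF4] using (R.pos_PhiJ_of_orth (J := jF4 0) (by simp [jF4, h.ca, Cox.cF4]) _).1 ⟨h1, h2⟩
    have a0 := hb (h1 0 (by simp [jF4])) (h4 0 (by simp [jF4]))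
    have a3 := hb (h1 3 (by simp [jF4])) (h4 3 (by simp [jF4]))
    have a1 := hb ((R.pos_neg_iff _).2 h9) (by simpa using h5)
    rw [← RS.aut_neg (NW_induces hn).1] at a1
    have b0 : w (R.simple 0) ≠ w (R.simple 3) := w.injective.ne (R.simple_inj.ne (by decide))
    have b1 := fun j => w.injective.ne (R.simple_ne_neg_simple j i)
    have b2 := b1 0
    have b3 := b1 3
    grind
  have h9 := NW_inv_mul_mem_H hN (h8 ▸ NW_mul hn (h.wprod_NW 0))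
  obtain ⟨u', hu', y', e4⟩ := h.exists_levi (mul_mem (mul_mem (S.B_le_P _ (S.H_le_B h9))
    (inv_mem (mem_P_of_NW (h.wprod_NW 0) (R.w0J_mem _)))) hp)
    (by simp only [map_mul, map_inv, e1, e2, h.σ_wprod, h.σ_om])
  obtain ⟨z, hz⟩ := h.exists_sq (GeneralLinearGroup.det y')⁻¹
  refine ⟨1, lo 0 1 * up 0 (-1) * lo 0 1 * dia z z * y', ?_, fun γ => ?_⟩
  · have := congrArg Units.val hz
    simp only [Units.val_mul, Units.val_inv_eq_inv_val, GeneralLinearGroup.val_det_apply] at this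
    simp only [Units.val_mul, det_mul]
    simp [lo_val2, up_val2, dia_val, this, det_GL_ne_zero]
  obtain ⟨ε, s, t, hε, h5, h6⟩ : ∃ (ε : F) (s t : Fˣ), (ε = 0 ∨ ε = 1) ∧ (s : F) * t = z ∧ t * ε = γ * s := by
    by_cases h0 : γ = 0
    · exact ⟨0, 1, z, .inl rfl, by simp, by simp [h0]⟩
    obtain ⟨s, hs⟩ := h.exists_sq (z / Units.mk0 γ h0)
    refine ⟨1, s, Units.mk0 γ h0 * s, .inr rfl, ?_, by simp⟩
    have := congrArg Units.val hs
    simp only [Units.val_mul, Units.val_div_eq_div_val, Units.val_mk0] at this ⊢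
    rw [mul_left_comm, this, mul_div_cancel₀ _ h0]
  obtain ⟨a, ha, e8, v, hv, u, hu, e9⟩ := h2 ε hε
  have e5 := h.hMul.conj_eq_inv (NW_induces hN) h.wprod_omF4 (h.psi_dia_mem_H s t)
  have e6 : S.x (R.simple 0) ε * S.x (R.simple 3) ε = h.psi (lo 0 ε) := by
    rw [psi_lo, xJ]; rcases hε with rfl | rfl <;> simp
  have e7 : lo 0 γ * (lo 0 1 * up 0 (-1) * lo 0 1 * dia z z) = dia s t * (lo 0 ε * (lo 0 1 * up 0 (-1) * lo 0 1)) * dia s t :=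
    Units.ext (by
      simp only [Units.val_mul, lo_val2, up_val2, dia_val, ← h5]
      ext i j; fin_cases i <;> fin_cases j <;> simp
      · ring
      · linear_combination -(t : F) * h6)
  have z₀ := h.psi_mem_LJ (dia s t)
  rw [one_mul, ← mul_assoc, e7, map_mul]
  refine MvJ.of_mul (n := wprod S.nS omF4) hx hu' (h.psi_mem_LJ _)
    (by rw [e3, ← e4]; group) (conj_mem_of_normalizer (S.LJ_le_normalizer_UJ _ z₀) ha)
    (by simp only [map_mul, map_inv, h.σ_psi, e8]) (conj_mem_of_normalizer (S.LJ_le_normalizer_VJ _ z₀) hv)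
    (inv_conj_mem_of_normalizer (S.LJ_le_normalizer_UJ _ z₀) hu) ?_
  rw [mul_assoc (_ * a), eq_mul_inv_iff_mul_eq.1 e5.symm, mul_assoc (h.psi _), ← mul_assoc a, e9, e6, ← h.psi_w,
    map_mul _ (_ * _) (dia s t), map_mul _ (dia s t), map_mul _ (lo 0 ε)]
  group

end IsF4

end GAut

end StSys

end CL.Chev
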