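import Cfsg.Agent.Chev.InvBit
import Cfsg.Agent.Chev.InvCertA

/-!
# Certificates for the classes of involutions of the twisted groups in characteristic two
-/

set_option autoImplicit false
set_option maxRecDepth 100000

namespace CL.Chev.Cert

def twPiD4 : ℕ → ℕ := dig 0x312 4
def twRhoD4 : ℕ → ℕ := dig 0x17161115100d140f130e0c12050b090408030a0702060100 8
def twRepsD4 : List (List ℕ) := [[23], [17, 20, 21]]
def twTabD4 : List (List ℕ × List ℕ × List (List ℕ) × List ℕ) := [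
   ([], [3, 1, 2, 0, 1, 3, 0, 1, 2, 0, 1, 0], [[0], [3, 6, 2], [22], [14]], [17, 20, 21]),
   ([1], [3, 1, 2, 0, 1, 3, 0, 1, 2, 1, 0], [[3, 6, 2]], [17, 20, 21]),
   ([0, 2, 3], [1, 2, 0, 1, 3, 1, 2, 0, 1], [[0]], [23]),
   ([0, 1, 2, 3], [], [], [])]

theorem twRhoD4_ok : auxD4.rhoOK twPiD4 twRhoD4 = true := by decide +kernel
theorem twTabD4_all : auxD4.twAll twPiD4 (twTabD4.map Prod.fst) = true := by decide +kernel
theorem twTabD4_ok : twTabD4.all (auxD4.twB twRhoD4 twRepsD4) = true := by decide +kernel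

theorem invRepsD4_ok : auxD4.repsOK [([23], []), ([17, 20, 21], [22, 23])] = true := by decide +kernel

def twPiF4 : ℕ → ℕ := dig 0x123 4
def twRhoF4 : ℕ → ℕ := dig 0x2c28272f26241d2e2d2b202a1f1a1825231c291e19221b210e140d161106130c0a171510050f040201120b0900080703 8
def twRepsF4 : List (List ℕ) := [[47, 44], [39, 45]]
def twTabF4 : List (List ℕ × List ℕ × List (List ℕ) × List ℕ) := [
   ([], [3, 2, 1, 2, 0, 1, 2, 3, 2, 1, 2, 0, 1, 2, 3, 2, 1, 2, 0, 1, 2, 0, 1, 0], [[11, 5], [19, 22, 20], [43, 38],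
    [0, 18, 6]], [39, 45]),
   ([1, 2], [3, 2, 1, 2, 0, 1, 2, 3, 2, 1, 2, 0, 1, 2, 3, 0, 1, 2, 1, 0], [[0, 18, 6]], [47, 44]),
   ([0, 3], [2, 1, 2, 0, 1, 2, 3, 2, 1, 2, 0, 1, 2, 3, 2, 1, 2, 0, 1, 2, 0, 1], [[8, 2]], [39, 45]),
   ([0, 1, 2, 3], [], [], [])]

theorem twRhoF4_ok : auxF4.rhoOK twPiF4 twRhoF4 = true := by decide +kernel
theorem twTabF4_all : auxF4.twAll twPiF4 (twTabF4.map Prod.fst) = true := by decide +kernel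
theorem twTabF4_ok : twTabF4.all (auxF4.twB twRhoF4 twRepsF4) = true := by decide +kernel

def twPiE6 : ℕ → ℕ := dig 0x23415 4
def twRhoE6 : ℕ → ℕ := dig 0x47464542374441363f34313c2d2926244340353e33303d322f2e3b2c28253a2b27392a380f1d0e201c0d221f1b0c1918150a17140912070423211e1a0b1613081106031005020100 8
def twRepsE6 : List (List ℕ) := [[71], [68, 66], [55, 65, 67], [71, 68, 66]]
def twTabE6 : List (List ℕ × List ℕ × List (List ℕ) × List ℕ) := [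
   ([], [0, 2, 3, 4, 5, 1, 3, 4, 2, 3, 0, 2, 1, 3, 4, 5, 1, 3, 4, 2, 3, 0, 2, 1, 3, 4, 2, 3, 0, 2, 1, 3, 0, 2, 1,
    0], [[39], [32], [39], [46], [25], [46], [37, 42], [34, 29], [37, 42], [36, 56], [35, 15], [36, 56], [37, 42],
    [34, 29], [37, 42], [9, 19], [37, 42], [49, 61], [25], [63], [20], [24], [32, 27, 11, 0]], [55, 65, 67]),
   ([1], [0, 2, 3, 4, 5, 1, 3, 4, 2, 3, 0, 2, 1, 3, 4, 5, 1, 3, 4, 2, 3, 0, 2, 1, 3, 4, 2, 3, 0, 2, 1, 3, 0, 2, 0],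
    [[39], [32], [39], [46], [25], [46], [37, 42], [34, 29], [37, 42], [39], [32], [39], [46], [25], [46], [37, 42],
    [34, 29], [37, 42], [39], [32], [39], [37, 42], [34, 29], [37, 42], [37, 42], [4, 16], [54, 64], [53], [18],
    [18, 6, 2]], [55, 65, 67]),
   ([3], [0, 2, 3, 4, 5, 1, 3, 4, 2, 3, 0, 2, 1, 3, 4, 5, 1, 3, 4, 2, 3, 0, 2, 1, 3, 4, 3, 0, 2, 1, 3, 0, 2, 1, 0],
    [[37, 42], [34, 29], [37, 42], [39], [32], [39], [46], [25], [46], [37, 42], [34, 29], [37, 42], [39], [32],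
    [39], [37, 42], [34, 29], [37, 42], [36, 56], [35, 15], [36, 56], [66, 68], [10, 22], [12, 26], [60], [11], [27,
    11, 0]], [55, 65, 67]),
   ([1, 3], [0, 2, 3, 4, 5, 1, 3, 4, 2, 3, 0, 2, 1, 3, 4, 5, 1, 3, 4, 2, 3, 0, 2, 1, 3, 4, 3, 2, 1, 3, 0, 2, 0],
    [[39], [32], [39], [37, 42], [34, 29], [37, 42], [39], [32], [39], [46], [25], [46], [37, 42], [34, 29], [37,
    42], [39], [32], [39], [37, 42], [34, 29], [37, 42], [55, 67], [28, 31], [9, 19], [51], [20], [20, 8, 1]], [55,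
    65, 67]),
   ([2, 4], [0, 2, 3, 4, 5, 1, 3, 4, 2, 3, 0, 2, 1, 3, 4, 5, 3, 4, 2, 3, 0, 2, 1, 3, 4, 2, 3, 0, 2, 1, 3, 2, 1, 0],
    [[39], [32], [39], [36, 56], [35, 15], [36, 56], [37, 42], [34, 29], [37, 42], [39], [32], [39], [11], [40, 43],
    [63], [25, 18, 5, 3]], [55, 65, 67]),
   ([1, 2, 4], [0, 2, 3, 4, 5, 1, 3, 4, 2, 3, 0, 2, 1, 3, 4, 5, 3, 4, 2, 3, 0, 2, 1, 3, 4, 2, 3, 0, 2, 1, 3, 2, 0],
    [[36, 56], [35, 15], [36, 56], [18, 5, 3]], [55, 65, 67]),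
   ([2, 3, 4], [0, 2, 3, 4, 5, 1, 3, 4, 2, 3, 0, 2, 1, 3, 4, 5, 4, 3, 0, 2, 1, 3, 4, 0, 2, 1, 3, 2, 1, 0], [[21,
    23], [11, 0]], [71, 68, 66]),
   ([1, 2, 3, 4], [0, 2, 3, 4, 5, 1, 3, 4, 2, 3, 0, 2, 1, 3, 4, 5, 0, 2, 3, 4, 1, 3, 2, 0], [[5, 3]], [68, 66]),
   ([0, 5], [2, 3, 4, 5, 1, 3, 4, 2, 3, 0, 2, 1, 3, 4, 5, 1, 3, 4, 2, 3, 0, 2, 1, 3, 4, 2, 3, 0, 2, 1, 3, 0, 2, 1],
    [[37, 42], [34, 29], [37, 42], [39], [32], [39], [39], [12, 26], [46], [24, 19, 9, 1]], [55, 65, 67]),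
   ([0, 1, 5], [2, 3, 4, 5, 1, 3, 4, 2, 3, 0, 2, 1, 3, 4, 5, 1, 3, 4, 2, 3, 0, 2, 1, 3, 4, 2, 3, 0, 2, 1, 3, 0, 2],
    [[37, 42], [34, 29], [37, 42], [17, 7, 2]], [55, 65, 67]),
   ([0, 3, 5], [2, 3, 4, 5, 1, 3, 4, 2, 3, 0, 2, 1, 3, 4, 5, 1, 3, 4, 2, 3, 0, 2, 1, 3, 4, 3, 0, 2, 1, 3, 0, 2, 1],
    [[37, 42], [34, 29], [37, 42], [39], [32], [39], [46], [25], [46], [26, 12, 0]], [55, 65, 67]),
   ([0, 1, 3, 5], [2, 3, 4, 5, 1, 3, 4, 2, 3, 0, 2, 1, 3, 4, 5, 1, 3, 4, 2, 3, 0, 2, 1, 3, 4, 3, 2, 1, 3, 0, 2],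
    [[37, 42], [34, 29], [37, 42], [39], [32], [39], [19, 9, 1]], [55, 65, 67]),
   ([0, 2, 4, 5], [3, 4, 5, 1, 3, 4, 2, 3, 0, 2, 1, 3, 4, 5, 3, 4, 2, 3, 0, 2, 1, 3, 4, 2, 3, 0, 2, 1, 3, 1], [[37,
    42], [34, 29], [37, 42], [39], [32], [39], [37, 42], [34, 29], [37, 42], [44], [13, 30], [46], [22, 10, 20, 1]],
    [55, 65, 67]),
   ([0, 1, 2, 4, 5], [3, 4, 5, 1, 3, 4, 2, 3, 0, 2, 1, 3, 4, 5, 3, 4, 2, 3, 0, 2, 1, 3, 4, 2, 3, 0, 2, 1, 3], [[16,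
    4, 6]], [55, 65, 67]),
   ([0, 2, 3, 4, 5], [1, 3, 4, 2, 3, 0, 2, 1, 3, 4, 5, 4, 3, 2, 1, 3, 4, 0, 2, 3, 1], [[0]], [71]),
   ([0, 1, 2, 3, 4, 5], [], [], [])]

theorem twRhoE6_ok : auxE6.rhoOK twPiE6 twRhoE6 = true := by decide +kernel
theorem twTabE6_all : auxE6.twAll twPiE6 (twTabE6.map Prod.fst) = true := by decide +kernel
theorem twTabE6_ok : twTabE6.all (auxE6.twB twRhoE6 twRepsE6) = true := by decide +kernel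

end CL.Chev.Cert
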