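import Cfsg.Agent.Chev.SubRS
import Cfsg.Agent.Chev.RealAut
import Cfsg.Agent.Chev.RootSL2
import Cfsg.Agent.Known.StbData

/-!
# Involutions in the torus of `G₂(q)`, `F₄(q)`, `E₈(q)`, `q` odd: classes and centraliser orders
-/

set_option autoImplicit false
set_option maxRecDepth 100000

namespace CL.Chev

open Cfsg Cfsg.Lie Cert Finset CL.Cox

/-- The sign vector with bit mask `m`. -/
def sgnv (F : Type*) [Field F] (l m : ℕ) : Fin l → Fˣ := fun i => if m.testBit i then -1 else 1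

theorem sgnv_sq (F : Type*) [Field F] (l m : ℕ) : sgnv F l m ^ 2 = 1 := by
  funext i; simp only [sgnv, Pi.pow_apply]; split_ifs <;> simp

theorem exists_sgnv {F : Type*} [Field F] {l : ℕ} {c : Fin l → Fˣ} (h : c ^ 2 = 1) : ∃ m < 2 ^ l, c = sgnv F l m := by
  classical
  refine ⟨Nat.ofBits fun i => decide (c i = -1), Nat.ofBits_lt_two_pow _, funext fun i => ?_⟩
  have := (c i).inv_eq_self_iff.1 (inv_eq_of_mul_eq_one_right ((sq (c i)).symm.trans (congrFun h i)))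
  simp only [sgnv, Nat.testBit_ofBits_lt _ _ i.2, Fin.eta, decide_eq_true_eq]
  split_ifs with h
  exacts [h, this.resolve_right h]

theorem neg_one_ne_one_units {F : Type*} [Field F] [Fintype F] (hF : Odd (Fintype.card F)) : (-1 : Fˣ) ≠ 1 := fun h => by
  have h2 : ringChar F ≠ 2 := fun e => by
    have := FiniteField.even_card_of_char_two e
    have := Nat.odd_iff.1 hF
    omega
  exact Ring.neg_one_ne_one_of_char_ne_two h2 (by simpa using congrArg Units.val h)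

namespace Cert.Aux

variable (A : Aux)

/-- The exponent of `-1` in the value of the root `r` on the sign vector `m`. -/
def par (m r : ℕ) : ℤ := sumTo A.l fun i => cond (m.testBit i) (A.ca i r) 0
/-- The height. -/
def hgt (r : ℕ) : ℤ := sumTo A.l (A.rt r)
/-- Every sign vector is carried to a representative. -/
def RepsOK (reps : List ℕ) (T : ℕ) : Prop :=
  ∀ m < 2 ^ A.l, m = 0 ∨ m ∈ reps ∨ ∃ i < A.l, A.par m (A.sim i) % 2 = 1 ∧ dig T 8 (m ^^^ 2 ^ i) < dig T 8 m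

instance (reps : List ℕ) (T : ℕ) : Decidable (A.RepsOK reps T) := by unfold RepsOK; infer_instance

end Cert.Aux

/-- A sign vector with a base of the roots vanishing on it. -/
structure Dat (k : ℕ) where
  m : ℕ
  N : ℕ
  β : List ℕ
  C : Matrix (Fin k) (Fin k) ℤ
  P : Matrix (Fin k) (Fin k) ℤ
  d : ℤ
  steps : List (ℕ × List (List ℕ))

namespace Dat

variable {k : ℕ} [NeZero k] (X : Dat k) (A : Aux)

/-- The `i`-th element of the base. -/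
def b (i : Fin k) : ℕ := X.β.getD i 0
/-- The chain of orbit certificates. -/
def st : List (Fin k × List (List (Fin k))) := X.steps.map fun p => (Fin.ofNat k p.1, toFinW k p.2)
/-- The data are correct. -/
def OK : Prop :=
  (∀ i, X.b i < A.n ∧ A.par X.m (X.b i) % 2 = 0 ∧ 0 < A.hgt (X.b i)) ∧
  ((Matrix.of fun i j => A.pr (X.b i) (X.b j)) = X.C ∧ X.P * X.C = X.d • 1 ∧ X.d ≠ 0) ∧
  (∀ r < A.n, A.par X.m r % 2 = 0 → 0 < A.hgt r → (∃ i, r = X.b i) ∨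
    ∃ i, 0 < A.pr (X.b i) r ∧ A.pr (X.b i) r * A.hgt (X.b i) < A.hgt r) ∧
  ((List.range A.n).filter fun r => decide (0 < A.hgt r ∧ A.par X.m r % 2 = 0)).length = X.N ∧
  chainCheck X.C X.st = true ∧ ∀ j, j ∈ X.st.map Prod.fst

instance : Decidable (X.OK A) := by
  unfold OK
  refine @instDecidableAnd _ _ ?_ (@instDecidableAnd _ _ ?_ (@instDecidableAnd _ _ ?_ ?_)) <;> infer_instance

end Dat

namespace Tab

variable {D : ChevalleyDatum} {A : Aux} (T : Tab D A) (E : Real D) {F : Type*} [Field F]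
include T

theorem ht_eq (r : Fin D.nroots) : E.R.ht r = A.hgt r := by
  rw [RS.ht, Aux.hgt, sumTo_eq, ← T.ag.rank, ← Fin.sum_univ_eq_sum_range (A.rt r)]
  exact sum_congr rfl fun i _ => T.root E r i

theorem chi_sgnv (m : ℕ) (r : Fin D.nroots) : E.R.chi Fˣ r (sgnv F D.rank m) = (-1) ^ A.par m r := by
  have : sgnv F D.rank m = fun i : Fin D.rank => (-1 : Fˣ) ^ (if m.testBit i then 1 else 0 : ℤ) := by
    funext i; simp only [sgnv]; split_ifs <;> simp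
  rw [this, RS.chi_zpow, RS.ev_eq, Aux.par, sumTo_eq, ← T.ag.rank,
    ← Fin.sum_univ_eq_sum_range fun i => cond (m.testBit i) (A.ca i r) 0]
  congr 1
  exact sum_congr rfl fun i _ => by rw [T.pair_simple]; cases m.testBit i <;> simp

theorem mem_psi (hF : (-1 : Fˣ) ≠ 1) (m : ℕ) (r : Fin D.nroots) :
    r ∈ E.R.Psi (sgnv F D.rank m) ↔ A.par m r % 2 = 0 := by
  rw [RS.mem_Psi, T.chi_sgnv, ← orderOf_dvd_iff_zpow_eq_one, orderOf_eq_prime (p := 2) (by simp) hF]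
  exact Int.dvd_iff_emod_eq_zero

theorem tAct_sgnv {m : ℕ} {i : Fin D.rank} (h : A.par m (A.sim i) % 2 = 1) :
    E.R.tAct (E.R.sperm i) (sgnv F D.rank m) = sgnv F D.rank (m ^^^ 2 ^ (i : ℕ)) := by
  have h1 : (-1 : Fˣ) ^ A.par m (A.sim i) = -1 := by
    obtain ⟨z, hz⟩ := Int.odd_iff.2 h
    rw [hz, zpow_add, zpow_mul]; simp [zpow_ofNat]
  rw [← RS.refl_simple, RS.tAct_refl, T.chi_sgnv, T.simple, h1, E.R.coroot_simple]
  funext j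
  by_cases hj : j = i
  · subst hj; cases e : m.testBit j <;> simp [sgnv, e]
  · simp [sgnv, hj, Nat.testBit_two_pow_of_ne (Fin.val_ne_of_ne (Ne.symm hj))]

theorem exists_rep {reps : List ℕ} {t : ℕ} (h : A.RepsOK reps t) {c : Fin D.rank → Fˣ} (hc : c ^ 2 = 1) (h1 : c ≠ 1) :
    ∃ m ∈ reps, IsConj ((E.full F).hMul.torus c) ((E.full F).hMul.torus (sgnv F D.rank m)) := by
  obtain ⟨m, hm, rfl⟩ := exists_sgnv hc
  clear hc
  induction hd : dig t 8 m using Nat.strong_induction_on generalizing m with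
  | _ n ih =>
    rcases h m (T.ag.rank ▸ hm) with rfl | h2 | ⟨i, hi, h2, h3⟩
    · exact absurd (funext fun i => by simp [sgnv]) h1
    · exact ⟨m, h2, .refl _⟩
    · lift i to Fin D.rank using T.lt_rank hi
      have h4 := T.tAct_sgnv E (F := F) h2
      obtain ⟨m', a, b⟩ := ih _ (hd ▸ h3) _ (Nat.xor_lt_two_pow hm (Nat.pow_lt_pow_right one_lt_two i.2)) (fun e => h1 (by
        rw [← RS.tAct_inv_tAct (E.R.sperm_mem_aut i) (sgnv F _ m), h4, e, map_one])) rfl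
      exact ⟨m', a, (isConj_iff.2 ⟨_, h4 ▸ (E.full F).hMul.conj_torus_of_induces ((E.Sg F).induces_nS i) _⟩).trans b⟩

theorem card_cent [Fintype F] (hF : Odd (Fintype.card F)) (hk : (E.full F).hMul.torus.ker = ⊥) {k : ℕ} [NeZero k]
    {X : Dat k} (h : X.OK A) : Nat.card (Subgroup.centralizer {(E.full F).hMul.torus (sgnv F D.rank X.m)}) =
      Fintype.card F ^ X.N * ((Fintype.card F - 1) ^ A.l *
        (X.steps.map fun p => polyOf (Fintype.card F) (p.2.map List.length)).prod) := by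
  obtain ⟨h1, ⟨h0, h2, h2'⟩, h3, h4, h5, h6⟩ := h
  have hp := T.mem_psi E (neg_one_ne_one_units hF) X.m
  let β : Fin k → Fin D.nroots := fun i => ⟨X.b i, T.lt_nroots (h1 i).1⟩
  have hC : (Matrix.of fun i j => E.R.pair (β i) (β j)) = X.C := by
    rw [← h0]; ext i j; exact T.pair E _ _
  have hm : ∀ i, β i ∈ E.R.Psi (sgnv F D.rank X.m) := fun i => (hp _).2 (h1 i).2.1
  have hb : E.R.SubBase (E.R.Psi (sgnv F D.rank X.m)) β := ⟨hm, fun _ => RS.neg_mem_Psi.2,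
    fun i r => (RS.apply_mem_Psi (RS.WS_le_Stab _ (RS.refl_mem_WS (hm i)))).2,
    fun i => (E.R.pos_iff_ht _).2 (T.ht_eq E _ ▸ (h1 i).2.2), fun e => h2' (by
      have := congrArg Matrix.det h2
      rw [Matrix.det_mul, ← hC, e, mul_zero, Matrix.det_smul, Matrix.det_one, mul_one] at this
      exact pow_eq_zero_iff Fintype.card_ne_zero |>.1 this.symm), fun r hr hr' => by
      simp only [T.pair E, T.ht_eq E, Fin.ext_iff]
      exact h3 r (T.lt_n r) ((hp _).1 hr) (T.ht_eq E _ ▸ (E.R.pos_iff_ht _).1 hr')⟩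
  obtain ⟨l, l1, l2, l3⟩ := Real.exists_finList D.nroots fun r => decide (0 < A.hgt r ∧ A.par X.m r % 2 = 0)
  have hN : ({r | E.R.Pos r} ∩ E.R.Psi (sgnv F D.rank X.m)).ncard = X.N := by
    rw [← h4, ← T.ag.nroots, ← l3, List.length_map, ← List.toFinset_card_of_nodup l1, ← Set.ncard_coe_finset]
    congr 1; ext r
    simp [l2, hp, E.R.pos_iff_ht, T.ht_eq E]
  rw [(E.full F).faithful.card_cent _ (E.full F).top ((MonoidHom.ker_eq_bot_iff _).1 hk), hN,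
    hb.sum_stab (isOfFinOrder_of_finite _), chain_finsum _ (hC ▸ hb.rs.isCartan_coxM.repOK) _ h5 h6,
    Nat.card_eq_fintype_card, Fintype.card_fin, T.ag.rank, mul_assoc]
  simp [Dat.st, toFinW, Function.comp_def]

omit T in
theorem orderOf_sgnv (hF : (-1 : Fˣ) ≠ 1) (hk : (E.full F).hMul.torus.ker = ⊥) {m : ℕ} {i : Fin D.rank}
    (h : m.testBit i = true) : orderOf ((E.full F).hMul.torus (sgnv F D.rank m)) = 2 := by
  rw [orderOf_injective _ ((MonoidHom.ker_eq_bot_iff _).1 hk)]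
  exact orderOf_eq_prime (sgnv_sq _ _ _) fun e => hF (by simpa [sgnv, h] using congrFun e i)

end Tab

/-- distances -/
def distG2 : ℕ := 0x1020000

/-- data -/
def datG2_1 : Dat 2 where
  m := 1
  N := 2
  β := [7, 11]
  C := !![2, 0; 0, 2]
  P := !![1, 0; 0, 1]
  d := 2
  steps := [(1, [[], [1]]),
  (0, [[], [0]])]

/-- distances -/
def distF4 : ℕ := 0x3020601040305020201070001020000

/-- data -/
def datF4_1 : Dat 4 where
  m := 1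
  N := 16
  β := [30, 33, 24, 25]
  C := !![2, -1, -1, 0; -2, 2, 0, 0; -1, 0, 2, -1; 0, 0, -1, 2]
  P := !![6, 3, 4, 2; 6, 4, 4, 2; 4, 2, 4, 2; 2, 1, 2, 2]
  d := 2
  steps := [(3, [[], [3], [2,3], [0,2,3], [1,0,2,3], [0,1,0,2,3], [2,0,1,0,2,3], [3,2,0,1,0,2,3]]),
  (2, [[], [2], [0,2], [1,0,2], [0,1,0,2], [2,0,1,0,2]]),
  (1, [[], [1], [0,1], [1,0,1]]),
  (0, [[], [0]])]

/-- data -/
def datF4_4 : Dat 4 where
  m := 4
  N := 10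
  β := [25, 30, 33, 29]
  C := !![2, 0, 0, 0; 0, 2, -1, 0; 0, -2, 2, -1; 0, 0, -1, 2]
  P := !![1, 0, 0, 0; 0, 3, 2, 1; 0, 4, 4, 2; 0, 2, 2, 2]
  d := 2
  steps := [(3, [[], [3], [2,3], [1,2,3], [2,1,2,3], [3,2,1,2,3]]),
  (2, [[], [2], [1,2], [2,1,2]]),
  (1, [[], [1]]),
  (0, [[], [0]])]

/-- distances -/
def distE8 : ℕ := 0x70806070509060808090809090f07090b0c0a0b0b0d0c0c090a090a0a0e080a0d0e0c0d0d0f0e0e0e0f10110f1b0f0f0c0d0b0c0c0e0d0d0a0b0a0b0b0f090b0f100e0f0f1110101011121311191111151614151317141611121314121812120e0f0d0e0e100f0f0f101112101a10100d0e0c0d0d0f0e0e0b0c0b0c0c100a0c060705060408050707080708080e06080a0b090a0a0c0b0b08090809090d07090c0d0b0c0c0e0d0d0d0e0f100e1c0e0e0b0c0a0b0b0d0c0c090a090a0a0e080a050604050307040606070607070d0507090a0809090b0a0a07080708080c0608040503040206030505060506060e040603040203010502040102010200060000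

/-- data -/
def datE8_1 : Dat 8 where
  m := 1
  N := 64
  β := [121, 123, 126, 162, 184, 120, 130, 141]
  C := !![2, -1, 0, 0, 0, -1, 0, 0; -1, 2, -1, 0, -1, 0, 0, 0; 0, -1, 2, 0, 0, 0, -1, 0; 0, 0, 0, 2, 0, 0, 0, 0; 0, -1, 0, 0, 2, 0, 0, 0; -1, 0, 0, 0, 0, 2, 0, 0; 0, 0, -1, 0, 0, 0, 2, -1; 0, 0, 0, 0, 0, 0, -1, 2]
  P := !![12, 16, 12, 0, 8, 6, 8, 4; 16, 24, 18, 0, 12, 8, 12, 6; 12, 18, 15, 0, 9, 6, 10, 5; 0, 0, 0, 1, 0, 0, 0, 0; 8, 12, 9, 0, 7, 4, 6, 3; 6, 8, 6, 0, 4, 4, 4, 2; 8, 12, 10, 0, 6, 4, 8, 4; 4, 6, 5, 0, 3, 2, 4, 3]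
  d := 2
  steps := [(7, [[], [7], [6,7], [2,6,7], [1,2,6,7], [4,1,2,6,7], [0,1,2,6,7], [0,4,1,2,6,7], [5,0,1,2,6,7], [5,0,4,1,2,6,7], [1,0,4,1,2,6,7], [1,5,0,4,1,2,6,7], [2,1,0,4,1,2,6,7], [2,1,5,0,4,1,2,6,7], [0,1,5,0,4,1,2,6,7], [6,2,1,0,4,1,2,6,7], [6,2,1,5,0,4,1,2,6,7], [0,2,1,5,0,4,1,2,6,7], [7,6,2,1,0,4,1,2,6,7], [7,6,2,1,5,0,4,1,2,6,7], [0,6,2,1,5,0,4,1,2,6,7], [1,0,2,1,5,0,4,1,2,6,7], [0,7,6,2,1,5,0,4,1,2,6,7], [1,0,6,2,1,5,0,4,1,2,6,7], [4,1,0,2,1,5,0,4,1,2,6,7], [1,0,7,6,2,1,5,0,4,1,2,6,7], [4,1,0,6,2,1,5,0,4,1,2,6,7], [2,1,0,6,2,1,5,0,4,1,2,6,7], [4,1,0,7,6,2,1,5,0,4,1,2,6,7], [2,1,0,7,6,2,1,5,0,4,1,2,6,7], [2,4,1,0,6,2,1,5,0,4,1,2,6,7], [2,4,1,0,7,6,2,1,5,0,4,1,2,6,7], [6,2,1,0,7,6,2,1,5,0,4,1,2,6,7], [1,2,4,1,0,6,2,1,5,0,4,1,2,6,7], [6,2,4,1,0,7,6,2,1,5,0,4,1,2,6,7], [1,2,4,1,0,7,6,2,1,5,0,4,1,2,6,7], [0,1,2,4,1,0,6,2,1,5,0,4,1,2,6,7], [1,6,2,4,1,0,7,6,2,1,5,0,4,1,2,6,7],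 [0,1,2,4,1,0,7,6,2,1,5,0,4,1,2,6,7], [5,0,1,2,4,1,0,6,2,1,5,0,4,1,2,6,7], [2,1,6,2,4,1,0,7,6,2,1,5,0,4,1,2,6,7], [0,1,6,2,4,1,0,7,6,2,1,5,0,4,1,2,6,7], [5,0,1,2,4,1,0,7,6,2,1,5,0,4,1,2,6,7], [0,2,1,6,2,4,1,0,7,6,2,1,5,0,4,1,2,6,7], [5,0,1,6,2,4,1,0,7,6,2,1,5,0,4,1,2,6,7], [5,0,2,1,6,2,4,1,0,7,6,2,1,5,0,4,1,2,6,7], [1,0,2,1,6,2,4,1,0,7,6,2,1,5,0,4,1,2,6,7], [1,5,0,2,1,6,2,4,1,0,7,6,2,1,5,0,4,1,2,6,7], [4,1,0,2,1,6,2,4,1,0,7,6,2,1,5,0,4,1,2,6,7], [4,1,5,0,2,1,6,2,4,1,0,7,6,2,1,5,0,4,1,2,6,7], [0,1,5,0,2,1,6,2,4,1,0,7,6,2,1,5,0,4,1,2,6,7], [0,4,1,5,0,2,1,6,2,4,1,0,7,6,2,1,5,0,4,1,2,6,7], [1,0,4,1,5,0,2,1,6,2,4,1,0,7,6,2,1,5,0,4,1,2,6,7], [2,1,0,4,1,5,0,2,1,6,2,4,1,0,7,6,2,1,5,0,4,1,2,6,7], [6,2,1,0,4,1,5,0,2,1,6,2,4,1,0,7,6,2,1,5,0,4,1,2,6,7], [7,6,2,1,0,4,1,5,0,2,1,6,2,4,1,0,7,6,2,1,5,0,4,1,2,6,7]]),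
  (6, [[], [6], [2,6], [1,2,6], [4,1,2,6], [0,1,2,6], [0,4,1,2,6], [5,0,1,2,6], [5,0,4,1,2,6], [1,0,4,1,2,6], [1,5,0,4,1,2,6], [2,1,0,4,1,2,6], [2,1,5,0,4,1,2,6], [0,1,5,0,4,1,2,6], [6,2,1,0,4,1,2,6], [6,2,1,5,0,4,1,2,6], [0,2,1,5,0,4,1,2,6], [0,6,2,1,5,0,4,1,2,6], [1,0,2,1,5,0,4,1,2,6], [1,0,6,2,1,5,0,4,1,2,6], [4,1,0,2,1,5,0,4,1,2,6], [4,1,0,6,2,1,5,0,4,1,2,6], [2,1,0,6,2,1,5,0,4,1,2,6], [2,4,1,0,6,2,1,5,0,4,1,2,6], [1,2,4,1,0,6,2,1,5,0,4,1,2,6], [0,1,2,4,1,0,6,2,1,5,0,4,1,2,6], [5,0,1,2,4,1,0,6,2,1,5,0,4,1,2,6]]),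
  (5, [[], [5], [0,5], [1,0,5], [4,1,0,5], [2,1,0,5], [2,4,1,0,5], [1,2,4,1,0,5], [0,1,2,4,1,0,5], [5,0,1,2,4,1,0,5]]),
  (4, [[], [4], [1,4], [2,1,4], [0,1,4], [0,2,1,4], [1,0,2,1,4], [4,1,0,2,1,4]]),
  (3, [[], [3]]),
  (2, [[], [2], [1,2], [0,1,2]]),
  (1, [[], [1], [0,1]]),
  (0, [[], [0]])]

/-- data -/
def datE8_3 : Dat 8 where
  m := 3
  N := 56
  β := [126, 136, 141, 162, 123, 121, 120, 214]
  C := !![2, -1, 0, 0, -1, 0, 0, 0; -1, 2, -1, -1, 0, 0, 0, 0; 0, -1, 2, 0, 0, 0, 0, 0; 0, -1, 0, 2, 0, 0, 0, 0; -1, 0, 0, 0, 2, -1, 0, 0; 0, 0, 0, 0, -1, 2, -1, 0; 0, 0, 0, 0, 0, -1, 2, -1; 0, 0, 0, 0, 0, 0, -1, 2]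
  P := !![10, 10, 5, 5, 8, 6, 4, 2; 10, 12, 6, 6, 8, 6, 4, 2; 5, 6, 4, 3, 4, 3, 2, 1; 5, 6, 3, 4, 4, 3, 2, 1; 8, 8, 4, 4, 8, 6, 4, 2; 6, 6, 3, 3, 6, 6, 4, 2; 4, 4, 2, 2, 4, 4, 4, 2; 2, 2, 1, 1, 2, 2, 2, 2]
  d := 2
  steps := [(7, [[], [7], [6,7], [5,6,7], [4,5,6,7], [0,4,5,6,7], [1,0,4,5,6,7], [3,1,0,4,5,6,7], [2,1,0,4,5,6,7], [2,3,1,0,4,5,6,7], [1,2,3,1,0,4,5,6,7], [0,1,2,3,1,0,4,5,6,7], [4,0,1,2,3,1,0,4,5,6,7], [5,4,0,1,2,3,1,0,4,5,6,7], [6,5,4,0,1,2,3,1,0,4,5,6,7], [7,6,5,4,0,1,2,3,1,0,4,5,6,7]]),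
  (6, [[], [6], [5,6], [4,5,6], [0,4,5,6], [1,0,4,5,6], [3,1,0,4,5,6], [2,1,0,4,5,6], [2,3,1,0,4,5,6], [1,2,3,1,0,4,5,6], [0,1,2,3,1,0,4,5,6], [4,0,1,2,3,1,0,4,5,6], [5,4,0,1,2,3,1,0,4,5,6], [6,5,4,0,1,2,3,1,0,4,5,6]]),
  (5, [[], [5], [4,5], [0,4,5], [1,0,4,5], [3,1,0,4,5], [2,1,0,4,5], [2,3,1,0,4,5], [1,2,3,1,0,4,5], [0,1,2,3,1,0,4,5], [4,0,1,2,3,1,0,4,5], [5,4,0,1,2,3,1,0,4,5]]),
  (4, [[], [4], [0,4], [1,0,4], [3,1,0,4], [2,1,0,4], [2,3,1,0,4], [1,2,3,1,0,4], [0,1,2,3,1,0,4], [4,0,1,2,3,1,0,4]]),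
  (3, [[], [3], [1,3], [2,1,3], [0,1,3], [0,2,1,3], [1,0,2,1,3], [3,1,0,2,1,3]]),
  (2, [[], [2], [1,2], [0,1,2]]),
  (1, [[], [1], [0,1]]),
  (0, [[], [0]])]

theorem repsG2 : auxG2.RepsOK [1] distG2 := by decide +kernel
theorem repsF4 : auxF4.RepsOK [1, 4] distF4 := by decide +kernel
theorem repsE8 : auxE8.RepsOK [1, 3] distE8 := by decide +kernel
theorem okG2_1 : datG2_1.OK auxG2 := by decide +kernel
theorem okF4_1 : datF4_1.OK auxF4 := by decide +kernel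
theorem okF4_4 : datF4_4.OK auxF4 := by decide +kernel
theorem okE8_1 : datE8_1.OK auxE8 := by decide +kernel
theorem okE8_3 : datE8_3.OK auxE8 := by decide +kernel

theorem polyG2_1 {q : ℕ} (hq : 1 ≤ q) : (q - 1) ^ 2 * (datG2_1.steps.map fun p => polyOf q (p.2.map List.length)).prod =
    (q ^ 2 - 1) ^ 2 := by
  have : (datG2_1.steps.map fun p => polyOf q (p.2.map List.length)).prod =
      geom q 2 * geom q 2 := by
    simp only [datG2_1, polyOf, List.map_cons, List.map_nil, List.sum_cons, List.sum_nil, List.prod_cons, List.prod_nil,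
      List.length_cons, List.length_nil, geom, sum_range_succ, sum_range_zero]
    ring
  simp only [this, ← geom_mul hq]
  ring

theorem polyF4_1 {q : ℕ} (hq : 1 ≤ q) : (q - 1) ^ 4 * (datF4_1.steps.map fun p => polyOf q (p.2.map List.length)).prod =
    (q ^ 2 - 1) * (q ^ 4 - 1) * (q ^ 6 - 1) * (q ^ 8 - 1) := by
  have : (datF4_1.steps.map fun p => polyOf q (p.2.map List.length)).prod =
      geom q 2 * geom q 4 * geom q 6 * geom q 8 := by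
    simp only [datF4_1, polyOf, List.map_cons, List.map_nil, List.sum_cons, List.sum_nil, List.prod_cons, List.prod_nil,
      List.length_cons, List.length_nil, geom, sum_range_succ, sum_range_zero]
    ring
  simp only [this, ← geom_mul hq]
  ring

theorem polyF4_4 {q : ℕ} (hq : 1 ≤ q) : (q - 1) ^ 4 * (datF4_4.steps.map fun p => polyOf q (p.2.map List.length)).prod =
    (q ^ 2 - 1) ^ 2 * (q ^ 4 - 1) * (q ^ 6 - 1) := by
  have : (datF4_4.steps.map fun p => polyOf q (p.2.map List.length)).prod =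
      geom q 2 * geom q 2 * geom q 4 * geom q 6 := by
    simp only [datF4_4, polyOf, List.map_cons, List.map_nil, List.sum_cons, List.sum_nil, List.prod_cons, List.prod_nil,
      List.length_cons, List.length_nil, geom, sum_range_succ, sum_range_zero]
    ring
  simp only [this, ← geom_mul hq]
  ring

theorem polyE8_1 {q : ℕ} (hq : 1 ≤ q) : (q - 1) ^ 8 * (datE8_1.steps.map fun p => polyOf q (p.2.map List.length)).prod =
    (q ^ 2 - 1) ^ 2 * (q ^ 6 - 1) * (q ^ 8 - 1) * (q ^ 10 - 1) * (q ^ 12 - 1) * (q ^ 14 - 1) * (q ^ 18 - 1) := by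
  have : (datE8_1.steps.map fun p => polyOf q (p.2.map List.length)).prod =
      geom q 2 * geom q 2 * geom q 6 * geom q 8 * geom q 10 * geom q 12 * geom q 14 * geom q 18 := by
    simp only [datE8_1, polyOf, List.map_cons, List.map_nil, List.sum_cons, List.sum_nil, List.prod_cons, List.prod_nil,
      List.length_cons, List.length_nil, geom, sum_range_succ, sum_range_zero]
    ring
  simp only [this, ← geom_mul hq]
  ring

theorem polyE8_3 {q : ℕ} (hq : 1 ≤ q) : (q - 1) ^ 8 * (datE8_3.steps.map fun p => polyOf q (p.2.map List.length)).prod =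
    (q ^ 8 - 1) * ((q ^ 2 - 1) * (q ^ 4 - 1) * (q ^ 6 - 1) * (q ^ 8 - 1) * (q ^ 10 - 1) * (q ^ 12 - 1) * (q ^ 14 - 1)) := by
  have : (datE8_3.steps.map fun p => polyOf q (p.2.map List.length)).prod =
      geom q 8 * geom q 2 * geom q 4 * geom q 6 * geom q 8 * geom q 10 * geom q 12 * geom q 14 := by
    simp only [datE8_3, polyOf, List.map_cons, List.map_nil, List.sum_cons, List.sum_nil, List.prod_cons, List.prod_nil,
      List.length_cons, List.length_nil, geom, sum_range_succ, sum_range_zero]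
    ring
  simp only [this, ← geom_mul hq]
  ring

end CL.Chev
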