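/-
Quadratic pairs, part 1: square-zero endomorphisms whose one-parameter groups lie in a linear group `G`,
those of minimal rank, and the class-two lemma.
-/
import Cfsg.Agent.Base

set_option autoImplicit false
set_option linter.unusedSimpArgs false
set_option linter.unusedVariables false

namespace CL.Chev.Quad

open Module LinearMap

variable {k : Type*} [Field k] {M : Type*} [AddCommGroup M] [Module k M]

/-- The unit `1 + a` for a square-zero `a`. -/
def ex (a : Module.End k M) (h : a * a = 0) : LinearMap.GeneralLinearGroup k M :=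
  ⟨1 + a, 1 - a, by
    change (1 + a) * (1 - a) = (1 : Module.End k M)
    rw [add_mul, mul_sub, mul_sub, h]; simp, by
    change (1 - a) * (1 + a) = (1 : Module.End k M)
    rw [sub_mul, mul_add, mul_add, h]; simp⟩

@[simp] theorem ex_val (a : Module.End k M) (h : a * a = 0) :
    ((ex a h : LinearMap.GeneralLinearGroup k M) : Module.End k M) = 1 + a := rfl

@[simp] theorem ex_inv_val (a : Module.End k M) (h : a * a = 0) :
    (((ex a h)⁻¹ : LinearMap.GeneralLinearGroup k M) : Module.End k M) = 1 - a := rfl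

theorem smul_sq_zero {a : Module.End k M} (h : a * a = 0) (c : k) : (c • a) * (c • a) = 0 := by
  rw [smul_mul_smul_comm, h, smul_zero]

/-- `a` has square zero and all `1 + c a` lie in `G` (`a = 0` allowed). -/
def Q0 (G : Subgroup (LinearMap.GeneralLinearGroup k M)) (a : Module.End k M) : Prop :=
  a * a = 0 ∧ ∀ (c : k) (τ : LinearMap.GeneralLinearGroup k M), (τ : Module.End k M) = 1 + c • a → τ ∈ G

/-- The rank of an endomorphism. -/
noncomputable def rk (a : Module.End k M) : ℕ := finrank k (LinearMap.range a)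

/-- `a` is a nonzero element of `Q0 G` of minimal rank. -/
def Min (G : Subgroup (LinearMap.GeneralLinearGroup k M)) (a : Module.End k M) : Prop :=
  Q0 G a ∧ a ≠ 0 ∧ ∀ b, Q0 G b → b ≠ 0 → rk a ≤ rk b

variable {G : Subgroup (LinearMap.GeneralLinearGroup k M)}

theorem Q0.sq {a : Module.End k M} (h : Q0 G a) : a * a = 0 := h.1

theorem Q0.sq' {a : Module.End k M} (h : Q0 G a) (x : Module.End k M) : a * (a * x) = 0 := by
  rw [← mul_assoc, h.1, zero_mul]

theorem Q0.ex_smul_mem {a : Module.End k M} (h : Q0 G a) (c : k) : ex (c • a) (smul_sq_zero h.1 c) ∈ G :=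
  h.2 c _ rfl

theorem Q0.ex_mem {a : Module.End k M} (h : Q0 G a) : ex a h.1 ∈ G :=
  h.2 1 _ (by simp)

theorem Q0.of_ex {a : Module.End k M} (h : a * a = 0) (h2 : ∀ c : k, ex (c • a) (smul_sq_zero h c) ∈ G) :
    Q0 G a := ⟨h, fun c τ hτ => by
  have : τ = ex (c • a) (smul_sq_zero h c) := Units.ext hτ
  rw [this]; exact h2 c⟩

theorem Q0.mono {G' : Subgroup (LinearMap.GeneralLinearGroup k M)} (hG : G ≤ G') {a : Module.End k M}
    (h : Q0 G a) : Q0 G' a := ⟨h.1, fun c τ hτ => hG (h.2 c τ hτ)⟩

theorem Q0.zero : Q0 G (0 : Module.End k M) := ⟨by simp, fun c τ hτ => by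
  have : τ = 1 := Units.ext (by simpa using hτ)
  rw [this]; exact G.one_mem⟩

theorem Q0.smul {a : Module.End k M} (h : Q0 G a) (c : k) : Q0 G (c • a) :=
  ⟨smul_sq_zero h.1 c, fun c' τ hτ => h.2 (c' * c) τ (by rw [hτ, smul_smul])⟩

theorem Q0.neg {a : Module.End k M} (h : Q0 G a) : Q0 G (-a) := by
  simpa using h.smul (-1)

theorem Q0.add {a b : Module.End k M} (ha : Q0 G a) (hb : Q0 G b) (hab : a * b = 0) (hba : b * a = 0) :
    Q0 G (a + b) := by
  have h : (a + b) * (a + b) = 0 := by rw [add_mul, mul_add, mul_add, ha.1, hb.1, hab, hba]; simp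
  refine Q0.of_ex h fun c => ?_
  have : ex (c • (a + b)) (smul_sq_zero h c) =
      ex (c • a) (smul_sq_zero ha.1 c) * ex (c • b) (smul_sq_zero hb.1 c) := by
    apply Units.ext
    simp only [Units.val_mul, ex_val, add_mul, mul_add, one_mul, mul_one, smul_mul_smul_comm, hab, smul_zero,
      smul_add]
    abel
  rw [this]; exact G.mul_mem (ha.ex_smul_mem c) (hb.ex_smul_mem c)

theorem Q0.sub {a b : Module.End k M} (ha : Q0 G a) (hb : Q0 G b) (hab : a * b = 0) (hba : b * a = 0) :
    Q0 G (a - b) := by
  rw [sub_eq_add_neg]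
  exact ha.add hb.neg (by simp [hab]) (by simp [hba])

theorem Q0.conj {a : Module.End k M} (ha : Q0 G a) {g : LinearMap.GeneralLinearGroup k M} (hg : g ∈ G) :
    Q0 G ((g : Module.End k M) * a * ((g⁻¹ : LinearMap.GeneralLinearGroup k M) : Module.End k M)) := by
  have h : ((g : Module.End k M) * a * ((g⁻¹ : LinearMap.GeneralLinearGroup k M) : Module.End k M)) *
      ((g : Module.End k M) * a * ((g⁻¹ : LinearMap.GeneralLinearGroup k M) : Module.End k M)) = 0 := by
    simp only [mul_assoc, Units.inv_mul_cancel_left, ha.sq', mul_zero]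
  refine Q0.of_ex h fun c => ?_
  have : ex (c • _) (smul_sq_zero h c) = g * ex (c • a) (smul_sq_zero ha.1 c) * g⁻¹ := by
    apply Units.ext
    simp only [Units.val_mul, ex_val, add_mul, mul_add, mul_one, Units.mul_inv, mul_smul_comm, smul_mul_assoc]
  rw [this]; exact G.mul_mem (G.mul_mem hg (ha.ex_smul_mem c)) (G.inv_mem hg)

theorem Q0.conj_ex {a x : Module.End k M} (ha : Q0 G a) (hx : Q0 G x) : Q0 G ((1 + x) * a * (1 - x)) :=
  ha.conj hx.ex_mem

theorem Q0.comm {a b : Module.End k M} (ha : Q0 G a) (hb : Q0 G b) (h1 : a * b * a = 0) (h2 : b * a * b = 0) :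
    Q0 G (a * b - b * a) := by
  have e1 : ∀ x, a * (b * (a * x)) = 0 := fun x => by rw [← mul_assoc, ← mul_assoc, h1, zero_mul]
  have e2 : ∀ x, b * (a * (b * x)) = 0 := fun x => by rw [← mul_assoc, ← mul_assoc, h2, zero_mul]
  have e1' : a * (b * a) = 0 := by rw [← mul_assoc, h1]
  have e2' : b * (a * b) = 0 := by rw [← mul_assoc, h2]
  have hc := (hb.conj_ex ha).sub hb (by
      simp only [add_mul, mul_sub, sub_mul, mul_add, one_mul, mul_one, mul_assoc, hb.1, e1, e2, e1', e2', mul_zero]
      simp) (by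
      simp only [add_mul, mul_sub, sub_mul, mul_add, one_mul, mul_one, mul_assoc, hb.1, hb.sq', e1, e2, e1', e2',
        mul_zero]
      simp)
  have : (1 + a) * b * (1 - a) - b = a * b - b * a := by
    simp only [add_mul, mul_sub, one_mul, mul_one, h1]; abel
  rwa [this] at hc

/-! ### ranks -/

section rank
variable [FiniteDimensional k M]

theorem rk_eq_zero {a : Module.End k M} : rk a = 0 ↔ a = 0 := by
  rw [rk, Submodule.finrank_eq_zero, LinearMap.range_eq_bot]

theorem rk_mono {a b : Module.End k M} (h : LinearMap.range a ≤ LinearMap.range b) : rk a ≤ rk b :=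
  Submodule.finrank_mono h

theorem rk_mul_le_left (a b : Module.End k M) : rk (a * b) ≤ rk a :=
  rk_mono (LinearMap.range_comp_le_range b a)

theorem rk_mul_add (a b : Module.End k M) :
    rk (a * b) + finrank k (LinearMap.range b ⊓ LinearMap.ker a : Submodule k M) = rk b := by
  have h := LinearMap.finrank_range_add_finrank_ker (a.domRestrict (LinearMap.range b))
  rw [LinearMap.range_domRestrict, LinearMap.ker_domRestrict] at h
  have e1 : Submodule.map a (LinearMap.range b) = LinearMap.range (a * b) := by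
    rw [Module.End.mul_eq_comp, LinearMap.range_comp]
  have e2 : finrank k (Submodule.comap (LinearMap.range b).subtype (LinearMap.ker a)) =
      finrank k (LinearMap.range b ⊓ LinearMap.ker a : Submodule k M) := by
    rw [← Submodule.finrank_map_subtype_eq, Submodule.map_comap_subtype]
  rw [e1, e2] at h
  exact h

theorem rk_mul_le_right (a b : Module.End k M) : rk (a * b) ≤ rk b := by
  have := rk_mul_add a b; omega

theorem rk_mul_lt {a b : Module.End k M} {v : M} (hv : v ≠ 0) (hb : v ∈ LinearMap.range b) (ha : a v = 0) :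
    rk (a * b) < rk b := by
  have h := rk_mul_add a b
  have : finrank k (LinearMap.range b ⊓ LinearMap.ker a : Submodule k M) ≠ 0 := by
    rw [Ne, Submodule.finrank_eq_zero]
    intro h0
    have : v ∈ (LinearMap.range b ⊓ LinearMap.ker a : Submodule k M) := ⟨hb, ha⟩
    rw [h0] at this
    exact hv this
  omega

theorem disjoint_of_rk_mul_eq {a b : Module.End k M} (h : rk b ≤ rk (a * b)) :
    Disjoint (LinearMap.ker a) (LinearMap.range b) := by
  have h1 := rk_mul_add a b
  have : finrank k (LinearMap.range b ⊓ LinearMap.ker a : Submodule k M) = 0 := by omega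
  rw [Submodule.finrank_eq_zero] at this
  rw [disjoint_iff, inf_comm, this]

theorem rk_mul_of_disjoint {a b : Module.End k M} (h : Disjoint (LinearMap.ker a) (LinearMap.range b)) :
    rk (a * b) = rk b := by
  have h1 := rk_mul_add a b
  rw [inf_comm, disjoint_iff.1 h, finrank_bot] at h1
  omega

theorem rk_add_ker (a : Module.End k M) : rk a + finrank k (LinearMap.ker a) = finrank k M :=
  LinearMap.finrank_range_add_finrank_ker a

theorem rk_conj (a : Module.End k M) (g : LinearMap.GeneralLinearGroup k M) :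
    rk ((g : Module.End k M) * a * ((g⁻¹ : LinearMap.GeneralLinearGroup k M) : Module.End k M)) = rk a := by
  apply le_antisymm
  · exact (rk_mul_le_left _ _).trans (rk_mul_le_right _ _)
  · have : a = ((g⁻¹ : LinearMap.GeneralLinearGroup k M) : Module.End k M) *
        ((g : Module.End k M) * a * ((g⁻¹ : LinearMap.GeneralLinearGroup k M) : Module.End k M)) * g := by
      simp [mul_assoc]
    conv_lhs => rw [this]
    exact (rk_mul_le_left _ _).trans (rk_mul_le_right _ _)

theorem rk_smul_le (c : k) (a : Module.End k M) : rk (c • a) ≤ rk a :=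
  rk_mono (LinearMap.range_smul_le_range a c)

end rank

theorem Min.q0 {a : Module.End k M} (h : Min G a) : Q0 G a := h.1
theorem Min.ne {a : Module.End k M} (h : Min G a) : a ≠ 0 := h.2.1
theorem Min.sq {a : Module.End k M} (h : Min G a) : a * a = 0 := h.1.1
theorem Min.le {a b : Module.End k M} (h : Min G a) (hb : Q0 G b) (hb0 : b ≠ 0) : rk a ≤ rk b := h.2.2 b hb hb0

theorem Min.of_rk_le {a b : Module.End k M} (h : Min G a) (hb : Q0 G b) (hb0 : b ≠ 0) (hle : rk b ≤ rk a) :
    Min G b := ⟨hb, hb0, fun c hc hc0 => hle.trans (h.le hc hc0)⟩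

theorem Min.rk_eq {a b : Module.End k M} (ha : Min G a) (hb : Min G b) : rk a = rk b :=
  le_antisymm (ha.le hb.q0 hb.ne) (hb.le ha.q0 ha.ne)

theorem Min.eq_zero_of_rk_lt {a b : Module.End k M} (h : Min G a) (hb : Q0 G b) (hlt : rk b < rk a) : b = 0 := by
  by_contra h0
  exact absurd (h.le hb h0) (not_le.2 hlt)

variable [FiniteDimensional k M]

theorem Min.conj {a : Module.End k M} (ha : Min G a) {g : LinearMap.GeneralLinearGroup k M} (hg : g ∈ G) :
    Min G ((g : Module.End k M) * a * ((g⁻¹ : LinearMap.GeneralLinearGroup k M) : Module.End k M)) := by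
  refine ha.of_rk_le (ha.q0.conj hg) (fun h => ha.ne ?_) (rk_conj a g).le
  rw [← rk_eq_zero, ← rk_conj a g, h, rk_eq_zero]

theorem Min.conj_ex {a x : Module.End k M} (ha : Min G a) (hx : Q0 G x) : Min G ((1 + x) * a * (1 - x)) :=
  ha.conj hx.ex_mem

theorem Min.smul {a : Module.End k M} (ha : Min G a) {c : k} (hc : c ≠ 0) : Min G (c • a) :=
  ha.of_rk_le (ha.q0.smul c) (smul_ne_zero hc ha.ne) (rk_smul_le c a)

theorem Min.neg {a : Module.End k M} (ha : Min G a) : Min G (-a) := by
  simpa using ha.smul (c := -1) (by simp)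

theorem Min.range_eq {a b : Module.End k M} (ha : Min G a) (hb : Q0 G b) (hb0 : b ≠ 0)
    (hle : LinearMap.range b ≤ LinearMap.range a) : LinearMap.range b = LinearMap.range a :=
  Submodule.eq_of_le_of_finrank_le hle (ha.le hb hb0)

theorem Min.ker_eq {a b : Module.End k M} (ha : Min G a) (hb : Q0 G b) (hb0 : b ≠ 0)
    (hle : LinearMap.ker a ≤ LinearMap.ker b) : LinearMap.ker a = LinearMap.ker b := by
  refine Submodule.eq_of_le_of_finrank_le hle ?_
  have h1 := rk_add_ker a
  have h2 := rk_add_ker b
  have h3 := ha.le hb hb0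
  omega

omit [FiniteDimensional k M] in
theorem mul_eq_zero_iff_range_le {a b : Module.End k M} :
    a * b = 0 ↔ LinearMap.range b ≤ LinearMap.ker a := by
  rw [LinearMap.range_le_ker_iff]; rfl

omit [FiniteDimensional k M] in
theorem mul_eq_zero_of_range_le {a b x : Module.End k M} (h : LinearMap.range b ≤ LinearMap.range a)
    (hx : x * a = 0) : x * b = 0 :=
  mul_eq_zero_iff_range_le.2 (h.trans (mul_eq_zero_iff_range_le.1 hx))

omit [FiniteDimensional k M] in
theorem mul_eq_zero_of_ker_le {a b x : Module.End k M} (h : LinearMap.ker a ≤ LinearMap.ker b)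
    (hx : a * x = 0) : b * x = 0 :=
  mul_eq_zero_iff_range_le.2 ((mul_eq_zero_iff_range_le.1 hx).trans h)

omit [FiniteDimensional k M] in
theorem range_mul_le (a b : Module.End k M) : LinearMap.range (a * b) ≤ LinearMap.range a :=
  LinearMap.range_comp_le_range b a

omit [FiniteDimensional k M] in
theorem ker_le_ker_mul (a b : Module.End k M) : LinearMap.ker b ≤ LinearMap.ker (a * b) :=
  LinearMap.ker_le_ker_comp b a

/-- The class-two lemma. -/
theorem class_two {a b : Module.End k M} (ha : Min G a) (hb : Q0 G b) (h1 : a * b * a = 0) (h2 : b * a * b = 0)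
    (hc : a * b - b * a ≠ 0) :
    Min G (a * b - b * a) ∧ Disjoint (LinearMap.range (a * b)) (LinearMap.range (b * a)) ∧
      LinearMap.range (a * b) = LinearMap.range a ⊓ LinearMap.ker b ∧
      LinearMap.range (a * b - b * a) = LinearMap.range (a * b) ⊔ LinearMap.range (b * a) ∧
      rk (a * b) + rk (b * a) = rk a := by
  have hq := ha.q0.comm hb h1 h2
  have hd := ha.le hq hc
  have e1 := rk_mul_add b a
  have hle1 : LinearMap.range (a * b) ≤ LinearMap.range a ⊓ LinearMap.ker b :=
    le_inf (range_mul_le a b) (mul_eq_zero_iff_range_le.1 (by rw [← mul_assoc, h2]))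
  have e2 : rk (a * b) ≤ finrank k (LinearMap.range a ⊓ LinearMap.ker b : Submodule k M) :=
    Submodule.finrank_mono hle1
  have hle2 : LinearMap.range (a * b - b * a) ≤ LinearMap.range (a * b) ⊔ LinearMap.range (b * a) := by
    rintro _ ⟨m, rfl⟩
    exact Submodule.sub_mem _ (Submodule.mem_sup_left ⟨m, rfl⟩) (Submodule.mem_sup_right ⟨m, rfl⟩)
  have e3 : rk (a * b - b * a) ≤ finrank k (LinearMap.range (a * b) ⊔ LinearMap.range (b * a) : Submodule k M) :=
    Submodule.finrank_mono hle2
  have e4 := Submodule.finrank_sup_add_finrank_inf_eq (LinearMap.range (a * b)) (LinearMap.range (b * a))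
  change _ = rk (a * b) + rk (b * a) at e4
  refine ⟨ha.of_rk_le hq hc (by omega), ?_, Submodule.eq_of_le_of_finrank_le hle1 (by change _ ≤ rk _; omega),
    Submodule.eq_of_le_of_finrank_le hle2 (by change _ ≤ rk _; omega), by omega⟩
  rw [disjoint_iff, ← Submodule.finrank_eq_zero]
  omega

end CL.Chev.Quad
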