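/-
Quadratic pairs, part 2: two square-zero endomorphisms `a` (minimal) and `q`; either `a q a = 0` or `a` has an
"inverse" with respect to `q` inside its class.  Conditional on the polynomial form `PD k` of Dickson's lemma.
-/
import Cfsg.Agent.Chev.QuadBasic

set_option autoImplicit false
set_option linter.all false

namespace CL.Chev.Quad

open Module LinearMap Polynomial

section abstract
variable {S A : Type*} [CommRing S] [Ring A] [Module S A] [IsScalarTower S A A]

/-- Relations of the generic pair. -/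
structure QRel (t : S) (a q : A) : Prop where
  aa : a * a = 0
  qq : q * q = 0
  z : q * a = t • (1 : A) - a * q
  sa : ∀ (s : S) (x : A), a * (s • x) = s • (a * x)
  sq : ∀ (s : S) (x : A), q * (s • x) = s • (q * x)

/-- The conjugate of `a` by a matrix with first column `(p, t r)`. -/
def Nabs (t : S) (a q : A) (p r : S) : A := (p ^ 2) • a - (p * r) • (a * q - q * a) - (r ^ 2 * t) • q

variable {t : S} {a q : A}

theorem QRel.aa' (h : QRel t a q) (x : A) : a * (a * x) = 0 := by rw [← mul_assoc, h.aa, zero_mul]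
theorem QRel.qq' (h : QRel t a q) (x : A) : q * (q * x) = 0 := by rw [← mul_assoc, h.qq, zero_mul]
theorem QRel.z' (h : QRel t a q) (x : A) : q * (a * x) = t • x - a * (q * x) := by
  rw [← mul_assoc, h.z, sub_mul, smul_mul_assoc, one_mul, mul_assoc]

theorem QRel.conj_up (h : QRel t a q) (p r y : S) :
    (1 + y • a) * Nabs t a q p r * (1 - y • a) = Nabs t a q (p + y * t * r) r := by
  simp only [Nabs, add_mul, mul_add, sub_mul, mul_sub, one_mul, mul_one, mul_assoc, smul_mul_assoc, h.sa, h.sq,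
    h.aa, h.qq, h.aa', h.qq', h.z, h.z', smul_zero, mul_zero, zero_mul, smul_sub, smul_add]
  module

theorem QRel.conj_down (h : QRel t a q) (p r y : S) :
    (1 + y • q) * Nabs t a q p r * (1 - y • q) = Nabs t a q p (r + y * p) := by
  simp only [Nabs, add_mul, mul_add, sub_mul, mul_sub, one_mul, mul_one, mul_assoc, smul_mul_assoc, h.sa, h.sq,
    h.aa, h.qq, h.aa', h.qq', h.z, h.z', smul_zero, mul_zero, zero_mul, smul_sub, smul_add]
  module

theorem QRel.a_mul (h : QRel t a q) (p r : S) :
    a * Nabs t a q p r = (p * r * t) • a - (r ^ 2 * t) • (a * q) := by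
  simp only [Nabs, add_mul, mul_add, sub_mul, mul_sub, one_mul, mul_one, mul_assoc, smul_mul_assoc, h.sa, h.sq,
    h.aa, h.qq, h.aa', h.qq', h.z, h.z', smul_zero, mul_zero, zero_mul, smul_sub, smul_add]
  module

theorem QRel.mul_a (h : QRel t a q) (p r : S) :
    Nabs t a q p r * a = - (p * r * t) • a - (r ^ 2 * t) • (q * a) := by
  simp only [Nabs, add_mul, mul_add, sub_mul, mul_sub, one_mul, mul_one, mul_assoc, smul_mul_assoc, h.sa, h.sq,
    h.aa, h.qq, h.aa', h.qq', h.z, h.z', smul_zero, mul_zero, zero_mul, smul_sub, smul_add]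
  module

theorem QRel.z_a (h : QRel t a q) (p r : S) :
    a * Nabs t a q p r + Nabs t a q p r * a = (-(r ^ 2 * t) * t) • (1 : A) := by
  simp only [Nabs, add_mul, mul_add, sub_mul, mul_sub, one_mul, mul_one, mul_assoc, smul_mul_assoc, h.sa, h.sq,
    h.aa, h.qq, h.aa', h.qq', h.z, h.z', smul_zero, mul_zero, zero_mul, smul_sub, smul_add]
  module

theorem QRel.q_mul (h : QRel t a q) (p r : S) :
    q * Nabs t a q p r = (p ^ 2) • (q * a) - (p * r * t) • q := by
  simp only [Nabs, add_mul, mul_add, sub_mul, mul_sub, one_mul, mul_one, mul_assoc, smul_mul_assoc, h.sa, h.sq,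
    h.aa, h.qq, h.aa', h.qq', h.z, h.z', smul_zero, mul_zero, zero_mul, smul_sub, smul_add]
  module

theorem QRel.mul_q (h : QRel t a q) (p r : S) :
    Nabs t a q p r * q = (p ^ 2) • (a * q) + (p * r * t) • q := by
  simp only [Nabs, add_mul, mul_add, sub_mul, mul_sub, one_mul, mul_one, mul_assoc, smul_mul_assoc, h.sa, h.sq,
    h.aa, h.qq, h.aa', h.qq', h.z, h.z', smul_zero, mul_zero, zero_mul, smul_sub, smul_add]
  module

theorem QRel.z_q (h : QRel t a q) (p r : S) :
    Nabs t a q p r * q + q * Nabs t a q p r = (p ^ 2 * t) • (1 : A) := by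
  simp only [Nabs, add_mul, mul_add, sub_mul, mul_sub, one_mul, mul_one, mul_assoc, smul_mul_assoc, h.sa, h.sq,
    h.aa, h.qq, h.aa', h.qq', h.z, h.z', smul_zero, mul_zero, zero_mul, smul_sub, smul_add]
  module

end abstract

variable {k : Type*} [Field k] {M : Type*} [AddCommGroup M] [Module k M]

/-- Evaluation of a polynomial at `a q + q a`. -/
noncomputable def ev (a q : Module.End k M) : k[X] →ₐ[k] Module.End k M := aeval (a * q + q * a)

theorem ev_X (a q : Module.End k M) : ev a q X = a * q + q * a := aeval_X _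
theorem ev_C (a q : Module.End k M) (c : k) : ev a q (C c) = c • (1 : Module.End k M) := by
  rw [ev, aeval_C, Algebra.algebraMap_eq_smul_one]

theorem ev_comm_of {a q x : Module.End k M} (h : Commute x (a * q + q * a)) (p : k[X]) :
    x * ev a q p = ev a q p * x := by
  have : Commute x (ev a q p) := by
    unfold ev
    induction p using Polynomial.induction_on' with
    | add p p' hp hp' => rw [map_add]; exact hp.add_right hp'
    | monomial n c =>
      rw [aeval_monomial]
      exact (Algebra.commute_algebraMap_right c x).mul_right (h.pow_right n)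
  exact this.eq

theorem ev_comm_left {a q : Module.End k M} (ha : a * a = 0) (p : k[X]) : a * ev a q p = ev a q p * a :=
  ev_comm_of (by
    change a * (a * q + q * a) = (a * q + q * a) * a
    rw [mul_add, add_mul, ← mul_assoc, ha, mul_assoc q, ha, mul_assoc]; simp) p

theorem ev_comm_right {a q : Module.End k M} (hq : q * q = 0) (p : k[X]) : q * ev a q p = ev a q p * q :=
  ev_comm_of (by
    change q * (a * q + q * a) = (a * q + q * a) * q
    rw [mul_add, add_mul, ← mul_assoc q q, hq, mul_assoc a, hq, mul_assoc]; simp) p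

theorem ev_mul_comm (a q : Module.End k M) (p r : k[X]) : ev a q p * ev a q r = ev a q r * ev a q p := by
  rw [← map_mul, ← map_mul, mul_comm]

/-- Concrete form of `Nabs`. -/
noncomputable def NN (a q : Module.End k M) (p r : k[X]) : Module.End k M :=
  ev a q (p ^ 2) * a - ev a q (p * r) * (a * q - q * a) - ev a q (r ^ 2 * X) * q

/-- The module structure over polynomials given by left multiplication by polynomials in `a q + q a`. -/
@[reducible] noncomputable def evMod (a q : Module.End k M) : Module k[X] (Module.End k M) :=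
  Module.compHom _ (ev a q).toRingHom

theorem evTower (a q : Module.End k M) :
    letI := evMod a q; IsScalarTower k[X] (Module.End k M) (Module.End k M) := by
  letI := evMod a q
  exact ⟨fun p x y => mul_assoc (ev a q p) x y⟩

theorem evRel {a q : Module.End k M} (ha : a * a = 0) (hq : q * q = 0) :
    letI := evMod a q; QRel (X : k[X]) a q := by
  letI := evMod a q
  refine ⟨ha, hq, ?_, fun s x => ?_, fun s x => ?_⟩
  · change q * a = ev a q X * 1 - a * q
    rw [ev_X]; simp
  · change a * (ev a q s * x) = ev a q s * (a * x)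
    rw [← mul_assoc, ev_comm_left ha, mul_assoc]
  · change q * (ev a q s * x) = ev a q s * (q * x)
    rw [← mul_assoc, ev_comm_right hq, mul_assoc]

section ids
variable {a q : Module.End k M} (ha : a * a = 0) (hq : q * q = 0)
include ha hq

theorem NN_conj_up (p r y : k[X]) :
    (1 + ev a q y * a) * NN a q p r * (1 - ev a q y * a) = NN a q (p + y * X * r) r := by
  letI := evMod a q; haveI := evTower a q
  exact (evRel ha hq).conj_up p r y

theorem NN_conj_down (p r y : k[X]) :
    (1 + ev a q y * q) * NN a q p r * (1 - ev a q y * q) = NN a q p (r + y * p) := by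
  letI := evMod a q; haveI := evTower a q
  exact (evRel ha hq).conj_down p r y

theorem a_mul_NN (p r : k[X]) : a * NN a q p r = ev a q (p * r * X) * a - ev a q (r ^ 2 * X) * (a * q) := by
  letI := evMod a q; haveI := evTower a q
  exact (evRel ha hq).a_mul p r

theorem NN_mul_a (p r : k[X]) : NN a q p r * a = ev a q (-(p * r * X)) * a - ev a q (r ^ 2 * X) * (q * a) := by
  letI := evMod a q; haveI := evTower a q
  exact (evRel ha hq).mul_a p r

theorem z_a_NN (p r : k[X]) : a * NN a q p r + NN a q p r * a = ev a q (-(r ^ 2 * X) * X) := by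
  letI := evMod a q; haveI := evTower a q
  exact ((evRel ha hq).z_a p r).trans (mul_one _)

theorem q_mul_NN (p r : k[X]) : q * NN a q p r = ev a q (p ^ 2) * (q * a) - ev a q (p * r * X) * q := by
  letI := evMod a q; haveI := evTower a q
  exact (evRel ha hq).q_mul p r

theorem NN_mul_q (p r : k[X]) : NN a q p r * q = ev a q (p ^ 2) * (a * q) + ev a q (p * r * X) * q := by
  letI := evMod a q; haveI := evTower a q
  exact (evRel ha hq).mul_q p r

theorem z_q_NN (p r : k[X]) : NN a q p r * q + q * NN a q p r = ev a q (p ^ 2 * X) := by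
  letI := evMod a q; haveI := evTower a q
  exact ((evRel ha hq).z_q p r).trans (mul_one _)

end ids

theorem NN_one_zero (a q : Module.End k M) : NN a q 1 0 = a := by simp [NN]

/-- First columns `(p, X r)` of the words in upper and lower elementary matrices over `k[X]`. -/
inductive Reach {k : Type*} [Field k] : k[X] → k[X] → Prop
  | base : Reach 1 0
  | up (p r : k[X]) (c : k) : Reach p r → Reach (p + C c * X * r) r
  | down (p r : k[X]) (c : k) : Reach p r → Reach p (r + C c * p)

theorem Reach.X_dvd {p r : k[X]} (h : Reach p r) : X ∣ p - 1 := by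
  induction h with
  | base => simp
  | up p r c _ ih =>
    have : p + C c * X * r - 1 = (p - 1) + X * (C c * r) := by ring
    rw [this]; exact dvd_add ih (dvd_mul_right _ _)
  | down p r c _ ih => exact ih

/-- Polynomial form of Dickson's lemma. -/
def PD (k : Type*) [Field k] : Prop :=
  ∀ (g : k[X]), Irreducible g → ¬ X ∣ g → ∀ (j : ℕ) (u : k[X]), ¬ g ∣ u →
    ∃ p r : k[X], Reach p r ∧ g ∣ p - u ∧ g ∣ r ∧ X ^ j ∣ r

variable {G : Subgroup (LinearMap.GeneralLinearGroup k M)} [FiniteDimensional k M]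

theorem Reach.min {a q : Module.End k M} (ha : Min G a) (hq : Q0 G q) {p r : k[X]} (h : Reach p r) :
    Min G (NN a q p r) := by
  induction h with
  | base => rwa [NN_one_zero]
  | up p r c _ ih =>
    rw [← NN_conj_up ha.sq hq.sq, ev_C, smul_mul_assoc, one_mul]
    exact ih.conj_ex (ha.q0.smul c)
  | down p r c _ ih =>
    rw [← NN_conj_down ha.sq hq.sq, ev_C, smul_mul_assoc, one_mul]
    exact ih.conj_ex (hq.smul c)

omit [FiniteDimensional k M] in
theorem two_cancel (h2 : (2 : k) ≠ 0) {x : Module.End k M} (h : x + x = 0) : x = 0 := by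
  have : (2 : k) • x = 0 := by rw [two_smul, h]
  exact (smul_eq_zero.1 this).resolve_left h2

/-- The nilpotent case. -/
theorem aqa_eq_zero_of_pow (h2 : (2 : k) ≠ 0) (n : ℕ) :
    ∀ {a q : Module.End k M}, Min G a → Q0 G q → (a * q + q * a) ^ n = 0 → a * q * a = 0 := by
  induction n using Nat.strong_induction_on with
  | _ n ih =>
  intro a q ha hq hz
  have hza : (a * q + q * a) * a = a * q * a := by rw [add_mul, mul_assoc q, ha.sq]; simp
  by_cases hn : n ≤ 1
  · have : (a * q + q * a) ^ 1 = 0 := by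
      obtain ⟨m, hm⟩ := Nat.exists_eq_add_of_le hn
      rw [hm, pow_add, hz, zero_mul]
    rw [pow_one] at this
    rw [← hza, this, zero_mul]
  have key : ∀ q : Module.End k M, Q0 G q → (a * q + q * a) ^ n = 0 →
      a * (q * (a * (q * a))) = 0 ∧ Q0 G (a * (q * a) + a * (q * a) - a * (q * (a * q)) + q * (a * (q * a))) := by
    intro q hq hz
    have ha' := ha.conj_ex hq
    set a' := (1 + q) * a * (1 - q) with ha'def
    have e1 : a * a' = a * (q * a) - a * (q * (a * q)) := by
      simp only [ha'def, add_mul, mul_add, sub_mul, mul_sub, one_mul, mul_one, mul_assoc, ha.sq, ha.q0.sq',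
        hq.sq, hq.sq']; abel
    have e2 : a' * a = - (a * (q * a)) - q * (a * (q * a)) := by
      simp only [ha'def, add_mul, mul_add, sub_mul, mul_sub, one_mul, mul_one, mul_assoc, ha.sq, ha.q0.sq',
        hq.sq, hq.sq', mul_zero]; abel
    have e3 : a * a' + a' * a = - (a * q + q * a) ^ 2 := by
      rw [e1, e2]
      simp only [pow_two, add_mul, mul_add, mul_assoc, ha.sq, ha.q0.sq', hq.sq, hq.sq', mul_zero]; abel
    have hz' : (a * a' + a' * a) ^ ((n + 1) / 2) = 0 := by
      rw [e3, neg_pow, ← pow_mul]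
      obtain ⟨m, hm⟩ : ∃ m, 2 * ((n + 1) / 2) = n + m := ⟨2 * ((n + 1) / 2) - n, by omega⟩
      rw [hm, pow_add, hz, zero_mul, mul_zero]
    have h1 := ih ((n + 1) / 2) (by omega) ha ha'.q0 hz'
    have h1' := ih ((n + 1) / 2) (by omega) ha' ha.q0 (by rwa [add_comm])
    have hc := ha.q0.comm ha'.q0 h1 h1'
    refine ⟨?_, ?_⟩
    · rw [e1] at h1
      simpa [sub_mul, mul_assoc, ha.sq] using h1
    · rw [e1, e2] at hc
      convert hc using 1
      abel
  obtain ⟨h5, hc1⟩ := key q hq hz
  obtain ⟨-, hc2⟩ := key (-q) hq.neg (by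
    have : a * -q + -q * a = - (a * q + q * a) := by simp [add_comm]
    rw [this, neg_pow, hz, mul_zero])
  have h5' : ∀ x, a * (q * (a * (q * (a * x)))) = 0 := fun x => by
    have := congrArg (· * x) h5
    simpa [mul_assoc] using this
  have hc := hc1.sub hc2 (by
    simp only [add_mul, mul_add, sub_mul, mul_sub, mul_neg, neg_mul, neg_neg, mul_assoc, ha.sq, ha.q0.sq', hq.sq,
      hq.sq', mul_zero, h5, h5']; simp) (by
    simp only [add_mul, mul_add, sub_mul, mul_sub, mul_neg, neg_mul, neg_neg, mul_assoc, ha.sq, ha.q0.sq', hq.sq,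
      hq.sq', mul_zero, h5, h5']; simp)
  have h4 : (4 : k) ≠ 0 := by
    have : (4 : k) = 2 * 2 := by norm_num
    rw [this]; exact mul_ne_zero h2 h2
  have hc' : Q0 G (a * q * a) := by
    have := hc.smul (4 : k)⁻¹
    convert this using 1
    rw [eq_inv_smul_iff₀ h4]
    simp only [mul_neg, neg_mul, neg_neg, mul_assoc]
    module
  by_contra h0
  have hr := ha.range_eq hc' h0 (by rw [mul_assoc]; exact range_mul_le _ _)
  apply h0
  exact mul_eq_zero_of_range_le (a := a * q * a) hr.ge (by simp only [mul_assoc, h5])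

omit [FiniteDimensional k M] in
theorem exists_irred_kill (T : Module.End k M) (f : k[X]) :
    f ≠ 0 → ∀ w : M, w ≠ 0 → aeval T f w = 0 →
      ∃ g x : k[X], Irreducible g ∧ aeval T x w ≠ 0 ∧ aeval T g (aeval T x w) = 0 := by
  induction f using WfDvdMonoid.induction_on_irreducible with
  | zero => intro h; exact absurd rfl h
  | unit u hu =>
    intro _ w hw h
    exfalso; apply hw
    obtain ⟨u', hu'⟩ := hu.exists_left_inv
    have := congrArg (aeval T u') h
    rwa [← Module.End.mul_apply, ← map_mul, hu', map_one, map_zero, Module.End.one_apply] at this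
  | mul f g hf hg ih =>
    intro _ w hw h
    by_cases h1 : aeval T f w = 0
    · exact ih hf w hw h1
    · exact ⟨g, f, hg, h1, by rwa [← Module.End.mul_apply, ← map_mul]⟩

theorem pow_cancel (T : Module.End k M) (i : ℕ) (x : M) (h : (T ^ i) ((T ^ finrank k M) x) = 0) :
    (T ^ finrank k M) x = 0 := by
  have : x ∈ LinearMap.ker (T ^ (i + finrank k M)) := by
    rw [LinearMap.mem_ker, pow_add, Module.End.mul_apply, h]
  rwa [Module.End.ker_pow_eq_ker_pow_finrank_of_le (Nat.le_add_left _ _)] at this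

omit [FiniteDimensional k M] in
theorem z_mul_a {a q : Module.End k M} (ha : a * a = 0) : (a * q + q * a) * a = a * q * a := by
  rw [add_mul, mul_assoc q, ha]; simp

omit [FiniteDimensional k M] in
theorem ev_apply_comm_a {a q : Module.End k M} (ha : a * a = 0) (p : k[X]) (v : M) :
    a (ev a q p v) = ev a q p (a v) := by
  rw [← Module.End.mul_apply, ev_comm_left ha, Module.End.mul_apply]

omit [FiniteDimensional k M] in
theorem ev_apply_comm_q {a q : Module.End k M} (hq : q * q = 0) (p : k[X]) (v : M) :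
    q (ev a q p v) = ev a q p (q v) := by
  rw [← Module.End.mul_apply, ev_comm_right hq, Module.End.mul_apply]

omit [FiniteDimensional k M] in
theorem ev_apply_mul (a q : Module.End k M) (p r : k[X]) (v : M) :
    ev a q p (ev a q r v) = ev a q (p * r) v := by
  rw [map_mul, Module.End.mul_apply]

omit [FiniteDimensional k M] in
theorem ev_apply_eq_zero_of_dvd {a q : Module.End k M} {g p : k[X]} {v : M} (hv : ev a q g v = 0) (h : g ∣ p) :
    ev a q p v = 0 := by
  obtain ⟨s, rfl⟩ := h
  rw [mul_comm, ← ev_apply_mul, hv, map_zero]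

omit [FiniteDimensional k M] in
theorem ev_apply_congr {a q : Module.End k M} {g p p' : k[X]} {v : M} (hv : ev a q g v = 0) (h : g ∣ p - p') :
    ev a q p v = ev a q p' v := by
  have := ev_apply_eq_zero_of_dvd hv h
  rwa [map_sub, LinearMap.sub_apply, sub_eq_zero] at this

/-- An irreducible polynomial killing a vector in the image of `a` on which `z` is invertible. -/
theorem exists_prime_vector {a q : Module.End k M} (ha : a * a = 0) (hq : q * q = 0)
    (hz : (a * q + q * a) ^ finrank k M ≠ 0) :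
    ∃ (g : k[X]) (v : M), Irreducible g ∧ ¬ X ∣ g ∧ v ≠ 0 ∧ a v = 0 ∧ ev a q g v = 0 ∧
      v ∈ LinearMap.range ((a * q + q * a) ^ finrank k M) := by
  set z := a * q + q * a with hzdef
  have hza : z ^ finrank k M * a ≠ 0 := by
    intro h
    apply hz
    have h1 : z ^ finrank k M * z = 0 := by
      have hc : q * z ^ finrank k M = z ^ finrank k M * q := by
        have := ev_comm_right (a := a) hq (X ^ finrank k M)
        rwa [map_pow, ev_X] at this
      rw [hzdef, mul_add, ← hzdef, ← mul_assoc, h, ← mul_assoc, ← hc, mul_assoc, h]; simp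
    ext x
    apply pow_cancel z 1
    rw [← Module.End.mul_apply, ← pow_add, add_comm, pow_add, pow_one, h1]; rfl
  obtain ⟨w, hw⟩ : ∃ w, (z ^ finrank k M * a) w ≠ 0 := by
    by_contra h
    push Not at h
    exact hza (LinearMap.ext h)
  have hint : IsIntegral k z := IsIntegral.of_finite k z
  obtain ⟨g, x, hg, hx, hgx⟩ := exists_irred_kill z (minpoly k z) (minpoly.ne_zero hint) _ hw (by
    rw [minpoly.aeval]; rfl)
  have hv : aeval z x ((z ^ finrank k M * a) w) = (z ^ finrank k M) (a (ev a q x w)) := by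
    have h1 : z ^ finrank k M = ev a q (X ^ finrank k M) := by rw [map_pow, ev_X]
    change ev a q x _ = _
    rw [h1, Module.End.mul_apply, ev_apply_mul, ev_apply_comm_a ha, ev_apply_mul, mul_comm]
  refine ⟨g, _, hg, ?_, hx, ?_, hgx, ?_⟩
  · intro hXg
    have hassoc := (irreducible_X.associated_of_dvd hg hXg).symm.dvd
    have h1 : ev a q X _ = 0 := ev_apply_eq_zero_of_dvd hgx hassoc
    rw [ev_X, ← hzdef, hv] at h1
    apply hx
    rw [hv]
    exact pow_cancel z 1 _ (by rwa [pow_one])
  · rw [hv]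
    have h1 : z ^ finrank k M = ev a q (X ^ finrank k M) := by rw [map_pow, ev_X]
    rw [h1, ev_apply_comm_a ha, ← Module.End.mul_apply a a, ha]; simp
  · rw [hv]; exact ⟨_, rfl⟩

/-- The basic step: conjugates of `a` that are "parallel to `a` modulo `g`" are polynomial multiples of `a`. -/
theorem NN_eq_of_dvd (h2 : (2 : k) ≠ 0) {a q : Module.End k M} (ha : Min G a) (hq : Q0 G q)
    {g : k[X]} {v : M} (hg : Irreducible g) (hX : ¬ X ∣ g) (hv0 : v ≠ 0) (hav : a v = 0) (hgv : ev a q g v = 0)
    (hvz : v ∈ LinearMap.range ((a * q + q * a) ^ finrank k M))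
    (ih : ∀ a' q' : Module.End k M, Min G a' → Q0 G q' →
      rk ((a' * q' + q' * a') ^ finrank k M) < rk ((a * q + q * a) ^ finrank k M) →
      a' * q' * a' = 0 ∨ rk a' ≤ rk (a' * q' * a'))
    {p r : k[X]} (hmin : Min G (NN a q p r)) (hp : ¬ g ∣ p) (hr : g ∣ r) (hr' : X ^ finrank k M ∣ r) :
    NN a q p r = ev a q (p ^ 2) * a := by
  have hXg : IsCoprime g X := hg.coprime_iff_not_dvd.2 fun h =>
    hX (hg.associated_of_dvd irreducible_X h).symm.dvd
  obtain ⟨τ', τ, hτ⟩ := hXg
  obtain ⟨α', α, hα⟩ := hg.coprime_iff_not_dvd.2 hp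
  set a' := NN a q p r with ha'def
  -- `v` lies in the images and kernels of `a` and `a'`
  have hτv : ev a q (τ * X) v = v := by
    rw [ev_apply_congr (p' := 1) hgv ⟨-τ', by rw [← hτ]; ring⟩]; simp
  have hw : a (ev a q τ (q v)) = v := by
    have : ev a q X v = a (q v) := by rw [ev_X]; simp [hav]
    rw [ev_apply_comm_a ha.sq, ← this, ev_apply_mul, hτv]
  have hva : v ∈ LinearMap.range a := ⟨_, hw⟩
  have hgw : ∀ x : M, ev a q g x = 0 → a' x = ev a q (p ^ 2) (a x) := by
    intro x hx
    have h1 : ev a q g ((a * q - q * a) x) = 0 := by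
      simp only [LinearMap.sub_apply, Module.End.mul_apply, map_sub, ← ev_apply_comm_a ha.sq,
        ← ev_apply_comm_q hq.sq, hx, map_zero, sub_zero]
    have h2 : ev a q g (q x) = 0 := by rw [← ev_apply_comm_q hq.sq, hx, map_zero]
    rw [ha'def, NN, LinearMap.sub_apply, LinearMap.sub_apply, Module.End.mul_apply, Module.End.mul_apply,
      Module.End.mul_apply (ev a q _), ev_apply_eq_zero_of_dvd h1 (hr.mul_left _),
      ev_apply_eq_zero_of_dvd h2 ((hr.pow two_ne_zero).mul_right _), sub_zero, sub_zero]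
  have ha'v : a' v = 0 := by rw [hgw v hgv, hav, map_zero]
  have hva' : v ∈ LinearMap.range a' := by
    refine ⟨ev a q (α ^ 2) (ev a q τ (q v)), ?_⟩
    rw [hgw, ev_apply_comm_a ha.sq, hw, ev_apply_mul, ev_apply_congr (p' := 1) hgv]
    · simp
    · refine ⟨-α' * (α * p + 1), ?_⟩
      have : α' * g = 1 - α * p := by rw [← hα]; ring
      linear_combination (α * p + 1) * this
    · rw [ev_apply_mul, ev_apply_mul]
      refine ev_apply_eq_zero_of_dvd (g := g) ?_ ((dvd_mul_right _ _).mul_right _)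
      rw [← ev_apply_comm_q hq.sq g, hgv, map_zero]
  -- the pair `(a, a')` has smaller measure
  have hz' : a * a' + a' * a = ev a q (-(r ^ 2 * X) * X) := z_a_NN ha.sq hq.sq p r
  have hN : finrank k M ≠ 0 := by
    intro h0
    rw [finrank_zero_iff_forall_zero] at h0
    exact hv0 (h0 v)
  have hz'v : ev a q (-(r ^ 2 * X) * X) v = 0 :=
    ev_apply_eq_zero_of_dvd hgv (((hr.pow two_ne_zero).mul_right _).neg_right.mul_right _)
  have hlt : rk ((a * a' + a' * a) ^ finrank k M) < rk ((a * q + q * a) ^ finrank k M) := by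
    rw [hz', map_mul, ev_X, (Commute.mul_pow (by rw [← ev_X]; exact ev_mul_comm a q _ _)), ← map_pow]
    refine rk_mul_lt hv0 hvz (ev_apply_eq_zero_of_dvd hgv ?_)
    exact ((hr.pow two_ne_zero).mul_right _).neg_right.pow hN
  have h1 : a * a' * a = 0 := by
    rcases ih a a' ha hmin.q0 hlt with h | h
    · exact h
    · rw [← z_mul_a ha.sq, hz'] at h
      exact absurd (rk_mul_lt hv0 hva hz'v) (not_lt.2 h)
  have h1' : a' * a * a' = 0 := by
    rcases ih a' a hmin ha.q0 (by rwa [add_comm]) with h | h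
    · exact h
    · rw [← z_mul_a hmin.sq, add_comm, hz'] at h
      exact absurd (rk_mul_lt hv0 hva' hz'v) (not_lt.2 h)
  have hc : a * a' - a' * a = 0 := by
    by_contra hc
    obtain ⟨-, hdis, e1, -, -⟩ := class_two ha hmin.q0 h1 h1' hc
    obtain ⟨-, -, e2, -, -⟩ := class_two hmin ha.q0 h1' h1 (by rw [← neg_sub]; exact neg_ne_zero.2 hc)
    rw [e1, e2, Submodule.disjoint_def] at hdis
    exact hv0 (hdis v ⟨hva, ha'v⟩ ⟨hva', hav⟩)
  -- cancel powers of `z`
  have cancel : ∀ (s : k[X]) (i : ℕ), X ^ finrank k M ∣ s → ev a q (X ^ i * s) * a = 0 → ev a q s * a = 0 := by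
    rintro _ i ⟨s, rfl⟩ h
    ext x
    have := LinearMap.congr_fun h x
    rw [Module.End.mul_apply, ← ev_apply_mul, ← ev_apply_mul, map_pow, map_pow, ev_X] at this
    rw [Module.End.mul_apply, ← ev_apply_mul, map_pow, ev_X]
    exact pow_cancel _ i _ this
  have hr2 : ev a q (r ^ 2) * a = 0 := by
    apply cancel _ 2 (hr'.pow two_ne_zero)
    rw [← z_mul_a ha.sq, hz'] at h1
    have : X ^ 2 * r ^ 2 = -(-(r ^ 2 * X) * X) := by ring
    rw [this, map_neg, neg_mul, h1, neg_zero]
  have hr2' : ev a q (r ^ 2 * X) = 0 := by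
    rw [map_mul, ev_X, mul_add, ← mul_assoc, hr2, ← mul_assoc, ← ev_comm_right hq.sq, mul_assoc, hr2]; simp
  have hpr : ev a q (p * r) * a = 0 := by
    apply cancel _ 1 (hr'.mul_left _)
    rw [ha'def, a_mul_NN ha.sq hq.sq, NN_mul_a ha.sq hq.sq, hr2', map_neg] at hc
    apply two_cancel h2
    rw [pow_one, mul_comm X, ← hc]; simp
  rw [ha'def, NN, hr2', mul_sub, ← mul_assoc, hpr, ← mul_assoc, ← ev_comm_right hq.sq, mul_assoc, hpr]
  simp

omit [FiniteDimensional k M] in
theorem Q0.ev_add {a q : Module.End k M} (ha : a * a = 0) {y y' : k[X]} (h : Q0 G (ev a q y * a))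
    (h' : Q0 G (ev a q y' * a)) : Q0 G (ev a q (y + y') * a) := by
  have e : ∀ y y' : k[X], ev a q y * a * (ev a q y' * a) = 0 := fun y y' => by
    rw [mul_assoc, ← mul_assoc a, ev_comm_left ha, mul_assoc, ha, mul_zero, mul_zero]
  rw [map_add, add_mul]
  exact h.add h' (e _ _) (e _ _)

omit [FiniteDimensional k M] in
theorem Q0.ev_smul {a q : Module.End k M} {y : k[X]} (h : Q0 G (ev a q y * a)) (c : k) :
    Q0 G (ev a q (C c * y) * a) := by
  rw [map_mul, ev_C, smul_mul_assoc, one_mul, smul_mul_assoc]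
  exact h.smul c

/-- The rank dichotomy. -/
theorem aqa_dichotomy (h2 : (2 : k) ≠ 0) (h3 : ∃ c : k, c ≠ 0 ∧ c ^ 2 ≠ 1) (hD : PD k) (n : ℕ) :
    ∀ {a q : Module.End k M}, Min G a → Q0 G q → rk ((a * q + q * a) ^ finrank k M) = n →
      a * q * a = 0 ∨ rk a ≤ rk (a * q * a) := by
  induction n using Nat.strong_induction_on with
  | _ n ih =>
  intro a q ha hq hn
  by_cases hz : (a * q + q * a) ^ finrank k M = 0
  · exact Or.inl (aqa_eq_zero_of_pow h2 _ ha hq hz)
  right
  obtain ⟨g, v, hg, hX, hv0, hav, hgv, hvz⟩ := exists_prime_vector ha.sq hq.sq hz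
  obtain ⟨c, hc0, hc1⟩ := h3
  have hC : ∀ d : k, d ≠ 0 → ¬ g ∣ C d := fun d hd h =>
    hg.not_isUnit (isUnit_of_dvd_unit h (Polynomial.isUnit_C.2 hd.isUnit))
  obtain ⟨p, r, hpr, hp, hr, hr'⟩ := hD g hg hX (finrank k M) (C c) (hC c hc0)
  have hp' : ¬ g ∣ p := fun h => hC c hc0 (by
    have := dvd_sub h hp
    simpa using this)
  have hN := NN_eq_of_dvd h2 ha hq hg hX hv0 hav hgv hvz
    (fun a' q' ha' hq' hlt => ih _ (hn ▸ hlt) ha' hq' rfl) (hpr.min ha hq) hp' hr hr'
  have hQ : Q0 G (ev a q (p ^ 2) * a) := hN ▸ (hpr.min ha hq).q0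
  have hQ' : Q0 G (ev a q (p ^ 2 + C (-1) * 1) * a) :=
    hQ.ev_add ha.sq (Q0.ev_smul (by rw [map_one, one_mul]; exact ha.q0) _)
  have hXg : IsCoprime g X := hg.coprime_iff_not_dvd.2 fun h =>
    hX (hg.associated_of_dvd irreducible_X h).symm.dvd
  obtain ⟨τ', τ, hτ⟩ := hXg
  have hτv : ev a q (τ * X) v = v := by
    rw [ev_apply_congr (p' := 1) hgv ⟨-τ', by rw [← hτ]; ring⟩]; simp
  have hw : a (ev a q τ (q v)) = v := by
    have : ev a q X v = a (q v) := by rw [ev_X]; simp [hav]
    rw [ev_apply_comm_a ha.sq, ← this, ev_apply_mul, hτv]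
  have hne : ev a q (p ^ 2 + C (-1) * 1) * a ≠ 0 := by
    intro h
    have := LinearMap.congr_fun h (ev a q τ (q v))
    rw [Module.End.mul_apply, hw, ev_apply_congr (p' := C (c ^ 2 - 1)) hgv, ev_C] at this
    · simp only [LinearMap.smul_apply, Module.End.one_apply, LinearMap.zero_apply, smul_eq_zero] at this
      rcases this with h | h
      · exact hc1 (sub_eq_zero.1 h)
      · exact hv0 h
    · have : p ^ 2 + C (-1) * 1 - C (c ^ 2 - 1) = (p - C c) * (p + C c) := by
        simp only [map_sub, map_neg, map_pow, map_one]; ring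
      rw [this]; exact hp.mul_right _
  refine (ha.le hQ' hne).trans ?_
  obtain ⟨s, hs⟩ := hpr.X_dvd
  have : p ^ 2 + C (-1) * 1 = (s * (p + 1)) * X := by
    simp only [map_neg, map_one]
    linear_combination (p + 1) * hs
  rw [this, map_mul, ev_X, mul_assoc, z_mul_a ha.sq]
  exact rk_mul_le_right _ _

/-- Key lemma: a polynomial in `z` inverts `z` on the image of `a`, inside the class of `a`. -/
theorem exists_ev_inverse (h2 : (2 : k) ≠ 0) (h3 : ∃ c : k, c ≠ 0 ∧ c ^ 2 ≠ 1) (hD : PD k)
    {a q : Module.End k M} (ha : Min G a) (hq : Q0 G q) (h : a * q * a ≠ 0) :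
    ∃ y : k[X], Q0 G (ev a q y * a) ∧ ev a q (y * X) * a = a := by
  have hK := fun (a' q' : Module.End k M) (ha' : Min G a') (hq' : Q0 G q') =>
    aqa_dichotomy h2 h3 hD _ ha' hq' rfl
  have hdis : Disjoint (LinearMap.ker (a * q + q * a)) (LinearMap.range a) :=
    disjoint_of_rk_mul_eq (by rw [z_mul_a ha.sq]; exact (hK a q ha hq).resolve_left h)
  have cancel : ∀ s : k[X], ev a q (X * s) * a = 0 → ev a q s * a = 0 := by
    intro s hs
    ext x
    have := LinearMap.congr_fun hs x
    rw [Module.End.mul_apply, ← ev_apply_mul, ev_X] at this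
    refine Submodule.disjoint_def.1 hdis _ this ⟨ev a q s x, ?_⟩
    rw [ev_apply_comm_a ha.sq]; rfl
  have hz : (a * q + q * a) ^ finrank k M ≠ 0 := fun hz => h (aqa_eq_zero_of_pow h2 _ ha hq hz)
  obtain ⟨g, v, hg, hX, hv0, hav, hgv, hvz⟩ := exists_prime_vector ha.sq hq.sq hz
  have hsq : ∀ u : k[X], ∃ y : k[X], Q0 G (ev a q y * a) ∧ g ∣ y - u ^ 2 := by
    intro u
    by_cases hu : g ∣ u
    · exact ⟨0, by rw [map_zero, zero_mul]; exact Q0.zero, by simpa using hu.pow two_ne_zero⟩
    obtain ⟨p, r, hpr, hp, hr, hr'⟩ := hD g hg hX (finrank k M) u hu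
    have hp' : ¬ g ∣ p := fun h => hu (by
      have := dvd_sub h hp
      simpa using this)
    have hN := NN_eq_of_dvd h2 ha hq hg hX hv0 hav hgv hvz
      (fun a' q' ha' hq' _ => hK a' q' ha' hq') (hpr.min ha hq) hp' hr hr'
    refine ⟨p ^ 2, hN ▸ (hpr.min ha hq).q0, ?_⟩
    rw [sq_sub_sq]; exact hp.mul_left _
  have h4 : (4 : k) ≠ 0 := by
    have : (4 : k) = 2 * 2 := by norm_num
    rw [this]; exact mul_ne_zero h2 h2
  have hall : ∀ u : k[X], ∃ y : k[X], Q0 G (ev a q y * a) ∧ g ∣ y - u := by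
    intro u
    obtain ⟨y1, hy1, hd1⟩ := hsq (u + 1)
    obtain ⟨y2, hy2, hd2⟩ := hsq (u - 1)
    refine ⟨C (4 : k)⁻¹ * y1 + C (-(4 : k)⁻¹) * y2, (hy1.ev_smul _).ev_add ha.sq (hy2.ev_smul _), ?_⟩
    have h44 : C (4 : k)⁻¹ * 4 = (1 : k[X]) := by
      have : (4 : k[X]) = C 4 := rfl
      rw [this, ← C_mul, inv_mul_cancel₀ h4, C_1]
    have : C (4 : k)⁻¹ * y1 + C (-(4 : k)⁻¹) * y2 - u =
        C (4 : k)⁻¹ * ((y1 - (u + 1) ^ 2) - (y2 - (u - 1) ^ 2)) := by
      rw [map_neg]; linear_combination u * h44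
    rw [this]; exact (dvd_sub hd1 hd2).mul_left _
  have hXg : IsCoprime g X := hg.coprime_iff_not_dvd.2 fun h =>
    hX (hg.associated_of_dvd irreducible_X h).symm.dvd
  obtain ⟨τ', τ, hτ⟩ := hXg
  have hτv : ev a q (τ * X) v = v := by
    rw [ev_apply_congr (p' := 1) hgv ⟨-τ', by rw [← hτ]; ring⟩]; simp
  obtain ⟨y, hy, hyd⟩ := hall (-τ)
  set p : k[X] := 1 + y * X * 1 with hpdef
  have hgp : g ∣ p := by
    have : p = (y - -τ) * X + τ' * g := by rw [hpdef]; linear_combination -hτ
    rw [this]; exact dvd_add (hyd.mul_right _) (dvd_mul_left _ _)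
  have hb : Min G (NN a q p 1) := by
    rw [hpdef, ← NN_conj_up ha.sq hq.sq]
    refine Min.conj_ex ?_ hy
    have := (Reach.down _ _ (1 : k) Reach.base).min ha hq
    simpa using this
  set b := NN a q p 1 with hbdef
  have hqv : q v ≠ 0 := by
    intro h0
    apply hv0
    rw [← hτv, ← ev_apply_mul, ev_X]; simp [h0, hav]
  have hgqv : ev a q g (q v) = 0 := by rw [← ev_apply_comm_q hq.sq, hgv, map_zero]
  have hvb : q v ∈ LinearMap.range b := by
    refine ⟨-ev a q τ v, ?_⟩
    have hx : ev a q g (ev a q τ v) = 0 := by rw [ev_apply_mul, mul_comm, ← ev_apply_mul, hgv, map_zero]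
    have h1 : ev a q g ((a * q - q * a) (ev a q τ v)) = 0 := by
      simp only [LinearMap.sub_apply, Module.End.mul_apply, map_sub, ← ev_apply_comm_a ha.sq,
        ← ev_apply_comm_q hq.sq, hx, map_zero, sub_zero]
    rw [map_neg, hbdef, NN, LinearMap.sub_apply, LinearMap.sub_apply, Module.End.mul_apply, Module.End.mul_apply,
      Module.End.mul_apply (ev a q _), ev_apply_eq_zero_of_dvd h1 (hgp.mul_right _), ev_apply_comm_a ha.sq, hav,
      ← ev_apply_comm_q hq.sq, ev_apply_mul a q (1 ^ 2 * X), one_pow, one_mul, mul_comm X τ, hτv]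
    simp
  have hzb : b * q + q * b = ev a q (p ^ 2 * X) := z_q_NN ha.sq hq.sq p 1
  have h1 : b * q * b = 0 := by
    rcases hK b q hb hq with h | h
    · exact h
    · rw [← z_mul_a hb.sq, hzb] at h
      exact absurd (rk_mul_lt hqv hvb (ev_apply_eq_zero_of_dvd hgqv ((hgp.pow two_ne_zero).mul_right _)))
        (not_lt.2 h)
  have hp2 : ev a q (p ^ 2) * a = 0 := by
    apply cancel; apply cancel; apply cancel
    rw [← z_mul_a hb.sq, hzb] at h1
    have h2 : a * b * a = ev a q (-(1 ^ 2 * X) * X) * a := by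
      rw [← z_mul_a ha.sq, hbdef, z_a_NN ha.sq hq.sq]
    have h3 : a * (ev a q (p ^ 2 * X) * b) * a = 0 := by rw [h1]; simp
    rw [← mul_assoc, ev_comm_left ha.sq, mul_assoc, mul_assoc, ← mul_assoc a, h2, ← mul_assoc, ← map_mul] at h3
    have : X * (X * (X * p ^ 2)) = -(p ^ 2 * X * (-(1 ^ 2 * X) * X)) := by ring
    rw [this, map_neg, neg_mul, h3, neg_zero]
  have hbq : b * q = ev a q (p * 1 * X) * q := by
    rw [hbdef, NN_mul_q ha.sq hq.sq, ← mul_assoc, hp2]; simp
  have hqb : q * b = -(ev a q (p * 1 * X) * q) := by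
    rw [hbdef, q_mul_NN ha.sq hq.sq, ← mul_assoc, ← ev_comm_right hq.sq, mul_assoc, hp2]; simp
  have h1' : q * b * q = 0 := by
    rw [hqb, neg_mul, mul_assoc, hq.sq]; simp
  have hc : b * q = 0 := by
    by_contra hne
    have hc : b * q - q * b ≠ 0 := by
      rw [hqb, ← hbq, sub_neg_eq_add]
      exact fun h => hne (two_cancel h2 h)
    obtain ⟨-, hdis, -, -, -⟩ := class_two hb hq h1 h1' hc
    rw [hqb, ← hbq, LinearMap.range_neg, disjoint_self, LinearMap.range_eq_bot] at hdis
    exact hne hdis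
  have hp1 : ev a q p * a = 0 := by
    apply cancel; apply cancel
    have h3 : a * (ev a q (p * 1 * X) * q) * a = 0 := by rw [← hbq, hc]; simp
    rw [← mul_assoc, ev_comm_left ha.sq, mul_assoc, mul_assoc, ← mul_assoc a, ← z_mul_a ha.sq, ← ev_X,
      ← mul_assoc, ← map_mul] at h3
    rw [← h3]; congr 2; ring
  refine ⟨C (-1) * y, hy.ev_smul _, ?_⟩
  have : C (-1) * y * X = 1 - p := by rw [hpdef, map_neg, map_one]; ring
  rw [this, map_sub, map_one, sub_mul, hp1]; simp

end CL.Chev.Quad
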