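/-
Unipotent linear groups: the augmentation span, products of unipotent groups, and the Baer–Suzuki type theorem for
conjugation-invariant families of subgroups of a linear group.
-/
import Cfsg.Agent.Base

set_option autoImplicit false
set_option linter.all false

namespace CL.Chev.Quad

open Module LinearMap Cfsg

variable {k : Type*} [Field k] {M : Type*} [AddCommGroup M] [Module k M]

/-- The span of the `g - 1`, `g ∈ H`. -/
def aug (H : Subgroup (LinearMap.GeneralLinearGroup k M)) : Submodule k (Module.End k M) :=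
  Submodule.span k {x | ∃ g ∈ H, x = (g : Module.End k M) - 1}

theorem sub_one_mem_aug {H : Subgroup (LinearMap.GeneralLinearGroup k M)} {g : LinearMap.GeneralLinearGroup k M}
    (hg : g ∈ H) : (g : Module.End k M) - 1 ∈ aug H := Submodule.subset_span ⟨g, hg, rfl⟩

theorem aug_le_iff {H : Subgroup (LinearMap.GeneralLinearGroup k M)} {T : Submodule k (Module.End k M)} :
    aug H ≤ T ↔ ∀ g ∈ H, (g : Module.End k M) - 1 ∈ T := by
  rw [aug, Submodule.span_le]
  exact ⟨fun h g hg => h ⟨g, hg, rfl⟩, by rintro h _ ⟨g, hg, rfl⟩; exact h g hg⟩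

theorem aug_mono {H K : Subgroup (LinearMap.GeneralLinearGroup k M)} (h : H ≤ K) : aug H ≤ aug K :=
  aug_le_iff.2 fun g hg => sub_one_mem_aug (h hg)

theorem mul_sub_one_mem {T : Submodule k (Module.End k M)} (hT : T * T ≤ T) {x y : Module.End k M}
    (hx : x - 1 ∈ T) (hy : y - 1 ∈ T) : x * y - 1 ∈ T := by
  have : x * y - 1 = (x - 1) * (y - 1) + (x - 1) + (y - 1) := by noncomm_ring
  rw [this]
  exact T.add_mem (T.add_mem (hT (Submodule.mul_mem_mul hx hy)) hx) hy

theorem aug_mul_le (H : Subgroup (LinearMap.GeneralLinearGroup k M)) : aug H * aug H ≤ aug H := by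
  conv_lhs => rw [aug, Submodule.span_mul_span, ]
  rw [Submodule.span_le]
  rintro _ ⟨_, ⟨g, hg, rfl⟩, _, ⟨h, hh, rfl⟩, rfl⟩
  have : ((g : Module.End k M) - 1) * ((h : Module.End k M) - 1) =
      (((g * h : LinearMap.GeneralLinearGroup k M) : Module.End k M) - 1) - ((g : Module.End k M) - 1)
        - ((h : Module.End k M) - 1) := by
    rw [Units.val_mul]; noncomm_ring
  change ((g : Module.End k M) - 1) * ((h : Module.End k M) - 1) ∈ aug H
  rw [this]
  exact Submodule.sub_mem _ (Submodule.sub_mem _ (sub_one_mem_aug (H.mul_mem hg hh)) (sub_one_mem_aug hg))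
    (sub_one_mem_aug hh)

theorem aug_iSup_le {ι : Sort*} {S : ι → Subgroup (LinearMap.GeneralLinearGroup k M)}
    {T : Submodule k (Module.End k M)} (hT : T * T ≤ T) (h : ∀ i, aug (S i) ≤ T) : aug (⨆ i, S i) ≤ T := by
  rw [aug_le_iff]
  intro g hg
  induction hg using Subgroup.iSup_induction' with
  | hp i x hx => exact h i (sub_one_mem_aug hx)
  | h1 => simp
  | hmul x y _ _ hx hy => exact mul_sub_one_mem hT hx hy

theorem aug_sSup_le {V : Set (Subgroup (LinearMap.GeneralLinearGroup k M))}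
    {T : Submodule k (Module.End k M)} (hT : T * T ≤ T) (h : ∀ A ∈ V, aug A ≤ T) : aug (sSup V) ≤ T := by
  rw [sSup_eq_iSup']
  exact aug_iSup_le hT fun A => h A A.2

theorem aug_sup_le {H K : Subgroup (LinearMap.GeneralLinearGroup k M)}
    {T : Submodule k (Module.End k M)} (hT : T * T ≤ T) (h1 : aug H ≤ T) (h2 : aug K ≤ T) : aug (H ⊔ K) ≤ T := by
  rw [← sSup_pair]
  refine aug_sSup_le hT ?_
  rintro A (rfl | rfl)
  · exact h1
  · exact h2

theorem isUnipotentOn_def {H : Subgroup (LinearMap.GeneralLinearGroup k M)} :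
    IsUnipotentOn H ↔ ∃ n : ℕ, ∀ l : List (LinearMap.GeneralLinearGroup k M), (∀ g ∈ l, g ∈ H) → l.length = n →
      (l.map fun g : LinearMap.GeneralLinearGroup k M => (g : Module.End k M) - 1).prod = 0 := by
  simp only [IsUnipotentOn, bind_pure_comp, List.map_eq_map, List.map_map]
  rfl

theorem isUnipotentOn_iff {H : Subgroup (LinearMap.GeneralLinearGroup k M)} :
    IsUnipotentOn H ↔ ∃ n : ℕ, aug H ^ n = ⊥ := by
  rw [isUnipotentOn_def]
  constructor
  · rintro ⟨n, hn⟩
    refine ⟨n, ?_⟩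
    rw [aug, Submodule.span_pow, Submodule.span_eq_bot]
    intro x hx
    rw [Set.mem_pow] at hx
    obtain ⟨f, rfl⟩ := hx
    choose g hg using fun i => (f i).2
    have := hn (List.ofFn g) (by
      intro x hx
      rw [List.mem_ofFn] at hx
      obtain ⟨i, rfl⟩ := hx
      exact (hg i).1) (by simp)
    rw [List.map_ofFn] at this
    rw [← this]
    congr 2
    funext i
    exact (hg i).2
  · rintro ⟨n, hn⟩
    refine ⟨n, fun l hl hlen => ?_⟩
    have : ∀ l : List (LinearMap.GeneralLinearGroup k M), (∀ g ∈ l, g ∈ H) →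
        (l.map fun g : LinearMap.GeneralLinearGroup k M => (g : Module.End k M) - 1).prod ∈ aug H ^ l.length := by
      intro l
      induction l with
      | nil => intro _; simp [Submodule.one_le.1 le_rfl]
      | cons g l ih =>
        intro hl
        rw [List.map_cons, List.prod_cons, List.length_cons, pow_succ']
        exact Submodule.mul_mem_mul (sub_one_mem_aug (hl g (by simp))) (ih fun x hx => hl x (by simp [hx]))
    have h := this l hl
    rwa [hlen, hn, Submodule.mem_bot] at h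

theorem isUnipotentOn_of_aug_le {H : Subgroup (LinearMap.GeneralLinearGroup k M)}
    {T : Submodule k (Module.End k M)} (h : aug H ≤ T) {n : ℕ} (hn : T ^ n = ⊥) : IsUnipotentOn H :=
  isUnipotentOn_iff.2 ⟨n, le_bot_iff.1 ((pow_le_pow_left' h n).trans hn.le)⟩

theorem IsUnipotentOn.anti {H K : Subgroup (LinearMap.GeneralLinearGroup k M)} (hK : IsUnipotentOn K)
    (h : H ≤ K) : IsUnipotentOn H := by
  obtain ⟨n, hn⟩ := isUnipotentOn_iff.1 hK
  exact isUnipotentOn_of_aug_le (aug_mono h) hn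

theorem isUnipotentOn_bot : IsUnipotentOn (⊥ : Subgroup (LinearMap.GeneralLinearGroup k M)) := by
  refine isUnipotentOn_of_aug_le (T := ⊥) (aug_le_iff.2 fun g hg => ?_) (n := 1) (pow_one _)
  rw [Subgroup.mem_bot] at hg
  simp [hg]

theorem conj_mem_aug {H : Subgroup (LinearMap.GeneralLinearGroup k M)} {g : LinearMap.GeneralLinearGroup k M}
    (hg : ∀ h ∈ H, g * h * g⁻¹ ∈ H) {x : Module.End k M} (hx : x ∈ aug H) :
    (g : Module.End k M) * x * ((g⁻¹ : LinearMap.GeneralLinearGroup k M) : Module.End k M) ∈ aug H := by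
  induction hx using Submodule.span_induction with
  | mem x hx =>
    obtain ⟨h, hh, rfl⟩ := hx
    have := sub_one_mem_aug (hg h hh)
    rw [mul_sub, sub_mul, mul_one, Units.mul_inv]
    exact this
  | zero => simp
  | add x y _ _ hx hy => rw [mul_add, add_mul]; exact Submodule.add_mem _ hx hy
  | smul c x _ hx => rw [mul_smul_comm, smul_mul_assoc]; exact Submodule.smul_mem _ _ hx

/-- A unipotent group normalising a unipotent group generates a unipotent group with it. -/
theorem IsUnipotentOn.sup_of_normalizes {H K : Subgroup (LinearMap.GeneralLinearGroup k M)} (hH : IsUnipotentOn H)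
    (hK : IsUnipotentOn K) (hn : ∀ g ∈ K, ∀ h ∈ H, g * h * g⁻¹ ∈ H) : IsUnipotentOn (H ⊔ K) := by
  obtain ⟨n, hN⟩ := isUnipotentOn_iff.1 hH
  obtain ⟨m, hU⟩ := isUnipotentOn_iff.1 hK
  set N := aug H
  set U := aug K
  have hNN : N * N ≤ N := aug_mul_le H
  have hUU : U * U ≤ U := aug_mul_le K
  set U1 : Submodule k (Module.End k M) := 1 ⊔ U with hU1
  have h1U : 1 ≤ U1 := le_sup_left
  have hUU1 : U ≤ U1 := le_sup_right
  have hU1U1 : U1 * U1 ≤ U1 := by
    rw [hU1, Submodule.sup_mul, Submodule.mul_sup, Submodule.mul_sup, one_mul, one_mul, mul_one]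
    exact sup_le le_rfl (sup_le le_sup_right (hUU.trans le_sup_right))
  have hNJ : N ≤ N * U1 := by
    conv_lhs => rw [← mul_one N]
    exact mul_le_mul' le_rfl h1U
  have hU1N : U1 * N ≤ N * U1 := by
    rw [hU1, Submodule.sup_mul, one_mul]
    refine sup_le hNJ ?_
    rw [Submodule.mul_le]
    intro u hu x hx
    induction hu using Submodule.span_induction with
    | mem u hu =>
      obtain ⟨g, hg, rfl⟩ := hu
      have h1 := conj_mem_aug (hn g hg) hx
      have : ((g : Module.End k M) - 1) * x =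
          ((g : Module.End k M) * x * ((g⁻¹ : LinearMap.GeneralLinearGroup k M) : Module.End k M)) *
            ((g : Module.End k M) - 1) +
          ((g : Module.End k M) * x * ((g⁻¹ : LinearMap.GeneralLinearGroup k M) : Module.End k M)) - x := by
        rw [mul_sub, mul_one, mul_assoc _ _ (g : Module.End k M), Units.inv_mul, mul_one, sub_mul, one_mul]; abel
      rw [this]
      exact Submodule.sub_mem _ (Submodule.add_mem _ (Submodule.mul_mem_mul h1 (hUU1 (sub_one_mem_aug hg)))
        (hNJ h1)) (hNJ hx)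
    | zero => simp
    | add u v _ _ hu hv => rw [add_mul]; exact Submodule.add_mem _ hu hv
    | smul c u _ hu => rw [smul_mul_assoc]; exact Submodule.smul_mem _ _ hu
  set J := N * U1 with hJ
  have hU1J : U1 * J ≤ J := by
    rw [hJ, ← mul_assoc]
    refine (mul_le_mul' hU1N le_rfl).trans ?_
    rw [mul_assoc]; exact mul_le_mul' le_rfl hU1U1
  have hJU : J * U1 ≤ J := by rw [hJ, mul_assoc]; exact mul_le_mul' le_rfl hU1U1
  have hJJ : J * J ≤ J := by
    conv_lhs => rw [hJ, mul_assoc, ← hJ]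
    refine (mul_le_mul' le_rfl hU1J).trans ?_
    rw [hJ, ← mul_assoc]; exact mul_le_mul' hNN le_rfl
  have hJpow : ∀ i : ℕ, J ^ i ≤ N ^ i * U1 := by
    intro i
    induction i with
    | zero => simpa using h1U
    | succ i ih =>
      rw [pow_succ, pow_succ]
      refine (mul_le_mul' ih le_rfl).trans ?_
      rw [mul_assoc, mul_assoc]
      exact mul_le_mul' le_rfl hU1J
  have hUpow : ∀ i : ℕ, U ^ i ≤ U1 := by
    intro i
    induction i with
    | zero => simpa using h1U
    | succ i ih => rw [pow_succ]; exact (mul_le_mul' ih hUU1).trans hU1U1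
  have hTpow : ∀ i : ℕ, (J ⊔ U) ^ i ≤ U ^ i ⊔ J := by
    intro i
    induction i with
    | zero => simp
    | succ i ih =>
      rw [pow_succ]
      refine (mul_le_mul' ih le_rfl).trans ?_
      rw [Submodule.sup_mul, Submodule.mul_sup, Submodule.mul_sup, ← pow_succ]
      refine sup_le (sup_le ?_ le_sup_left) (sup_le ?_ ?_)
      · exact ((mul_le_mul' (hUpow i) le_rfl).trans hU1J).trans le_sup_right
      · exact hJJ.trans le_sup_right
      · exact ((mul_le_mul' le_rfl hUU1).trans hJU).trans le_sup_right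
  refine isUnipotentOn_of_aug_le (T := J ⊔ U) (aug_sup_le ?_ (hNJ.trans le_sup_left) le_sup_right) (n := m * n) ?_
  · have := hTpow 2
    rw [pow_two, pow_two] at this
    exact this.trans (sup_le (hUU.trans le_sup_right) le_sup_left)
  · rw [pow_mul, eq_bot_iff]
    have h1 := hTpow m
    rw [hU, bot_sup_eq] at h1
    refine (pow_le_pow_left' h1 n).trans ((hJpow n).trans ?_)
    rw [hN, Submodule.bot_mul]

theorem mem_conjBy {G : Type*} [Group G] {A : Subgroup G} {g x : G} : x ∈ conjBy A g ↔ g⁻¹ * x * g ∈ A := by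
  constructor
  · rintro ⟨y, hy, rfl⟩
    simpa [mul_assoc] using hy
  · intro h
    exact ⟨_, h, by simp [mul_assoc]⟩

theorem conj_mem_conjBy {G : Type*} [Group G] {A : Subgroup G} {g x : G} (h : x ∈ A) :
    g * x * g⁻¹ ∈ conjBy A g := ⟨x, h, rfl⟩

theorem conj_mem_sSup {G : Type*} [Group G] {V : Set (Subgroup G)} {g : G} (hg : ∀ A ∈ V, conjBy A g ∈ V)
    {x : G} (hx : x ∈ sSup V) : g * x * g⁻¹ ∈ sSup V := by
  have : sSup V ≤ (sSup V).comap (MulAut.conj g).toMonoidHom := by
    refine sSup_le fun A hA => ?_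
    rw [← Subgroup.map_le_iff_le_comap]
    exact le_sSup (hg A hA)
  exact this hx

section BaerSuzuki
variable [FiniteDimensional k M] {G : Subgroup (LinearMap.GeneralLinearGroup k M)}
  {W : Set (Subgroup (LinearMap.GeneralLinearGroup k M))}

/-- A maximal unipotent subfamily. -/
def MaxUnip (W P : Set (Subgroup (LinearMap.GeneralLinearGroup k M))) : Prop :=
  P ⊆ W ∧ IsUnipotentOn (sSup P) ∧ ∀ A ∈ W, IsUnipotentOn (sSup P ⊔ A) → A ∈ P

theorem MaxUnip.closed {P : Set (Subgroup (LinearMap.GeneralLinearGroup k M))} (h : MaxUnip W P)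
    {A : Subgroup (LinearMap.GeneralLinearGroup k M)} (hA : A ∈ W) (hle : aug A ≤ aug (sSup P)) : A ∈ P := by
  obtain ⟨n, hn⟩ := isUnipotentOn_iff.1 h.2.1
  exact h.2.2 A hA (isUnipotentOn_of_aug_le (aug_sup_le (aug_mul_le _) le_rfl hle) hn)

theorem exists_maxUnip {V : Set (Subgroup (LinearMap.GeneralLinearGroup k M))} (hV : V ⊆ W)
    (hu : IsUnipotentOn (sSup V)) : ∃ P, MaxUnip W P ∧ V ⊆ P := by
  classical
  have hbdd : ∀ V' : Set (Subgroup (LinearMap.GeneralLinearGroup k M)),
      finrank k (aug (sSup V')) ≤ finrank k (Module.End k M) := fun V' => Submodule.finrank_le _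
  let R : ℕ → Prop := fun n => ∃ V', V ⊆ V' ∧ V' ⊆ W ∧ IsUnipotentOn (sSup V') ∧ finrank k (aug (sSup V')) = n
  have hR : R (Nat.findGreatest R (finrank k (Module.End k M))) :=
    Nat.findGreatest_spec (hbdd V) ⟨V, le_rfl, hV, hu, rfl⟩
  obtain ⟨V', h1, h2, h3, h4⟩ := hR
  have hP : aug (sSup {A | A ∈ W ∧ aug A ≤ aug (sSup V')}) ≤ aug (sSup V') :=
    aug_sSup_le (aug_mul_le _) fun A hA => hA.2
  have hV'P : V' ⊆ {A | A ∈ W ∧ aug A ≤ aug (sSup V')} := fun A hA => ⟨h2 hA, aug_mono (le_sSup hA)⟩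
  obtain ⟨n, hn⟩ := isUnipotentOn_iff.1 h3
  refine ⟨{A | A ∈ W ∧ aug A ≤ aug (sSup V')}, ⟨fun A hA => hA.1, isUnipotentOn_of_aug_le hP hn, ?_⟩,
    h1.trans hV'P⟩
  intro A hA hu'
  refine ⟨hA, ?_⟩
  have hu2 : IsUnipotentOn (sSup (insert A V')) := by
    rw [sSup_insert, sup_comm]
    exact IsUnipotentOn.anti hu' (sup_le_sup_right (sSup_le_sSup hV'P) _)
  have hle : finrank k (aug (sSup (insert A V'))) ≤ finrank k (aug (sSup V')) := by
    rw [h4]
    exact Nat.le_findGreatest (hbdd _) ⟨insert A V', h1.trans (Set.subset_insert _ _),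
      Set.insert_subset hA h2, hu2, rfl⟩
  have heq := Submodule.eq_of_le_of_finrank_le (aug_mono (sSup_le_sSup (Set.subset_insert A V'))) hle
  rw [heq]
  exact aug_mono (le_sSup (Set.mem_insert _ _))

theorem exists_normalizing (hWG : ∀ A ∈ W, A ≤ G) (hWconj : ∀ A ∈ W, ∀ g ∈ G, conjBy A g ∈ W)
    {P D : Set (Subgroup (LinearMap.GeneralLinearGroup k M))} (hP : MaxUnip W P) (hDP : D ⊆ P)
    (hD : ∀ A ∈ W, aug A ≤ aug (sSup D) → A ∈ D) (hne : ¬ P ⊆ D) :
    ∃ X ∈ P, X ∉ D ∧ ∀ x ∈ X, ∀ A ∈ D, conjBy A x ∈ D := by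
  classical
  obtain ⟨n, hn⟩ := isUnipotentOn_iff.1 hP.2.1
  set N := aug (sSup P)
  set E := aug (sSup D)
  have hNN : N * N ≤ N := aug_mul_le _
  have hEE : E * E ≤ E := aug_mul_le _
  have hEN : E ≤ N := aug_mono (sSup_le_sSup hDP)
  have hpowN : ∀ i : ℕ, N ^ (i + 1) ≤ N := by
    intro i
    induction i with
    | zero => simp
    | succ i ih => rw [pow_succ]; exact (mul_le_mul' ih le_rfl).trans hNN
  have hr : ∀ i : ℕ, N ^ (i + 1) * N ≤ N ^ (i + 1) := fun i => by
    rw [pow_succ, mul_assoc]; exact mul_le_mul' le_rfl hNN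
  have hex : ∃ j : ℕ, ∀ A ∈ W, aug A ≤ E ⊔ N ^ (j + 1) → A ∈ D :=
    ⟨n, fun A hA h => hD A hA (by rwa [pow_succ, hn, Submodule.bot_mul, sup_bot_eq] at h)⟩
  have h0 : Nat.find hex ≠ 0 := by
    intro h0
    have := Nat.find_spec hex
    rw [h0] at this
    exact hne fun A hA => this A (hP.1 hA) (by
      rw [zero_add, pow_one]; exact (aug_mono (le_sSup hA)).trans le_sup_right)
  obtain ⟨j, hj⟩ := Nat.exists_eq_succ_of_ne_zero h0
  have hspec := Nat.find_spec hex
  rw [hj] at hspec
  have hmin := Nat.find_min hex (m := j) (by omega)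
  push Not at hmin
  obtain ⟨X, hXW, hX, hXD⟩ := hmin
  have hXN : aug X ≤ N := hX.trans (sup_le hEN (hpowN j))
  refine ⟨X, hP.closed hXW hXN, hXD, fun x hx A hA => hspec _ (hWconj A (hP.1 (hDP hA)) x (hWG X hXW hx)) ?_⟩
  rw [aug_le_iff]
  rintro _ ⟨a, ha, rfl⟩
  have ha' : (a : Module.End k M) - 1 ∈ E := aug_mono (le_sSup hA) (sub_one_mem_aug ha)
  obtain ⟨e, he, m, hm, hx1⟩ := Submodule.mem_sup.1 (hX (sub_one_mem_aug hx))
  obtain ⟨e', he', m', hm', hx2⟩ := Submodule.mem_sup.1 (hX (sub_one_mem_aug (X.inv_mem hx)))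
  have hx' := hXN (sub_one_mem_aug (X.inv_mem hx))
  set y := ((x⁻¹ : LinearMap.GeneralLinearGroup k M) : Module.End k M) with hy
  have e1 : (x : Module.End k M) = 1 + e + m := by rw [add_assoc, hx1]; abel
  have e2 : y = 1 + e' + m' := by rw [add_assoc, hx2]; abel
  have : (((MulAut.conj x).toMonoidHom a : LinearMap.GeneralLinearGroup k M) : Module.End k M) - 1 =
      (x : Module.End k M) * ((a : Module.End k M) - 1) * y := by
    rw [mul_sub, sub_mul, mul_one, hy, Units.mul_inv]; rfl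
  rw [this]
  set b := (a : Module.End k M) - 1
  have e3 : (x : Module.End k M) * b * y = ((b + e * b) + (b + e * b) * e') +
      ((b + e * b) * m' + (m * b + m * b * (y - 1))) := by
    clear_value b y
    rw [e1, e2]; noncomm_ring
  have hb : b + e * b ∈ E := E.add_mem ha' (hEE (Submodule.mul_mem_mul he ha'))
  have hmb : m * b ∈ N ^ (j + 1 + 1) := by
    rw [pow_succ _ (j + 1)]; exact Submodule.mul_mem_mul hm (hEN ha')
  rw [e3]
  refine Submodule.add_mem _ (Submodule.mem_sup_left (E.add_mem hb (hEE (Submodule.mul_mem_mul hb he'))))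
    (Submodule.mem_sup_right (Submodule.add_mem _ ?_ (Submodule.add_mem _ hmb
      (hr _ (Submodule.mul_mem_mul hmb hx')))))
  rw [Nat.succ_eq_add_one, pow_succ' _ (j + 1)]
  exact Submodule.mul_mem_mul (hEN hb) hm'

theorem maxUnip_unique (hWG : ∀ A ∈ W, A ≤ G) (hWW : ∀ A ∈ W, ∀ B ∈ W, IsUnipotentOn (A ⊔ B))
    (hWconj : ∀ A ∈ W, ∀ g ∈ G, conjBy A g ∈ W) (n : ℕ) :
    ∀ P Q, MaxUnip W P → MaxUnip W Q → finrank k (Module.End k M) - finrank k (aug (sSup (P ∩ Q))) = n →
      P = Q := by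
  induction n using Nat.strong_induction_on with
  | _ n ih =>
  intro P Q hP hQ hn
  have hsub : ∀ P Q, MaxUnip W P → MaxUnip W Q → P ⊆ Q → P = Q := fun P Q hP hQ h =>
    h.antisymm fun A hA => hP.2.2 A (hQ.1 hA) (IsUnipotentOn.anti hQ.2.1 (sup_le (sSup_le_sSup h) (le_sSup hA)))
  by_contra hne
  have hD : ∀ A ∈ W, aug A ≤ aug (sSup (P ∩ Q)) → A ∈ P ∩ Q := fun A hA h =>
    ⟨hP.closed hA (h.trans (aug_mono (sSup_le_sSup Set.inter_subset_left))),
      hQ.closed hA (h.trans (aug_mono (sSup_le_sSup Set.inter_subset_right)))⟩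
  obtain ⟨X, hXP, hXD, hX⟩ := exists_normalizing hWG hWconj hP Set.inter_subset_left hD
    (fun h => hne (hsub P Q hP hQ fun A hA => (h hA).2))
  obtain ⟨Y, hYQ, hYD, hY⟩ := exists_normalizing hWG hWconj hQ Set.inter_subset_right hD
    (fun h => hne (hsub Q P hQ hP fun A hA => (h hA).1).symm)
  have hnorm : ∀ Z : Subgroup (LinearMap.GeneralLinearGroup k M), (∀ x ∈ Z, ∀ A ∈ P ∩ Q, conjBy A x ∈ P ∩ Q) →
      Z ≤ Subgroup.normalizer ((sSup (P ∩ Q) : Subgroup (LinearMap.GeneralLinearGroup k M)) :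
        Set (LinearMap.GeneralLinearGroup k M)) := by
    intro Z hZ x hx
    rw [Subgroup.mem_normalizer_iff]
    intro h
    refine ⟨fun hh => conj_mem_sSup (hZ x hx) hh, fun hh => ?_⟩
    have := conj_mem_sSup (hZ x⁻¹ (Z.inv_mem hx)) hh
    simpa [mul_assoc] using this
  have hu : IsUnipotentOn (sSup (P ∩ Q) ⊔ (X ⊔ Y)) :=
    IsUnipotentOn.sup_of_normalizes (IsUnipotentOn.anti hP.2.1 (sSup_le_sSup Set.inter_subset_left))
      (hWW X (hP.1 hXP) Y (hQ.1 hYQ)) fun g hg h hh =>
        (Subgroup.mem_normalizer_iff.1 (sup_le (hnorm X hX) (hnorm Y hY) hg) h).1 hh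
  obtain ⟨R, hR, hsubR⟩ := exists_maxUnip (W := W) (V := insert X (insert Y (P ∩ Q)))
    (Set.insert_subset (hP.1 hXP) (Set.insert_subset (hQ.1 hYQ) (Set.inter_subset_left.trans hP.1)))
    (by rw [sSup_insert, sSup_insert, ← sup_assoc, sup_comm]; exact hu)
  have hDR : P ∩ Q ⊆ R := ((Set.subset_insert _ _).trans (Set.subset_insert _ _)).trans hsubR
  have step : ∀ P' Z, MaxUnip W P' → P ∩ Q ⊆ P' → Z ∈ P' → Z ∈ R → Z ∉ P ∩ Q → P' = R := by
    intro P' Z hP' hsub' hZ hZR hZD
    refine ih _ ?_ P' R hP' hR rfl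
    have hlt : aug (sSup (P ∩ Q)) < aug (sSup (P' ∩ R)) := by
      refine lt_of_le_of_ne (aug_mono (sSup_le_sSup (Set.subset_inter hsub' hDR))) fun h => hZD ?_
      exact hD Z (hP'.1 hZ) (h ▸ aug_mono (le_sSup ⟨hZ, hZR⟩))
    have h1 := Submodule.finrank_lt_finrank_of_lt hlt
    have h2 : finrank k (aug (sSup (P' ∩ R))) ≤ finrank k (Module.End k M) := Submodule.finrank_le _
    omega
  exact hne ((step P X hP Set.inter_subset_left hXP (hsubR (by simp)) hXD).trans
    (step Q Y hQ Set.inter_subset_right hYQ (hsubR (by simp)) hYD).symm)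

/-- Baer–Suzuki type theorem for families of subgroups of a linear group. -/
theorem isUnipotentOn_sSup (hWG : ∀ A ∈ W, A ≤ G) (hWW : ∀ A ∈ W, ∀ B ∈ W, IsUnipotentOn (A ⊔ B))
    (hWconj : ∀ A ∈ W, ∀ g ∈ G, conjBy A g ∈ W) : IsUnipotentOn (sSup W) := by
  obtain ⟨P, hP, -⟩ := exists_maxUnip (W := W) (V := ∅) (Set.empty_subset _)
    (by rw [sSup_empty]; exact isUnipotentOn_bot)
  refine IsUnipotentOn.anti hP.2.1 (sSup_le_sSup fun A hA => ?_)
  obtain ⟨Q, hQ, hAQ⟩ := exists_maxUnip (W := W) (V := {A}) (Set.singleton_subset_iff.2 hA)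
    (by rw [sSup_singleton]; simpa using hWW A hA A hA)
  rw [maxUnip_unique hWG hWW hWconj _ P Q hP hQ rfl]
  exact hAQ rfl

end BaerSuzuki

/-- `G` normalises no nontrivial unipotent subgroup of itself. -/
def NoUnip (G : Subgroup (LinearMap.GeneralLinearGroup k M)) : Prop :=
  ∀ N : Subgroup (LinearMap.GeneralLinearGroup k M), N ≤ G → (∀ g ∈ G, ∀ x ∈ N, g * x * g⁻¹ ∈ N) →
    IsUnipotentOn N → N = ⊥

theorem noUnip_of_irreducible {G : Subgroup (LinearMap.GeneralLinearGroup k M)} (hG : IsIrreducibleFor G) :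
    NoUnip G := by
  intro N _ hN hu
  obtain ⟨n, hn⟩ := isUnipotentOn_iff.1 hu
  have hmem : ∀ m : M, m ∈ Cfsg.fixedSubmodule N ↔ ∀ g ∈ N, (g : Module.End k M) m = m := fun m => by
    simp [Cfsg.fixedSubmodule, Submodule.mem_iInf, sub_eq_zero]
  rcases hG.2 (Cfsg.fixedSubmodule N) (fun g hg w hw => by
    rw [hmem] at hw ⊢
    intro x hx
    have := hw _ (hN g⁻¹ (G.inv_mem hg) x hx)
    have h2 := congrArg (g : Module.End k M) this
    rw [← Module.End.mul_apply, ← Units.val_mul] at h2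
    rw [← Module.End.mul_apply, ← Units.val_mul, ← h2]
    congr 2
    group) with h | h
  · exfalso
    have : ∀ i : ℕ, aug N ^ i ≠ ⊥ := by
      intro i
      induction i with
      | zero =>
        intro h0
        obtain ⟨m, hm⟩ := hG.1
        have : (1 : Module.End k M) ∈ (⊥ : Submodule k (Module.End k M)) := by
          rw [← h0, pow_zero]; exact Submodule.one_le.1 le_rfl
        exact hm (by simpa using LinearMap.congr_fun ((Submodule.mem_bot k).1 this) m)
      | succ i ih =>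
        intro h0
        apply ih
        rw [eq_bot_iff]
        intro x hx
        rw [Submodule.mem_bot]
        ext m
        have : x m ∈ Cfsg.fixedSubmodule N := by
          rw [hmem]
          intro g hg
          have h1 : ((g : Module.End k M) - 1) * x ∈ aug N ^ (i + 1) := by
            rw [pow_succ']; exact Submodule.mul_mem_mul (sub_one_mem_aug hg) hx
          rw [h0, Submodule.mem_bot] at h1
          have := LinearMap.congr_fun h1 m
          simpa [sub_eq_zero] using this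
        rw [h] at this
        simpa using this
    exact this n hn
  · rw [eq_bot_iff]
    intro g hg
    rw [Subgroup.mem_bot]
    apply Units.ext
    ext m
    exact (hmem m).1 (h ▸ Submodule.mem_top) g hg

end CL.Chev.Quad
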