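/-
Quadratic pairs, part 3: the classes `E(σ)`, opposite classes, and the trichotomy for two classes.
-/
import Cfsg.Agent.Chev.QuadKey
import Cfsg.Agent.Chev.QuadUnip

set_option autoImplicit false
set_option linter.all false

namespace CL.Chev.Quad

open Module LinearMap Cfsg

/-- The hypotheses on the field. -/
structure Hyp (k : Type*) [Field k] : Prop where
  two : (2 : k) ≠ 0
  three : ∃ c : k, c ≠ 0 ∧ c ^ 2 ≠ 1
  pd : PD k

variable {k : Type*} [Field k] {M : Type*} [AddCommGroup M] [Module k M]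
variable {G : Subgroup (LinearMap.GeneralLinearGroup k M)}

local notation "GLM" => LinearMap.GeneralLinearGroup k M

/-- The class of `a`: elements of `Q0 G` with image inside that of `a` and kernel containing that of `a`. -/
def cls (G : Subgroup (LinearMap.GeneralLinearGroup k M)) (a : Module.End k M) : Submodule k (Module.End k M) where
  carrier := {b | Q0 G b ∧ LinearMap.range b ≤ LinearMap.range a ⊓ LinearMap.ker a ∧ LinearMap.ker a ≤ LinearMap.ker b}
  add_mem' := by
    rintro b b' ⟨h1, h2, h3⟩ ⟨h1', h2', h3'⟩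
    refine ⟨h1.add h1' (mul_eq_zero_iff_range_le.2 ((h2'.trans inf_le_right).trans h3))
      (mul_eq_zero_iff_range_le.2 ((h2.trans inf_le_right).trans h3')), ?_, ?_⟩
    · rintro _ ⟨m, rfl⟩
      exact Submodule.add_mem _ (h2 ⟨m, rfl⟩) (h2' ⟨m, rfl⟩)
    · intro m hm
      rw [LinearMap.mem_ker, LinearMap.add_apply, h3 hm, h3' hm, add_zero]
  zero_mem' := ⟨Q0.zero, by simp, by simp⟩
  smul_mem' := by
    rintro c b ⟨h1, h2, h3⟩
    exact ⟨h1.smul c, (LinearMap.range_smul_le_range b c).trans h2, h3.trans (LinearMap.ker_le_ker_smul b c)⟩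

theorem mem_cls {a b : Module.End k M} (ha : a * a = 0) :
    b ∈ cls G a ↔ Q0 G b ∧ LinearMap.range b ≤ LinearMap.range a ∧ LinearMap.ker a ≤ LinearMap.ker b := by
  change _ ∧ _ ∧ _ ↔ _
  rw [inf_eq_left.2 (mul_eq_zero_iff_range_le.1 ha)]

theorem cls_q0 {a b : Module.End k M} (h : b ∈ cls G a) : Q0 G b := h.1
theorem cls_range {a b : Module.End k M} (h : b ∈ cls G a) : LinearMap.range b ≤ LinearMap.range a :=
  h.2.1.trans inf_le_left
theorem cls_ker {a b : Module.End k M} (h : b ∈ cls G a) : LinearMap.ker a ≤ LinearMap.ker b := h.2.2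

theorem self_mem_cls {a : Module.End k M} (ha : Q0 G a) : a ∈ cls G a := (mem_cls ha.sq).2 ⟨ha, le_rfl, le_rfl⟩

theorem cls_mul {a b b' : Module.End k M} (h : b ∈ cls G a) (h' : b' ∈ cls G a) : b * b' = 0 :=
  mul_eq_zero_iff_range_le.2 ((h'.2.1.trans inf_le_right).trans h.2.2)

theorem cls_congr {a b : Module.End k M} (h1 : LinearMap.range a = LinearMap.range b)
    (h2 : LinearMap.ker a = LinearMap.ker b) : cls G a = cls G b := by
  ext x
  change _ ∧ _ ∧ _ ↔ _ ∧ _ ∧ _
  rw [h1, h2]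

theorem cls_neg (a : Module.End k M) : cls G (-a) = cls G a :=
  cls_congr (LinearMap.range_neg a) (LinearMap.ker_neg a)

theorem conj_mem_cls {a b : Module.End k M} (h : b ∈ cls G a) {g : GLM} (hg : g ∈ G) :
    (g : Module.End k M) * b * ((g⁻¹ : GLM) : Module.End k M) ∈
      cls G ((g : Module.End k M) * a * ((g⁻¹ : GLM) : Module.End k M)) := by
  have hinv : ∀ m : M, ((g⁻¹ : GLM) : Module.End k M) ((g : Module.End k M) m) = m := fun m => by
    rw [← Module.End.mul_apply, Units.inv_mul]; rfl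
  refine ⟨h.1.conj hg, ?_, ?_⟩
  · rintro _ ⟨m, rfl⟩
    obtain ⟨⟨y, hy⟩, h2⟩ := h.2.1 ⟨((g⁻¹ : GLM) : Module.End k M) m, rfl⟩
    refine ⟨⟨(g : Module.End k M) y, ?_⟩, ?_⟩
    · simp only [Module.End.mul_apply, hinv, hy]
    · simp only [SetLike.mem_coe, LinearMap.mem_ker, Module.End.mul_apply, hinv] at h2 ⊢
      rw [h2, map_zero]
  · intro m hm
    simp only [LinearMap.mem_ker, Module.End.mul_apply] at hm ⊢
    have := congrArg ((g⁻¹ : GLM) : Module.End k M) hm
    rw [hinv, map_zero] at this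
    rw [h.2.2 this, map_zero]

theorem conj_conj_inv (g : GLM) (a : Module.End k M) :
    ((g⁻¹ : GLM) : Module.End k M) * ((g : Module.End k M) * a * ((g⁻¹ : GLM) : Module.End k M)) *
      ((g⁻¹⁻¹ : GLM) : Module.End k M) = a := by
  simp [mul_assoc]

/-- The subgroup `E(σ) = 1 + cls a`. -/
def clsGrp (G : Subgroup (LinearMap.GeneralLinearGroup k M)) (a : Module.End k M) : Subgroup GLM where
  carrier := {τ | (τ : Module.End k M) - 1 ∈ cls G a}
  mul_mem' := by
    intro x y hx hy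
    have : ((x * y : GLM) : Module.End k M) - 1 = ((x : Module.End k M) - 1) * ((y : Module.End k M) - 1) +
        ((x : Module.End k M) - 1) + ((y : Module.End k M) - 1) := by rw [Units.val_mul]; noncomm_ring
    change _ ∈ cls G a
    rw [this, cls_mul hx hy, zero_add]
    exact Submodule.add_mem _ hx hy
  one_mem' := by simp
  inv_mem' := by
    intro x hx
    have h1 : x = ex _ (cls_q0 hx).sq := Units.ext (by simp)
    change _ ∈ cls G a
    rw [h1, ex_inv_val, sub_sub_cancel_left]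
    exact Submodule.neg_mem _ hx

theorem mem_clsGrp {a : Module.End k M} {τ : GLM} : τ ∈ clsGrp G a ↔ (τ : Module.End k M) - 1 ∈ cls G a := Iff.rfl

theorem ex_mem_clsGrp {a b : Module.End k M} (h : b ∈ cls G a) : ex b (cls_q0 h).sq ∈ clsGrp G a := by
  rw [mem_clsGrp, ex_val, add_sub_cancel_left]; exact h

theorem exists_of_mem_clsGrp {a : Module.End k M} {τ : GLM} (h : τ ∈ clsGrp G a) :
    ∃ (b : Module.End k M) (hb : b ∈ cls G a), τ = ex b (cls_q0 hb).sq :=
  ⟨_, h, Units.ext (by simp)⟩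

theorem ex_eq_one {b : Module.End k M} (h : b * b = 0) : ex b h = 1 ↔ b = 0 := by
  rw [Units.ext_iff]; simp

theorem clsGrp_le (a : Module.End k M) : clsGrp G a ≤ G := fun τ h => by
  obtain ⟨b, hb, rfl⟩ := exists_of_mem_clsGrp h
  exact (cls_q0 hb).ex_mem

theorem aug_clsGrp_le (a : Module.End k M) : aug (clsGrp G a) ≤ cls G a := aug_le_iff.2 fun g hg => hg

theorem mem_aug_clsGrp {a b : Module.End k M} (h : b ∈ cls G a) : b ∈ aug (clsGrp G a) := by
  simpa using sub_one_mem_aug (ex_mem_clsGrp h)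

theorem clsGrp_congr {a b : Module.End k M} (h : cls G a = cls G b) : clsGrp G a = clsGrp G b := by
  ext x; rw [mem_clsGrp, mem_clsGrp, h]

theorem clsGrp_comm (a : Module.End k M) : IsMulCommutative (clsGrp G a) := by
  refine ⟨⟨fun x y => Subtype.ext (Units.ext ?_)⟩⟩
  obtain ⟨b, hb, h1⟩ := exists_of_mem_clsGrp x.2
  obtain ⟨b', hb', h2⟩ := exists_of_mem_clsGrp y.2
  simp only [Subgroup.coe_mul, Units.val_mul, h1, h2, ex_val, add_mul, mul_add, cls_mul hb hb', cls_mul hb' hb]
  simp [add_comm, add_left_comm]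

theorem conjBy_clsGrp (a : Module.End k M) {g : GLM} (hg : g ∈ G) :
    conjBy (clsGrp G a) g = clsGrp G ((g : Module.End k M) * a * ((g⁻¹ : GLM) : Module.End k M)) := by
  have key : ∀ x : GLM, ∀ g : GLM, ((g * x * g⁻¹ : GLM) : Module.End k M) - 1 =
      (g : Module.End k M) * ((x : Module.End k M) - 1) * ((g⁻¹ : GLM) : Module.End k M) := fun x g => by
    rw [mul_sub, sub_mul, mul_one, Units.mul_inv]; rfl
  ext x
  rw [mem_conjBy, mem_clsGrp, mem_clsGrp]
  constructor
  · intro h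
    have := conj_mem_cls h hg
    rw [← key] at this
    simpa [mul_assoc] using this
  · intro h
    have := conj_mem_cls h (G.inv_mem hg)
    rw [conj_conj_inv, ← key] at this
    simpa using this

theorem mem_quadraticElements {σ : GLM} :
    σ ∈ quadraticElements G ↔ Q0 G ((σ : Module.End k M) - 1) ∧ (σ : Module.End k M) - 1 ≠ 0 := by
  constructor
  · rintro ⟨-, ⟨h1, h2⟩, h3⟩
    exact ⟨⟨h1, fun c τ hτ => h3 ⟨c, hτ⟩⟩, h2⟩
  · rintro ⟨h1, h2⟩
    exact ⟨h1.2 1 σ (by simp), ⟨h1.1, h2⟩, fun τ ⟨c, hτ⟩ => h1.2 c τ hτ⟩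

theorem ex_mem_quadraticElements {b : Module.End k M} (hb : Q0 G b) (h0 : b ≠ 0) :
    ex b hb.sq ∈ quadraticElements G := by
  rw [mem_quadraticElements]; simpa using ⟨hb, h0⟩

theorem mem_minimal {σ : GLM} : σ ∈ minimalQuadraticElements G ↔ Min G ((σ : Module.End k M) - 1) := by
  constructor
  · rintro ⟨h1, h2⟩
    rw [mem_quadraticElements] at h1
    refine ⟨h1.1, h1.2, fun b hb hb0 => ?_⟩
    have := h2 _ (ex_mem_quadraticElements hb hb0)
    change rk _ ≤ rk ((1 + b : Module.End k M) - 1) at this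
    rwa [add_sub_cancel_left] at this
  · rintro ⟨h1, h2, h3⟩
    refine ⟨mem_quadraticElements.2 ⟨h1, h2⟩, fun τ hτ => ?_⟩
    rw [mem_quadraticElements] at hτ
    exact h3 _ hτ.1 hτ.2

/-- Opposite elements. -/
def Opp (a b : Module.End k M) : Prop :=
  Disjoint (LinearMap.ker b) (LinearMap.range a) ∧ Disjoint (LinearMap.ker a) (LinearMap.range b)

theorem Opp.symm {a b : Module.End k M} (h : Opp a b) : Opp b a := ⟨h.2, h.1⟩

theorem Opp.cancel_left {a b x : Module.End k M} (h : Opp a b) (hx : LinearMap.range x ≤ LinearMap.range a)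
    (h0 : b * x = 0) : x = 0 := by
  rw [← LinearMap.range_eq_bot, eq_bot_iff]
  exact h.1 (mul_eq_zero_iff_range_le.1 h0) hx

theorem Opp.aba_ne {a b : Module.End k M} (h : Opp a b) (ha : a ≠ 0) : a * b * a ≠ 0 := fun h0 =>
  ha (h.cancel_left le_rfl (h.symm.cancel_left (range_mul_le _ _) (by rwa [← mul_assoc])))

/-- An `sl₂`-pair. -/
structure Pair (e f : Module.End k M) : Prop where
  ee : e * e = 0
  ff : f * f = 0
  efe : e * f * e = e
  fef : f * e * f = f

theorem Pair.symm {e f : Module.End k M} (h : Pair e f) : Pair f e := ⟨h.ff, h.ee, h.fef, h.efe⟩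

theorem Pair.ee' {e f : Module.End k M} (h : Pair e f) (x : Module.End k M) : e * (e * x) = 0 := by
  rw [← mul_assoc, h.ee, zero_mul]
theorem Pair.ff' {e f : Module.End k M} (h : Pair e f) (x : Module.End k M) : f * (f * x) = 0 := h.symm.ee' x
theorem Pair.efe' {e f : Module.End k M} (h : Pair e f) (x : Module.End k M) : e * (f * (e * x)) = e * x := by
  rw [← mul_assoc, ← mul_assoc, h.efe]
theorem Pair.fef' {e f : Module.End k M} (h : Pair e f) (x : Module.End k M) : f * (e * (f * x)) = f * x :=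
  h.symm.efe' x
theorem Pair.efe₀ {e f : Module.End k M} (h : Pair e f) : e * (f * e) = e := by rw [← mul_assoc, h.efe]
theorem Pair.fef₀ {e f : Module.End k M} (h : Pair e f) : f * (e * f) = f := h.symm.efe₀

theorem Pair.opp {e f : Module.End k M} (h : Pair e f) : Opp e f := by
  have : ∀ e f : Module.End k M, Pair e f → Disjoint (LinearMap.ker f) (LinearMap.range e) := by
    intro e f h
    rw [Submodule.disjoint_def]
    rintro _ h1 ⟨m, rfl⟩
    rw [LinearMap.mem_ker] at h1
    have := LinearMap.congr_fun h.efe m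
    rw [Module.End.mul_apply, Module.End.mul_apply, h1, map_zero] at this
    exact this.symm
  exact ⟨this e f h, this f e h.symm⟩

theorem Pair.conj_ex {e f : Module.End k M} (h : Pair e f) : (1 - f) * e * (1 + f) = -((1 - e) * f * (1 + e)) := by
  simp only [add_mul, mul_add, sub_mul, mul_sub, one_mul, mul_one, h.efe, h.fef]; abel

/-- The element `n = (1 + e)(1 - f)(1 + e)`. -/
def Pair.n {e f : Module.End k M} (h : Pair e f) : GLM := ex e h.ee * (ex f h.ff)⁻¹ * ex e h.ee

theorem Pair.n_conj {e f : Module.End k M} (h : Pair e f) :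
    (h.n : Module.End k M) * e * ((h.n⁻¹ : GLM) : Module.End k M) = -f := by
  simp only [Pair.n, mul_inv_rev, inv_inv, Units.val_mul, ex_val, ex_inv_val, add_mul, mul_add, sub_mul, mul_sub,
    one_mul, mul_one, mul_assoc, h.ee, h.ff, h.ee', h.ff', h.efe', h.fef', h.efe₀, h.fef₀, mul_zero, zero_mul]
  abel

theorem Pair.n_sq {e f : Module.End k M} (h : Pair e f) :
    ((h.n * h.n : GLM) : Module.End k M) = 1 - (e * f + e * f) - (f * e + f * e) := by
  simp only [Pair.n, mul_inv_rev, inv_inv, Units.val_mul, ex_val, ex_inv_val, add_mul, mul_add, sub_mul, mul_sub,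
    one_mul, mul_one, mul_assoc, h.ee, h.ff, h.ee', h.ff', h.efe', h.fef', h.efe₀, h.fef₀, mul_zero, zero_mul]
  abel

theorem Pair.n_mem {e f : Module.End k M} (h : Pair e f) {X : Subgroup GLM} (he : ex e h.ee ∈ X)
    (hf : ex f h.ff ∈ X) : h.n ∈ X := X.mul_mem (X.mul_mem he (X.inv_mem hf)) he

variable [FiniteDimensional k M]

theorem Min.of_mem_cls {a b : Module.End k M} (ha : Min G a) (hb : b ∈ cls G a) (h0 : b ≠ 0) : Min G b :=
  ha.of_rk_le hb.1 h0 (rk_mono (cls_range hb))

theorem Min.range_eq_of_mem {a b : Module.End k M} (ha : Min G a) (hb : b ∈ cls G a) (h0 : b ≠ 0) :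
    LinearMap.range b = LinearMap.range a := ha.range_eq hb.1 h0 (cls_range hb)

theorem Min.ker_eq_of_mem {a b : Module.End k M} (ha : Min G a) (hb : b ∈ cls G a) (h0 : b ≠ 0) :
    LinearMap.ker b = LinearMap.ker a := (ha.ker_eq hb.1 h0 (cls_ker hb)).symm

theorem Min.cls_eq {a b : Module.End k M} (ha : Min G a) (hb : b ∈ cls G a) (h0 : b ≠ 0) : cls G b = cls G a :=
  cls_congr (ha.range_eq_of_mem hb h0) (ha.ker_eq_of_mem hb h0)

theorem Min.clsGrp_eq {a b : Module.End k M} (ha : Min G a) (hb : b ∈ cls G a) (h0 : b ≠ 0) :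
    clsGrp G b = clsGrp G a := clsGrp_congr (ha.cls_eq hb h0)

theorem Min.mem_cls_of_clsGrp_eq {a b : Module.End k M} (hb : Min G b) (h : clsGrp G b = clsGrp G a) :
    b ∈ cls G a := by
  have := ex_mem_clsGrp (self_mem_cls hb.q0)
  rw [h, mem_clsGrp] at this
  simpa using this

theorem Opp.of_mem {a b a' b' : Module.End k M} (h : Opp a b) (ha : Min G a) (hb : Min G b) (ha' : a' ∈ cls G a)
    (ha0 : a' ≠ 0) (hb' : b' ∈ cls G b) (hb0 : b' ≠ 0) : Opp a' b' := by
  unfold Opp
  rw [ha.range_eq_of_mem ha' ha0, ha.ker_eq_of_mem ha' ha0, hb.range_eq_of_mem hb' hb0, hb.ker_eq_of_mem hb' hb0]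
  exact h

theorem opp_of_mem_iff {a b a' b' : Module.End k M} (ha : Min G a) (hb : Min G b) (ha' : a' ∈ cls G a)
    (ha0 : a' ≠ 0) (hb' : b' ∈ cls G b) (hb0 : b' ≠ 0) : Opp a' b' ↔ Opp a b := by
  unfold Opp
  rw [ha.range_eq_of_mem ha' ha0, ha.ker_eq_of_mem ha' ha0, hb.range_eq_of_mem hb' hb0, hb.ker_eq_of_mem hb' hb0]

theorem sameActionClass_eq {σ : GLM} (hσ : σ ∈ minimalQuadraticElements G) :
    sameActionClass G σ ∪ {1} = clsGrp G ((σ : Module.End k M) - 1) := by
  rw [mem_minimal] at hσ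
  ext τ
  constructor
  · rintro (⟨h1, h2, h3⟩ | h)
    · rw [mem_minimal] at h1
      exact (mem_cls hσ.sq).2 ⟨h1.q0, h3.le, h2.ge⟩
    · rw [Set.mem_singleton_iff] at h
      rw [h]; exact Subgroup.one_mem _
  · intro h
    by_cases h0 : (τ : Module.End k M) - 1 = 0
    · right
      exact Units.ext (sub_eq_zero.1 h0)
    · left
      exact ⟨mem_minimal.2 (hσ.of_mem_cls h h0), hσ.ker_eq_of_mem h h0, hσ.range_eq_of_mem h h0⟩

theorem sameActionSubgroup_eq {σ : GLM} (hσ : σ ∈ minimalQuadraticElements G) :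
    sameActionSubgroup G σ = clsGrp G ((σ : Module.End k M) - 1) := by
  have h := sameActionClass_eq hσ
  apply le_antisymm
  · rw [sameActionSubgroup, Subgroup.closure_le, ← h]; exact Set.subset_union_left
  · intro τ hτ
    rw [← SetLike.mem_coe, ← h] at hτ
    rcases hτ with h1 | h1
    · exact Subgroup.subset_closure h1
    · rw [Set.mem_singleton_iff] at h1
      rw [h1]; exact Subgroup.one_mem _

theorem mem_quadraticRootSubgroups {A : Subgroup GLM} :
    A ∈ quadraticRootSubgroups G ↔ ∃ a, Min G a ∧ A = clsGrp G a := by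
  constructor
  · rintro ⟨σ, hσ, rfl⟩
    exact ⟨_, mem_minimal.1 hσ, sameActionSubgroup_eq hσ⟩
  · rintro ⟨a, ha, rfl⟩
    have : ex a ha.sq ∈ minimalQuadraticElements G := by rw [mem_minimal]; simpa using ha
    exact ⟨_, this, by rw [sameActionSubgroup_eq this]; simp⟩

theorem finrank_cls_conj_le (a : Module.End k M) {g : GLM} (hg : g ∈ G) :
    finrank k (cls G a) ≤ finrank k (cls G ((g : Module.End k M) * a * ((g⁻¹ : GLM) : Module.End k M))) := by
  let φ : Module.End k M →ₗ[k] Module.End k M :=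
    (LinearMap.mulRight k ((g⁻¹ : GLM) : Module.End k M)).comp (LinearMap.mulLeft k (g : Module.End k M))
  refine LinearMap.finrank_le_finrank_of_injective (f := φ.restrict (p := cls G a) (fun x hx => conj_mem_cls hx hg))
    ?_
  intro x y hxy
  have := congrArg (fun z => ((g⁻¹ : GLM) : Module.End k M) * (z : Module.End k M) *
    ((g⁻¹⁻¹ : GLM) : Module.End k M)) (congrArg Subtype.val hxy)
  exact Subtype.ext ((conj_conj_inv g x).symm.trans (this.trans (conj_conj_inv g y)))

theorem finrank_cls_conj (a : Module.End k M) {g : GLM} (hg : g ∈ G) :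
    finrank k (cls G ((g : Module.End k M) * a * ((g⁻¹ : GLM) : Module.End k M))) = finrank k (cls G a) := by
  refine le_antisymm ?_ (finrank_cls_conj_le a hg)
  have := finrank_cls_conj_le ((g : Module.End k M) * a * ((g⁻¹ : GLM) : Module.End k M)) (G.inv_mem hg)
  rwa [conj_conj_inv] at this

theorem opp_of_aba_ne (H : Hyp k) {a b : Module.End k M} (ha : Min G a) (hb : Min G b) (h : a * b * a ≠ 0) :
    Opp a b := by
  have h1 := (aqa_dichotomy H.two H.three H.pd _ ha hb.q0 rfl).resolve_left h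
  rw [mul_assoc] at h1
  have h2 : rk a ≤ rk (b * a) := h1.trans (rk_mul_le_right _ _)
  refine ⟨disjoint_of_rk_mul_eq h2, ?_⟩
  have h3 : LinearMap.range (b * a) = LinearMap.range b :=
    Submodule.eq_of_le_of_finrank_le (range_mul_le _ _) ((hb.rk_eq ha).le.trans h2)
  rw [← h3]
  exact disjoint_of_rk_mul_eq ((rk_mul_le_right _ _).trans h1)

theorem aba_eq_zero_of_not_opp (H : Hyp k) {a b : Module.End k M} (ha : Min G a) (hb : Min G b) (h : ¬ Opp a b) :
    a * b * a = 0 := by
  by_contra h0; exact h (opp_of_aba_ne H ha hb h0)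

theorem triple_zero (H : Hyp k) {a b a' a'' b' : Module.End k M} (ha : Min G a) (hb : Min G b) (h : ¬ Opp a b)
    (h1 : a' ∈ cls G a) (h2 : a'' ∈ cls G a) (h3 : b' ∈ cls G b) : a' * b' * a'' = 0 := by
  by_cases h0 : b' = 0
  · simp [h0]
  have := aba_eq_zero_of_not_opp H ha (hb.of_mem_cls h3 h0)
    (by rwa [opp_of_mem_iff ha hb (self_mem_cls ha.q0) ha.ne h3 h0])
  have h4 := mul_eq_zero_of_range_le (cls_range h2) this
  rw [mul_assoc] at h4 ⊢
  exact mul_eq_zero_of_ker_le (cls_ker h1) h4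

/-- For minimal `a` and any `q` with `a q a ≠ 0` there is an inverse in the class of `a`. -/
theorem exists_inverse (H : Hyp k) {a q : Module.End k M} (ha : Min G a) (hq : Q0 G q) (h : a * q * a ≠ 0) :
    ∃ e ∈ cls G a, e ≠ 0 ∧ e * q * e = e := by
  obtain ⟨y, hy, hy'⟩ := exists_ev_inverse H.two H.three H.pd ha hq h
  refine ⟨ev a q y * a, (mem_cls ha.sq).2 ⟨hy, ?_, ker_le_ker_mul _ _⟩, fun h0 => ha.ne ?_, ?_⟩
  · rw [← ev_comm_left ha.sq]; exact range_mul_le _ _
  · rw [← hy', mul_comm y, map_mul, mul_assoc, h0, mul_zero]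
  · rw [mul_assoc, ← mul_assoc q, ev_comm_right hq.sq, mul_assoc, mul_assoc, ← mul_assoc a, ev_comm_left ha.sq,
      mul_assoc, ← mul_assoc a, ← z_mul_a ha.sq, ← ev_X, ← mul_assoc (ev a q y) (ev a q Polynomial.X), ← map_mul,
      hy']

theorem Opp.exists_pair (H : Hyp k) {a b : Module.End k M} (h : Opp a b) (ha : Min G a) (hb : Min G b) :
    ∃ f ∈ cls G b, f ≠ 0 ∧ Pair a f := by
  obtain ⟨f, hf, hf0, hfaf⟩ := exists_inverse H hb ha.q0 (h.symm.aba_ne hb.ne)
  refine ⟨f, hf, hf0, ha.sq, (cls_q0 hf).sq, ?_, hfaf⟩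
  have h' : Opp a f := h.of_mem ha hb (self_mem_cls ha.q0) ha.ne hf hf0
  rw [← sub_eq_zero]
  refine h'.cancel_left ?_ ?_
  · have : a * f * a - a = a * (f * a - 1) := by rw [mul_sub, mul_one, mul_assoc]
    rw [this]; exact range_mul_le _ _
  · rw [mul_sub, ← mul_assoc, ← mul_assoc, hfaf, sub_self]

theorem Opp.exists_conj (H : Hyp k) {a b : Module.End k M} (h : Opp a b) (ha : Min G a) (hb : Min G b) :
    ∃ n ∈ clsGrp G a ⊔ clsGrp G b, cls G ((n : Module.End k M) * a * ((n⁻¹ : GLM) : Module.End k M)) = cls G b := by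
  obtain ⟨f, hf, hf0, hp⟩ := h.exists_pair H ha hb
  refine ⟨hp.n, hp.n_mem (Subgroup.mem_sup_left (ex_mem_clsGrp (self_mem_cls ha.q0)))
    (Subgroup.mem_sup_right (ex_mem_clsGrp hf)), ?_⟩
  rw [hp.n_conj, cls_neg, hb.cls_eq hf hf0]

theorem Opp.finrank_eq (H : Hyp k) {a b : Module.End k M} (h : Opp a b) (ha : Min G a) (hb : Min G b) :
    finrank k (cls G a) = finrank k (cls G b) := by
  obtain ⟨n, hn, h1⟩ := h.exists_conj H ha hb
  rw [← h1, finrank_cls_conj a (sup_le (clsGrp_le a) (clsGrp_le b) hn)]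

theorem unipotent_of_not_opp (H : Hyp k) {a b : Module.End k M} (ha : Min G a) (hb : Min G b) (h : ¬ Opp a b) :
    IsUnipotentOn (clsGrp G a ⊔ clsGrp G b) := by
  set A := cls G a
  set B := cls G b
  have hA : A * A = ⊥ := by
    rw [eq_bot_iff, Submodule.mul_le]; intro x hx y hy; exact cls_mul hx hy
  have hB : B * B = ⊥ := by
    rw [eq_bot_iff, Submodule.mul_le]; intro x hx y hy; exact cls_mul hx hy
  have h3 : ∀ {a b : Module.End k M}, Min G a → Min G b → ¬ Opp a b → cls G a * cls G b * cls G a = ⊥ := by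
    intro a b ha hb h
    rw [eq_bot_iff, Submodule.mul_le]
    intro x hx y hy
    refine Submodule.mul_induction_on hx (fun u hu v hv => triple_zero H ha hb h hu hy hv) ?_
    intro u v hu hv
    rw [add_mul]; exact Submodule.add_mem _ hu hv
  have hABA : A * B * A = ⊥ := h3 ha hb h
  have hBAB : B * A * B = ⊥ := h3 hb ha fun h' => h h'.symm
  set S := A ⊔ B with hS
  have hS3 : S * S * S = ⊥ := by
    simp only [hS, Submodule.sup_mul, Submodule.mul_sup, hA, hB, hABA, hBAB, Submodule.bot_mul, mul_assoc A B B,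
      mul_assoc B A A, Submodule.mul_bot, sup_bot_eq]
  have hT2 : (S ⊔ S * S) * (S ⊔ S * S) = S * S := by
    simp only [Submodule.sup_mul, Submodule.mul_sup, ← mul_assoc, hS3, Submodule.bot_mul, sup_bot_eq]
  refine isUnipotentOn_of_aug_le (T := S ⊔ S * S) (aug_sup_le (hT2.le.trans le_sup_right)
    ((aug_clsGrp_le a).trans (le_sup_left.trans le_sup_left))
    ((aug_clsGrp_le b).trans (le_sup_right.trans le_sup_left))) (n := 3) ?_
  rw [pow_succ, pow_two, hT2, Submodule.mul_sup, ← mul_assoc, hS3, Submodule.bot_mul, sup_bot_eq]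

omit [FiniteDimensional k M] in
theorem Pair.not_unipotent {e f : Module.End k M} (h : Pair e f) (he0 : e ≠ 0) {X : Subgroup GLM}
    (he : e ∈ aug X) (hf : f ∈ aug X) : ¬ IsUnipotentOn X := by
  intro hu
  obtain ⟨n, hn⟩ := isUnipotentOn_iff.1 hu
  have h1 : (e * f) ^ n ∈ aug X ^ n := Submodule.pow_mem_pow _ (aug_mul_le X (Submodule.mul_mem_mul he hf)) n
  rw [hn, Submodule.mem_bot] at h1
  have h2 : ∀ i : ℕ, (e * f) ^ i * e = e := by
    intro i
    induction i with
    | zero => simp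
    | succ i ih => rw [pow_succ, mul_assoc, h.efe, ih]
  apply he0
  rw [← h2 n, h1, zero_mul]

theorem Opp.not_unipotent (H : Hyp k) {a b : Module.End k M} (h : Opp a b) (ha : Min G a) (hb : Min G b) :
    ¬ IsUnipotentOn (clsGrp G a ⊔ clsGrp G b) := by
  obtain ⟨f, hf, hf0, hp⟩ := h.exists_pair H ha hb
  exact hp.not_unipotent ha.ne (aug_mono le_sup_left (mem_aug_clsGrp (self_mem_cls ha.q0)))
    (aug_mono le_sup_right (mem_aug_clsGrp hf))

/-- Every minimal element has an opposite. -/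
theorem exists_opp (H : Hyp k) (hG : NoUnip G) {a : Module.End k M} (ha : Min G a) : ∃ b, Min G b ∧ Opp a b := by
  by_contra hne
  push Not at hne
  let W : Set (Subgroup GLM) := {A | ∃ x, Min G x ∧ (∀ y, Min G y → x * y * x = 0) ∧ A = clsGrp G x}
  have hWG : ∀ A ∈ W, A ≤ G := by rintro _ ⟨x, -, -, rfl⟩; exact clsGrp_le x
  have hWconj : ∀ A ∈ W, ∀ g ∈ G, conjBy A g ∈ W := by
    rintro _ ⟨x, hx, hx', rfl⟩ g hg
    refine ⟨_, hx.conj hg, fun y hy => ?_, conjBy_clsGrp x hg⟩
    have := hx' _ (hy.conj (G.inv_mem hg))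
    have h2 := congrArg (fun z => (g : Module.End k M) * z * ((g⁻¹ : GLM) : Module.End k M)) this
    simpa [mul_assoc] using h2
  have hu := isUnipotentOn_sSup hWG (by
    rintro _ ⟨x, hx, hx', rfl⟩ _ ⟨y, hy, hy', rfl⟩
    exact unipotent_of_not_opp H hx hy fun h => h.aba_ne hx.ne (hx' y hy)) hWconj
  have hbot := hG _ (sSup_le hWG) (fun g hg x hx => conj_mem_sSup (fun A hA => hWconj A hA g hg) hx) hu
  have hmem : clsGrp G a ∈ W := ⟨a, ha, fun y hy => aba_eq_zero_of_not_opp H ha hy (hne y hy), rfl⟩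
  have := le_sSup hmem (ex_mem_clsGrp (self_mem_cls ha.q0))
  rw [hbot, Subgroup.mem_bot, ex_eq_one] at this
  exact ha.ne this

theorem exists_pair (H : Hyp k) (hG : NoUnip G) {a : Module.End k M} (ha : Min G a) : ∃ f, Min G f ∧ Pair a f := by
  obtain ⟨b, hb, h⟩ := exists_opp H hG ha
  obtain ⟨f, hf, hf0, hp⟩ := h.exists_pair H ha hb
  exact ⟨f, hb.of_mem_cls hf hf0, hp⟩

end CL.Chev.Quad
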