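/-
Dickson's generation lemma: for `K = k[α]` a field, `char k ≠ 2`, `|k| > 3`, the group `SL₂(K)` is generated by the
upper unitriangular matrices over `k` and the lower unitriangular matrices with entry in `k α`.
-/
import Cfsg.Agent.Cls.SL2Dickson
import Cfsg.Agent.Chev.SL2Pres

set_option autoImplicit false
set_option linter.all false

namespace CL.Chev.Dick

open Polynomial Matrix CL.Chev.SL2
open scoped MatrixGroups commutatorElement

section good
variable {S S' : Type*} [CommRing S] [CommRing S']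

/-- First half of a fraction free Euclidean step. -/
noncomputable def stepP (m : ℕ) (p r : S[X]) : S[X] := C (r.coeff m) * p - C (p.coeff (m + 1)) * X * r

/-- Second half of a fraction free Euclidean step. -/
noncomputable def stepR (m : ℕ) (p r : S[X]) : S[X] :=
  C ((stepP m p r).coeff m) * r - C (r.coeff m) * stepP m p r

/-- Pairs of polynomials on which the Euclidean algorithm runs generically. -/
def Good : ℕ → S[X] → S[X] → Prop
  | 0, p, _ => p.coeff 0 ≠ 0
  | m + 1, p, r => r.coeff m ≠ 0 ∧ (stepP m p r).coeff m ≠ 0 ∧ Good m (stepP m p r) (stepR m p r)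

theorem map_stepP (f : S →+* S') (m : ℕ) (p r : S[X]) :
    (stepP m p r).map f = stepP m (p.map f) (r.map f) := by
  simp [stepP, Polynomial.map_sub, Polynomial.map_mul]

theorem map_stepR (f : S →+* S') (m : ℕ) (p r : S[X]) :
    (stepR m p r).map f = stepR m (p.map f) (r.map f) := by
  simp [stepR, Polynomial.map_sub, Polynomial.map_mul, ← map_stepP]

/-- Degree bounds at level `m`. -/
def Bd (m : ℕ) (p r : S[X]) : Prop := (∀ i, m < i → p.coeff i = 0) ∧ ∀ i, m ≤ i → r.coeff i = 0

theorem Bd.step {m : ℕ} {p r : S[X]} (h : Bd (m + 1) p r) : Bd m (stepP m p r) (stepR m p r) := by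
  have h1 : ∀ i, m < i → (stepP m p r).coeff i = 0 := by
    intro i hi
    obtain ⟨j, rfl⟩ : ∃ j, i = j + 1 := ⟨i - 1, by omega⟩
    rw [stepP, coeff_sub, coeff_C_mul, mul_assoc, coeff_C_mul, coeff_X_mul]
    rcases (show m ≤ j by omega).eq_or_lt with rfl | hj
    · ring
    · rw [h.1 _ (by omega), h.2 j (by omega)]; ring
  refine ⟨h1, fun i hi => ?_⟩
  rw [stepR, coeff_sub, coeff_C_mul, coeff_C_mul]
  rcases hi.eq_or_lt with rfl | hj
  · ring
  · rw [h1 _ hj, h.2 _ (by omega)]; ring

theorem exists_good [Nontrivial S] (m : ℕ) : ∃ p r : S[X], Bd m p r ∧ p.coeff m = 1 ∧ Good m p r := by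
  induction m with
  | zero =>
    refine ⟨1, 0, ⟨fun i hi => ?_, fun i _ => rfl⟩, by simp, by simp [Good]⟩
    rw [coeff_one, if_neg (by omega)]
  | succ m ih =>
    obtain ⟨p, r, hb, h1, hg⟩ := ih
    have c1 : (r + p).coeff m = 1 := by rw [coeff_add, hb.2 m le_rfl, h1, zero_add]
    have c2 : (p + X * (r + p)).coeff (m + 1) = 1 := by
      rw [coeff_add, hb.1 _ (by omega), coeff_X_mul, c1, zero_add]
    have s1 : stepP m (p + X * (r + p)) (r + p) = p := by rw [stepP, c1, c2]; simp
    have s2 : stepR m (p + X * (r + p)) (r + p) = r := by rw [stepR, s1, c1, h1]; simp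
    have b2 : ∀ i, m + 1 ≤ i → (r + p).coeff i = 0 := fun i hi => by
      rw [coeff_add, hb.1 _ (by omega), hb.2 _ (by omega), add_zero]
    refine ⟨p + X * (r + p), r + p, ⟨fun i hi => ?_, b2⟩, c2, ?_⟩
    · obtain ⟨j, rfl⟩ : ∃ j, i = j + 1 := ⟨i - 1, by omega⟩
      rw [coeff_add, hb.1 _ (by omega), coeff_X_mul, b2 _ (by omega), add_zero]
    · rw [Good, s1, s2, c1, h1]
      exact ⟨one_ne_zero, one_ne_zero, hg⟩

end good

variable {k K : Type*} [Field k] [Field K] [Algebra k K]

theorem finite_not_good (m : ℕ) (P R : k[X][X]) (t₀ : k)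
    (h : Good m (P.map (evalRingHom t₀)) (R.map (evalRingHom t₀))) :
    {t : k | ¬ Good m (P.map (evalRingHom t)) (R.map (evalRingHom t))}.Finite := by
  have key : ∀ (Q : k[X][X]) (i : ℕ), (Q.map (evalRingHom t₀)).coeff i ≠ 0 →
      {t : k | (Q.map (evalRingHom t)).coeff i = 0}.Finite := by
    intro Q i hQ
    have : Q.coeff i ≠ 0 := fun h0 => hQ (by rw [coeff_map, h0, map_zero])
    simpa [coeff_map] using finite_setOf_isRoot this
  induction m generalizing P R with
  | zero => simpa [Good] using key P 0 h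
  | succ m ih =>
    rw [Good, ← map_stepP, ← map_stepR] at h
    refine (((key R m h.1).union (key _ m h.2.1)).union (ih _ _ h.2.2)).subset fun t ht => ?_
    rw [Set.mem_setOf_eq, Good, ← map_stepP, ← map_stepR] at ht
    simp only [Set.mem_union, Set.mem_setOf_eq]
    tauto

section inf
variable {α : K} {H : Subgroup SL(2, K)}

/-- `(x, y)` is a `k`-multiple of the first column of a member of `H`. -/
def Col (k : Type*) [Field k] [Algebra k K] (H : Subgroup SL(2, K)) (x y : K) : Prop :=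
  ∃ h ∈ H, ∃ c : k, c ≠ 0 ∧ h 0 0 * algebraMap k K c = x ∧ h 1 0 * algebraMap k K c = y

theorem Col.up (hu : ∀ c : k, up (algebraMap k K c) ∈ H) {x y : K} (h : Col k H x y) (c : k) :
    Col k H (x + algebraMap k K c * y) y := by
  obtain ⟨g, hg, d, hd, rfl, rfl⟩ := h
  refine ⟨_, H.mul_mem (hu c) hg, d, hd, ?_, ?_⟩ <;>
    simp only [mul_apply2, up_00, up_01, up_10, up_11] <;> ring

theorem Col.lo (hl : ∀ c : k, lo (algebraMap k K c * α) ∈ H) {x y : K} (h : Col k H x y) (c : k) :
    Col k H x (y + algebraMap k K c * α * x) := by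
  obtain ⟨g, hg, d, hd, rfl, rfl⟩ := h
  refine ⟨_, H.mul_mem (hl c) hg, d, hd, ?_, ?_⟩ <;>
    simp only [mul_apply2, lo_00, lo_01, lo_10, lo_11] <;> ring

theorem col_of_good (hu : ∀ c : k, up (algebraMap k K c) ∈ H) (hl : ∀ c : k, lo (algebraMap k K c * α) ∈ H)
    (m : ℕ) (p r : k[X]) (hb : Bd m p r) (hg : Good m p r) (c d : k) (hc : c ≠ 0) (hd : d ≠ 0) :
    Col k H (algebraMap k K c * aeval α p) (algebraMap k K d * (α * aeval α r)) := by
  induction m generalizing p r c d with
  | zero =>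
    have h1 : p = C (p.coeff 0) := by
      ext i
      rcases i with _ | i
      · simp
      · rw [hb.1 _ (by omega), coeff_C, if_neg (by omega)]
    have h2 : r = 0 := by ext i; exact hb.2 i (by omega)
    refine ⟨1, H.one_mem, c * p.coeff 0, mul_ne_zero hc hg, ?_, by simp [h2]⟩
    conv_rhs => rw [h1]
    simp
  | succ m ih =>
    obtain ⟨h1, h2, h3⟩ := hg
    have := ((ih _ _ hb.step h3 (c / r.coeff m) (d / (stepP m p r).coeff m) (div_ne_zero hc h1)
      (div_ne_zero hd h2)).lo hl (d / (stepP m p r).coeff m * r.coeff m / (c / r.coeff m))).up hu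
      (c / r.coeff m * p.coeff (m + 1) / d)
    have h1' := (map_ne_zero (algebraMap k K)).2 h1
    have h2' := (map_ne_zero (algebraMap k K)).2 h2
    have hc' := (map_ne_zero (algebraMap k K)).2 hc
    have hd' := (map_ne_zero (algebraMap k K)).2 hd
    have e2 : algebraMap k K (d / (stepP m p r).coeff m) * (α * aeval α (stepR m p r)) +
        algebraMap k K (d / (stepP m p r).coeff m * r.coeff m / (c / r.coeff m)) * α *
          (algebraMap k K (c / r.coeff m) * aeval α (stepP m p r)) = algebraMap k K d * (α * aeval α r) := by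
      rw [stepR]
      simp only [map_sub, map_mul, aeval_C, map_div₀]
      field_simp
      ring
    rw [e2] at this
    convert this using 1
    rw [stepP]
    simp only [map_sub, map_mul, aeval_C, map_div₀, aeval_X]
    field_simp
    ring

theorem exists_diag [Infinite k] (hu : ∀ c : k, up (algebraMap k K c) ∈ H)
    (hl : ∀ c : k, lo (algebraMap k K c * α) ∈ H) (m : ℕ)
    (hm : ∀ x : K, ∃ p : k[X], (∀ i, m ≤ i → p.coeff i = 0) ∧ aeval α p = x) {u : K} (hu0 : u ≠ 0) :
    ∃ h ∈ H, ∃ c : k, c ≠ 0 ∧ h 0 0 = algebraMap k K c * u ∧ h 1 0 = 0 := by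
  obtain ⟨p, r, hb, -, hg⟩ := exists_good (S := k) m
  obtain ⟨p₁, hp₁, ep₁⟩ := hm (u * aeval α p)
  obtain ⟨r₁, hr₁, er₁⟩ := hm (u * aeval α r)
  obtain ⟨p₂, hp₂, ep₂⟩ := hm (u⁻¹ * aeval α p)
  obtain ⟨r₂, hr₂, er₂⟩ := hm (u⁻¹ * aeval α r)
  let line : k[X] → k[X] → k[X][X] := fun a b => C (1 - X) * a.map C + C X * b.map C
  have hline : ∀ a b t, (line a b).map (evalRingHom t) = C (1 - t) * a + C t * b := by
    intro a b t
    have : (evalRingHom t).comp C = RingHom.id k := by ext; simp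
    simp [line, Polynomial.map_mul, Polynomial.map_add, Polynomial.map_map, this]
  have f1 := finite_not_good m (line p p₂) (line r r₂) 0 (by simpa [hline] using hg)
  have f2 := finite_not_good m (line p₁ p) (line r₁ r) 1 (by simpa [hline] using hg)
  obtain ⟨t, ht⟩ := (f1.union f2).exists_notMem
  simp only [Set.mem_union, Set.mem_setOf_eq, not_or, not_not, hline] at ht
  obtain ⟨g, hg, c, hc, g0, g1⟩ := col_of_good hu hl m _ _ ⟨fun i hi => by
    simp only [coeff_add, coeff_C_mul, hb.1 i hi, hp₂ i hi.le, mul_zero, add_zero], fun i hi => by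
    simp only [coeff_add, coeff_C_mul, hb.2 i hi, hr₂ i hi, mul_zero, add_zero]⟩ ht.1 1 1 one_ne_zero one_ne_zero
  obtain ⟨g', hg', c', hc', g0', g1'⟩ := col_of_good hu hl m _ _ ⟨fun i hi => by
    simp only [coeff_add, coeff_C_mul, hb.1 i hi, hp₁ i hi.le, mul_zero, add_zero], fun i hi => by
    simp only [coeff_add, coeff_C_mul, hb.2 i hi, hr₁ i hi, mul_zero, add_zero]⟩ ht.2 1 1 one_ne_zero one_ne_zero
  simp only [map_add, map_mul, aeval_C, ep₁, er₁, ep₂, er₂, map_one, one_mul] at g0 g1 g0' g1'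
  have hc0 := (map_ne_zero (algebraMap k K)).2 hc'
  have a0 : g' 0 0 = algebraMap k K (c / c') * u * g 0 0 := by
    rw [map_div₀]; field_simp
    have : u * (u⁻¹ * aeval α p) = aeval α p := by field_simp
    linear_combination g0' - u * g0 - algebraMap k K t * this
  have a1 : g' 1 0 = algebraMap k K (c / c') * u * g 1 0 := by
    rw [map_div₀]; field_simp
    have : u * (u⁻¹ * aeval α r) = aeval α r := by field_simp
    linear_combination g1' - u * g1 - algebraMap k K t * α * this
  have hd := det_eq g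
  refine ⟨g⁻¹ * g', H.mul_mem (H.inv_mem hg) hg', c / c', div_ne_zero hc hc', ?_, ?_⟩ <;>
    rw [mul_apply2, a0, a1, SpecialLinearGroup.SL2_inv_expl] <;> simp
  · linear_combination (algebraMap k K c / algebraMap k K c' * u) * hd
  · ring

theorem conj_up {h : SL(2, K)} (h10 : h 1 0 = 0) (s : K) : h * up s * h⁻¹ = up (h 0 0 ^ 2 * s) := by
  have hd := det_eq h
  rw [h10] at hd
  rw [mul_inv_eq_iff_eq_mul]
  apply ext2 <;> simp only [mul_apply2, up_00, up_01, up_10, up_11, h10]
  · ring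
  · linear_combination (-h 0 0 * s) * hd
  · ring
  · ring

theorem eq_top_of_up (hα : α ≠ 0) (hu : ∀ s, up s ∈ H) (hl : lo α ∈ H) : H = ⊤ := by
  rw [eq_top_iff]
  intro g _
  refine induction_on (P := (· ∈ H)) hu (fun t => ?_) (fun _ _ => H.mul_mem) g
  have hn : up (-α⁻¹) * lo α * up (-α⁻¹) ∈ H := H.mul_mem (H.mul_mem (hu _) hl) (hu _)
  have : lo t = (up (-α⁻¹) * lo α * up (-α⁻¹)) * up (-(α⁻¹ ^ 2 * t)) * (up (-α⁻¹) * lo α * up (-α⁻¹))⁻¹ := by
    rw [eq_mul_inv_iff_mul_eq]
    apply ext2 <;> simp only [mul_apply2, up_00, up_01, up_10, up_11, lo_00, lo_01, lo_10, lo_11] <;>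
      field_simp <;> ring
  rw [this]
  exact H.mul_mem (H.mul_mem hn (hu _)) (H.inv_mem hn)

theorem eq_top_of_infinite [Infinite k] (h2 : (2 : k) ≠ 0) (hα : α ≠ 0) (hi : IsIntegral k α)
    (hK : Algebra.adjoin k {α} = ⊤) (hu : ∀ c : k, up (algebraMap k K c) ∈ H)
    (hl : ∀ c : k, lo (algebraMap k K c * α) ∈ H) : H = ⊤ := by
  have hm : ∀ x : K, ∃ p : k[X], (∀ i, (minpoly k α).natDegree ≤ i → p.coeff i = 0) ∧ aeval α p = x := by
    intro x
    have hx : x ∈ Algebra.adjoin k {α} := hK ▸ Algebra.mem_top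
    rw [Algebra.adjoin_singleton_eq_range_aeval] at hx
    obtain ⟨p, rfl⟩ := hx
    refine ⟨p %ₘ minpoly k α, fun i hi' => coeff_eq_zero_of_degree_lt ?_, ?_⟩
    · refine (degree_modByMonic_lt p (minpoly.monic hi)).trans_le ?_
      rw [degree_eq_natDegree (minpoly.ne_zero hi)]
      exact_mod_cast hi'
    · exact aeval_modByMonic_eq_self_of_root (minpoly.aeval k α)
  have hsq : ∀ (c : k) (u : K), up (algebraMap k K c * u ^ 2) ∈ H := by
    intro c u
    by_cases hu0 : u = 0
    · simp [hu0, up_zero]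
    obtain ⟨h, hh, d, hd, h0, h1⟩ := exists_diag hu hl _ hm hu0
    have := H.mul_mem (H.mul_mem hh (hu (c / d ^ 2))) (H.inv_mem hh)
    rw [conj_up h1, h0] at this
    convert this using 2
    have := (map_ne_zero (algebraMap k K)).2 hd
    rw [map_div₀, map_pow]; field_simp
  refine eq_top_of_up hα (fun s => ?_) (by simpa using hl 1)
  have := H.mul_mem (hsq (1 / 2 ^ 2) (s + 1)) (hsq (-(1 / 2 ^ 2)) (s - 1))
  rw [← up_add] at this
  convert this using 2
  have h2' : (2 : K) ≠ 0 := by
    have := (map_ne_zero (algebraMap k K)).2 h2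
    rwa [map_ofNat] at this
  simp only [map_neg, map_div₀, map_pow, map_one, map_ofNat]
  field_simp
  ring

end inf

section fin
open CL.SL2

theorem trace_sq_mem (L : Subfield K) (c : PGL(2, K)) (h : SL(2, K))
    (hh : SpecialLinearGroup.toPGL h ∈ (pglEmb L c).range) : (h 0 0 + h 1 1) ^ 2 ∈ L := by
  obtain ⟨g, hg⟩ := hh
  induction g using ProjGenLinGroup.induction_on with | mk g =>
  induction c using ProjGenLinGroup.induction_on with | mk c =>
  rw [pglEmb_apply, ProjGenLinGroup.map_mk, ← map_inv, ← map_mul, ← map_mul, eq_comm] at hg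
  obtain ⟨u, hu⟩ := ProjGenLinGroup.mk_eq_mk_iff.1 hg
  have h1 := congrArg (fun x : GL (Fin 2) K => (x : Matrix (Fin 2) (Fin 2) K).trace) hu
  have h2 := congrArg (fun x : GL (Fin 2) K => (x : Matrix (Fin 2) (Fin 2) K).det) hu
  simp only [Units.val_mul, Matrix.trace_units_conj, Matrix.det_units_conj] at h1 h2
  have hd := det_eq h
  simp [Matrix.trace_fin_two, Matrix.det_fin_two, Matrix.mul_apply] at h1 h2
  have hu0 : (u : K) ≠ 0 := u.ne_zero
  have : (h 0 0 + h 1 1) ^ 2 = ((g 0 0 : K) + g 1 1) ^ 2 / ((g 0 0 : K) * g 1 1 - g 0 1 * g 1 0) := by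
    rw [← h1, ← h2]; field_simp
  rw [this]
  exact div_mem (pow_mem (add_mem (g 0 0).2 (g 1 1).2) 2)
    (sub_mem (mul_mem (g 0 0).2 (g 1 1).2) (mul_mem (g 0 1).2 (g 1 0).2))

theorem toPGL_mem_pslEmb (L : Subfield K) (hL : ∀ x, x ∈ L) (c : PGL(2, K)) (g : SL(2, K)) :
    SpecialLinearGroup.toPGL g ∈ (pslEmb L c).range := by
  induction c using ProjGenLinGroup.induction_on with | mk c =>
  let g' : SL(2, K) := ⟨(c⁻¹ : GL (Fin 2) K) * (g : Matrix (Fin 2) (Fin 2) K) * c, by
    rw [Matrix.det_units_conj', g.2]⟩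
  refine ⟨QuotientGroup.mk (SpecialLinearGroup.map ((RingHom.id K).codRestrict L hL) g'), ?_⟩
  rw [pslEmb_apply, ProjectiveSpecialLinearGroup.toPGL_mk, ProjGenLinGroup.map_mk, ← map_inv, ← map_mul, ← map_mul]
  change _ = ProjGenLinGroup.mk (SpecialLinearGroup.toGL g)
  congr 1
  have : GeneralLinearGroup.map L.subtype (SpecialLinearGroup.toGL
      (SpecialLinearGroup.map ((RingHom.id K).codRestrict L hL) g')) = c⁻¹ * SpecialLinearGroup.toGL g * c := by
    ext i j; rfl
  rw [this]; group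

theorem eq_top_of_map_toPGL {H : Subgroup SL(2, K)} (h3 : ∃ c : K, c ≠ 0 ∧ c ^ 2 ≠ 1)
    (h : ∀ g : SL(2, K), SpecialLinearGroup.toPGL g ∈ H.map SpecialLinearGroup.toPGL) : H = ⊤ := by
  obtain ⟨c, hc, hc1⟩ := h3
  rw [eq_top_iff, ← SL2.commutator_eq_top hc hc1, commutator_def, Subgroup.commutator_le]
  have key : ∀ g : SL(2, K), ∃ a ∈ H, ∃ z ∈ Subgroup.center SL(2, K), g = a * z := by
    intro g
    obtain ⟨a, ha, e⟩ := h g
    refine ⟨a, ha, a⁻¹ * g, ?_, by group⟩
    rw [← SpecialLinearGroup.toPGL_ker, MonoidHom.mem_ker, map_mul, map_inv, e, inv_mul_cancel]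
  intro g _ g' _
  obtain ⟨a, ha, z, hz, rfl⟩ := key g
  obtain ⟨a', ha', z', hz', rfl⟩ := key g'
  rw [Subgroup.mem_center_iff] at hz hz'
  have : ⁅a * z, a' * z'⁆ = ⁅a, a'⁆ := by
    rw [commutatorElement_def, commutatorElement_def, mul_assoc a z, ← hz, ← mul_assoc a, _root_.mul_inv_rev,
      ← mul_assoc _ z⁻¹, mul_inv_cancel_right, ← mul_assoc a, mul_assoc _ z', ← hz', ← mul_assoc, _root_.mul_inv_rev,
      ← mul_assoc, mul_inv_cancel_right]
  rw [this, commutatorElement_def]
  exact H.mul_mem (H.mul_mem (H.mul_mem ha ha') (H.inv_mem ha)) (H.inv_mem ha')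

theorem eq_top_of_finite [Finite K] {α : K} {H : Subgroup SL(2, K)} (h2 : (2 : k) ≠ 0)
    (h3 : ∃ c : k, c ≠ 0 ∧ c ^ 2 ≠ 1) (hα : α ≠ 0) (hK : Algebra.adjoin k {α} = ⊤)
    (hu : ∀ c : k, up (algebraMap k K c) ∈ H) (hl : ∀ c : k, lo (algebraMap k K c * α) ∈ H) : H = ⊤ := by
  have : Finite k := Finite.of_injective _ (algebraMap k K).injective
  have := Fintype.ofFinite k
  obtain ⟨p, hpk, n, hp, hcard⟩ := FiniteField.card' k
  have : Fact p.Prime := ⟨hp⟩
  have : CharP K p := charP_of_injective_algebraMap (algebraMap k K).injective p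
  have h2' : (2 : K) ≠ 0 := by
    have := (map_ne_zero (algebraMap k K)).2 h2
    rwa [map_ofNat] at this
  set G := H.map SpecialLinearGroup.toPGL with hG
  have : Finite G := Finite.of_surjective _ (SpecialLinearGroup.toPGL.subgroupMap_surjective H)
  let ψ : Multiplicative k →* G := MonoidHom.mk'
    (fun c => ⟨SpecialLinearGroup.toPGL (up (algebraMap k K c.toAdd)), Subgroup.mem_map_of_mem _ (hu _)⟩)
    (fun a b => Subtype.ext (by simp [up_add]))
  have hψ : Function.Injective ψ := by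
    rw [injective_iff_map_eq_one]
    intro a ha
    have h1 : (ProjGenLinGroup.mk (SpecialLinearGroup.toGL (up (algebraMap k K a.toAdd))) : PGL(2, K)) = 1 :=
      congrArg Subtype.val ha
    have h2 : algebraMap k K a.toAdd = 0 := ((pgl_mk_eq_one_iff _).1 h1).1
    simpa using h2
  have hdvd : p ^ (n : ℕ) ∣ Nat.card G := by
    have := Subgroup.card_dvd_of_injective ψ hψ
    rwa [Nat.card_congr Multiplicative.toAdd, Nat.card_eq_fintype_card, hcard] at this
  have hpG : p ∣ Nat.card G := (dvd_pow_self p n.ne_zero).trans hdvd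
  rcases dickson_pgl p G with ⟨x, hx⟩ | h | ⟨m, hm, ⟨e⟩⟩ | h | ⟨rfl, ⟨e⟩⟩ | ⟨L, c, -, -, h⟩
  · exfalso
    have h1 := hx _ (Subgroup.mem_map_of_mem _ (hu 1))
    have h2 := hx _ (Subgroup.mem_map_of_mem _ (hl 1))
    replace h1 := (sl_smul _ x).trans h1
    replace h2 := (sl_smul _ x).trans h2
    rcases eq_pinf_or_pt x with rfl | ⟨x, rfl⟩
    · rw [sl_smul_pinf_eq_pinf, lo_10] at h2
      simp [hα] at h2
    · rw [sl_smul_pt_eq_pt, up_00, up_01, up_10, up_11] at h1
      simp at h1
  · exact absurd hpG h.2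
  · rw [Nat.card_congr e.toEquiv, DihedralGroup.nat_card] at hpG
    rcases (Nat.Prime.dvd_mul hp).1 hpG with h | h
    · obtain rfl := (Nat.prime_dvd_prime_iff_eq hp Nat.prime_two).1 h
      exact absurd (CharP.cast_eq_zero k 2) h2
    · exact absurd h hm
  · exact absurd hpG h.1
  · exfalso
    have h60 : Nat.card (alternatingGroup (Fin 5)) = 60 := by
      have := two_mul_nat_card_alternatingGroup (α := Fin 5)
      rw [Nat.card_perm, Nat.card_fin] at this
      simp only [Nat.factorial] at this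
      omega
    rw [Nat.card_congr e.toEquiv, h60] at hdvd
    have hn : (n : ℕ) = 1 := by
      by_contra hn
      have := (pow_dvd_pow 3 (show 2 ≤ (n : ℕ) by have := n.pos; omega)).trans hdvd
      omega
    obtain ⟨c, hc, hc1⟩ := h3
    have := FiniteField.pow_card_sub_one_eq_one c hc
    rw [hcard, hn] at this
    exact hc1 this
  · have hle : G ≤ (pglEmb L c).range := by
      rcases h with h | h <;> rw [h]
      rintro _ ⟨g, rfl⟩
      exact ⟨_, rfl⟩
    have hge : (pslEmb L c).range ≤ G := by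
      rcases h with h | h <;> rw [h]
      rintro _ ⟨g, rfl⟩
      exact ⟨_, rfl⟩
    have h1 : ∀ d : k, (2 + algebraMap k K d * α) ^ 2 ∈ L := fun d => by
      convert trace_sq_mem L c _ (hle (Subgroup.mem_map_of_mem _ (H.mul_mem (hu 1) (hl d)))) using 2
      simp only [mul_apply2, up_00, up_01, up_10, up_11, lo_00, lo_01, lo_10, lo_11, map_one]
      ring
    have h4 : ∀ d : k, algebraMap k K d * α ∈ L := fun d => by
      have := L.div_mem (L.sub_mem (h1 d) (h1 (-d))) (L.pow_mem (natCast_mem L 2) 3)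
      convert this using 1
      rw [map_neg]; push_cast; field_simp; ring
    have h5 : α ∈ L := by simpa using h4 1
    have hL : ∀ x, x ∈ L := fun x => by
      have hx : x ∈ Algebra.adjoin k {α} := hK ▸ Algebra.mem_top
      induction hx using Algebra.adjoin_induction with
      | mem x hx => rw [Set.mem_singleton_iff.1 hx]; exact h5
      | algebraMap d => simpa [hα] using L.div_mem (h4 d) h5
      | add _ _ _ _ a b => exact L.add_mem a b
      | mul _ _ _ _ a b => exact L.mul_mem a b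
    obtain ⟨d, hd, hd1⟩ := h3
    refine eq_top_of_map_toPGL ⟨algebraMap k K d, (_root_.map_ne_zero _).2 hd, fun h => hd1 ?_⟩
      fun g => hge (toPGL_mem_pslEmb L hL c g)
    exact (algebraMap k K).injective (by rw [map_pow, h, map_one])

end fin

/-- **Dickson's lemma.** -/
theorem eq_top {α : K} {H : Subgroup SL(2, K)} (h2 : (2 : k) ≠ 0) (h3 : ∃ c : k, c ≠ 0 ∧ c ^ 2 ≠ 1) (hα : α ≠ 0)
    (hi : IsIntegral k α) (hK : Algebra.adjoin k {α} = ⊤) (hu : ∀ c : k, up (algebraMap k K c) ∈ H)
    (hl : ∀ c : k, lo (algebraMap k K c * α) ∈ H) : H = ⊤ := by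
  cases finite_or_infinite k with
  | inr h => exact eq_top_of_infinite h2 hα hi hK hu hl
  | inl h =>
    have : Module.Finite k K := by
      have := hi.fg_adjoin_singleton
      rw [hK] at this
      exact ⟨this⟩
    have : Finite K := Module.finite_of_finite k
    exact eq_top_of_finite h2 h3 hα hK hu hl

end CL.Chev.Dick
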