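/-
Quadratic pairs, part 4: pairs of classes generating a group of class two, and opposite pairs as special rank one
groups.
-/
import Cfsg.Agent.Chev.QuadCls

set_option autoImplicit false
set_option linter.all false

namespace CL.Chev.Quad

open Module LinearMap Cfsg
open scoped commutatorElement

variable {k : Type*} [Field k] {M : Type*} [AddCommGroup M] [Module k M]
variable {G : Subgroup (LinearMap.GeneralLinearGroup k M)}

local notation "GLM" => LinearMap.GeneralLinearGroup k M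

theorem ex_commutator {a b : Module.End k M} (ha : a * a = 0) (hb : b * b = 0) (h1 : a * b * a = 0)
    (h2 : b * a * b = 0) :
    ((ex a ha * ex b hb * (ex a ha)⁻¹ * (ex b hb)⁻¹ : GLM) : Module.End k M) = 1 + (a * b - b * a) := by
  have e1 : ∀ x, a * (b * (a * x)) = 0 := fun x => by rw [← mul_assoc, ← mul_assoc, h1, zero_mul]
  have e1' : a * (b * a) = 0 := by rw [← mul_assoc, h1]
  have e2' : b * (a * b) = 0 := by rw [← mul_assoc, h2]
  have e0 : ∀ x, a * (a * x) = 0 := fun x => by rw [← mul_assoc, ha, zero_mul]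
  simp only [Units.val_mul, ex_val, ex_inv_val, add_mul, mul_add, sub_mul, mul_sub, one_mul, mul_one, mul_assoc,
    ha, hb, e0, e1, e1', e2', mul_zero]
  abel

theorem ex_commute_iff {a b : Module.End k M} (ha : a * a = 0) (hb : b * b = 0) :
    ex a ha * ex b hb = ex b hb * ex a ha ↔ a * b = b * a := by
  rw [Units.ext_iff]
  simp only [Units.val_mul, ex_val, add_mul, mul_add, one_mul, mul_one]
  constructor
  · intro h
    have : a * b - b * a = (1 + a + (b + a * b)) - (1 + b + (a + b * a)) := by abel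
    rw [← sub_eq_zero, this, h, sub_self]
  · intro h; rw [h]; abel

theorem mem_fixedSubmodule {H : Subgroup GLM} {m : M} :
    m ∈ Cfsg.fixedSubmodule H ↔ ∀ g ∈ H, ((g : Module.End k M) - 1) m = 0 := by
  simp [Cfsg.fixedSubmodule, Submodule.mem_iInf]

theorem commutatorSubmodule_le_iff {H : Subgroup GLM} {I : Submodule k M} :
    commutatorSubmodule H ≤ I ↔ ∀ g ∈ H, LinearMap.range ((g : Module.End k M) - 1) ≤ I := by
  simp [commutatorSubmodule]

theorem range_le_commutatorSubmodule {H : Subgroup GLM} {g : GLM} (hg : g ∈ H) :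
    LinearMap.range ((g : Module.End k M) - 1) ≤ commutatorSubmodule H :=
  commutatorSubmodule_le_iff.1 le_rfl g hg

/-- Endomorphisms killing `K`. -/
def killing (K : Submodule k M) : Submodule k (Module.End k M) where
  carrier := {x | K ≤ LinearMap.ker x}
  add_mem' := fun {x y} hx hy m hm => by rw [LinearMap.mem_ker, LinearMap.add_apply, hx hm, hy hm, add_zero]
  zero_mem' := by simp
  smul_mem' := fun c x hx => le_trans hx (LinearMap.ker_le_ker_smul x c)

/-- Endomorphisms with image in `I`. -/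
def landing (I : Submodule k M) : Submodule k (Module.End k M) where
  carrier := {x | LinearMap.range x ≤ I}
  add_mem' := by
    rintro x y hx hy _ ⟨m, rfl⟩
    exact I.add_mem (hx ⟨m, rfl⟩) (hy ⟨m, rfl⟩)
  zero_mem' := by simp
  smul_mem' := fun c x hx => le_trans (LinearMap.range_smul_le_range x c) hx

theorem killing_mul (K : Submodule k M) : killing K * killing K ≤ killing K :=
  Submodule.mul_le.2 fun x _ y hy => le_trans hy (ker_le_ker_mul x y)

theorem landing_mul (I : Submodule k M) : landing I * landing I ≤ landing I :=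
  Submodule.mul_le.2 fun x hx y _ => le_trans (range_mul_le x y) hx

theorem fixedSubmodule_sup (H K : Subgroup GLM) :
    Cfsg.fixedSubmodule (H ⊔ K) = Cfsg.fixedSubmodule H ⊓ Cfsg.fixedSubmodule K := by
  apply le_antisymm
  · intro m hm
    rw [mem_fixedSubmodule] at hm
    exact ⟨mem_fixedSubmodule.2 fun g hg => hm g (Subgroup.mem_sup_left hg),
      mem_fixedSubmodule.2 fun g hg => hm g (Subgroup.mem_sup_right hg)⟩
  · intro m hm
    rw [mem_fixedSubmodule]
    intro g hg
    exact aug_sup_le (killing_mul (Cfsg.fixedSubmodule H ⊓ Cfsg.fixedSubmodule K))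
      (aug_le_iff.2 fun g hg m hm => mem_fixedSubmodule.1 hm.1 g hg)
      (aug_le_iff.2 fun g hg m hm => mem_fixedSubmodule.1 hm.2 g hg) (sub_one_mem_aug hg) hm

theorem commutatorSubmodule_sup (H K : Subgroup GLM) :
    commutatorSubmodule (H ⊔ K) = commutatorSubmodule H ⊔ commutatorSubmodule K := by
  apply le_antisymm
  · rw [commutatorSubmodule_le_iff]
    intro g hg
    exact aug_sup_le (landing_mul (commutatorSubmodule H ⊔ commutatorSubmodule K))
      (aug_le_iff.2 fun g hg => (range_le_commutatorSubmodule hg).trans le_sup_left)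
      (aug_le_iff.2 fun g hg => (range_le_commutatorSubmodule hg).trans le_sup_right) (sub_one_mem_aug hg)
  · exact sup_le (commutatorSubmodule_le_iff.2 fun g hg => range_le_commutatorSubmodule (Subgroup.mem_sup_left hg))
      (commutatorSubmodule_le_iff.2 fun g hg => range_le_commutatorSubmodule (Subgroup.mem_sup_right hg))

theorem fixedSubmodule_clsGrp {a : Module.End k M} (ha : Q0 G a) :
    Cfsg.fixedSubmodule (clsGrp G a) = LinearMap.ker a := by
  ext m
  rw [mem_fixedSubmodule]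
  constructor
  · intro h
    simpa using h _ (ex_mem_clsGrp (self_mem_cls ha))
  · intro h g hg
    exact cls_ker hg h

theorem commutatorSubmodule_clsGrp {a : Module.End k M} (ha : Q0 G a) :
    commutatorSubmodule (clsGrp G a) = LinearMap.range a := by
  apply le_antisymm
  · exact commutatorSubmodule_le_iff.2 fun g hg => cls_range hg
  · simpa using range_le_commutatorSubmodule (ex_mem_clsGrp (self_mem_cls ha))

variable [FiniteDimensional k M]

theorem class_two_range {a b : Module.End k M} (ha : Min G a) (hb : Min G b) (h1 : a * b * a = 0)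
    (h2 : b * a * b = 0) (hc : a * b - b * a ≠ 0) :
    LinearMap.range (a * b - b * a) =
      (LinearMap.range a ⊓ LinearMap.ker b) ⊔ (LinearMap.range b ⊓ LinearMap.ker a) := by
  obtain ⟨-, -, e1, e2, -⟩ := class_two ha hb.q0 h1 h2 hc
  obtain ⟨-, -, e3, -, -⟩ := class_two hb ha.q0 h2 h1 (by rw [← neg_sub]; exact neg_ne_zero.2 hc)
  rw [e2, e1, e3]

theorem class_two_ker_mul {a b : Module.End k M} (ha : Min G a) (hb : Min G b) (h1 : a * b * a = 0)
    (h2 : b * a * b = 0) (hc : a * b - b * a ≠ 0) :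
    LinearMap.ker (a * b) = LinearMap.ker b ⊔ LinearMap.range a := by
  obtain ⟨-, -, e1, -, -⟩ := class_two ha hb.q0 h1 h2 hc
  symm
  refine Submodule.eq_of_le_of_finrank_le (sup_le (ker_le_ker_mul _ _) (mul_eq_zero_iff_range_le.1 h1)) ?_
  have e4 := Submodule.finrank_sup_add_finrank_inf_eq (LinearMap.ker b) (LinearMap.range a)
  rw [inf_comm, ← e1] at e4
  have e5 := rk_add_ker (a * b)
  have e6 := rk_add_ker b
  have e7 := ha.rk_eq hb
  unfold rk at *
  omega

theorem class_two_ker {a b : Module.End k M} (ha : Min G a) (hb : Min G b) (h1 : a * b * a = 0)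
    (h2 : b * a * b = 0) (hc : a * b - b * a ≠ 0) :
    LinearMap.ker (a * b - b * a) =
      (LinearMap.ker b ⊔ LinearMap.range a) ⊓ (LinearMap.ker a ⊔ LinearMap.range b) := by
  rw [← class_two_ker_mul ha hb h1 h2 hc,
    ← class_two_ker_mul hb ha h2 h1 (by rw [← neg_sub]; exact neg_ne_zero.2 hc)]
  obtain ⟨-, hd, -, -, -⟩ := class_two ha hb.q0 h1 h2 hc
  ext m
  simp only [LinearMap.mem_ker, Submodule.mem_inf, LinearMap.sub_apply, sub_eq_zero]
  constructor
  · intro h
    have := Submodule.disjoint_def.1 hd ((a * b) m) ⟨m, rfl⟩ ⟨m, h.symm⟩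
    exact ⟨this, h ▸ this⟩
  · rintro ⟨h, h'⟩; rw [h, h']

section two
variable (H : Hyp k) {a b : Module.End k M} (ha : Min G a) (hb : Min G b) (h : ¬ Opp a b)
include H ha hb h

theorem comm_ne_zero_of_mem (hc : a * b - b * a ≠ 0) {a' b' : Module.End k M} (ha' : a' ∈ cls G a) (ha0 : a' ≠ 0)
    (hb' : b' ∈ cls G b) (hb0 : b' ≠ 0) : a' * b' - b' * a' ≠ 0 := by
  have h' : ¬ Opp b a := fun x => h x.symm
  have sa := self_mem_cls ha.q0
  have sb := self_mem_cls hb.q0
  obtain ⟨-, hd, e1, -, e2⟩ := class_two ha hb.q0 (triple_zero H ha hb h sa sa sb) (triple_zero H hb ha h' sb sb sa) hc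
  obtain ⟨-, -, e3, -, e4⟩ := class_two hb ha.q0 (triple_zero H hb ha h' sb sb sa) (triple_zero H ha hb h sa sa sb)
    (by rw [← neg_sub]; exact neg_ne_zero.2 hc)
  have key : ∀ {a b a' b' : Module.End k M}, Min G a → Min G b → ¬ Opp a b → a' ∈ cls G a → a' ≠ 0 →
      b' ∈ cls G b → b' ≠ 0 → LinearMap.range (b * a) = LinearMap.range b ⊓ LinearMap.ker a →
      LinearMap.range (b' * a') = LinearMap.range (b * a) := by
    intro a b a' b' ha hb h ha' ha0 hb' hb0 e3
    refine Submodule.eq_of_le_of_finrank_le ?_ ?_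
    · rw [e3]
      refine le_inf ((range_mul_le _ _).trans (cls_range hb')) (mul_eq_zero_iff_range_le.1 ?_)
      rw [← mul_assoc]; exact triple_zero H ha hb h (self_mem_cls ha.q0) ha' hb'
    · have f1 := rk_mul_add b a
      have f2 := rk_mul_add b' a'
      rw [ha.range_eq_of_mem ha' ha0, hb.ker_eq_of_mem hb' hb0] at f2
      have f3 := ha.rk_eq (ha.of_mem_cls ha' ha0)
      unfold rk at *
      omega
  intro h0
  rw [sub_eq_zero] at h0
  have k1 := key ha hb h ha' ha0 hb' hb0 e3
  have k2 := key hb ha h' hb' hb0 ha' ha0 e1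
  rw [← k1, ← k2, h0, disjoint_self] at hd
  apply hc
  rw [← h0] at k1
  rw [h0] at k2
  rw [LinearMap.range_eq_bot.1 (k2.symm.trans hd), LinearMap.range_eq_bot.1 ((k1.symm.trans (by rw [h0])).trans hd),
    sub_zero]

theorem comm_mem_cls (hc : a * b - b * a ≠ 0) {a' b' : Module.End k M} (ha' : a' ∈ cls G a)
    (hb' : b' ∈ cls G b) : a' * b' - b' * a' ∈ cls G (a * b - b * a) := by
  by_cases ha0 : a' = 0
  · simp [ha0]
  by_cases hb0 : b' = 0
  · simp [hb0]
  have h' : ¬ Opp b a := fun x => h x.symm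
  have sa := self_mem_cls ha.q0
  have sb := self_mem_cls hb.q0
  have hc' := comm_ne_zero_of_mem H ha hb h hc ha' ha0 hb' hb0
  have m1 := ha.of_mem_cls ha' ha0
  have m2 := hb.of_mem_cls hb' hb0
  have t1 := triple_zero H ha hb h ha' ha' hb'
  have t2 := triple_zero H hb ha h' hb' hb' ha'
  have : cls G (a' * b' - b' * a') = cls G (a * b - b * a) := by
    apply cls_congr
    · rw [class_two_range m1 m2 t1 t2 hc', class_two_range ha hb (triple_zero H ha hb h sa sa sb)
        (triple_zero H hb ha h' sb sb sa) hc, ha.range_eq_of_mem ha' ha0, ha.ker_eq_of_mem ha' ha0,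
        hb.range_eq_of_mem hb' hb0, hb.ker_eq_of_mem hb' hb0]
    · rw [class_two_ker m1 m2 t1 t2 hc', class_two_ker ha hb (triple_zero H ha hb h sa sa sb)
        (triple_zero H hb ha h' sb sb sa) hc, ha.range_eq_of_mem ha' ha0, ha.ker_eq_of_mem ha' ha0,
        hb.range_eq_of_mem hb' hb0, hb.ker_eq_of_mem hb' hb0]
  rw [← this]
  exact self_mem_cls (m1.q0.comm m2.q0 t1 t2)

theorem min_comm (hc : a * b - b * a ≠ 0) : Min G (a * b - b * a) :=
  (class_two ha hb.q0 (aba_eq_zero_of_not_opp H ha hb h) (aba_eq_zero_of_not_opp H hb ha fun x => h x.symm) hc).1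

/-- In the class two case `b` is conjugate to the commutator inside any group containing the relevant classes. -/
theorem exists_opp_conj (hc : a * b - b * a ≠ 0) {f : Module.End k M} (hf : Min G f) (hp : Pair (a * b - b * a) f) :
    Opp b f ∨ Opp ((1 + a) * b * (1 - a)) f := by
  by_contra hn
  push Not at hn
  have e1 := aba_eq_zero_of_not_opp H hf hb fun x => hn.1 x.symm
  have e2 := aba_eq_zero_of_not_opp H hf (hb.conj_ex ha.q0) fun x => hn.2 x.symm
  have e3 : (1 + a) * b * (1 - a) = b + (a * b - b * a) := by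
    simp only [add_mul, mul_sub, one_mul, mul_one, aba_eq_zero_of_not_opp H ha hb h]; abel
  rw [e3, mul_add, add_mul, e1, zero_add, hp.fef] at e2
  exact hf.ne e2

theorem finrank_cls_comm (hG : NoUnip G) (hc : a * b - b * a ≠ 0) :
    finrank k (cls G (a * b - b * a)) = finrank k (cls G b) := by
  have hm := min_comm H ha hb h hc
  obtain ⟨f, hf, hp⟩ := exists_pair H hG hm
  rw [hp.opp.finrank_eq H hm hf]
  rcases exists_opp_conj H ha hb h hc hf hp with h1 | h1
  · exact (h1.finrank_eq H hb hf).symm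
  · rw [← h1.finrank_eq H (hb.conj_ex ha.q0) hf]
    have := finrank_cls_conj b ha.q0.ex_mem
    rw [ex_val, ex_inv_val] at this
    exact this

theorem comm_surj (hG : NoUnip G) (hc : a * b - b * a ≠ 0) {a' : Module.End k M} (ha' : a' ∈ cls G a) (ha0 : a' ≠ 0)
    {y : Module.End k M} (hy : y ∈ cls G (a * b - b * a)) : ∃ b' ∈ cls G b, a' * b' - b' * a' = y := by
  let φ : Module.End k M →ₗ[k] Module.End k M := LinearMap.mulLeft k a' - LinearMap.mulRight k a'
  let ψ : cls G b →ₗ[k] cls G (a * b - b * a) := φ.restrict fun x hx => comm_mem_cls H ha hb h hc ha' hx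
  have hinj : Function.Injective ψ := by
    rw [← LinearMap.ker_eq_bot, eq_bot_iff]
    intro x hx
    by_contra h0
    exact comm_ne_zero_of_mem H ha hb h hc ha' ha0 x.2 (fun h1 => h0 (Subtype.ext h1)) (congrArg Subtype.val hx)
  obtain ⟨x, hx⟩ := (LinearMap.injective_iff_surjective_of_finrank_eq_finrank
    (finrank_cls_comm H ha hb h hG hc).symm).1 hinj ⟨y, hy⟩
  exact ⟨x, x.2, congrArg Subtype.val hx⟩

theorem commutator_le_clsGrp (hc : a * b - b * a ≠ 0) : ⁅clsGrp G a, clsGrp G b⁆ ≤ clsGrp G (a * b - b * a) := by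
  rw [Subgroup.commutator_le]
  intro x hx y hy
  obtain ⟨a', ha', rfl⟩ := exists_of_mem_clsGrp hx
  obtain ⟨b', hb', rfl⟩ := exists_of_mem_clsGrp hy
  rw [mem_clsGrp, commutatorElement_def, ex_commutator _ _ (triple_zero H ha hb h ha' ha' hb')
    (triple_zero H hb ha (fun x => h x.symm) hb' hb' ha'), add_sub_cancel_left]
  exact comm_mem_cls H ha hb h hc ha' hb'

theorem exists_commutator_left (hG : NoUnip G) (hc : a * b - b * a ≠ 0) {e : GLM} (he : e ∈ clsGrp G a) (he1 : e ≠ 1)
    {y : GLM} (hy : y ∈ clsGrp G (a * b - b * a)) : ∃ f ∈ clsGrp G b, e * f * e⁻¹ * f⁻¹ = y := by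
  obtain ⟨a', ha', rfl⟩ := exists_of_mem_clsGrp he
  obtain ⟨b', hb', h1⟩ := comm_surj H ha hb h hG hc ha' (fun h0 => he1 ((ex_eq_one _).2 h0)) hy
  refine ⟨_, ex_mem_clsGrp hb', Units.ext ?_⟩
  rw [ex_commutator _ _ (triple_zero H ha hb h ha' ha' hb') (triple_zero H hb ha (fun x => h x.symm) hb' hb' ha'),
    h1]; simp

theorem commutator_eq_clsGrp (hG : NoUnip G) (hc : a * b - b * a ≠ 0) :
    ⁅clsGrp G a, clsGrp G b⁆ = clsGrp G (a * b - b * a) := by
  refine le_antisymm (commutator_le_clsGrp H ha hb h hc) fun y hy => ?_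
  obtain ⟨f, hf, rfl⟩ := exists_commutator_left H ha hb h hG hc (ex_mem_clsGrp (self_mem_cls ha.q0))
    (fun h0 => ha.ne ((ex_eq_one _).1 h0)) hy
  exact Subgroup.commutator_mem_commutator (ex_mem_clsGrp (self_mem_cls ha.q0)) hf

theorem closure_commutator_left (hG : NoUnip G) (hc : a * b - b * a ≠ 0) {e : GLM} (he : e ∈ clsGrp G a)
    (he1 : e ≠ 1) : Subgroup.closure ((fun f : GLM => e * f * e⁻¹ * f⁻¹) '' (clsGrp G b : Set GLM)) =
      ⁅clsGrp G a, clsGrp G b⁆ := by
  apply le_antisymm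
  · rw [Subgroup.closure_le]
    rintro _ ⟨f, hf, rfl⟩
    exact Subgroup.commutator_mem_commutator he hf
  · rw [commutator_eq_clsGrp H ha hb h hG hc]
    intro y hy
    obtain ⟨f, hf, rfl⟩ := exists_commutator_left H ha hb h hG hc he he1 hy
    exact Subgroup.subset_closure ⟨f, hf, rfl⟩

theorem closure_commutator_right (hG : NoUnip G) (hc : a * b - b * a ≠ 0) {f : GLM} (hf : f ∈ clsGrp G b)
    (hf1 : f ≠ 1) : Subgroup.closure ((fun e : GLM => e * f * e⁻¹ * f⁻¹) '' (clsGrp G a : Set GLM)) =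
      ⁅clsGrp G a, clsGrp G b⁆ := by
  apply le_antisymm
  · rw [Subgroup.closure_le]
    rintro _ ⟨e, he, rfl⟩
    exact Subgroup.commutator_mem_commutator he hf
  · rw [Subgroup.commutator_comm, ← closure_commutator_left H hb ha (fun x => h x.symm) hG
      (by rw [← neg_sub]; exact neg_ne_zero.2 hc) hf hf1, Subgroup.closure_le]
    rintro _ ⟨e, he, rfl⟩
    have : f * e * f⁻¹ * e⁻¹ = (e * f * e⁻¹ * f⁻¹)⁻¹ := by group
    change f * e * f⁻¹ * e⁻¹ ∈ _
    rw [this]
    exact Subgroup.inv_mem _ (Subgroup.subset_closure ⟨e, he, rfl⟩)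

theorem aug_sup_core (hc : a * b - b * a ≠ 0) {x : Module.End k M} (hx : x ∈ aug (clsGrp G a ⊔ clsGrp G b)) :
    LinearMap.range x ≤ LinearMap.ker (a * b - b * a) ∧ LinearMap.range (a * b - b * a) ≤ LinearMap.ker x ∧
      ∀ m ∈ LinearMap.ker (a * b - b * a), x m ∈ LinearMap.range (a * b - b * a) := by
  set c := a * b - b * a with hcdef
  let T : Submodule k (Module.End k M) :=
    landing (LinearMap.ker c) ⊓ killing (LinearMap.range c) ⊓
      (LinearMap.ker c).compatibleMaps (LinearMap.range c)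
  have hT : T * T ≤ T := by
    rw [Submodule.mul_le]
    rintro x ⟨⟨hx1, hx2⟩, hx3⟩ y ⟨⟨hy1, hy2⟩, hy3⟩
    refine ⟨⟨le_trans (range_mul_le x y) hx1, le_trans hy2 (ker_le_ker_mul x y)⟩, fun m hm => ?_⟩
    have : x (y m) = 0 := hx2 (hy3 hm)
    change x (y m) ∈ LinearMap.range c
    rw [this]; exact Submodule.zero_mem _
  have h' : ¬ Opp b a := fun x => h x.symm
  have sa := self_mem_cls ha.q0
  have sb := self_mem_cls hb.q0
  have hr := class_two_range ha hb (triple_zero H ha hb h sa sa sb) (triple_zero H hb ha h' sb sb sa) hc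
  have hk := class_two_ker ha hb (triple_zero H ha hb h sa sa sb) (triple_zero H hb ha h' sb sb sa) hc
  rw [← hcdef] at hr hk
  have key : ∀ {a b : Module.End k M}, Min G a → Min G b → ¬ Opp a b →
      LinearMap.range c = (LinearMap.range a ⊓ LinearMap.ker b) ⊔ (LinearMap.range b ⊓ LinearMap.ker a) →
      LinearMap.ker c = (LinearMap.ker b ⊔ LinearMap.range a) ⊓ (LinearMap.ker a ⊔ LinearMap.range b) →
      cls G a ≤ T := by
    intro a b ha hb h hr hk x hx
    have haa := mul_eq_zero_iff_range_le.1 ha.sq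
    refine ⟨⟨?_, ?_⟩, fun m hm => ?_⟩
    · change LinearMap.range x ≤ LinearMap.ker c
      rw [hk]
      exact (cls_range hx).trans (le_inf le_sup_right (haa.trans le_sup_left))
    · change LinearMap.range c ≤ LinearMap.ker x
      rw [hr]
      exact (sup_le (inf_le_left.trans haa) inf_le_right).trans (cls_ker hx)
    · rw [hk] at hm
      obtain ⟨m1, h1, _, ⟨m2, rfl⟩, rfl⟩ := Submodule.mem_sup.1 hm.2
      rw [Submodule.mem_comap, hr, map_add, cls_ker hx h1, zero_add]
      refine Submodule.mem_sup_left ⟨cls_range hx ⟨_, rfl⟩, ?_⟩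
      exact LinearMap.congr_fun (triple_zero H hb ha (fun x => h x.symm) (self_mem_cls hb.q0)
        (self_mem_cls hb.q0) hx) m2
  obtain ⟨⟨h1, h2⟩, h3⟩ := aug_sup_le hT ((aug_clsGrp_le a).trans (key ha hb h hr hk))
    ((aug_clsGrp_le b).trans (key hb ha h' (by rw [hr, sup_comm]) (by rw [hk, inf_comm]))) hx
  exact ⟨h1, h2, fun m hm => h3 hm⟩

theorem sup_commute_clsGrp_comm (hc : a * b - b * a ≠ 0) {g y : GLM} (hg : g ∈ clsGrp G a ⊔ clsGrp G b)
    (hy : y ∈ clsGrp G (a * b - b * a)) : y * g = g * y := by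
  obtain ⟨h1, h2, -⟩ := aug_sup_core H ha hb h hc (sub_one_mem_aug hg)
  have e1 := mul_eq_zero_iff_range_le.2 (h1.trans (cls_ker hy))
  have e2 := mul_eq_zero_iff_range_le.2 ((cls_range hy).trans h2)
  apply Units.ext
  rw [Units.val_mul, Units.val_mul, ← sub_eq_zero]
  have : (y : Module.End k M) * g - g * y = ((y : Module.End k M) - 1) * ((g : Module.End k M) - 1) -
      ((g : Module.End k M) - 1) * ((y : Module.End k M) - 1) := by noncomm_ring
  rw [this, e1, e2, sub_zero]

theorem sup_subset_core (hc : a * b - b * a ≠ 0) :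
    ((clsGrp G a ⊔ clsGrp G b : Subgroup GLM) : Set GLM) ⊆ quadraticUnipotentCore G (clsGrp G (a * b - b * a)) := by
  intro g hg
  have hm := min_comm H ha hb h hc
  obtain ⟨h1, h2, h3⟩ := aug_sup_core H ha hb h hc (sub_one_mem_aug hg)
  refine ⟨sup_le (clsGrp_le a) (clsGrp_le b) hg, ?_, ?_⟩
  · apply Subgroup.centralizer_le_normalizer
    intro y hy
    exact sup_commute_clsGrp_comm H ha hb h hc hg hy
  · rw [fixedSubmodule_clsGrp hm.q0, commutatorSubmodule_clsGrp hm.q0]
    refine ⟨fun m => h1 ⟨m, rfl⟩, fun m hm => h3 m hm, fun m hm => ?_⟩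
    have := h2 hm
    rwa [LinearMap.mem_ker, LinearMap.sub_apply, sub_eq_zero] at this

theorem commutator_eq_bot_of_comm (hc : a * b = b * a) : ⁅clsGrp G a, clsGrp G b⁆ = ⊥ := by
  rw [Subgroup.commutator_eq_bot_iff_le_centralizer]
  intro x hx y hy
  obtain ⟨a', ha', rfl⟩ := exists_of_mem_clsGrp hx
  obtain ⟨b', hb', rfl⟩ := exists_of_mem_clsGrp hy
  rw [ex_commute_iff]
  by_contra hne
  have ha0 : a' ≠ 0 := by rintro rfl; simp at hne
  have hb0 : b' ≠ 0 := by rintro rfl; simp at hne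
  have m1 := ha.of_mem_cls ha' ha0
  have m2 := hb.of_mem_cls hb' hb0
  refine comm_ne_zero_of_mem H m1 m2 (by rwa [opp_of_mem_iff ha hb ha' ha0 hb' hb0])
    (sub_ne_zero.2 (Ne.symm hne)) (a' := a) (b' := b) ?_ ha.ne ?_ hb.ne (sub_eq_zero.2 hc)
  · rw [ha.cls_eq ha' ha0]; exact self_mem_cls ha.q0
  · rw [hb.cls_eq hb' hb0]; exact self_mem_cls hb.q0

end two

theorem not_opp_of_comm {a b : Module.End k M} (ha : Min G a) (hc : a * b = b * a) : ¬ Opp a b := fun h =>
  h.aba_ne ha.ne (by rw [hc, mul_assoc, ha.sq, mul_zero])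

theorem comm_of_conj_mem (H : Hyp k) {x y : Module.End k M} (hx : Min G x) (hy : Min G y)
    (h : (1 + x) * y * (1 - x) ∈ cls G y) : x * y = y * x := by
  have h1 : y * x * y = 0 := by
    have := cls_mul (self_mem_cls hy.q0) h
    have h2 := congrArg (· * (1 + x)) this
    simpa [mul_add, add_mul, mul_sub, sub_mul, mul_assoc, hy.sq, hy.q0.sq', hx.sq] using h2
  have h2 : x * y * x = 0 := aba_eq_zero_of_not_opp H hx hy fun ho => ho.symm.aba_ne hy.ne h1
  have e3 : (1 + x) * y * (1 - x) = y + (x * y - y * x) := by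
    simp only [add_mul, mul_sub, one_mul, mul_one, h2]; abel
  rw [e3] at h
  have hc := (Submodule.add_mem_iff_right _ (self_mem_cls hy.q0)).1 h
  by_contra hne
  have hne' := sub_ne_zero.2 hne
  apply hne
  rw [mul_eq_zero_of_range_le (hy.range_eq_of_mem hc hne').ge (x := x)
      (by rw [mul_sub, ← mul_assoc, ← mul_assoc, hx.sq, h2]; simp),
    mul_eq_zero_of_ker_le (hy.ker_eq_of_mem hc hne').le (x := x)
      (by rw [sub_mul, h2, mul_assoc, hx.sq]; simp)]

theorem commutator_eq_bot_of_mem (H : Hyp k) {a b a' b' : Module.End k M} (ha : Min G a) (hb : Min G b)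
    (ha' : a' ∈ cls G a) (ha0 : a' ≠ 0) (hb' : b' ∈ cls G b) (hb0 : b' ≠ 0) (hc : a' * b' = b' * a') :
    ⁅clsGrp G a, clsGrp G b⁆ = ⊥ := by
  rw [← ha.clsGrp_eq ha' ha0, ← hb.clsGrp_eq hb' hb0]
  exact commutator_eq_bot_of_comm H (ha.of_mem_cls ha' ha0) (hb.of_mem_cls hb' hb0)
    (not_opp_of_comm (ha.of_mem_cls ha' ha0) hc) hc

theorem comm_of_commutator_eq_bot {a b : Module.End k M} (ha : Q0 G a) (hb : Q0 G b)
    (h : ⁅clsGrp G a, clsGrp G b⁆ = ⊥) : a * b = b * a := by
  rw [Subgroup.commutator_eq_bot_iff_le_centralizer] at h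
  have := h (ex_mem_clsGrp (self_mem_cls ha)) _ (ex_mem_clsGrp (self_mem_cls hb))
  rw [ex_commute_iff] at this
  exact this.symm

/-- Conditional form of S5073. -/
theorem commute_criterion (H : Hyp k) {E F : Subgroup GLM} (hE : E ∈ quadraticRootSubgroups G)
    (hF : F ∈ quadraticRootSubgroups G)
    (h : (∃ e ∈ E, e ≠ 1 ∧ ∃ f ∈ F, f ≠ 1 ∧ e * f = f * e) ∨ E ⊓ Subgroup.normalizer (F : Set GLM) ≠ ⊥) :
    ⁅E, F⁆ = ⊥ := by
  obtain ⟨a, ha, rfl⟩ := mem_quadraticRootSubgroups.1 hE
  obtain ⟨b, hb, rfl⟩ := mem_quadraticRootSubgroups.1 hF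
  rcases h with ⟨e, he, he1, f, hf, hf1, hef⟩ | h
  · obtain ⟨a', ha', rfl⟩ := exists_of_mem_clsGrp he
    obtain ⟨b', hb', rfl⟩ := exists_of_mem_clsGrp hf
    exact commutator_eq_bot_of_mem H ha hb ha' (fun h0 => he1 ((ex_eq_one _).2 h0)) hb'
      (fun h0 => hf1 ((ex_eq_one _).2 h0)) ((ex_commute_iff _ _).1 hef)
  · obtain ⟨⟨e, he, hn⟩, he1⟩ := (Subgroup.ne_bot_iff_exists_ne_one).1 h
    obtain ⟨a', ha', rfl⟩ := exists_of_mem_clsGrp he
    have ha0 : a' ≠ 0 := fun h0 => he1 (Subtype.ext ((ex_eq_one (cls_q0 ha').sq).2 h0))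
    have := (Subgroup.mem_normalizer_iff.1 hn _).1 (ex_mem_clsGrp (self_mem_cls hb.q0))
    rw [mem_clsGrp] at this
    refine commutator_eq_bot_of_mem H ha hb ha' ha0 (self_mem_cls hb.q0) hb.ne
      (comm_of_conj_mem H (ha.of_mem_cls ha' ha0) hb ?_)
    convert this using 1
    simp only [Units.val_mul, ex_val, ex_inv_val, add_mul, mul_add, mul_sub, one_mul, mul_one, (cls_q0 ha').sq]
    abel

end CL.Chev.Quad
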