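/-
Quadratic pairs, part 5: opposite classes generate special rank one groups; homomorphisms from `SL₂`.
-/
import Cfsg.Agent.Chev.QuadTwo

set_option autoImplicit false
set_option linter.all false

namespace CL.Chev.Quad

open Module LinearMap Cfsg
open scoped commutatorElement MatrixGroups

variable {k : Type*} [Field k] {M : Type*} [AddCommGroup M] [Module k M]
variable {G : Subgroup (LinearMap.GeneralLinearGroup k M)}

local notation "GLM" => LinearMap.GeneralLinearGroup k M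

theorem conjBy_mul {Γ : Type*} [Group Γ] (A : Subgroup Γ) (g h : Γ) : conjBy A (g * h) = conjBy (conjBy A h) g := by
  ext x; simp only [mem_conjBy, mul_inv_rev, mul_assoc]

theorem conjBy_one {Γ : Type*} [Group Γ] (A : Subgroup Γ) : conjBy A 1 = A := by
  ext x; simp [mem_conjBy]

theorem conjBy_eq_of_commute {Γ : Type*} [Group Γ] {A : Subgroup Γ} {g : Γ} (h : ∀ x ∈ A, x * g = g * x) :
    conjBy A g = A := by
  ext x
  rw [mem_conjBy]
  constructor
  · intro hx
    have := h _ hx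
    have e : x = g⁻¹ * x * g := by
      have h2 : g * (g⁻¹ * x * g) = x * g := by group
      rw [h2] at this
      exact (mul_right_cancel this).symm
    rw [e]; exact hx
  · intro hx
    rw [mul_assoc, h x hx]; simpa using hx

theorem commutator_sup_eq_bot {Γ : Type*} [Group Γ] {E F : Subgroup Γ} (hE : IsMulCommutative E)
    (hF : IsMulCommutative F) (h : ⁅E, F⁆ = ⊥) : ⁅E ⊔ F, E ⊔ F⁆ = ⊥ := by
  have h' : ⁅F, E⁆ = ⊥ := by rwa [Subgroup.commutator_comm]
  rw [Subgroup.commutator_eq_bot_iff_le_centralizer] at h h' ⊢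
  have hE' : E ≤ Subgroup.centralizer (E : Set Γ) := Subgroup.le_centralizer E
  have hF' : F ≤ Subgroup.centralizer (F : Set Γ) := Subgroup.le_centralizer F
  refine sup_le ?_ ?_ <;> rw [Subgroup.le_centralizer_iff]
  · exact sup_le hE' h'
  · exact sup_le h hF'

theorem class_two_of_triple {X : Subgroup GLM} (h : ∀ x ∈ aug X, ∀ y ∈ aug X, ∀ z ∈ aug X, x * y * z = 0) :
    ⁅⁅X, X⁆, X⁆ = ⊥ := by
  let Z : Subgroup GLM :=
    { carrier := {g | ∀ z ∈ aug X, (g : Module.End k M) * z = z ∧ z * (g : Module.End k M) = z}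
      mul_mem' := fun {g g'} hg hg' z hz => by
        rw [Units.val_mul, mul_assoc, (hg' z hz).1, ← mul_assoc, (hg z hz).2]
        exact ⟨(hg z hz).1, (hg' z hz).2⟩
      one_mem' := fun z hz => by simp
      inv_mem' := fun {g} hg z hz => by
        constructor
        · conv_lhs => rw [← (hg z hz).1]
          simp
        · conv_lhs => rw [← (hg z hz).2]
          simp }
  have hmul : ∀ g ∈ X, ∀ z ∈ aug X, (g : Module.End k M) * z ∈ aug X := fun g hg z hz => by
    have : (g : Module.End k M) * z = ((g : Module.End k M) - 1) * z + z := by rw [sub_mul]; simp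
    rw [this]
    exact Submodule.add_mem _ (aug_mul_le X (Submodule.mul_mem_mul (sub_one_mem_aug hg) hz)) hz
  have hZ : ⁅X, X⁆ ≤ Z := by
    rw [Subgroup.commutator_le]
    intro g hg g' hg' z hz
    have e : (g : Module.End k M) * g' - g' * g = ((g : Module.End k M) - 1) * ((g' : Module.End k M) - 1) -
        ((g' : Module.End k M) - 1) * ((g : Module.End k M) - 1) := by noncomm_ring
    have a1 := sub_one_mem_aug hg
    have a2 := sub_one_mem_aug hg'
    rw [commutatorElement_def]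
    constructor
    · have hz' := hmul _ (X.inv_mem hg) _ (hmul _ (X.inv_mem hg') z hz)
      have : ((g : Module.End k M) * g' - g' * g) *
          (((g⁻¹ : GLM) : Module.End k M) * (((g'⁻¹ : GLM) : Module.End k M) * z)) = 0 := by
        rw [e, sub_mul, h _ a1 _ a2 _ hz', h _ a2 _ a1 _ hz', sub_zero]
      rw [sub_mul, sub_eq_zero] at this
      simp only [Units.val_mul, mul_assoc] at this ⊢
      rw [this]; simp
    · have : z * ((g : Module.End k M) * g' - g' * g) = 0 := by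
        rw [e, mul_sub, ← mul_assoc, ← mul_assoc, h _ hz _ a1 _ a2, h _ hz _ a2 _ a1, sub_zero]
      rw [mul_sub, sub_eq_zero, ← mul_assoc, ← mul_assoc] at this
      simp only [Units.val_mul, ← mul_assoc]
      rw [this]; simp
  rw [Subgroup.commutator_eq_bot_iff_le_centralizer]
  intro w hw x hx
  obtain ⟨h1, h2⟩ := hZ hw _ (sub_one_mem_aug hx)
  apply Units.ext
  rw [mul_sub, mul_one] at h1
  rw [sub_mul, one_mul] at h2
  rw [Units.val_mul, Units.val_mul, sub_eq_iff_eq_add.1 h1, sub_eq_iff_eq_add.1 h2]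

theorem Pair.not_class_two {e f : Module.End k M} (h : Pair e f) (he0 : e ≠ 0) {X : Subgroup GLM}
    (he : ex e h.ee ∈ X) (hf : ex f h.ff ∈ X) : ⁅⁅X, X⁆, X⁆ ≠ ⊥ := by
  intro h0
  rw [Subgroup.commutator_eq_bot_iff_le_centralizer] at h0
  have h1 := congrArg (fun g : GLM => (g : Module.End k M) * e)
    (h0 (Subgroup.commutator_mem_commutator he hf) _ he)
  simp only [commutatorElement_def, Units.val_mul, ex_val, ex_inv_val, add_mul, mul_add, sub_mul, mul_sub,
    one_mul, mul_one, mul_assoc, h.ee, h.ff, h.ee', h.ff', h.efe', h.fef', h.efe₀, h.fef₀, mul_zero, zero_mul] at h1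
  apply he0
  rw [← sub_eq_zero] at h1
  rw [← h1]; abel

/-- A system of scalars for an `sl₂`-pair. -/
structure Scal {K : Type*} [Field K] (ι : K → Module.End k M) (e f : Module.End k M) : Prop where
  add : ∀ x y, ι (x + y) = ι x + ι y
  mul : ∀ x y, ι (x * y) = ι x * ι y
  one_e : ι 1 * e = e
  one_f : ι 1 * f = f
  ce : ∀ x, e * ι x = ι x * e
  cf : ∀ x, f * ι x = ι x * f

section sl2
variable {K : Type*} [Field K] {ι : K → Module.End k M} {e f : Module.End k M}

theorem Scal.zero (s : Scal ι e f) : ι 0 = 0 := by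
  have := s.add 0 0
  rw [add_zero] at this
  exact left_eq_add.1 this

theorem Scal.eq_zero (s : Scal ι e f) (he : e ≠ 0) {x : K} (hx : ι x * e = 0) : x = 0 := by
  by_contra h0
  apply he
  rw [← s.one_e, ← inv_mul_cancel₀ h0, s.mul, mul_assoc, hx, mul_zero]

theorem Scal.symm (s : Scal ι e f) : Scal ι f e := ⟨s.add, s.mul, s.one_f, s.one_e, s.cf, s.ce⟩

theorem Scal.sub (s : Scal ι e f) (x y : K) : ι (x - y) = ι x - ι y := by
  rw [eq_sub_iff_add_eq, ← s.add, sub_add_cancel]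

/-- The homomorphism `SL₂(K) → End M` attached to a pair with scalars. -/
noncomputable def sl2End (h : Pair e f) (s : Scal ι e f) : SL(2, K) →* Module.End k M where
  toFun A := 1 - e * f - f * e + ι (A 0 0) * (e * f) + ι (A 0 1) * e + ι (A 1 0) * f + ι (A 1 1) * (f * e)
  map_one' := by
    simp only [Matrix.SpecialLinearGroup.coe_one, Matrix.one_apply_eq, Matrix.one_apply_ne zero_ne_one,
      Matrix.one_apply_ne one_ne_zero, s.zero, ← mul_assoc, s.one_e, s.one_f, zero_mul]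
    abel
  map_mul' A B := by
    have ce' : ∀ x w, e * (ι x * w) = ι x * (e * w) := fun x w => by rw [← mul_assoc, s.ce, mul_assoc]
    have cf' : ∀ x w, f * (ι x * w) = ι x * (f * w) := fun x w => by rw [← mul_assoc, s.cf, mul_assoc]
    simp only [Matrix.SpecialLinearGroup.coe_mul, Matrix.mul_apply, Fin.sum_univ_two, s.add, s.mul, add_mul, mul_add,
      sub_mul, mul_sub, one_mul, mul_one, mul_assoc, h.ee, h.ff, h.ee', h.ff', h.efe', h.fef', h.efe₀, h.fef₀,
      mul_zero, zero_mul, ce', cf']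
    abel

/-- The homomorphism `SL₂(K) → GL M` attached to a pair with scalars. -/
noncomputable def sl2Hom (h : Pair e f) (s : Scal ι e f) : SL(2, K) →* GLM := (sl2End h s).toHomUnits

theorem sl2Hom_val (h : Pair e f) (s : Scal ι e f) (A : SL(2, K)) :
    ((sl2Hom h s A : GLM) : Module.End k M) =
      1 - e * f - f * e + ι (A 0 0) * (e * f) + ι (A 0 1) * e + ι (A 1 0) * f + ι (A 1 1) * (f * e) := rfl

theorem sl2Hom_upper (h : Pair e f) (s : Scal ι e f) {A : SL(2, K)} (h1 : A 1 0 = 0) (h2 : A 0 0 = 1)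
    (h3 : A 1 1 = 1) : ((sl2Hom h s A : GLM) : Module.End k M) = 1 + ι (A 0 1) * e := by
  rw [sl2Hom_val, h1, h2, h3, s.zero, ← mul_assoc, ← mul_assoc, s.one_e, s.one_f, zero_mul]; abel

theorem sl2Hom_lower (h : Pair e f) (s : Scal ι e f) {A : SL(2, K)} (h1 : A 0 1 = 0) (h2 : A 0 0 = 1)
    (h3 : A 1 1 = 1) : ((sl2Hom h s A : GLM) : Module.End k M) = 1 + ι (A 1 0) * f := by
  rw [sl2Hom_val, h1, h2, h3, s.zero, ← mul_assoc, ← mul_assoc, s.one_e, s.one_f, zero_mul]; abel

theorem sl2Hom_injective (h : Pair e f) (s : Scal ι e f) (he : e ≠ 0) : Function.Injective (sl2Hom h s) := by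
  have hf : f ≠ 0 := fun h0 => he (by rw [← h.efe, h0]; simp)
  rw [injective_iff_map_eq_one]
  intro A hA
  have h0 : ((sl2Hom h s A : GLM) : Module.End k M) = 1 := by rw [hA]; rfl
  rw [sl2Hom_val] at h0
  have ce' : ∀ x w, e * (ι x * w) = ι x * (e * w) := fun x w => by rw [← mul_assoc, s.ce, mul_assoc]
  have cf' : ∀ x w, f * (ι x * w) = ι x * (f * w) := fun x w => by rw [← mul_assoc, s.cf, mul_assoc]
  have e1 := congrArg (fun x => e * x * e) h0
  have e2 := congrArg (fun x => f * x * f) h0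
  have e3 := congrArg (fun x => e * (f * (x * e))) h0
  have e4 := congrArg (fun x => f * (e * (x * f))) h0
  simp only [add_mul, mul_add, sub_mul, mul_sub, one_mul, mul_one, mul_assoc, h.ee, h.ff, h.ee', h.ff', h.efe',
    h.fef', h.efe₀, h.fef₀, mul_zero, zero_mul, ce', cf', sub_zero, add_zero, zero_add, sub_self] at e1 e2 e3 e4
  have f3 : A 0 0 - 1 = 0 := s.eq_zero he (by rw [s.sub, sub_mul, e3, s.one_e, sub_self])
  have f4 : A 1 1 - 1 = 0 := s.symm.eq_zero hf (by rw [s.sub, sub_mul, e4, s.one_f, sub_self])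
  ext i j
  fin_cases i <;> fin_cases j
  · simpa using sub_eq_zero.1 f3
  · simpa using s.symm.eq_zero hf e2
  · simpa using s.eq_zero he e1
  · simpa using sub_eq_zero.1 f4

theorem upper_sup_lower (K : Type*) [Field K] : upperUnipotentSL2 K ⊔ lowerUnipotentSL2 K = ⊤ := by
  rw [eq_top_iff]
  intro A _
  refine Matrix.SL2.transvection_induction (fun A => A ∈ upperUnipotentSL2 K ⊔ lowerUnipotentSL2 K) ?_
    (fun _ _ => Subgroup.mul_mem _) A
  intro i j hij c
  fin_cases i <;> fin_cases j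
  · exact absurd rfl hij
  · exact Subgroup.mem_sup_left (Subgroup.subset_closure (by
      simp [Matrix.SpecialLinearGroup.transvection_coe]))
  · exact Subgroup.mem_sup_right (Subgroup.subset_closure (by
      simp [Matrix.SpecialLinearGroup.transvection_coe]))
  · exact absurd rfl hij

theorem isPSL2PairOver_sl2Hom (h : Pair e f) (s : Scal ι e f) (he : e ≠ 0) :
    IsPSL2PairOver K ((upperUnipotentSL2 K).map (sl2Hom h s)) ((lowerUnipotentSL2 K).map (sl2Hom h s)) := by
  refine ⟨sl2Hom h s, ?_, ?_, rfl, rfl⟩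
  · rw [← Subgroup.map_sup, upper_sup_lower, MonoidHom.range_eq_map]
  · rw [(MonoidHom.ker_eq_bot_iff _).2 (sl2Hom_injective h s he)]; exact bot_le

end sl2

theorem scal_smul (e f : Module.End k M) : Scal (fun c : k => c • (1 : Module.End k M)) e f :=
  ⟨fun x y => add_smul _ _ _, fun x y => by simp [smul_smul, mul_comm], by simp, by simp, by simp, by simp⟩

theorem map_upper_le {e f : Module.End k M} (h : Pair e f) {X : Subgroup GLM}
    (hX : ∀ c : k, ex (c • e) (smul_sq_zero h.ee c) ∈ X) :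
    (upperUnipotentSL2 k).map (sl2Hom h (scal_smul e f)) ≤ X := by
  rw [Subgroup.map_le_iff_le_comap, upperUnipotentSL2, Subgroup.closure_le]
  rintro A ⟨h1, h2, h3⟩
  have : sl2Hom h (scal_smul e f) A = ex (A 0 1 • e) (smul_sq_zero h.ee _) :=
    Units.ext (by rw [sl2Hom_upper h _ h1 h2 h3]; simp)
  change sl2Hom h (scal_smul e f) A ∈ X
  rw [this]; exact hX _

theorem map_lower_le {e f : Module.End k M} (h : Pair e f) {X : Subgroup GLM}
    (hX : ∀ c : k, ex (c • f) (smul_sq_zero h.ff c) ∈ X) :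
    (lowerUnipotentSL2 k).map (sl2Hom h (scal_smul e f)) ≤ X := by
  rw [Subgroup.map_le_iff_le_comap, lowerUnipotentSL2, Subgroup.closure_le]
  rintro A ⟨h1, h2, h3⟩
  have : sl2Hom h (scal_smul e f) A = ex (A 1 0 • f) (smul_sq_zero h.ff _) :=
    Units.ext (by rw [sl2Hom_lower h _ h1 h2 h3]; simp)
  change sl2Hom h (scal_smul e f) A ∈ X
  rw [this]; exact hX _

/-- `1 + e` is in the derived subgroup of any group containing both one-parameter groups of a pair. -/
theorem Pair.ex_mem_commutator (h3 : ∃ c : k, c ≠ 0 ∧ c ^ 2 ≠ 1) {e f : Module.End k M} (h : Pair e f)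
    {X : Subgroup GLM} (hX : ∀ c : k, ex (c • e) (smul_sq_zero h.ee c) ∈ X)
    (hX' : ∀ c : k, ex (c • f) (smul_sq_zero h.ff c) ∈ X) : ex e h.ee ∈ ⁅X, X⁆ := by
  obtain ⟨c, hc, hc1⟩ := h3
  have hle : (⊤ : Subgroup SL(2, k)).map (sl2Hom h (scal_smul e f)) ≤ X := by
    rw [← upper_sup_lower, Subgroup.map_sup]
    exact sup_le (map_upper_le h hX) (map_lower_le h hX')
  apply Subgroup.commutator_mono hle hle
  rw [← Subgroup.map_commutator, ← commutator_def, Matrix.SL2.commutator_eq_top hc hc1]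
  refine ⟨Matrix.SpecialLinearGroup.transvection zero_ne_one 1, Subgroup.mem_top _, Units.ext ?_⟩
  rw [sl2Hom_upper] <;> simp [Matrix.SpecialLinearGroup.transvection_coe]

theorem three_lt_card (h2 : (2 : k) ≠ 0) (h3 : ∃ c : k, c ≠ 0 ∧ c ^ 2 ≠ 1) : 3 < ENat.card k := by
  classical
  obtain ⟨c, hc, hc1⟩ := h3
  have hc2 : c ≠ 1 := fun h => hc1 (by rw [h, one_pow])
  have hc3 : c ≠ -1 := fun h => hc1 (by rw [h]; simp)
  have h11 : (1 : k) ≠ -1 := fun h => h2 (by linear_combination h)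
  have hcard : ({0, 1, -1, c} : Finset k).card = 4 := by
    rw [Finset.card_insert_of_notMem, Finset.card_insert_of_notMem, Finset.card_pair hc3.symm]
    · simp [h11, hc2.symm]
    · simp [hc.symm]
  have h1 : ENat.card ({0, 1, -1, c} : Finset k) ≤ ENat.card k :=
    ENat.card_le_card_of_injective Subtype.val_injective
  rw [ENat.card_eq_coe_fintype_card, Fintype.card_coe, hcard] at h1
  exact lt_of_lt_of_le (by norm_num) h1

theorem two_ne_zero_of_ringChar (hk2 : ringChar k ≠ 2) : (2 : k) ≠ 0 := Ring.two_ne_zero hk2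

theorem exists_sq_ne_one (hk2 : ringChar k ≠ 2) (hk3 : Nat.card k ≠ 3) : ∃ c : k, c ≠ 0 ∧ c ^ 2 ≠ 1 := by
  classical
  by_contra h
  push Not at h
  apply hk3
  have h11 : (1 : k) ≠ -1 := fun h => two_ne_zero_of_ringChar hk2 (by linear_combination h)
  have : (Set.univ : Set k) = {0, 1, -1} := by
    ext c
    by_cases hc : c = 0
    · simp [hc]
    · have := (mul_self_eq_one_iff (a := c)).1 (by rw [← sq]; exact h c hc)
      simp [this]
  rw [← Set.ncard_univ, this, Set.ncard_insert_of_notMem (by simp), Set.ncard_pair h11]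

variable [FiniteDimensional k M]

theorem Pair.conjBy_eq {a b e f : Module.End k M} (h : Pair e f) (ha : Min G a) (hb : Min G b) (he : e ∈ cls G a)
    (he0 : e ≠ 0) (hf : f ∈ cls G b) (hf0 : f ≠ 0) :
    conjBy (clsGrp G a) (ex f h.ff)⁻¹ = conjBy (clsGrp G b) (ex e h.ee)⁻¹ := by
  rw [← ha.clsGrp_eq he he0, ← hb.clsGrp_eq hf hf0, conjBy_clsGrp _ (G.inv_mem (cls_q0 hf).ex_mem),
    conjBy_clsGrp _ (G.inv_mem (cls_q0 he).ex_mem), inv_inv, inv_inv, ex_val, ex_val, ex_inv_val, ex_inv_val,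
    h.conj_ex]
  exact clsGrp_congr (cls_neg _)

theorem Opp.rankOneCondition (H : Hyp k) {a b : Module.End k M} (h : Opp a b) (ha : Min G a) (hb : Min G b) :
    RankOneCondition (clsGrp G a) (clsGrp G b) := by
  intro x hx hx1
  obtain ⟨e, he, rfl⟩ := exists_of_mem_clsGrp hx
  have he0 : e ≠ 0 := fun h0 => hx1 ((ex_eq_one _).2 h0)
  obtain ⟨f, hf, hf0, hp⟩ := (h.of_mem ha hb he he0 (self_mem_cls hb.q0) hb.ne).exists_pair H
    (ha.of_mem_cls he he0) hb
  exact ⟨ex f hp.ff, ex_mem_clsGrp hf, fun h1 => hf0 ((ex_eq_one _).1 h1), hp.conjBy_eq ha hb he he0 hf hf0⟩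

theorem Opp.clsGrp_ne {a b : Module.End k M} (h : Opp a b) (ha : Min G a) : clsGrp G a ≠ clsGrp G b := by
  intro h0
  have := ha.mem_cls_of_clsGrp_eq h0
  exact ha.ne (h.cancel_left le_rfl (mul_eq_zero_iff_range_le.2 (this.2.1.trans inf_le_right)))

theorem Opp.isRankOnePair (H : Hyp k) {a b : Module.End k M} (h : Opp a b) (ha : Min G a) (hb : Min G b) :
    IsRankOnePair (clsGrp G a) (clsGrp G b) := by
  haveI := clsGrp_comm (G := G) a
  haveI := clsGrp_comm (G := G) b
  open scoped IsMulCommutative in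
  exact ⟨h.clsGrp_ne ha, inferInstance, inferInstance, h.rankOneCondition H ha hb, h.symm.rankOneCondition H hb ha⟩

theorem Opp.isSpecial (H : Hyp k) {a b : Module.End k M} (h : Opp a b) (ha : Min G a) (hb : Min G b) :
    IsSpecialRankOnePair (clsGrp G a) (clsGrp G b) := by
  refine ⟨h.isRankOnePair H ha hb, fun x hx hx1 y hy hy1 hxy => ?_⟩
  obtain ⟨e, he, rfl⟩ := exists_of_mem_clsGrp hx
  obtain ⟨f', hf', rfl⟩ := exists_of_mem_clsGrp hy
  have he0 : e ≠ 0 := fun h0 => hx1 ((ex_eq_one _).2 h0)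
  have hme := ha.of_mem_cls he he0
  obtain ⟨f, hf, hf0, hp⟩ := (h.of_mem ha hb he he0 (self_mem_cls hb.q0) hb.ne).exists_pair H hme hb
  have h1 := hp.conjBy_eq ha hb he he0 hf hf0
  have hff : f' = f := by
    by_contra hne
    have hx : f - f' ∈ cls G b := Submodule.sub_mem _ hf hf'
    have hx0 : f - f' ≠ 0 := sub_ne_zero.2 (Ne.symm hne)
    have h2 := conj_mem_conjBy (g := (ex f' (cls_q0 hf').sq)⁻¹) (ex_mem_clsGrp he)
    rw [hxy, ← h1, mem_conjBy, mem_clsGrp, ← ha.cls_eq he he0] at h2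
    refine not_opp_of_comm (hb.of_mem_cls hx hx0) (comm_of_conj_mem H (hb.of_mem_cls hx hx0) hme ?_)
      (h.symm.of_mem hb ha hx hx0 he he0)
    convert h2 using 1
    have e1 := cls_mul hf hf'
    have e2 := cls_mul hf' hf
    have e1' : ∀ x, f * (f' * x) = 0 := fun x => by rw [← mul_assoc, e1, zero_mul]
    simp only [inv_inv, Units.val_mul, ex_val, ex_inv_val, add_mul, mul_add, sub_mul, mul_sub, one_mul, mul_one,
      mul_assoc, e1, e2, e1', hp.ff, (cls_q0 hf').sq, mul_zero, hp.ff', (cls_q0 hf').sq']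
    abel
  subst hff
  apply Units.ext
  have := hp.conj_ex
  simp only [Units.val_mul, ex_val, ex_inv_val, add_mul, mul_add, sub_mul, mul_sub, one_mul, mul_one,
    mul_assoc, hp.ff, hp.ee, hp.efe₀, hp.fef₀]
  abel

theorem opp_of_isRankOnePair (H : Hyp k) {a b : Module.End k M} (ha : Min G a) (hb : Min G b)
    (h : IsRankOnePair (clsGrp G a) (clsGrp G b)) : Opp a b := by
  by_contra hn
  have hn' : ¬ Opp b a := fun x => hn x.symm
  have sa := self_mem_cls ha.q0
  have sb := self_mem_cls hb.q0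
  obtain ⟨y, hy, hy1, hxy⟩ := h.cond_left _ (ex_mem_clsGrp sa) fun h1 => ha.ne ((ex_eq_one _).1 h1)
  obtain ⟨b', hb', rfl⟩ := exists_of_mem_clsGrp hy
  rw [conjBy_clsGrp _ (G.inv_mem (cls_q0 hb').ex_mem), conjBy_clsGrp _ (G.inv_mem ha.q0.ex_mem)] at hxy
  have hm := hb.conj (G.inv_mem ha.q0.ex_mem)
  have h1 := hm.mem_cls_of_clsGrp_eq hxy.symm
  simp only [inv_inv, ex_val, ex_inv_val] at h1
  have t1 := triple_zero H ha hb hn sa sa hb'
  have t2 := triple_zero H ha hb hn sa sa sb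
  have e1 : a * b = 0 := by
    have := mul_eq_zero_of_range_le (x := a) (cls_range h1) (by
      simp only [← mul_assoc, mul_sub, sub_mul, mul_one, ha.sq, t1, sub_zero, zero_mul])
    simpa [← mul_assoc, mul_sub, sub_mul, mul_add, ha.sq, t2] using this
  have e2 : b * a = 0 := by
    have := mul_eq_zero_of_ker_le (x := a) (cls_ker h1) (by
      simp only [mul_assoc, add_mul, one_mul, mul_add, ha.sq, ← mul_assoc a b' a, t1, mul_zero, add_zero])
    simpa [mul_assoc, add_mul, sub_mul, ha.sq, ← mul_assoc a b a, t2] using this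
  have hc := commutator_eq_bot_of_comm H ha hb hn (e1.trans e2.symm)
  apply h.ne
  obtain ⟨y, hy, hy1, hxy⟩ := h.cond_left _ (ex_mem_clsGrp sa) fun h1 => ha.ne ((ex_eq_one _).1 h1)
  rw [Subgroup.commutator_eq_bot_iff_le_centralizer] at hc
  rw [conjBy_eq_of_commute fun x hx => (hc hx _ (Subgroup.inv_mem _ hy)).symm,
    conjBy_eq_of_commute fun x hx => hc (Subgroup.inv_mem _ (ex_mem_clsGrp sa)) x hx] at hxy
  exact hxy

theorem Opp.isCompl (H : Hyp k) {a b : Module.End k M} (h : Opp a b) (ha : Min G a) (hb : Min G b) :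
    IsCompl (LinearMap.ker a ⊓ LinearMap.ker b) (LinearMap.range a ⊔ LinearMap.range b) := by
  obtain ⟨f, hf, hf0, hp⟩ := h.exists_pair H ha hb
  rw [← hb.range_eq_of_mem hf hf0, ← hb.ker_eq_of_mem hf hf0]
  constructor
  · rw [Submodule.disjoint_def]
    rintro m ⟨h1, h2⟩ hm
    obtain ⟨x, hx, y, hy, rfl⟩ := Submodule.mem_sup.1 hm
    have hx' : a x = 0 := mul_eq_zero_iff_range_le.1 hp.ee hx
    have hy' : f y = 0 := mul_eq_zero_iff_range_le.1 hp.ff hy
    have h1' : a (x + y) = 0 := h1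
    have h2' : f (x + y) = 0 := h2
    rw [map_add, hx', zero_add] at h1'
    rw [map_add, hy', add_zero] at h2'
    rw [Submodule.disjoint_def.1 hp.opp.1 x h2' hx, Submodule.disjoint_def.1 hp.opp.2 y h1' hy, add_zero]
  · rw [codisjoint_iff, eq_top_iff]
    intro m _
    have : m = (1 - a * f - f * a) m + (a (f m) + f (a m)) := by simp
    rw [this]
    refine Submodule.add_mem_sup ⟨?_, ?_⟩ (Submodule.add_mem_sup ⟨_, rfl⟩ ⟨_, rfl⟩)
    · change (a * (1 - a * f - f * a)) m = 0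
      rw [mul_sub, mul_sub, hp.ee', hp.efe₀]; simp
    · change (f * (1 - a * f - f * a)) m = 0
      rw [mul_sub, mul_sub, hp.ff', hp.fef₀]; simp

/-- Conditional form of S5065. -/
theorem unipotent_or_special (H : Hyp k) {σ τ : GLM} (hσ : σ ∈ minimalQuadraticElements G)
    (hτ : τ ∈ minimalQuadraticElements G) :
    IsUnipotentOn (sameActionSubgroup G σ ⊔ sameActionSubgroup G τ) ∨
    (IsSpecialRankOnePair (sameActionSubgroup G σ) (sameActionSubgroup G τ) ∧
      (∃! i : GLM, i ∈ sameActionSubgroup G σ ⊔ sameActionSubgroup G τ ∧ i ≠ 1 ∧ i * i = 1 ∧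
        (∀ x ∈ sameActionSubgroup G σ ⊔ sameActionSubgroup G τ, i * x = x * i) ∧
        (∀ m ∈ commutatorSubmodule (sameActionSubgroup G σ ⊔ sameActionSubgroup G τ), (i : M →ₗ[k] M) m = -m) ∧
        (∀ m ∈ Cfsg.fixedSubmodule (sameActionSubgroup G σ ⊔ sameActionSubgroup G τ), (i : M →ₗ[k] M) m = m)) ∧
      IsCompl (Cfsg.fixedSubmodule (sameActionSubgroup G σ ⊔ sameActionSubgroup G τ))
        (commutatorSubmodule (sameActionSubgroup G σ ⊔ sameActionSubgroup G τ))) := by
  rw [sameActionSubgroup_eq hσ, sameActionSubgroup_eq hτ]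
  rw [mem_minimal] at hσ hτ
  generalize (σ : Module.End k M) - 1 = a at hσ
  generalize (τ : Module.End k M) - 1 = b at hτ
  by_cases h : Opp a b
  swap
  · exact Or.inl (unipotent_of_not_opp H hσ hτ h)
  right
  have hfix : Cfsg.fixedSubmodule (clsGrp G a ⊔ clsGrp G b) = LinearMap.ker a ⊓ LinearMap.ker b := by
    rw [fixedSubmodule_sup, fixedSubmodule_clsGrp hσ.q0, fixedSubmodule_clsGrp hτ.q0]
  have hcom : commutatorSubmodule (clsGrp G a ⊔ clsGrp G b) = LinearMap.range a ⊔ LinearMap.range b := by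
    rw [commutatorSubmodule_sup, commutatorSubmodule_clsGrp hσ.q0, commutatorSubmodule_clsGrp hτ.q0]
  have hc := h.isCompl H hσ hτ
  refine ⟨h.isSpecial H hσ hτ, ?_, by rw [hfix, hcom]; exact hc⟩
  obtain ⟨f, hf, hf0, hp⟩ := h.exists_pair H hσ hτ
  have hn := hp.n_mem (X := clsGrp G a ⊔ clsGrp G b) (Subgroup.mem_sup_left (ex_mem_clsGrp (self_mem_cls hσ.q0)))
    (Subgroup.mem_sup_right (ex_mem_clsGrp hf))
  have h1 : ∀ m ∈ LinearMap.range a ⊔ LinearMap.range b, ((hp.n * hp.n : GLM) : Module.End k M) m = -m := by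
    intro m hm
    rw [← hτ.range_eq_of_mem hf hf0] at hm
    obtain ⟨_, ⟨x, rfl⟩, _, ⟨y, rfl⟩, rfl⟩ := Submodule.mem_sup.1 hm
    have e1 : ((hp.n * hp.n : GLM) : Module.End k M) * a = -a := by
      simp only [hp.n_sq, add_mul, sub_mul, one_mul, mul_assoc, hp.ee, hp.efe₀, mul_zero]; abel
    have e2 : ((hp.n * hp.n : GLM) : Module.End k M) * f = -f := by
      simp only [hp.n_sq, add_mul, sub_mul, one_mul, mul_assoc, hp.ff, hp.fef₀, mul_zero]; abel
    rw [map_add, ← Module.End.mul_apply, ← Module.End.mul_apply, e1, e2, neg_add]; rfl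
  have h2 : ∀ m ∈ LinearMap.ker a ⊓ LinearMap.ker b, ((hp.n * hp.n : GLM) : Module.End k M) m = m := by
    intro m hm
    have e1 : a m = 0 := hm.1
    have e2 : f m = 0 := cls_ker hf hm.2
    simp [hp.n_sq, e1, e2]
  have ext' : ∀ x y : Module.End k M, (∀ m ∈ LinearMap.ker a ⊓ LinearMap.ker b, x m = y m) →
      (∀ m ∈ LinearMap.range a ⊔ LinearMap.range b, x m = y m) → x = y := fun x y h1 h2 =>
    LinearMap.ext_on_codisjoint hc.codisjoint h1 h2
  rw [hfix, hcom]
  refine ⟨hp.n * hp.n, ⟨Subgroup.mul_mem _ hn hn, fun h0 => hσ.ne ?_, Units.ext (ext' _ _ ?_ ?_), ?_, h1, h2⟩, ?_⟩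
  · ext m
    have := h1 (a m) (Submodule.mem_sup_left ⟨m, rfl⟩)
    rw [h0, Units.val_one, Module.End.one_apply, eq_neg_iff_add_eq_zero, ← two_smul k] at this
    exact (smul_eq_zero.1 this).resolve_left H.two
  · intro m hm
    rw [Units.val_mul, Module.End.mul_apply, h2 m hm, h2 m hm]; rfl
  · intro m hm
    rw [Units.val_mul, Module.End.mul_apply, h1 m hm, map_neg, h1 m hm, neg_neg]; rfl
  · intro x hx
    have hr : LinearMap.range ((x : Module.End k M) - 1) ≤ LinearMap.range a ⊔ LinearMap.range b :=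
      hcom ▸ range_le_commutatorSubmodule hx
    have hk : ∀ m ∈ LinearMap.ker a ⊓ LinearMap.ker b, (x : Module.End k M) m = m := fun m hm => by
      rw [← hfix, mem_fixedSubmodule] at hm
      simpa [sub_eq_zero] using hm x hx
    refine Units.ext (ext' _ _ (fun m hm => ?_) (fun m hm => ?_))
    · rw [Units.val_mul, Units.val_mul x, Module.End.mul_apply, Module.End.mul_apply, hk m hm, h2 m hm, hk m hm]
    · have : (x : Module.End k M) m ∈ LinearMap.range a ⊔ LinearMap.range b := by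
        have h3 := Submodule.add_mem _ (hr ⟨m, rfl⟩) hm
        simpa using h3
      rw [Units.val_mul, Units.val_mul x, Module.End.mul_apply, Module.End.mul_apply, h1 m hm, h1 _ this, map_neg]
  · rintro i ⟨-, -, -, -, i1, i2⟩
    exact Units.ext (ext' _ _ (fun m hm => by rw [i2 m hm, h2 m hm]) (fun m hm => by rw [i1 m hm, h1 m hm]))

theorem class_two_package (H : Hyp k) (hG : NoUnip G) {a b : Module.End k M} (ha : Min G a) (hb : Min G b)
    (h : ¬ Opp a b) (hc : a * b - b * a ≠ 0) :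
    ⁅clsGrp G a, clsGrp G b⁆ ∈ quadraticRootSubgroups G ∧
    (∀ e ∈ clsGrp G a, e ≠ 1 → Subgroup.closure ((fun f : GLM => e * f * e⁻¹ * f⁻¹) '' (clsGrp G b : Set GLM)) =
      ⁅clsGrp G a, clsGrp G b⁆) ∧
    (∀ f ∈ clsGrp G b, f ≠ 1 → Subgroup.closure ((fun e : GLM => e * f * e⁻¹ * f⁻¹) '' (clsGrp G a : Set GLM)) =
      ⁅clsGrp G a, clsGrp G b⁆) ∧
    ((clsGrp G a ⊔ clsGrp G b : Subgroup GLM) : Set GLM) ⊆ quadraticUnipotentCore G ⁅clsGrp G a, clsGrp G b⁆ := by
  refine ⟨?_, fun e he he1 => closure_commutator_left H ha hb h hG hc he he1,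
    fun f hf hf1 => closure_commutator_right H ha hb h hG hc hf hf1, ?_⟩
  · rw [commutator_eq_clsGrp H ha hb h hG hc]
    exact mem_quadraticRootSubgroups.2 ⟨_, min_comm H ha hb h hc, rfl⟩
  · rw [commutator_eq_clsGrp H ha hb h hG hc]
    exact sup_subset_core H ha hb h hc

/-- Conditional form of S5066. -/
theorem class_two_pairs (H : Hyp k) (hG : NoUnip G) {E F : Subgroup GLM} (hE : E ∈ quadraticRootSubgroups G)
    (hF : F ∈ quadraticRootSubgroups G) (h2 : ⁅E ⊔ F, E ⊔ F⁆ ≠ ⊥ ∧ ⁅⁅E ⊔ F, E ⊔ F⁆, E ⊔ F⁆ = ⊥) :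
    ⁅E, F⁆ ∈ quadraticRootSubgroups G ∧
    (∀ e ∈ E, e ≠ 1 → Subgroup.closure ((fun f : GLM => e * f * e⁻¹ * f⁻¹) '' (F : Set GLM)) = ⁅E, F⁆) ∧
    (∀ f ∈ F, f ≠ 1 → Subgroup.closure ((fun e : GLM => e * f * e⁻¹ * f⁻¹) '' (E : Set GLM)) = ⁅E, F⁆) ∧
    ((E ⊔ F : Subgroup GLM) : Set GLM) ⊆ quadraticUnipotentCore G ⁅E, F⁆ := by
  obtain ⟨a, ha, rfl⟩ := mem_quadraticRootSubgroups.1 hE
  obtain ⟨b, hb, rfl⟩ := mem_quadraticRootSubgroups.1 hF
  have h : ¬ Opp a b := fun h => by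
    obtain ⟨f, hf, hf0, hp⟩ := h.exists_pair H ha hb
    exact hp.not_class_two ha.ne (Subgroup.mem_sup_left (ex_mem_clsGrp (self_mem_cls ha.q0)))
      (Subgroup.mem_sup_right (ex_mem_clsGrp hf)) h2.2
  refine class_two_package H hG ha hb h fun hc => h2.1 ?_
  exact commutator_sup_eq_bot (clsGrp_comm a) (clsGrp_comm b)
    (commutator_eq_bot_of_comm H ha hb h (sub_eq_zero.1 hc))

/-- Conditional form of S5068. -/
theorem unipotent_pairs (H : Hyp k) (hG : NoUnip G) {E F : Subgroup GLM} (hE : E ∈ quadraticRootSubgroups G)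
    (hF : F ∈ quadraticRootSubgroups G) (hu : IsUnipotentOn (E ⊔ F)) :
    ⁅E, F⁆ = ⊥ ∨
    (⁅E, F⁆ ∈ quadraticRootSubgroups G ∧
      (∀ e ∈ E, e ≠ 1 → Subgroup.closure ((fun f : GLM => e * f * e⁻¹ * f⁻¹) '' (F : Set GLM)) = ⁅E, F⁆) ∧
      (∀ f ∈ F, f ≠ 1 → Subgroup.closure ((fun e : GLM => e * f * e⁻¹ * f⁻¹) '' (E : Set GLM)) = ⁅E, F⁆) ∧
      ⁅E ⊔ F, E ⊔ F⁆ ≠ ⊥ ∧ ⁅⁅E ⊔ F, E ⊔ F⁆, E ⊔ F⁆ = ⊥ ∧
      ((E ⊔ F : Subgroup GLM) : Set GLM) ⊆ quadraticUnipotentCore G ⁅E, F⁆) := by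
  obtain ⟨a, ha, rfl⟩ := mem_quadraticRootSubgroups.1 hE
  obtain ⟨b, hb, rfl⟩ := mem_quadraticRootSubgroups.1 hF
  have h : ¬ Opp a b := fun h => h.not_unipotent H ha hb hu
  by_cases hc : a * b - b * a = 0
  · exact Or.inl (commutator_eq_bot_of_comm H ha hb h (sub_eq_zero.1 hc))
  right
  obtain ⟨h1, h2, h3, h4⟩ := class_two_package H hG ha hb h hc
  refine ⟨h1, h2, h3, fun h0 => hc ?_, class_two_of_triple fun x hx y hy z hz => ?_, h4⟩
  · have : ⁅clsGrp G a, clsGrp G b⁆ = ⊥ :=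
      le_bot_iff.1 ((Subgroup.commutator_mono le_sup_left le_sup_right).trans h0.le)
    exact sub_eq_zero.2 (comm_of_commutator_eq_bot ha.q0 hb.q0 this)
  · ext m
    exact (aug_sup_core H ha hb h hc hx).2.1 ((aug_sup_core H ha hb h hc hy).2.2 _
      ((aug_sup_core H ha hb h hc hz).1 ⟨m, rfl⟩))

end CL.Chev.Quad
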