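/-
Quadratic pairs, part 6: the polynomial form of Dickson's lemma, and the standing hypotheses `Hyp k`.
-/
import Cfsg.Agent.Chev.QuadDick
import Cfsg.Agent.Chev.QuadRank1

set_option autoImplicit false
set_option linter.all false

namespace CL.Chev.Quad

open Polynomial Matrix CL.SL2
open scoped commutatorElement MatrixGroups

variable {k : Type*} [Field k]

theorem sl2_mul_apply {R : Type*} [CommRing R] (g g' : SL(2, R)) (i j : Fin 2) :
    (g * g') i j = g i 0 * g' 0 j + g i 1 * g' 1 j := by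
  simp [Matrix.mul_apply, Fin.sum_univ_two]

theorem sl2_inv_10 {R : Type*} [CommRing R] (g : SL(2, R)) : g⁻¹ 1 0 = - g 1 0 := by
  rw [SpecialLinearGroup.SL2_inv_expl]; rfl

theorem sl2_inv_00 {R : Type*} [CommRing R] (g : SL(2, R)) : g⁻¹ 0 0 = g 1 1 := by
  rw [SpecialLinearGroup.SL2_inv_expl]; rfl

theorem sl2_inv_11 {R : Type*} [CommRing R] (g : SL(2, R)) : g⁻¹ 1 1 = g 0 0 := by
  rw [SpecialLinearGroup.SL2_inv_expl]; rfl

theorem sl2_inv_01 {R : Type*} [CommRing R] (g : SL(2, R)) : g⁻¹ 0 1 = - g 0 1 := by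
  rw [SpecialLinearGroup.SL2_inv_expl]; rfl

/-- Congruence subgroups of `SL₂(k[X])`. -/
noncomputable def Gam (k : Type*) [Field k] (j : ℕ) : Subgroup SL(2, k[X]) where
  carrier := {h | X ^ (j + 1) ∣ h 1 0 ∧ X ∣ h 0 0 - 1 ∧ X ∣ h 1 1 - 1}
  one_mem' := by simp
  mul_mem' := by
    rintro a b ⟨⟨a1, ha1⟩, ⟨a2, ha2⟩, ⟨a3, ha3⟩⟩ ⟨⟨b1, hb1⟩, ⟨b2, hb2⟩, ⟨b3, hb3⟩⟩
    rw [sub_eq_iff_eq_add] at ha2 ha3 hb2 hb3
    simp only [Set.mem_setOf_eq, sl2_mul_apply, ha1, ha2, ha3, hb1, hb2, hb3]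
    exact ⟨⟨a1 * (X * b2 + 1) + (X * a3 + 1) * b1, by ring⟩,
      ⟨a2 * (X * b2 + 1) + b2 + a 0 1 * X ^ j * b1, by ring⟩, ⟨X ^ j * a1 * b 0 1 + a3 * (X * b3 + 1) + b3, by ring⟩⟩
  inv_mem' := by
    rintro a ⟨h1, h2, h3⟩
    simp only [Set.mem_setOf_eq, sl2_inv_10, sl2_inv_00, sl2_inv_11]
    exact ⟨h1.neg_right, h3, h2⟩

theorem commutator_Gam (j : ℕ) : ⁅Gam k j, Gam k j⁆ ≤ Gam k (j + 1) := by
  rw [Subgroup.commutator_le]
  intro a ha b hb
  have h0 : ⁅a, b⁆ ∈ Gam k j := (Gam k j).mul_mem ((Gam k j).mul_mem ((Gam k j).mul_mem ha hb) ((Gam k j).inv_mem ha))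
    ((Gam k j).inv_mem hb)
  refine ⟨?_, h0.2⟩
  obtain ⟨-, -, ⟨c1, hc1⟩⟩ := (Gam k j).mul_mem ha hb
  obtain ⟨-, -, ⟨c2, hc2⟩⟩ := (Gam k j).mul_mem hb ha
  obtain ⟨⟨a1, ha1⟩, ⟨a2, ha2⟩, ⟨a3, ha3⟩⟩ := ha
  obtain ⟨⟨b1, hb1⟩, ⟨b2, hb2⟩, ⟨b3, hb3⟩⟩ := hb
  rw [sub_eq_iff_eq_add] at ha2 ha3 hb2 hb3 hc1 hc2
  rw [commutatorElement_def, mul_assoc, ← _root_.mul_inv_rev, sl2_mul_apply, sl2_inv_00, sl2_inv_10, hc1, hc2,
    sl2_mul_apply, sl2_mul_apply, ha1, ha2, ha3, hb1, hb2, hb3]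
  exact ⟨(a1 * (X * b2 + 1) + (X * a3 + 1) * b1) * c2 - c1 * (b1 * (X * a2 + 1) + (X * b3 + 1) * a1) +
    (a1 * b2 + a3 * b1 - b1 * a2 - b3 * a1), by ring⟩

/-- The elementary group over `k[X]`. -/
noncomputable def HU (k : Type*) [Field k] : Subgroup SL(2, k[X]) :=
  Subgroup.closure ({h | ∃ c : k, h = sl 1 (C c) 0 1 (by simp)} ∪ {h | ∃ c : k, h = sl 1 0 (C c * X) 1 (by simp)})

theorem HU_le_Gam : HU k ≤ Gam k 0 := by
  rw [HU, Subgroup.closure_le]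
  rintro _ (⟨c, rfl⟩ | ⟨c, rfl⟩)
  · exact ⟨by simp [coe_sl], by simp [coe_sl], by simp [coe_sl]⟩
  · exact ⟨by simp [coe_sl], by simp [coe_sl], by simp [coe_sl]⟩

theorem reach_of_mem_HU {h : SL(2, k[X])} (hh : h ∈ HU k) : ∃ r, h 1 0 = X * r ∧ Reach (h 0 0) r := by
  induction hh using Subgroup.closure_induction_left with
  | one => exact ⟨0, by simp, by simpa using Reach.base⟩
  | mul_left x hx y _ ih =>
    obtain ⟨r, h1, h2⟩ := ih
    rcases hx with ⟨c, rfl⟩ | ⟨c, rfl⟩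
    · refine ⟨r, by simp [sl2_mul_apply, coe_sl, h1], ?_⟩
      convert h2.up _ _ c using 1
      simp [sl2_mul_apply, coe_sl, h1, mul_assoc]
    · refine ⟨r + C c * y 0 0, by simp [sl2_mul_apply, coe_sl, h1]; ring, ?_⟩
      convert h2.down _ _ c using 1
      simp [sl2_mul_apply, coe_sl]
  | inv_mul_cancel x hx y _ ih =>
    obtain ⟨r, h1, h2⟩ := ih
    rw [sl2_mul_apply, sl2_mul_apply, sl2_inv_00, sl2_inv_10, sl2_inv_01, sl2_inv_11]
    rcases hx with ⟨c, rfl⟩ | ⟨c, rfl⟩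
    · refine ⟨r, by simp [coe_sl, h1], ?_⟩
      convert h2.up _ _ (-c) using 1
      simp [coe_sl, h1, mul_assoc]
    · refine ⟨r + C (-c) * y 0 0, by simp [coe_sl, h1]; ring, ?_⟩
      convert h2.down _ _ (-c) using 1
      simp [coe_sl]

theorem isIntegral_root {g : k[X]} (hg : Irreducible g) : IsIntegral k (AdjoinRoot.root g) :=
  (AdjoinRoot.isAlgebraic_root hg.ne_zero).isIntegral

theorem root_ne_zero {g : k[X]} (hg : Irreducible g) (hX : ¬ X ∣ g) : AdjoinRoot.root g ≠ 0 := by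
  intro h
  rw [← AdjoinRoot.mk_X, AdjoinRoot.mk_eq_zero] at h
  exact hX (hg.dvd_symm irreducible_X h)

theorem pd_of (h2 : (2 : k) ≠ 0) (h3 : ∃ c : k, c ≠ 0 ∧ c ^ 2 ≠ 1) : PD k := by
  intro g hg hX j u hu
  have : Fact (Irreducible g) := ⟨hg⟩
  let ρ : SL(2, k[X]) →* SL(2, AdjoinRoot g) := SpecialLinearGroup.map (AdjoinRoot.mk g)
  have hρ : ∀ (h : SL(2, k[X])) i j, ρ h i j = AdjoinRoot.mk g (h i j) := fun _ _ _ => rfl
  have key : ∀ j, (HU k ⊓ Gam k j).map ρ = ⊤ := by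
    intro j
    induction j with
    | zero =>
      rw [inf_eq_left.2 HU_le_Gam]
      refine Dick.eq_top h2 h3 (root_ne_zero hg hX) (isIntegral_root hg) (AdjoinRoot.adjoinRoot_eq_top) (fun c => ?_)
        fun c => ?_
      · refine ⟨_, Subgroup.subset_closure (Or.inl ⟨c, rfl⟩), ?_⟩
        apply SL2.ext2 <;> simp [hρ, coe_sl, SL2.up_val]
      · refine ⟨_, Subgroup.subset_closure (Or.inr ⟨c, rfl⟩), ?_⟩
        apply SL2.ext2 <;> simp [hρ, coe_sl, SL2.lo_val]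
    | succ j ih =>
      obtain ⟨c, hc, hc1⟩ := h3
      have h1 : commutator SL(2, AdjoinRoot g) = ⊤ :=
        SL2.commutator_eq_top ((_root_.map_ne_zero (algebraMap k (AdjoinRoot g))).2 hc) fun h => hc1
          ((algebraMap k (AdjoinRoot g)).injective (by rw [map_pow, h, map_one]))
      rw [eq_top_iff, ← h1, commutator_def, ← ih, ← Subgroup.map_commutator]
      refine Subgroup.map_mono (le_inf ?_ ((Subgroup.commutator_mono inf_le_right inf_le_right).trans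
        (commutator_Gam j)))
      exact (Subgroup.commutator_mono inf_le_left inf_le_left).trans (Subgroup.commutator_le_self _)
  have hu0 : AdjoinRoot.mk g u ≠ 0 := fun h => hu (AdjoinRoot.mk_eq_zero.1 h)
  obtain ⟨h, ⟨hh, hj⟩, e⟩ : sl (AdjoinRoot.mk g u) 0 0 (AdjoinRoot.mk g u)⁻¹ (by simp [hu0]) ∈
    (HU k ⊓ Gam k j).map ρ := key j ▸ Subgroup.mem_top _
  obtain ⟨r, h1, h2⟩ := reach_of_mem_HU hh
  have e0 : AdjoinRoot.mk g (h 0 0) = AdjoinRoot.mk g u := by rw [← hρ, e]; rfl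
  have e1 : AdjoinRoot.mk g (h 1 0) = 0 := by rw [← hρ, e]; rfl
  refine ⟨h 0 0, r, h2, AdjoinRoot.mk_eq_mk.1 e0, ?_, ?_⟩
  · rw [h1, AdjoinRoot.mk_eq_zero] at e1
    exact (hg.prime.dvd_or_dvd e1).resolve_left fun h => hX (hg.dvd_symm irreducible_X h)
  · have := hj.1
    rwa [h1, pow_succ', mul_dvd_mul_iff_left X_ne_zero] at this

theorem hyp_of (hk2 : ringChar k ≠ 2) (hk3 : Nat.card k ≠ 3) : Hyp k :=
  ⟨two_ne_zero_of_ringChar hk2, exists_sq_ne_one hk2 hk3,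
    pd_of (two_ne_zero_of_ringChar hk2) (exists_sq_ne_one hk2 hk3)⟩

/-- Dickson's lemma inside an arbitrary extension field. -/
theorem dickson_adjoin {K : Type*} [Field K] [Algebra k K] (h2 : (2 : k) ≠ 0) (h3 : ∃ c : k, c ≠ 0 ∧ c ^ 2 ≠ 1)
    (α : K) (hα : IsAlgebraic k α) (hα0 : α ≠ 0) :
    (Subgroup.closure ({g : SL(2, K) | ∃ c : k, (g : Matrix (Fin 2) (Fin 2) K) = !![1, algebraMap k K c; 0, 1]} ∪
        {g : SL(2, K) | ∃ c : k, (g : Matrix (Fin 2) (Fin 2) K) = !![1, 0; algebraMap k K c * α, 1]}) :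
      Set SL(2, K)) =
    {g : SL(2, K) | ∀ i j : Fin 2, (g : Matrix (Fin 2) (Fin 2) K) i j ∈ IntermediateField.adjoin k ({α} : Set K)} := by
  set F := IntermediateField.adjoin k ({α} : Set K)
  let φ : SL(2, F) →* SL(2, K) := SpecialLinearGroup.map (algebraMap F K)
  have hφ : ∀ (h : SL(2, F)) i j, φ h i j = (h i j : K) := fun _ _ _ => rfl
  have hr : ∀ g : SL(2, K), g ∈ φ.range ↔ ∀ i j : Fin 2, g i j ∈ F := by
    intro g
    constructor
    · rintro ⟨h, rfl⟩ i j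
      exact (h i j).2
    · intro hg
      refine ⟨sl ⟨_, hg 0 0⟩ ⟨_, hg 0 1⟩ ⟨_, hg 1 0⟩ ⟨_, hg 1 1⟩ (Subtype.ext (sl_det g)), ?_⟩
      apply SL2.ext2 <;> rfl
  have hαF : α ∈ F := IntermediateField.mem_adjoin_simple_self k α
  ext g
  rw [Set.mem_setOf_eq, ← hr, SetLike.mem_coe]
  revert g
  rw [← Subgroup.ext_iff]
  apply le_antisymm
  · rw [Subgroup.closure_le]
    rintro g (⟨c, hc⟩ | ⟨c, hc⟩) <;> rw [SetLike.mem_coe, hr] <;> intro i j <;> rw [hc] <;>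
      fin_cases i <;> fin_cases j <;> simp [mul_mem (F.algebraMap_mem c) hαF]
  · rw [MonoidHom.range_eq_map, Subgroup.map_le_iff_le_comap, top_le_iff]
    refine Dick.eq_top (α := IntermediateField.AdjoinSimple.gen k α) h2 h3 (fun h => hα0 (congrArg Subtype.val h))
      ((isIntegral_algebraMap_iff (algebraMap F K).injective).1 hα.isIntegral) ?_ (fun c => ?_) fun c => ?_
    · exact (IntermediateField.adjoin.powerBasis hα.isIntegral).adjoin_gen_eq_top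
    · refine Subgroup.subset_closure (Or.inl ⟨c, ?_⟩)
      ext i j; fin_cases i <;> fin_cases j <;> rfl
    · refine Subgroup.subset_closure (Or.inr ⟨c, ?_⟩)
      ext i j; fin_cases i <;> fin_cases j <;> rfl

end CL.Chev.Quad
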