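/-
Quadratic pairs, part 7: the group generated by two scalar families, and decomposition of quadratic elements.
-/
import Cfsg.Agent.Chev.QuadPD

set_option autoImplicit false
set_option linter.all false

namespace CL.Chev.Quad

open Module LinearMap Cfsg Polynomial
open scoped commutatorElement MatrixGroups

variable {k : Type*} [Field k] {M : Type*} [AddCommGroup M] [Module k M]
variable {G : Subgroup (LinearMap.GeneralLinearGroup k M)}

local notation "GLM" => LinearMap.GeneralLinearGroup k M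

theorem ev_symm (a b : Module.End k M) : ev b a = ev a b := by rw [ev, ev, add_comm]

theorem Pair.mul_mul_of_range {e f w : Module.End k M} (h : Pair e f) (hw : LinearMap.range w ≤ LinearMap.range f) :
    f * (e * w) = w := by
  have : (f * e - 1) * w = 0 := mul_eq_zero_of_range_le hw (by rw [sub_mul, h.fef, one_mul, sub_self])
  rwa [sub_mul, one_mul, sub_eq_zero, mul_assoc] at this

theorem Pair.mul_mul_of_ker {e f w : Module.End k M} (h : Pair e f) (hw : LinearMap.ker f ≤ LinearMap.ker w) :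
    w * (e * f) = w := by
  have : w * (e * f - 1) = 0 := mul_eq_zero_of_ker_le hw (by rw [mul_sub, h.fef₀, mul_one, sub_self])
  rwa [mul_sub, mul_one, sub_eq_zero] at this

variable [FiniteDimensional k M]

/-- Jordan closure of opposite classes. -/
theorem Opp.jordan (H : Hyp k) {a b w : Module.End k M} (h : Opp a b) (ha : Min G a) (hb : Min G b)
    (hw : w ∈ cls G b) : a * w * a ∈ cls G a := by
  obtain ⟨f, hf, hf0, hp⟩ := h.exists_pair H ha hb
  have hw' : w ∈ cls G f := by rwa [hb.cls_eq hf hf0]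
  have h1 := hp.mul_mul_of_range (cls_range hw')
  have h2 := hp.mul_mul_of_ker (cls_ker hw')
  have h1' : ∀ x, f * (a * (w * x)) = w * x := fun x => by rw [← mul_assoc a, ← mul_assoc, h1]
  have h2' : ∀ x, w * (a * (f * x)) = w * x := fun x => by rw [← mul_assoc a, ← mul_assoc, h2]
  have h3 : f * w = 0 := cls_mul hf hw
  have h4 : w * f = 0 := cls_mul hw hf
  have h3' : ∀ x, f * (w * x) = 0 := fun x => by rw [← mul_assoc, h3, zero_mul]
  have h4' : ∀ x, w * (f * x) = 0 := fun x => by rw [← mul_assoc, h4, zero_mul]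
  have key : (hp.n : Module.End k M) * w * ((hp.n⁻¹ : GLM) : Module.End k M) = -(a * w * a) := by
    simp only [Pair.n, mul_inv_rev, inv_inv, Units.val_mul, ex_val, ex_inv_val, add_mul, mul_add, sub_mul, mul_sub,
      one_mul, mul_one, mul_assoc, hp.ee, hp.ee', h1, h2, h1', h2', h3, h4, h3', h4', mul_zero, zero_mul]
    abel
  have hq : Q0 G (a * w * a) := by
    have := ((cls_q0 hw).conj (hp.n_mem ha.q0.ex_mem (cls_q0 hf).ex_mem)).neg
    rwa [key, neg_neg] at this
  exact (mem_cls ha.sq).2 ⟨hq, by rw [mul_assoc]; exact range_mul_le _ _, ker_le_ker_mul _ _⟩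

theorem Opp.ev_mem_cls (H : Hyp k) {a b : Module.End k M} (h : Opp a b) (ha : Min G a) (hb : Min G b) (p : k[X]) :
    ev a b p * a ∈ cls G a := by
  have key : ∀ n : ℕ, ∀ {a b : Module.End k M}, Opp a b → Min G a → Min G b → ev a b (X ^ n) * a ∈ cls G a := by
    intro n
    induction n with
    | zero => intro a b _ ha _; simpa using self_mem_cls ha.q0
    | succ n ih =>
      intro a b h ha hb
      have := h.jordan H ha hb (ih h.symm hb ha)
      rwa [ev_symm, ← mul_assoc, ev_comm_left ha.sq, mul_assoc, mul_assoc, ← mul_assoc a, ← z_mul_a ha.sq, ← ev_X,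
        ← mul_assoc, ← map_mul, ← pow_succ] at this
  induction p using Polynomial.induction_on' with
  | add p q hp hq => rw [map_add, add_mul]; exact Submodule.add_mem _ hp hq
  | monomial n c =>
    rw [← C_mul_X_pow_eq_monomial, map_mul, ev_C, mul_assoc, smul_mul_assoc, one_mul]
    exact Submodule.smul_mem _ _ (key n h ha hb)

theorem Opp.exists_sl2 (H : Hyp k) {a b : Module.End k M} (h : Opp a b) (ha : Min G a) (hb : Min G b) :
    ∃ (g : k[X]) (_ : Fact (Irreducible g)) (φ : SL(2, AdjoinRoot g) →* GLM), ¬ X ∣ g ∧ Function.Injective φ ∧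
      (∀ c : k, (φ (SL2.up (algebraMap k _ c)) : Module.End k M) = 1 + c • a) ∧
      ∀ c : k, (φ (SL2.lo (algebraMap k _ c * AdjoinRoot.root g)) : Module.End k M) = 1 + c • b := by
  obtain ⟨y, hy, hyb⟩ := exists_ev_inverse H.two H.three H.pd hb ha.q0 (h.symm.aba_ne hb.ne)
  rw [ev_symm] at hy hyb
  have ca := fun p => ev_comm_left (q := b) ha.sq p
  have cb := fun p => ev_comm_right (a := a) hb.sq p
  have hya : ev a b (y * X) * a = a := by
    rw [← sub_eq_zero]
    refine h.cancel_left ?_ ?_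
    · rw [← ca, ← mul_sub_one]; exact range_mul_le _ _
    · rw [mul_sub, ← mul_assoc, cb, hyb, sub_self]
  have zb : (a * b + b * a) * b = b * a * b := by rw [add_comm]; exact z_mul_a hb.sq
  obtain ⟨f, hf⟩ : ∃ f, f = ev a b y * b := ⟨_, rfl⟩
  rw [← hf] at hy
  have cf : ∀ p, f * ev a b p = ev a b p * f := fun p => by
    rw [hf, mul_assoc, cb, ← mul_assoc, ev_mul_comm, mul_assoc]
  have hp : Pair a f := by
    refine ⟨ha.sq, hy.sq, ?_, ?_⟩
    · rw [hf, ← mul_assoc, ca, mul_assoc, mul_assoc, ← mul_assoc a, ← z_mul_a ha.sq, ← ev_X, ← mul_assoc, ← map_mul,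
        hya]
    · have : f * a * f = ev a b y * (ev a b y * (b * a * b)) := by
        conv_lhs => rw [mul_assoc, hf, ← mul_assoc a, ca, mul_assoc, ← mul_assoc b, ← mul_assoc b, cb]
        simp only [mul_assoc]
      rw [this, ← zb, ← ev_X, ← mul_assoc (ev a b y) (ev a b X), ← map_mul, hyb, hf]
  have hz : (a * b + b * a) ^ finrank k M ≠ 0 := by
    intro h0
    have : ∀ n : ℕ, ev a b ((y * X) ^ n) * a = a := by
      intro n
      induction n with
      | zero => simp
      | succ n ih => rw [pow_succ, map_mul, mul_assoc, hya, ih]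
    have h1 := this (finrank k M)
    rw [mul_pow, map_mul, map_pow _ X, ev_X, h0, mul_zero, zero_mul] at h1
    exact ha.ne h1.symm
  obtain ⟨g, v, hg, hX, hv0, hav, hgv, hvz⟩ := exists_prime_vector ha.sq hb.sq hz
  have hga : ev a b g * a = 0 := by
    refine ha.eq_zero_of_rk_lt (cls_q0 (h.ev_mem_cls H ha hb g)) (rk_mul_lt (v := ev a b X v) ?_ ?_ ?_)
    · obtain ⟨w, rfl⟩ := hvz
      intro h0
      exact hv0 (pow_cancel _ 1 w (by rw [pow_one]; rwa [ev_X] at h0))
    · exact ⟨b v, by rw [ev_X, LinearMap.add_apply, Module.End.mul_apply, Module.End.mul_apply, hav, map_zero, add_zero]⟩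
    · rw [ev_apply_mul]; exact ev_apply_eq_zero_of_dvd hgv (dvd_mul_right _ _)
  have : Fact (Irreducible g) := ⟨hg⟩
  have hgπ : ev a b g * (a * f + f * a) = 0 := by
    rw [mul_add, ← mul_assoc, hga, ← mul_assoc, ← cf, mul_assoc, hga, zero_mul, mul_zero, add_zero]
  let ι : AdjoinRoot g → Module.End k M := fun x =>
    ev a b (Function.surjInv AdjoinRoot.mk_surjective x) * (a * f + f * a)
  have hι : ∀ p, ι (AdjoinRoot.mk g p) = ev a b p * (a * f + f * a) := fun p => by
    obtain ⟨r, hr⟩ := AdjoinRoot.mk_eq_mk.1 (Function.surjInv_eq AdjoinRoot.mk_surjective (AdjoinRoot.mk g p))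
    change ev a b _ * _ = _
    rw [← sub_eq_zero, ← sub_mul, ← map_sub, hr, mul_comm g, map_mul, mul_assoc, hgπ, mul_zero]
  have πa : (a * f + f * a) * a = a := by rw [add_mul, hp.efe, mul_assoc, ha.sq, mul_zero, add_zero]
  have πf : (a * f + f * a) * f = f := by rw [add_mul, hp.fef, mul_assoc, hp.ff, mul_zero, zero_add]
  have aπ : a * (a * f + f * a) = a := by rw [mul_add, hp.efe₀, hp.ee', zero_add]
  have fπ : f * (a * f + f * a) = f := by rw [mul_add, hp.fef₀, hp.ff', add_zero]
  have s : Scal ι a f := by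
    refine ⟨fun x y => ?_, fun x y => ?_, ?_, ?_, fun x => ?_, fun x => ?_⟩
    · obtain ⟨p, rfl⟩ := AdjoinRoot.mk_surjective x
      obtain ⟨q, rfl⟩ := AdjoinRoot.mk_surjective y
      rw [← map_add, hι, hι, hι, map_add, add_mul]
    · obtain ⟨p, rfl⟩ := AdjoinRoot.mk_surjective x
      obtain ⟨q, rfl⟩ := AdjoinRoot.mk_surjective y
      have : (a * f + f * a) * (ev a b q * (a * f + f * a)) = ev a b q * (a * f + f * a) := by
        rw [add_mul, mul_assoc, mul_assoc, ← mul_assoc f (ev a b q), ← mul_assoc a (ev a b q), cf, ca, mul_assoc, mul_assoc,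
          fπ, aπ, ← mul_assoc, ← mul_assoc, cf, ca, mul_add, mul_assoc, mul_assoc]
      rw [← map_mul, hι, hι, hι, map_mul, mul_assoc, mul_assoc, this]
    · rw [← map_one (AdjoinRoot.mk g), hι, map_one, one_mul, πa]
    · rw [← map_one (AdjoinRoot.mk g), hι, map_one, one_mul, πf]
    · obtain ⟨p, rfl⟩ := AdjoinRoot.mk_surjective x
      rw [hι, ← mul_assoc, ca, mul_assoc, mul_assoc, aπ, πa]
    · obtain ⟨p, rfl⟩ := AdjoinRoot.mk_surjective x
      rw [hι, ← mul_assoc, cf, mul_assoc, mul_assoc, fπ, πf]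
  refine ⟨g, this, sl2Hom hp s, hX, sl2Hom_injective hp s ha.ne, fun c => ?_, fun c => ?_⟩
  · rw [sl2Hom_upper hp s rfl rfl rfl, SL2.up_01, AdjoinRoot.algebraMap_eq, ← AdjoinRoot.mk_C, hι, mul_assoc, πa, ev_C,
      smul_mul_assoc, one_mul]
  · rw [sl2Hom_lower hp s rfl rfl rfl, SL2.lo_10, AdjoinRoot.algebraMap_eq, ← AdjoinRoot.mk_C, ← AdjoinRoot.mk_X,
      ← map_mul, hι, mul_assoc, πf, map_mul, ev_C, smul_mul_assoc, one_mul, smul_mul_assoc, hf, ← mul_assoc, ← map_mul,
      mul_comm X, hyb]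

/-- Conditional form of S5064. -/
theorem exists_sl2_equiv (H : Hyp k) {σ τ : GLM} (hσ : σ ∈ minimalQuadraticElements G)
    (hτ : τ ∈ minimalQuadraticElements G) (hH : ¬ IsUnipotentOn (Subgroup.closure (scalarFamily σ ∪ scalarFamily τ))) :
    ∃ (g : k[X]) (_ : Fact (Irreducible g)),
      Nonempty (Subgroup.closure (scalarFamily σ ∪ scalarFamily τ) ≃* SL(2, AdjoinRoot g)) := by
  rw [mem_minimal] at hσ hτ
  have hle : ∀ σ : GLM, Min G ((σ : Module.End k M) - 1) →
      scalarFamily σ ⊆ clsGrp G ((σ : Module.End k M) - 1) := by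
    rintro σ hσ x ⟨c, hc⟩
    rw [SetLike.mem_coe, mem_clsGrp, show (x : Module.End k M) = _ from hc, add_sub_cancel_left]
    exact Submodule.smul_mem _ _ (self_mem_cls hσ.q0)
  have h : Opp ((σ : Module.End k M) - 1) ((τ : Module.End k M) - 1) := by
    by_contra h
    refine hH (IsUnipotentOn.anti (unipotent_of_not_opp H hσ hτ h) ?_)
    rw [Subgroup.closure_union]
    exact sup_le_sup ((Subgroup.closure_le _).2 (hle σ hσ)) ((Subgroup.closure_le _).2 (hle τ hτ))
  obtain ⟨g, hg, φ, hX, hinj, h1, h2⟩ := h.exists_sl2 H hσ hτ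
  have : φ.range = Subgroup.closure (scalarFamily σ ∪ scalarFamily τ) := by
    apply le_antisymm
    · rw [MonoidHom.range_eq_map, Subgroup.map_le_iff_le_comap, top_le_iff]
      exact Dick.eq_top H.two H.three (root_ne_zero hg.out hX) (isIntegral_root hg.out) AdjoinRoot.adjoinRoot_eq_top
        (fun c => Subgroup.subset_closure (Or.inl ⟨c, h1 c⟩)) fun c => Subgroup.subset_closure (Or.inr ⟨c, h2 c⟩)
    · rw [Subgroup.closure_le]
      rintro x (⟨c, hc⟩ | ⟨c, hc⟩)
      · exact ⟨_, Units.ext ((h1 c).trans hc.symm)⟩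
      · exact ⟨_, Units.ext ((h2 c).trans hc.symm)⟩
  exact ⟨g, hg, ⟨(MulEquiv.subgroupCongr this).symm.trans (MonoidHom.ofInjective hinj).symm⟩⟩

/-- Splitting off a minimal element from a quadratic element. -/
theorem exists_split (H : Hyp k) {a q : Module.End k M} (ha : Min G a) (hq : Q0 G q) (h : a * q * a ≠ 0) :
    ∃ q₁ q₂, Min G q₁ ∧ Q0 G q₂ ∧ q = q₁ + q₂ ∧ q₁ * q₂ = 0 ∧ rk q₂ < rk q := by
  obtain ⟨e, he, he0, heq⟩ := exists_inverse H ha hq h
  have hm := ha.of_mem_cls he he0
  have h1 : ∀ x, e * (q * (e * x)) = e * x := fun x => by rw [← mul_assoc, ← mul_assoc, heq]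
  have h2 : e * (q * e) = e := by rw [← mul_assoc, heq]
  have key : (1 + e) * ((1 + -q) * e * (1 - -q)) * (1 - e) = -(q * e * q) := by
    simp only [add_mul, mul_add, sub_mul, mul_sub, one_mul, mul_one, mul_assoc, neg_mul, mul_neg, hm.sq, hm.q0.sq', h1,
      h2, mul_zero, zero_mul]
    abel
  have hm1 : Min G (q * e * q) := by
    have := ((hm.conj_ex hq.neg).conj_ex hm.q0).neg
    rwa [key, neg_neg] at this
  have a1 : q * (q * e * q) = 0 := by rw [mul_assoc, hq.sq']
  have a2 : q * e * q * q = 0 := by rw [mul_assoc, hq.sq, mul_zero]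
  refine ⟨q * e * q, q - q * e * q, hm1, hq.sub hm1.q0 a1 a2, by abel, by rw [mul_sub, a2, hm1.sq, sub_zero], ?_⟩
  have hqe : q * e ≠ 0 := fun h0 => he0 (by rw [← h2, h0, mul_zero])
  obtain ⟨m, hm⟩ : ∃ m, (q * e) m ≠ 0 := by
    by_contra h0
    push Not at h0
    exact hqe (LinearMap.ext h0)
  rw [← one_sub_mul]
  refine rk_mul_lt hm ⟨e m, rfl⟩ ?_
  rw [← Module.End.mul_apply, sub_mul, one_mul, mul_assoc, h2, sub_self, LinearMap.zero_apply]

/-- A quadratic element killed by all the maps `x ↦ a x a`, `a` minimal, commutes with all minimal elements. -/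
theorem comm_of_forall_aqa (H : Hyp k) (hG : NoUnip G) {q : Module.End k M} (hq : Q0 G q)
    (h : ∀ a, Min G a → a * q * a = 0) {a : Module.End k M} (ha : Min G a) : a * q = q * a := by
  have hconj : ∀ x s : Module.End k M, (∀ b, Min G b → b * x * b = 0) → Q0 G s →
      ∀ b, Min G b → b * ((1 + s) * x * (1 - s)) * b = 0 := by
    intro x s hx hs b hb
    have h1 := hx _ (hb.conj_ex hs.neg)
    have h2 : (1 + s) * (1 + -s) = 1 := by rw [add_mul, mul_add, mul_add, mul_neg s, hs.sq]; simp
    have h3 : (1 - -s) * (1 - s) = 1 := by rw [sub_neg_eq_add, sub_eq_add_neg, h2]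
    have := congrArg (fun y => (1 + s) * y * (1 - s)) h1
    simp only [mul_zero, zero_mul, ← mul_assoc, h2, one_mul] at this
    rw [mul_assoc _ (1 - -s) (1 - s), h3, mul_one, sub_neg_eq_add, ← sub_eq_add_neg] at this
    simpa only [← mul_assoc] using this
  have hno : ∀ x, Min G x → ¬ ∀ b, Min G b → b * x * b = 0 := by
    intro x hx h0
    obtain ⟨f, hf, hp⟩ := exists_pair H hG hx
    exact hf.ne (by rw [← hp.fef, h0 f hf])
  have aqa := h a ha
  have aqa' : ∀ x, a * (q * (a * x)) = 0 := fun x => by rw [← mul_assoc, ← mul_assoc, aqa, zero_mul]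
  have aqa₀ : a * (q * a) = 0 := by rw [← mul_assoc, aqa]
  have hy : ∀ b, Min G b → b * (a * q - q * a) * b = 0 := fun b hb => by
    have h1 := hconj q a h ha.q0 b hb
    have : (1 + a) * q * (1 - a) = q + (a * q - q * a) := by
      simp only [add_mul, mul_sub, one_mul, mul_one, aqa]; abel
    rwa [this, mul_add, add_mul, h b hb, zero_add] at h1
  have hw : ∀ b, Min G b → b * (q * a * q) * b = 0 := fun b hb => by
    have h1 := hconj _ q hy hq b hb
    have : (1 + q) * (a * q - q * a) * (1 - q) = (a * q - q * a) + (q * a * q + q * a * q) := by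
      simp only [add_mul, mul_sub, sub_mul, one_mul, mul_one, mul_assoc, hq.sq, hq.sq', mul_zero, zero_mul]; abel
    rw [this, mul_add, add_mul, hy b hb, zero_add, mul_add, add_mul] at h1
    exact two_cancel H.two h1
  have hwq : Q0 G (q * a * q) := by
    refine Q0.of_ex (by simp only [mul_assoc, hq.sq', mul_zero]) fun c => ?_
    have m1 := ha.q0.ex_smul_mem (c / 2)
    have m2 := hq.ex_mem
    convert G.mul_mem (G.mul_mem (G.mul_mem (G.mul_mem m1 m2) (G.inv_mem m1)) (G.inv_mem m2))
      (G.mul_mem (G.mul_mem (G.mul_mem m1 (G.inv_mem m2)) (G.inv_mem m1)) m2) using 1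
    apply Units.ext
    have : c • (q * (a * q)) = (c / 2) • (q * (a * q)) + (c / 2) • (q * (a * q)) := by
      rw [← add_smul, ← two_mul, mul_div_cancel₀ _ H.two]
    simp only [Units.val_mul, ex_val, ex_inv_val, add_mul, mul_add, sub_mul, mul_sub, one_mul, mul_one, mul_assoc,
      smul_mul_assoc, mul_smul_comm, ha.sq, ha.q0.sq', hq.sq, hq.sq', aqa', aqa₀, mul_zero, zero_mul, smul_zero,
      smul_add, smul_sub]
    rw [this]; abel
  have qaq : q * a * q = 0 := by
    by_contra h0
    exact hno _ (ha.of_rk_le hwq h0 ((rk_mul_le_left _ _).trans (rk_mul_le_right _ _))) hw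
  by_contra hc
  exact hno _ (class_two ha hq aqa qaq (sub_ne_zero.2 hc)).1 hy

theorem ex_add {a b : Module.End k M} (ha : a * a = 0) (hb : b * b = 0) (h : (a + b) * (a + b) = 0) (hab : a * b = 0) :
    ex (a + b) h = ex a ha * ex b hb := Units.ext (by simp [mul_add, add_mul, hab, add_assoc])

/-- The subgroup generated by the quadratic root subgroups. -/
def root0 (G : Subgroup GLM) : Subgroup GLM := ⨆ A ∈ quadraticRootSubgroups G, A

theorem clsGrp_le_root0 {a : Module.End k M} (ha : Min G a) : clsGrp G a ≤ root0 G :=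
  le_iSup₂_of_le (f := fun A (_ : A ∈ quadraticRootSubgroups G) => A) _ (mem_quadraticRootSubgroups.2 ⟨a, ha, rfl⟩) le_rfl

theorem root0_le : root0 G ≤ G := iSup₂_le fun A hA => by
  obtain ⟨a, -, rfl⟩ := mem_quadraticRootSubgroups.1 hA
  exact clsGrp_le a

theorem mem_centralizer_root0 {q : Module.End k M} (hq : q * q = 0) :
    ex q hq ∈ Subgroup.centralizer (root0 G : Set GLM) ↔ ∀ a, Min G a → a * q = q * a := by
  constructor
  · intro h a ha
    exact (ex_commute_iff ha.sq hq).1 (h _ (clsGrp_le_root0 ha (ex_mem_clsGrp (self_mem_cls ha.q0))))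
  · intro h
    have : root0 G ≤ Subgroup.centralizer {ex q hq} := iSup₂_le fun A hA => by
      obtain ⟨a, ha, rfl⟩ := mem_quadraticRootSubgroups.1 hA
      intro x hx
      obtain ⟨b, hb, rfl⟩ := exists_of_mem_clsGrp hx
      rw [Subgroup.mem_centralizer_singleton_iff, ex_commute_iff]
      by_cases hb0 : b = 0
      · simp [hb0]
      · exact h b (ha.of_mem_cls hb hb0)
    exact fun x hx => Subgroup.mem_centralizer_singleton_iff.1 (this hx)

/-- The subgroup generated by the quadratic elements centralizing all root subgroups. -/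
def rest0 (G : Subgroup GLM) : Subgroup GLM :=
  Subgroup.closure (quadraticElements G ∩ Subgroup.centralizer (root0 G : Set GLM))

theorem rest0_le : rest0 G ≤ G ⊓ Subgroup.centralizer (root0 G : Set GLM) :=
  (Subgroup.closure_le _).2 fun _ h => ⟨h.1.1, h.2⟩

theorem q0_rest0 {q : Module.End k M} : Q0 (rest0 G) q ↔ Q0 G q ∧ ∀ a, Min G a → a * q = q * a := by
  constructor
  · intro h
    exact ⟨h.mono (rest0_le.trans inf_le_left), (mem_centralizer_root0 h.sq).1 (rest0_le h.ex_mem).2⟩
  · rintro ⟨h1, h2⟩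
    refine Q0.of_ex h1.sq fun c => ?_
    by_cases h0 : c • q = 0
    · rw [(ex_eq_one _).2 h0]; exact Subgroup.one_mem _
    · refine Subgroup.subset_closure ⟨ex_mem_quadraticElements (h1.smul c) h0, ?_⟩
      exact (mem_centralizer_root0 _).2 fun a ha => by rw [mul_smul_comm, smul_mul_assoc, h2 a ha]

theorem ex_mem_root0_sup (H : Hyp k) (hG : NoUnip G) (n : ℕ) :
    ∀ {q : Module.End k M} (hq : Q0 G q), rk q = n → ex q hq.sq ∈ root0 G ⊔ rest0 G := by
  induction n using Nat.strong_induction_on with | _ n ih =>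
  intro q hq hn
  by_cases h : ∀ a, Min G a → a * q * a = 0
  · exact Subgroup.mem_sup_right (q0_rest0.2 ⟨hq, fun a ha => comm_of_forall_aqa H hG hq h ha⟩).ex_mem
  push Not at h
  obtain ⟨a, ha, h⟩ := h
  obtain ⟨q₁, q₂, h1, h2, rfl, h3, h4⟩ := exists_split H ha hq h
  rw [ex_add h1.sq h2.sq _ h3]
  exact Subgroup.mul_mem _ (Subgroup.mem_sup_left (clsGrp_le_root0 h1 (ex_mem_clsGrp (self_mem_cls h1.q0))))
    (ih _ (hn ▸ h4) h2 rfl)

theorem root0_sup_rest0 (H : Hyp k) (hG : NoUnip G) (hgen : Subgroup.closure (quadraticElements G) = G) :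
    root0 G ⊔ rest0 G = G := by
  refine le_antisymm (sup_le root0_le (rest0_le.trans inf_le_left)) (hgen.ge.trans ?_)
  rw [Subgroup.closure_le]
  intro σ hσ
  rw [mem_quadraticElements] at hσ
  have : σ = ex _ hσ.1.sq := Units.ext (by simp)
  rw [this]
  exact ex_mem_root0_sup H hG _ hσ.1 rfl

/-- Conditional form of S5074. -/
theorem root0_sup_centralizer (H : Hyp k) (hG : NoUnip G) (hgen : Subgroup.closure (quadraticElements G) = G) :
    root0 G ⊔ (G ⊓ Subgroup.centralizer (root0 G : Set GLM)) = G :=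
  le_antisymm (sup_le root0_le inf_le_left) ((root0_sup_rest0 H hG hgen).ge.trans (sup_le_sup_left rest0_le _))

end CL.Chev.Quad
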