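/-
Sets of abstract root subgroups: the trichotomy, the commutator case, lines
(Timmesfeld, Abstract root subgroups, II §2, first part).
-/
import Cfsg.Agent.Chev.RootRankOne

set_option autoImplicit false

namespace CL.Chev.Root

open Cfsg
open scoped commutatorElement

variable {G : Type*} [Group G]

/-! ### General commutator lemmas -/

theorem mem_sup_of_norm {A C : Subgroup G} (h : ∀ a ∈ A, conjBy C a = C) {x : G} :
    x ∈ A ⊔ C ↔ ∃ a ∈ A, ∃ c ∈ C, x = a * c := by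
  have h1 := Subgroup.coe_mul_of_left_le_normalizer_right A C
    (fun a ha => mem_normalizer_iff_conjBy.2 (h a ha))
  constructor
  · intro hx
    have hx' : x ∈ ((A ⊔ C : Subgroup G) : Set G) := hx
    rw [h1] at hx'
    obtain ⟨a, ha, c, hc, rfl⟩ := hx'
    exact ⟨a, ha, c, hc, rfl⟩
  · rintro ⟨a, ha, c, hc, rfl⟩
    exact Subgroup.mul_mem_sup ha hc

theorem mem_sup_of_comm {A C : Subgroup G} (h : ⁅A, C⁆ = ⊥) {x : G} :
    x ∈ A ⊔ C ↔ ∃ a ∈ A, ∃ c ∈ C, x = a * c :=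
  mem_sup_of_norm fun a ha => conjBy_of_commute (comm_bot_iff.1 h a ha)

theorem comm_sup_le {H L₁ L₂ K : Subgroup G} (hK : ∀ x ∈ L₁ ⊔ L₂, conjBy K x = K)
    (h1 : ⁅H, L₁⁆ ≤ K) (h2 : ⁅H, L₂⁆ ≤ K) : ⁅H, L₁ ⊔ L₂⁆ ≤ K := by
  have hconj : ∀ x, conjBy K x = K → ∀ k ∈ K, x * k * x⁻¹ ∈ K := fun x hx k hk => by
    rw [← hx]; exact conj_mem_conjBy hk x
  let T : Subgroup G :=
    { carrier := {l | conjBy K l = K ∧ ∀ h ∈ H, ⁅h, l⁆ ∈ K}
      one_mem' := ⟨conjBy_one K, fun h _ => by simp⟩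
      mul_mem' := by
        rintro l l' ⟨hl, hl2⟩ ⟨hl', hl2'⟩
        refine ⟨by rw [← conjBy_conjBy, hl', hl], fun h hh => ?_⟩
        rw [commutatorElement_mul_right_eq_mul_conj, mul_assoc, mul_assoc, ← mul_assoc l]
        exact K.mul_mem (hl2 h hh) (hconj l hl _ (hl2' h hh))
      inv_mem' := by
        rintro l ⟨hl, hl2⟩
        refine ⟨conjBy_inv_eq_self hl, fun h hh => ?_⟩
        rw [commutatorElement_inv_right, ← commutatorElement_inv]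
        simpa using hconj l⁻¹ (conjBy_inv_eq_self hl) _ (K.inv_mem (hl2 h hh)) }
  have : L₁ ⊔ L₂ ≤ T := sup_le
    (fun l hl => ⟨hK l (Subgroup.mem_sup_left hl), fun h hh => h1 (Subgroup.commutator_mem_commutator hh hl)⟩)
    (fun l hl => ⟨hK l (Subgroup.mem_sup_right hl), fun h hh => h2 (Subgroup.commutator_mem_commutator hh hl)⟩)
  exact Subgroup.commutator_le.2 fun h hh l hl => (this hl).2 h hh

theorem comm_sup_bot {H L₁ L₂ : Subgroup G} (h1 : ⁅H, L₁⁆ = ⊥) (h2 : ⁅H, L₂⁆ = ⊥) : ⁅H, L₁ ⊔ L₂⁆ = ⊥ :=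
  comm_bot_iff.2 fun a ha => commute_sup (comm_bot_iff.1 h1 a ha) (comm_bot_iff.1 h2 a ha)

theorem sup_comm_bot {H L₁ L₂ : Subgroup G} (h1 : ⁅L₁, H⁆ = ⊥) (h2 : ⁅L₂, H⁆ = ⊥) : ⁅L₁ ⊔ L₂, H⁆ = ⊥ :=
  comm_bot_symm (comm_sup_bot (comm_bot_symm h1) (comm_bot_symm h2))

theorem comm_bot_mono {H K H' K' : Subgroup G} (h : ⁅H, K⁆ = ⊥) (h1 : H' ≤ H) (h2 : K' ≤ K) : ⁅H', K'⁆ = ⊥ :=
  le_bot_iff.1 (h ▸ Subgroup.commutator_mono h1 h2)

/-- An element centralising `A` and `B` centralises `⁅A, B⁆`. -/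
theorem comm_comm_bot {H A B : Subgroup G} (h1 : ⁅H, A⁆ = ⊥) (h2 : ⁅H, B⁆ = ⊥) : ⁅H, ⁅A, B⁆⁆ = ⊥ :=
  comm_bot_mono (comm_sup_bot h1 h2) le_rfl (Subgroup.commutator_le_sup A B)

theorem class_two_sup {H₁ H₂ K : Subgroup G} (hK : ⁅K, H₁ ⊔ H₂⁆ = ⊥) (h11 : ⁅H₁, H₁⁆ ≤ K)
    (h12 : ⁅H₁, H₂⁆ ≤ K) (h22 : ⁅H₂, H₂⁆ ≤ K) : ⁅⁅H₁ ⊔ H₂, H₁ ⊔ H₂⁆, H₁ ⊔ H₂⁆ = ⊥ := by
  have hn : ∀ x ∈ H₁ ⊔ H₂, conjBy K x = K := fun x hx =>
    conjBy_of_commute fun k hk => (comm_bot_iff.1 hK k hk x hx).symm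
  refine comm_bot_mono hK (comm_sup_le hn ?_ ?_) le_rfl
  · rw [Subgroup.commutator_comm]; exact comm_sup_le hn h11 h12
  · rw [Subgroup.commutator_comm]
    exact comm_sup_le hn (by rwa [Subgroup.commutator_comm]) h22

theorem isNilpotent_of_class_two {H : Subgroup G} (h : ⁅⁅H, H⁆, H⁆ = ⊥) : Group.IsNilpotent H :=
  Subgroup.isNilpotent_of_lowerCentralSeries_eq_bot (n := 2) h

/-- The upper central series of a subgroup, inside the ambient group. -/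
def ucs (R : Subgroup G) (n : ℕ) : Subgroup G := (Subgroup.upperCentralSeries R n).map R.subtype

theorem ucs_zero (R : Subgroup G) : ucs R 0 = ⊥ := Subgroup.map_bot _

theorem ucs_mono (R : Subgroup G) {m n : ℕ} (h : m ≤ n) : ucs R m ≤ ucs R n :=
  Subgroup.map_mono (Subgroup.upperCentralSeries_mono R h)

theorem conjBy_ucs (R : Subgroup G) (n : ℕ) {x : G} (hx : x ∈ R) : conjBy (ucs R n) x = ucs R n := by
  have := map_conjBy R.subtype (Subgroup.upperCentralSeries R n) ⟨x, hx⟩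
  rw [conjBy_normal] at this
  exact this.symm

theorem le_ucs_succ {R H : Subgroup G} {n : ℕ} (hH : H ≤ R) (h : ⁅H, R⁆ ≤ ucs R n) : H ≤ ucs R (n + 1) := by
  intro x hx
  refine ⟨⟨x, hH hx⟩, Subgroup.mem_upperCentralSeries_succ_iff.2 fun y => ?_, rfl⟩
  obtain ⟨z, hz, he⟩ := h (Subgroup.commutator_mem_commutator hx y.2)
  have : z = ⁅(⟨x, hH hx⟩ : R), y⁆ := Subtype.ext he
  exact this ▸ hz

theorem isNilpotent_of_le_ucs {R : Subgroup G} {n : ℕ} (h : R ≤ ucs R n) : Group.IsNilpotent R := by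
  refine ⟨n, eq_top_iff.2 fun x _ => ?_⟩
  obtain ⟨z, hz, he⟩ := h x.2
  have : z = x := Subtype.ext he
  exact this ▸ hz

theorem le_ucs_succ_three {A B C H : Subgroup G} {n : ℕ} (hH : H ≤ A ⊔ B ⊔ C)
    (h1 : ⁅H, A⁆ ≤ ucs (A ⊔ B ⊔ C) n) (h2 : ⁅H, B⁆ ≤ ucs (A ⊔ B ⊔ C) n) (h3 : ⁅H, C⁆ ≤ ucs (A ⊔ B ⊔ C) n) :
    H ≤ ucs (A ⊔ B ⊔ C) (n + 1) :=
  le_ucs_succ hH (comm_sup_le (fun _ hx => conjBy_ucs _ _ hx)
    (comm_sup_le (fun _ hx => conjBy_ucs _ _ (Subgroup.mem_sup_left hx)) h1 h2) h3)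

/-! ### The commutator case -/

variable {S : Set (Subgroup G)} {A B C D : Subgroup G}

theorem rs_comm (hS : IsRootSubgroupSet S) (hA : A ∈ S) : ∀ a ∈ A, ∀ b ∈ A, a * b = b * a :=
  isMulCommutative_iff'.1 (hS.commutative A hA)

theorem rs_comm_self (hS : IsRootSubgroupSet S) (hA : A ∈ S) : ⁅A, A⁆ = ⊥ :=
  comm_bot_iff.2 (rs_comm hS hA)

theorem rs_exists_ne_one (hS : IsRootSubgroupSet S) (hA : A ∈ S) : ∃ a ∈ A, a ≠ 1 :=
  exists_ne_one_of_ne_bot (hS.ne_bot A hA)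

theorem cc_class_two (hS : IsRootSubgroupSet S) (hA : A ∈ S) (hB : B ∈ S) (h : RootCommutatorCase S A B) :
    ⁅⁅A ⊔ B, A ⊔ B⁆, A ⊔ B⁆ = ⊥ :=
  class_two_sup (K := ⁅A, B⁆) (comm_bot_iff.2 h.2.1) (by rw [rs_comm_self hS hA]; exact bot_le) le_rfl
    (by rw [rs_comm_self hS hB]; exact bot_le)

/-- For members of a set of abstract root subgroups the commutator case holds as soon as `⁅A, B⁆ ∈ S`. -/
theorem cc_of_mem (hS : IsRootSubgroupSet S) (hA : A ∈ S) (hB : B ∈ S) (hC : ⁅A, B⁆ ∈ S) :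
    RootCommutatorCase S A B := by
  rcases hS.pair A hA B hB with h | h | h
  · exact absurd h (hS.ne_bot _ hC)
  · exfalso
    have hn : ∀ x ∈ A ⊔ B, conjBy ⁅A, B⁆ x = ⁅A, B⁆ := fun x hx => mem_normalizer_iff_conjBy.1
      (sup_le (Subgroup.normalizer_commutator_ge_left A B) (Subgroup.normalizer_commutator_ge_right A B) hx)
    have hcen : ¬ ∀ z ∈ ⁅A, B⁆, ∀ b ∈ B, z * b = b * z := by
      intro hc
      obtain ⟨a, ha, ha1⟩ := rs_exists_ne_one hS hA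
      exact ha1 (rk_eq_one_of_comm_commute h (hS.commutative B hB) ha fun b hb b' hb' =>
        hc _ (Subgroup.commutator_mem_commutator ha hb) b' hb')
    rcases hS.pair B hB _ hC with h1 | h1 | h1
    · exact hcen fun z hz b hb => (comm_bot_iff.1 h1 b hb z hz).symm
    · obtain ⟨b, hb, hb1⟩ := rs_exists_ne_one hS hB
      exact hb1 (rk_eq_one_of_conjBy_eq h1 hb (hn b (Subgroup.mem_sup_right hb)))
    · rcases rk_normal_dichotomy (RankOnePair_symm h) (N := ⁅A, B⁆) (by rwa [sup_comm]) with h2 | h2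
      · rw [sup_comm] at h2
        exact rk_not_isNilpotent h h2 le_sup_left (isNilpotent_of_class_two (cc_class_two hS hB hC h1))
      · exact hcen fun z hz b hb => h2 z hz (by
          rw [sup_comm]; exact Subgroup.commutator_le_sup A B hz) b (Subgroup.mem_sup_left hb)
  · exact h

theorem rs_tri (hS : IsRootSubgroupSet S) (hA : A ∈ S) (hB : B ∈ S) :
    ⁅A, B⁆ = ⊥ ∨ IsRankOnePair A B ∨ ⁅A, B⁆ ∈ S := by
  rcases hS.pair A hA B hB with h | h | h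
  exacts [Or.inl h, Or.inr (Or.inl h), Or.inr (Or.inr h.1)]

theorem psi_symm (h : ⁅A, B⁆ ∈ S) : ⁅B, A⁆ ∈ S := by rwa [Subgroup.commutator_comm]

theorem psi_conjBy (hS : IsRootSubgroupSet S) (h : ⁅A, B⁆ ∈ S) (g : G) : ⁅conjBy A g, conjBy B g⁆ ∈ S := by
  rw [← conjBy_commutator]; exact hS.conj_mem _ h g

theorem psi_comm_left (hS : IsRootSubgroupSet S) (hA : A ∈ S) (hB : B ∈ S) (hC : ⁅A, B⁆ ∈ S) :
    ⁅A, ⁅A, B⁆⁆ = ⊥ :=
  comm_bot_iff.2 fun a ha c hc => ((cc_of_mem hS hA hB hC).2.1 c hc a (Subgroup.mem_sup_left ha)).symm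

theorem psi_comm_right (hS : IsRootSubgroupSet S) (hA : A ∈ S) (hB : B ∈ S) (hC : ⁅A, B⁆ ∈ S) :
    ⁅B, ⁅A, B⁆⁆ = ⊥ :=
  comm_bot_iff.2 fun b hb c hc => ((cc_of_mem hS hA hB hC).2.1 c hc b (Subgroup.mem_sup_right hb)).symm

theorem psi_class_two (hS : IsRootSubgroupSet S) (hA : A ∈ S) (hB : B ∈ S) (hC : ⁅A, B⁆ ∈ S) :
    ⁅⁅A ⊔ B, A ⊔ B⁆, A ⊔ B⁆ = ⊥ := cc_class_two hS hA hB (cc_of_mem hS hA hB hC)

theorem psi_isNilpotent (hS : IsRootSubgroupSet S) (hA : A ∈ S) (hB : B ∈ S) (hC : ⁅A, B⁆ ∈ S) :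
    Group.IsNilpotent ↥(A ⊔ B) := isNilpotent_of_class_two (psi_class_two hS hA hB hC)

theorem psi_not_rk (hS : IsRootSubgroupSet S) (hA : A ∈ S) (hB : B ∈ S) (hC : ⁅A, B⁆ ∈ S) :
    ¬ IsRankOnePair A B := fun h =>
  rk_not_isNilpotent h le_sup_left le_sup_right (psi_isNilpotent hS hA hB hC)

theorem psi_mul_right (hS : IsRootSubgroupSet S) (hA : A ∈ S) (hB : B ∈ S) (hC : ⁅A, B⁆ ∈ S)
    {a b b' : G} (ha : a ∈ A) (hb : b ∈ B) (hb' : b' ∈ B) : ⁅a, b * b'⁆ = ⁅a, b⁆ * ⁅a, b'⁆ := by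
  rw [commutatorElement_mul_right_eq_mul_conj, mul_assoc _ b,
    comm_bot_iff.1 (psi_comm_right hS hA hB hC) b hb _ (Subgroup.commutator_mem_commutator ha hb')]
  group

/-- In the commutator case `b ↦ ⁅a, b⁆` maps `B` onto `⁅A, B⁆` for each `1 ≠ a ∈ A`. -/
theorem psi_surj_right (hS : IsRootSubgroupSet S) (hA : A ∈ S) (hB : B ∈ S) (hC : ⁅A, B⁆ ∈ S)
    {a c : G} (ha : a ∈ A) (ha1 : a ≠ 1) (hc : c ∈ ⁅A, B⁆) : ∃ b ∈ B, ⁅a, b⁆ = c := by
  rw [← (cc_of_mem hS hA hB hC).2.2.1 a ha ha1] at hc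
  induction hc using Subgroup.closure_induction with
  | mem x hx => obtain ⟨b, hb, rfl⟩ := hx; exact ⟨b, hb, rfl⟩
  | one => exact ⟨1, B.one_mem, by simp⟩
  | mul x y _ _ hx hy =>
    obtain ⟨b, hb, rfl⟩ := hx
    obtain ⟨b', hb', rfl⟩ := hy
    exact ⟨b * b', B.mul_mem hb hb', psi_mul_right hS hA hB hC ha hb hb'⟩
  | inv x _ hx =>
    obtain ⟨b, hb, rfl⟩ := hx
    refine ⟨b⁻¹, B.inv_mem hb, ?_⟩
    rw [eq_inv_iff_mul_eq_one, ← psi_mul_right hS hA hB hC ha (B.inv_mem hb) hb]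
    simp

theorem psi_surj_left (hS : IsRootSubgroupSet S) (hA : A ∈ S) (hB : B ∈ S) (hC : ⁅A, B⁆ ∈ S)
    {b c : G} (hb : b ∈ B) (hb1 : b ≠ 1) (hc : c ∈ ⁅A, B⁆) : ∃ a ∈ A, ⁅a, b⁆ = c := by
  obtain ⟨a, ha, he⟩ := psi_surj_right hS hB hA (psi_symm hC) hb hb1
    (c := c⁻¹) (by rw [Subgroup.commutator_comm]; exact Subgroup.inv_mem _ hc)
  exact ⟨a, ha, by rw [← commutatorElement_inv, he, inv_inv]⟩

/-- If a non-identity element of `A` commutes with `B`, then `A` commutes with `B`. -/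
theorem comm_bot_of_elt (hS : IsRootSubgroupSet S) (hA : A ∈ S) (hB : B ∈ S) {a : G} (ha : a ∈ A)
    (ha1 : a ≠ 1) (h : ∀ b ∈ B, a * b = b * a) : ⁅A, B⁆ = ⊥ := by
  rcases rs_tri hS hA hB with h1 | h1 | h1
  · exact h1
  · exact absurd (rk_eq_one_of_commute h1 ha h) ha1
  · refine (Subgroup.eq_bot_iff_forall _).2 fun c hc => ?_
    obtain ⟨b, hb, rfl⟩ := psi_surj_right hS hA hB h1 ha ha1 hc
    exact commutatorElement_eq_one_iff_mul_comm.2 (h b hb)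

/-- In the commutator case `A` commutes with its `B`-conjugates, which lie in `A ⁅A, B⁆`. -/
theorem psi_conjBy_le (hA : A ∈ S) {b : G} (hb : b ∈ B) : conjBy A b ≤ A ⊔ ⁅A, B⁆ := by
  have _ := hA
  intro x hx
  obtain ⟨a, ha, rfl⟩ := mem_conjBy_iff_exists.1 hx
  have : b * a * b⁻¹ = a * ⁅a⁻¹, b⁆ := by rw [commutatorElement_def]; group
  rw [this]
  exact Subgroup.mul_mem_sup ha (Subgroup.commutator_mem_commutator (A.inv_mem ha) hb)

theorem psi_line_comm (hS : IsRootSubgroupSet S) (hA : A ∈ S) (hB : B ∈ S) (hC : ⁅A, B⁆ ∈ S) :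
    ⁅A ⊔ ⁅A, B⁆, A ⊔ ⁅A, B⁆⁆ = ⊥ :=
  sup_comm_bot (comm_sup_bot (rs_comm_self hS hA) (psi_comm_left hS hA hB hC))
    (comm_sup_bot (comm_bot_symm (psi_comm_left hS hA hB hC)) (rs_comm_self hS hC))

theorem psi_comm_conjBy (hS : IsRootSubgroupSet S) (hA : A ∈ S) (hB : B ∈ S) (hC : ⁅A, B⁆ ∈ S)
    {b : G} (hb : b ∈ B) : ⁅A, conjBy A b⁆ = ⊥ :=
  comm_bot_mono (psi_line_comm hS hA hB hC) le_sup_left (psi_conjBy_le hA hb)

theorem psi_sup_conjBy (hS : IsRootSubgroupSet S) (hA : A ∈ S) (hB : B ∈ S) (hC : ⁅A, B⁆ ∈ S)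
    {b : G} (hb : b ∈ B) (hb1 : b ≠ 1) : A ⊔ conjBy A b = A ⊔ ⁅A, B⁆ := by
  refine le_antisymm (sup_le le_sup_left (psi_conjBy_le hA hb)) (sup_le le_sup_left fun c hc => ?_)
  obtain ⟨a, ha, rfl⟩ := psi_surj_left hS hA hB hC hb hb1 hc
  have : ⁅a, b⁆ = a * (b * a⁻¹ * b⁻¹) := by rw [commutatorElement_def]; group
  rw [this]
  exact Subgroup.mul_mem_sup ha (conj_mem_conjBy (A.inv_mem ha) b)

/-- Every element `a c` with `1 ≠ a ∈ A`, `c ∈ ⁅A, B⁆` lies in a `B`-conjugate of `A`. -/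
theorem psi_exists_conj (hS : IsRootSubgroupSet S) (hA : A ∈ S) (hB : B ∈ S) (hC : ⁅A, B⁆ ∈ S)
    {a c : G} (ha : a ∈ A) (ha1 : a ≠ 1) (hc : c ∈ ⁅A, B⁆) : ∃ b ∈ B, a * c = b * a * b⁻¹ := by
  obtain ⟨b, hb, rfl⟩ := psi_surj_right hS hA hB hC (A.inv_mem ha) (inv_ne_one.2 ha1) hc
  exact ⟨b, hb, by rw [commutatorElement_def]; group⟩

/-- If `(A, B)` is not a rank one pair then `A` commutes with its `B`-conjugates. -/
theorem comm_conjBy_of_not_rk (hS : IsRootSubgroupSet S) (hA : A ∈ S) (hB : B ∈ S)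
    (h : ¬ IsRankOnePair A B) {b : G} (hb : b ∈ B) : ⁅A, conjBy A b⁆ = ⊥ := by
  rcases rs_tri hS hA hB with h1 | h1 | h1
  · rw [conjBy_of_commute fun a ha => (comm_bot_iff.1 h1 a ha b hb).symm]
    exact rs_comm_self hS hA
  · exact absurd h1 h
  · exact psi_comm_conjBy hS hA hB h1 hb

theorem unip_subset (hS : IsRootSubgroupSet S) (hA : A ∈ S) (hC : C ∈ unipotentSubgroups A B) : C ∈ S := by
  obtain ⟨x, -, rfl⟩ := hC
  exact hS.conj_mem A hA x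

/-- If `(A, D)` and `(E, D)` are rank one pairs and `D^a = D^e` with `a ∈ A`, `1 ≠ e ∈ E`, then `E` is a unipotent
subgroup of `⟨A, D⟩`. -/
theorem mem_unip_of_conjBy_eq {E : Subgroup G} (h : IsRankOnePair A D) (h' : IsRankOnePair E D) {a e : G}
    (ha : a ∈ A) (he : e ∈ E) (he1 : e ≠ 1) (heq : conjBy D a = conjBy D e) : E ∈ unipotentSubgroups A D := by
  obtain ⟨d, hd, -, h1⟩ := rk_exists_right h' he he1
  rw [← heq, conjBy_eq_iff_eq_conjBy_inv] at h1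
  rw [h1]
  exact conjBy_mem_unip (conjBy_mem_unip (right_mem_unip h) (Subgroup.mem_sup_left ha))
    (Subgroup.mem_sup_right (D.inv_mem hd))

/-- II (2.2): if `1 ≠ z` centralises the rank one group `⟨A, B⟩` then `z a` lies in no member of `S`. -/
theorem not_mem_of_central (hS : IsRootSubgroupSet S) (hA : A ∈ S) (hB : B ∈ S) (h : IsRankOnePair A B)
    {z a : G} (hz : ∀ x ∈ A ⊔ B, z * x = x * z) (hz1 : z ≠ 1) (ha : a ∈ A) (ha1 : a ≠ 1)
    {E : Subgroup G} (hE : E ∈ S) : z * a ∉ E := by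
  intro hza
  have hzB : ∀ b ∈ B, z * b = b * z := fun b hb => hz b (Subgroup.mem_sup_right hb)
  have hDa : conjBy B a = conjBy B (z * a) := by
    rw [hz a (Subgroup.mem_sup_left ha), ← conjBy_conjBy, conjBy_of_commute hzB]
  have hne : z * a ≠ 1 := by
    intro h1
    rw [h1, conjBy_one] at hDa
    exact ha1 (rk_eq_one_of_conjBy_eq h ha hDa)
  have hEA : ⁅E, A⁆ = ⊥ := comm_bot_of_elt hS hE hA hza hne fun a' ha' => by
    rw [mul_assoc, rs_comm hS hA a ha a' ha', ← mul_assoc, hz a' (Subgroup.mem_sup_left ha'), mul_assoc]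
  by_cases hEB : IsRankOnePair E B
  · have h1 := mem_unip_of_conjBy_eq h hEB ha hza hne hDa
    have h2 : E = A := rk_eq_of_mem_unip_of_comm h h1 left_mem_unip hEA
    rw [h2] at hza
    exact hz1 (rk_eq_one_of_commute h ((A.mul_mem_cancel_right ha).1 hza) hzB)
  · have h1 := comm_conjBy_of_not_rk hS hB hE (fun h => hEB (RankOnePair_symm h)) hza
    rw [← hDa] at h1
    exact rk_comm_ne_bot (rk_conjBy_self (RankOnePair_symm h) ha ha1) h1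

/-- `A` is not isolated in the graph of rank one pairs. -/
def NI (S : Set (Subgroup G)) (A : Subgroup G) : Prop := ∃ D ∈ S, IsRankOnePair A D

theorem ni_iff (hA : A ∈ S) : ¬ IsIsolatedIn (FAdj S) S A ↔ NI S A := by
  constructor
  · intro h
    by_contra hn
    exact h ⟨hA, fun B => ⟨fun hB => hn ⟨B, hB.2.1, hB.2.2⟩,
      fun hB => hn ⟨B, hB.1, RankOnePair_symm hB.2.2⟩⟩⟩
  · rintro ⟨D, hD, h⟩ hi
    exact (hi.2 D).1 ⟨hA, hD, h⟩

theorem NI.conjBy (hS : IsRootSubgroupSet S) (h : NI S A) (g : G) : NI S (conjBy A g) := by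
  obtain ⟨D, hD, h⟩ := h
  exact ⟨_, hS.conj_mem D hD g, rk_conjBy h g⟩

/-- II (2.?): a non-isolated member meets every other member trivially. -/
theorem NI.eq_of_mem (hS : IsRootSubgroupSet S) (hA : A ∈ S) (h : NI S A) (hB : B ∈ S) {x : G}
    (hxA : x ∈ A) (hxB : x ∈ B) (hx : x ≠ 1) : A = B := by
  obtain ⟨D, hD, h⟩ := h
  have _ := hA
  by_cases hBD : IsRankOnePair B D
  · exact rk_eq_of_mem_unip_of_mem h left_mem_unip (mem_unip_of_conjBy_eq h hBD hxA hxB hx rfl) hxA hxB hx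
  · exact absurd (comm_conjBy_of_not_rk hS hD hB (fun h => hBD (RankOnePair_symm h)) hxB)
      (rk_comm_ne_bot (rk_conjBy_self (RankOnePair_symm h) hxA hx))

theorem NI.eq_of_le (hS : IsRootSubgroupSet S) (hA : A ∈ S) (h : NI S A) (hB : B ∈ S) (hle : B ≤ A) :
    A = B := by
  obtain ⟨b, hb, hb1⟩ := rs_exists_ne_one hS hB
  exact h.eq_of_mem hS hA hB (hle hb) hb hb1

theorem psi_ne_left (hS : IsRootSubgroupSet S) (hA : A ∈ S) (hB : B ∈ S) (hC : ⁅A, B⁆ ∈ S) :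
    ⁅A, B⁆ ≠ A := by
  intro he
  have := psi_comm_right hS hA hB hC
  rw [he] at this
  exact hS.ne_bot _ hC (comm_bot_symm this)

/-- In the commutator case no non-identity element of `A` lies in `⁅A, B⁆`. -/
theorem psi_eq_one_of_mem (hS : IsRootSubgroupSet S) (hA : A ∈ S) (hB : B ∈ S) (hC : ⁅A, B⁆ ∈ S) {a : G}
    (ha : a ∈ A) (haC : a ∈ ⁅A, B⁆) : a = 1 := by
  by_contra ha1
  exact hS.ne_bot _ hC (comm_bot_of_elt hS hA hB ha ha1 fun b hb =>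
    (comm_bot_iff.1 (psi_comm_right hS hA hB hC) b hb a haC).symm)

/-- In the commutator case with `A` not isolated, non-identity elements of `A` and `B` do not commute. -/
theorem NI.psi_eq_one (hS : IsRootSubgroupSet S) (hA : A ∈ S) (h : NI S A) (hB : B ∈ S) (hC : ⁅A, B⁆ ∈ S)
    {a b : G} (ha : a ∈ A) (ha1 : a ≠ 1) (hb : b ∈ B) (hab : a * b = b * a) : b = 1 := by
  by_contra hb1
  have h1 : A = Cfsg.conjBy A b := h.eq_of_mem hS hA (hS.conj_mem A hA b) ha (by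
    have := conj_mem_conjBy ha b
    rwa [← hab, mul_inv_cancel_right] at this) ha1
  have h2 := psi_sup_conjBy hS hA hB hC hb hb1
  rw [← h1, sup_idem] at h2
  obtain ⟨c, hc, hc1⟩ := rs_exists_ne_one hS hC
  exact hc1 (psi_eq_one_of_mem hS hA hB hC (h2 ▸ Subgroup.mem_sup_right hc) hc)

theorem NI.psi_inj (hS : IsRootSubgroupSet S) (hA : A ∈ S) (h : NI S A) (hB : B ∈ S) (hC : ⁅A, B⁆ ∈ S)
    {a b b' : G} (ha : a ∈ A) (ha1 : a ≠ 1) (hb : b ∈ B) (hb' : b' ∈ B) (he : ⁅a, b⁆ = ⁅a, b'⁆) : b = b' := by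
  have h1 : a * (b'⁻¹ * b) = (b'⁻¹ * b) * a := by
    rw [commutatorElement_def, commutatorElement_def] at he
    have h0 : b * a⁻¹ * b⁻¹ = b' * a⁻¹ * b'⁻¹ := by
      apply mul_left_cancel (a := a); simpa only [mul_assoc] using he
    calc a * (b'⁻¹ * b) = a * b'⁻¹ * (b * a⁻¹ * b⁻¹) * b * a := by group
      _ = a * b'⁻¹ * (b' * a⁻¹ * b'⁻¹) * b * a := by rw [h0]
      _ = b'⁻¹ * b * a := by group
  have := h.psi_eq_one hS hA hB hC ha ha1 (B.mul_mem (B.inv_mem hb') hb) h1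
  exact (inv_mul_eq_one.1 this).symm

end CL.Chev.Root
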