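/-
Quadratic pairs, part 8: the root subgroups form a set of abstract root subgroups; its components generate
commuting quasisimple groups.
-/
import Cfsg.Agent.Chev.QuadDec
import Cfsg.Agent.Chev.RootSet

set_option autoImplicit false
set_option linter.all false

namespace CL.Chev.Quad

open Module LinearMap Cfsg
open scoped commutatorElement MatrixGroups

section grp
variable {Γ : Type*} [Group Γ]

theorem le_biSup_self {S : Set (Subgroup Γ)} {A : Subgroup Γ} (hA : A ∈ S) : A ≤ ⨆ B ∈ S, B :=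
  le_iSup₂_of_le (f := fun A (_ : A ∈ S) => A) A hA le_rfl

theorem biSup_induction {S : Set (Subgroup Γ)} {p : Γ → Prop} {x : Γ} (hx : x ∈ ⨆ B ∈ S, B)
    (hm : ∀ A ∈ S, ∀ x ∈ A, p x) (h1 : p 1) (hmul : ∀ x y, p x → p y → p (x * y)) : p x := by
  rw [← sSup_eq_iSup, sSup_eq_iSup'] at hx
  exact Subgroup.iSup_induction (C := p) _ hx (fun A => hm A.1 A.2) h1 hmul

theorem commutator_subgroupOf {A B H : Subgroup Γ} (hA : A ≤ H) (hB : B ≤ H) :
    ⁅A.subgroupOf H, B.subgroupOf H⁆ = ⁅A, B⁆.subgroupOf H := by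
  apply Subgroup.map_injective H.subtype_injective
  rw [Subgroup.map_commutator, Subgroup.map_subgroupOf_eq_of_le hA, Subgroup.map_subgroupOf_eq_of_le hB,
    Subgroup.map_subgroupOf_eq_of_le ((Subgroup.commutator_mono hA hB).trans (Subgroup.commutator_le_self H))]

theorem closure_image_subgroupOf {B H : Subgroup Γ} (hB : B ≤ H) (f : H → H) (f' : Γ → Γ)
    (hf : ∀ x : H, (f x : Γ) = f' x) :
    (Subgroup.closure (f '' (B.subgroupOf H : Set H))).map H.subtype = Subgroup.closure (f' '' (B : Set Γ)) := by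
  rw [MonoidHom.map_closure]
  congr 1
  ext y
  constructor
  · rintro ⟨_, ⟨x, hx, rfl⟩, rfl⟩
    exact ⟨x, hx, (hf x).symm⟩
  · rintro ⟨x, hx, rfl⟩
    exact ⟨_, ⟨⟨x, hB hx⟩, hx, rfl⟩, hf _⟩

theorem rootCommutatorCase_subgroupOf {S : Set (Subgroup Γ)} {A B H : Subgroup Γ} (hA : A ≤ H) (hB : B ≤ H)
    (h : RootCommutatorCase S A B) :
    RootCommutatorCase ((fun A : Subgroup Γ => A.subgroupOf H) '' S) (A.subgroupOf H) (B.subgroupOf H) := by
  have hC : ⁅A, B⁆ ≤ H := (Subgroup.commutator_mono hA hB).trans (Subgroup.commutator_le_self H)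
  unfold RootCommutatorCase
  rw [commutator_subgroupOf hA hB, ← Subgroup.subgroupOf_sup hA hB]
  refine ⟨⟨_, h.1, rfl⟩, fun c hc x hx => Subtype.ext (h.2.1 c hc x hx), fun a ha ha1 => ?_, fun b hb hb1 => ?_⟩
  · apply Subgroup.map_injective H.subtype_injective
    rw [closure_image_subgroupOf hB _ (fun b => (a : Γ) * b * (a : Γ)⁻¹ * b⁻¹) fun _ => rfl,
      h.2.2.1 a ha fun h => ha1 (Subtype.ext h), Subgroup.map_subgroupOf_eq_of_le hC]
  · apply Subgroup.map_injective H.subtype_injective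
    rw [closure_image_subgroupOf hA _ (fun a => a * (b : Γ) * a⁻¹ * (b : Γ)⁻¹) fun _ => rfl,
      h.2.2.2 b hb fun h => hb1 (Subtype.ext h), Subgroup.map_subgroupOf_eq_of_le hC]

/-- A family satisfying the local conditions is a set of abstract root subgroups of the group it generates. -/
theorem isRootSubgroupSet_subgroupOf {S : Set (Subgroup Γ)} (hc : ∀ A ∈ S, IsMulCommutative A) (hb : ∀ A ∈ S, A ≠ ⊥)
    (hconj : ∀ A ∈ S, ∀ g ∈ ⨆ B ∈ S, B, conjBy A g ∈ S)
    (hp : ∀ A ∈ S, ∀ B ∈ S, ⁅A, B⁆ = ⊥ ∨ IsRankOnePair A B ∨ RootCommutatorCase S A B) :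
    IsRootSubgroupSet ((fun A : Subgroup Γ => A.subgroupOf (⨆ B ∈ S, B)) '' S) := by
  refine ⟨?_, ?_, ?_, ?_, ?_⟩
  · rintro _ ⟨A, hA, rfl⟩
    have := hc A hA
    infer_instance
  · rintro _ ⟨A, hA, rfl⟩ h
    apply hb A hA
    rw [← Subgroup.map_subgroupOf_eq_of_le (le_biSup_self hA), show A.subgroupOf _ = ⊥ from h, Subgroup.map_bot]
  · apply Subgroup.map_injective (Subgroup.subtype_injective _)
    rw [← MonoidHom.range_eq_map, Subgroup.range_subtype, iSup_image]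
    simp only [Subgroup.map_iSup]
    exact biSup_congr fun A hA => Subgroup.map_subgroupOf_eq_of_le (le_biSup_self hA)
  · rintro _ ⟨A, hA, rfl⟩ g
    exact ⟨_, hconj A hA g g.2, (Root.conjBy_subgroupOf _ _ _).symm⟩
  · rintro _ ⟨A, hA, rfl⟩ _ ⟨B, hB, rfl⟩
    rcases hp A hA B hB with h | h | h
    · left
      rw [commutator_subgroupOf (le_biSup_self hA) (le_biSup_self hB), h, Subgroup.bot_subgroupOf]
    · exact Or.inr (Or.inl (Root.rk_subgroupOf h (le_biSup_self hA) (le_biSup_self hB)))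
    · exact Or.inr (Or.inr (rootCommutatorCase_subgroupOf (le_biSup_self hA) (le_biSup_self hB) h))

theorem isQuasisimple_of_dichotomy {K : Subgroup Γ} (hp : ⁅K, K⁆ = K) (hne : K ≠ ⊥)
    (h : ∀ N ≤ K, (∀ g ∈ K, conjBy N g = N) → N = K ∨ ⁅N, K⁆ = ⊥) : IsQuasisimple K := by
  refine ⟨Subgroup.isPerfect_iff.2 hp, ?_⟩
  have hnt : Nontrivial (K ⧸ Subgroup.center K) := by
    by_contra hns
    rw [not_nontrivial_iff_subsingleton] at hns
    have hc := QuotientGroup.subgroup_eq_top_of_subsingleton _ hns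
    refine hne (hp.symm.trans (Root.comm_bot_iff.2 fun a ha b hb => ?_))
    exact congrArg Subtype.val (Subgroup.mem_center_iff.1 (hc ▸ Subgroup.mem_top (⟨b, hb⟩ : K)) ⟨a, ha⟩)
  refine ⟨fun N hN => ?_⟩
  rw [← Subgroup.map_comap_eq_self_of_surjective (QuotientGroup.mk'_surjective (Subgroup.center K)) N]
  set N' := N.comap (QuotientGroup.mk' (Subgroup.center K))
  rcases h (N'.map K.subtype) (Subgroup.map_subtype_le _) (fun g hg => by
    rw [show g = K.subtype ⟨g, hg⟩ from rfl, ← Root.map_conjBy, Root.conjBy_normal]) with h1 | h1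
  · right
    have : N' = ⊤ := by
      apply Subgroup.map_injective K.subtype_injective
      rw [h1, ← MonoidHom.range_eq_map, Subgroup.range_subtype]
    rw [this, Subgroup.map_top_of_surjective _ (QuotientGroup.mk'_surjective _)]
  · left
    rw [Subgroup.map_eq_bot_iff, QuotientGroup.ker_mk']
    intro x hx
    exact Subgroup.mem_center_iff.2 fun g => Subtype.ext (Root.comm_bot_iff.1 h1 x ⟨x, hx, rfl⟩ g g.2).symm

theorem commutator_biSup_bot {S : Set (Subgroup Γ)} {N : Subgroup Γ} (h : ∀ B ∈ S, ⁅N, B⁆ = ⊥) :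
    ⁅N, ⨆ B ∈ S, B⁆ = ⊥ := by
  rw [Subgroup.commutator_comm, Subgroup.commutator_eq_bot_iff_le_centralizer]
  refine iSup₂_le fun B hB => ?_
  rw [← Subgroup.commutator_eq_bot_iff_le_centralizer, Subgroup.commutator_comm, h B hB]

theorem conjBy_biSup_eq {S : Set (Subgroup Γ)} {g : Γ} (h : ∀ B ∈ S, conjBy B g ∈ S) (h' : ∀ B ∈ S, conjBy B g⁻¹ ∈ S) :
    conjBy (⨆ B ∈ S, B) g = ⨆ B ∈ S, B := by
  have key : ∀ g : Γ, (∀ B ∈ S, conjBy B g ∈ S) → conjBy (⨆ B ∈ S, B) g ≤ ⨆ B ∈ S, B := fun g h => by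
    simp only [conjBy, Subgroup.map_iSup]
    exact iSup₂_le fun B hB => le_biSup_self (h B hB)
  refine le_antisymm (key g h) ?_
  rw [← Root.conjBy_le_conjBy_iff (g := g⁻¹), Root.conjBy_conjBy_inv]
  exact key _ h'

end grp

variable {k : Type*} [Field k] {M : Type*} [AddCommGroup M] [Module k M] [FiniteDimensional k M]
variable {G : Subgroup (LinearMap.GeneralLinearGroup k M)}

local notation "GLM" => LinearMap.GeneralLinearGroup k M
local notation "Σ₀" => quadraticRootSubgroups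

theorem IsUnipotentOn.conjBy {N : Subgroup GLM} (h : IsUnipotentOn N) (g : GLM) : IsUnipotentOn (conjBy N g) := by
  obtain ⟨n, hn⟩ := isUnipotentOn_def.1 h
  refine isUnipotentOn_def.2 ⟨n, fun l hl hlen => ?_⟩
  have h1 := hn (l.map fun x => g⁻¹ * x * g) (by
    intro x hx
    obtain ⟨y, hy, rfl⟩ := List.mem_map.1 hx
    exact mem_conjBy.1 (hl y hy)) (by simpa using hlen)
  have key : ∀ l : List GLM, ((l.map fun x => g⁻¹ * x * g).map fun x : GLM => (x : Module.End k M) - 1).prod =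
      ((g⁻¹ : GLM) : Module.End k M) * (l.map fun x : GLM => (x : Module.End k M) - 1).prod * g := by
    intro l
    induction l with
    | nil => simp
    | cons x l ih =>
      rw [List.map_cons, List.map_cons, List.prod_cons, ih]
      simp only [List.map_cons, List.prod_cons, Units.val_mul, sub_mul, mul_sub, mul_assoc, Units.mul_inv_cancel_left,
        one_mul]
  rw [key] at h1
  have := congrArg (fun x => (g : Module.End k M) * x * ((g⁻¹ : GLM) : Module.End k M)) h1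
  simpa [mul_assoc] using this

theorem NoUnip.of_normal (hG : NoUnip G) {K : Subgroup GLM} (hK : K ≤ G) (hn : ∀ g ∈ G, conjBy K g = K) :
    NoUnip K := by
  intro N hN hnorm hu
  have hle : ∀ g ∈ G, conjBy N g ≤ K := fun g hg => (Root.conjBy_mono hN g).trans (hn g hg).le
  have hconj : ∀ A ∈ {A | ∃ g ∈ G, A = conjBy N g}, ∀ g ∈ G, conjBy A g ∈ {A | ∃ g ∈ G, A = conjBy N g} := by
    rintro _ ⟨g, hg, rfl⟩ g' hg'
    exact ⟨g' * g, G.mul_mem hg' hg, Root.conjBy_conjBy _ _ _⟩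
  have h1 := isUnipotentOn_sSup (G := G) (W := {A | ∃ g ∈ G, A = conjBy N g})
    (by rintro _ ⟨g, hg, rfl⟩; exact (hle g hg).trans hK) ?_ hconj
  · have := hG _ (sSup_le (by rintro _ ⟨g, hg, rfl⟩; exact (hle g hg).trans hK))
      (fun g hg x hx => conj_mem_sSup (fun A hA => hconj A hA g hg) hx) h1
    rw [eq_bot_iff, ← this]
    exact le_sSup ⟨1, G.one_mem, (conjBy_one N).symm⟩
  · rintro _ ⟨g, hg, rfl⟩ _ ⟨g', hg', rfl⟩
    refine IsUnipotentOn.sup_of_normalizes (IsUnipotentOn.conjBy hu g) (IsUnipotentOn.conjBy hu g') fun x hx y hy => ?_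
    have hx' : g⁻¹ * x * g ∈ K := by
      rw [← mem_conjBy, hn g hg]; exact hle g' hg' hx
    rw [mem_conjBy] at hy ⊢
    convert hnorm _ hx' _ hy using 1
    group

theorem clsGrp_mem {a : Module.End k M} (ha : Min G a) : clsGrp G a ∈ Σ₀ G := mem_quadraticRootSubgroups.2 ⟨a, ha, rfl⟩

theorem conjBy_mem_root {A : Subgroup GLM} (hA : A ∈ Σ₀ G) {g : GLM} (hg : g ∈ G) : conjBy A g ∈ Σ₀ G := by
  obtain ⟨a, ha, rfl⟩ := mem_quadraticRootSubgroups.1 hA
  rw [conjBy_clsGrp a hg]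
  exact clsGrp_mem (ha.conj hg)

theorem conjBy_root0 {g : GLM} (hg : g ∈ G) : conjBy (root0 G) g = root0 G :=
  conjBy_biSup_eq (fun _ hB => conjBy_mem_root hB hg) fun _ hB => conjBy_mem_root hB (G.inv_mem hg)

theorem clsGrp_ne_bot {a : Module.End k M} (ha : Min G a) : clsGrp G a ≠ ⊥ := fun h => by
  have := ex_mem_clsGrp (self_mem_cls ha.q0)
  rw [h, Subgroup.mem_bot, ex_eq_one] at this
  exact ha.ne this

theorem Opp.commutator_ne_bot {a b : Module.End k M} (h : Opp a b) (ha : Min G a) (hb : Min G b) :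
    ⁅clsGrp G a, clsGrp G b⁆ ≠ ⊥ := fun h0 => not_opp_of_comm ha (comm_of_commutator_eq_bot ha.q0 hb.q0 h0) h

theorem root_pair (H : Hyp k) (hG : NoUnip G) {S : Set (Subgroup GLM)} {a b : Module.End k M} (ha : Min G a)
    (hb : Min G b) (hS : ¬ Opp a b → a * b - b * a ≠ 0 → clsGrp G (a * b - b * a) ∈ S) :
    ⁅clsGrp G a, clsGrp G b⁆ = ⊥ ∨ IsRankOnePair (clsGrp G a) (clsGrp G b) ∨
      RootCommutatorCase S (clsGrp G a) (clsGrp G b) := by
  by_cases h : Opp a b
  · exact Or.inr (Or.inl (h.isRankOnePair H ha hb))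
  by_cases hc : a * b - b * a = 0
  · exact Or.inl (commutator_eq_bot_of_comm H ha hb h (sub_eq_zero.1 hc))
  refine Or.inr (Or.inr ⟨?_, fun c hc' x hx => ?_, fun e he he1 => closure_commutator_left H ha hb h hG hc he he1,
    fun f hf hf1 => closure_commutator_right H ha hb h hG hc hf hf1⟩)
  · rw [commutator_eq_clsGrp H ha hb h hG hc]; exact hS h hc
  · rw [commutator_eq_clsGrp H ha hb h hG hc] at hc'
    exact sup_commute_clsGrp_comm H ha hb h hc hx hc'

theorem exists_psl2_of_rankOne (H : Hyp k) {A B : Subgroup GLM} (hA : A ∈ Σ₀ G) (hB : B ∈ Σ₀ G)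
    (h : IsRankOnePair A B) : ∃ A₀ B₀ : Subgroup GLM, A₀ ≤ A ∧ B₀ ≤ B ∧ IsPSL2PairOver k A₀ B₀ := by
  obtain ⟨a, ha, rfl⟩ := mem_quadraticRootSubgroups.1 hA
  obtain ⟨b, hb, rfl⟩ := mem_quadraticRootSubgroups.1 hB
  obtain ⟨f, hf, -, hp⟩ := (opp_of_isRankOnePair H ha hb h).exists_pair H ha hb
  exact ⟨_, _, map_upper_le hp fun c => ex_mem_clsGrp (Submodule.smul_mem _ c (self_mem_cls ha.q0)),
    map_lower_le hp fun c => ex_mem_clsGrp (Submodule.smul_mem _ c hf),
    isPSL2PairOver_sl2Hom hp (scal_smul a f) ha.ne⟩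

theorem isRootSubgroupSet_root (H : Hyp k) (hG : NoUnip G) :
    IsRootSubgroupSet ((fun A : Subgroup GLM => A.subgroupOf (⨆ B ∈ Σ₀ G, B)) '' Σ₀ G) := by
  refine isRootSubgroupSet_subgroupOf (fun A hA => ?_) (fun A hA => ?_)
    (fun A hA g hg => conjBy_mem_root hA (root0_le hg)) fun A hA B hB => ?_
  · obtain ⟨a, ha, rfl⟩ := mem_quadraticRootSubgroups.1 hA
    exact clsGrp_comm a
  · obtain ⟨a, ha, rfl⟩ := mem_quadraticRootSubgroups.1 hA
    exact clsGrp_ne_bot ha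
  · obtain ⟨a, ha, rfl⟩ := mem_quadraticRootSubgroups.1 hA
    obtain ⟨b, hb, rfl⟩ := mem_quadraticRootSubgroups.1 hB
    exact root_pair H hG ha hb fun h hc => clsGrp_mem (min_comm H ha hb h hc)

theorem not_isolated_root (H : Hyp k) (hG : NoUnip G) {A : Subgroup GLM} (hA : A ∈ Σ₀ G) :
    ¬ IsIsolatedIn (FAdj (Σ₀ G)) (Σ₀ G) A := by
  rw [Root.ni_iff hA]
  obtain ⟨a, ha, rfl⟩ := mem_quadraticRootSubgroups.1 hA
  obtain ⟨b, hb, h⟩ := exists_opp H hG ha
  exact ⟨_, clsGrp_mem hb, h.isRankOnePair H ha hb⟩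

/-- The components of the non-commuting graph on the root subgroups. -/
def comp (G : Subgroup GLM) (A : Subgroup GLM) : Set (Subgroup GLM) :=
  {B | B ∈ Σ₀ G ∧ Relation.ReflTransGen (fun B C => B ∈ Σ₀ G ∧ C ∈ Σ₀ G ∧ ⁅B, C⁆ ≠ ⊥) A B}

/-- The group generated by a component. -/
def compGrp (G : Subgroup GLM) (A : Subgroup GLM) : Subgroup GLM := ⨆ B ∈ comp G A, B

variable {A : Subgroup (LinearMap.GeneralLinearGroup k M)}

theorem self_mem_comp (hA : A ∈ Σ₀ G) : A ∈ comp G A := ⟨hA, .refl⟩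

theorem mem_comp_of_ne_bot {B C : Subgroup GLM} (hB : B ∈ comp G A) (hC : C ∈ Σ₀ G) (h : ⁅B, C⁆ ≠ ⊥) : C ∈ comp G A :=
  ⟨hC, hB.2.tail ⟨hB.1, hC, h⟩⟩

theorem comp_eq {B : Subgroup GLM} (hB : B ∈ comp G A) : comp G B = comp G A := by
  have hs : Relation.ReflTransGen (fun B C : Subgroup GLM => B ∈ Σ₀ G ∧ C ∈ Σ₀ G ∧ ⁅B, C⁆ ≠ ⊥) B A := by
    obtain ⟨-, h⟩ := hB
    induction h with
    | refl => exact .refl
    | tail _ h ih => exact .head ⟨h.2.1, h.1, by rw [Subgroup.commutator_comm]; exact h.2.2⟩ ih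
  ext C
  exact ⟨fun h => ⟨h.1, hB.2.trans h.2⟩, fun h => ⟨h.1, hs.trans h.2⟩⟩

theorem compGrp_le_root0 : compGrp G A ≤ root0 G := iSup₂_le fun _ hB => le_biSup_self hB.1

theorem conjBy_mem_comp {g : GLM} (hg : g ∈ root0 G) : ∀ B ∈ comp G A, conjBy B g ∈ comp G A := by
  refine biSup_induction (p := fun g => ∀ B ∈ comp G A, conjBy B g ∈ comp G A) hg (fun E hE e he B hB => ?_)
    (fun B hB => by rwa [conjBy_one]) fun x y hx hy B hB => by rw [conjBy_mul]; exact hx _ (hy B hB)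
  by_cases h : ⁅B, E⁆ = ⊥
  · rwa [conjBy_eq_of_commute fun x hx => Root.comm_bot_iff.1 h x hx e he]
  · refine mem_comp_of_ne_bot (mem_comp_of_ne_bot hB hE h) (conjBy_mem_root hB.1 (root0_le (le_biSup_self hE he))) ?_
    rwa [← Root.conjBy_of_mem he, ← Root.conjBy_commutator, Ne, Root.conjBy_eq_bot_iff, Subgroup.commutator_comm]

theorem conjBy_compGrp {g : GLM} (hg : g ∈ root0 G) : conjBy (compGrp G A) g = compGrp G A :=
  conjBy_biSup_eq (conjBy_mem_comp hg) (conjBy_mem_comp (Subgroup.inv_mem _ hg))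

theorem noUnip_compGrp (hG : NoUnip G) : NoUnip (compGrp G A) :=
  (hG.of_normal root0_le fun _ => conjBy_root0).of_normal compGrp_le_root0 fun _ => conjBy_compGrp

theorem commutator_compGrp {B : Subgroup GLM} (h : comp G A ≠ comp G B) : ⁅compGrp G A, compGrp G B⁆ = ⊥ := by
  refine commutator_biSup_bot fun C hC => Root.comm_bot_symm (commutator_biSup_bot fun D hD => ?_)
  by_contra hne
  exact h ((comp_eq hD).symm.trans (comp_eq (mem_comp_of_ne_bot hC hD.1 hne)))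

theorem Opp.exists_conjBy (H : Hyp k) {a b : Module.End k M} (h : Opp a b) (ha : Min G a) (hb : Min G b)
    (hA : clsGrp G a ∈ comp G A) :
    clsGrp G b ∈ comp G A ∧ ∃ g ∈ compGrp G A, clsGrp G b = conjBy (clsGrp G a) g := by
  have hB := mem_comp_of_ne_bot hA (clsGrp_mem hb) (h.commutator_ne_bot ha hb)
  obtain ⟨n, hn, e⟩ := h.exists_conj H ha hb
  refine ⟨hB, n, sup_le (le_biSup_self hA) (le_biSup_self hB) hn, ?_⟩
  rw [conjBy_clsGrp a (sup_le (clsGrp_le a) (clsGrp_le b) hn), clsGrp_congr e]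

theorem comm_mem_comp (H : Hyp k) (hG : NoUnip G) {a b : Module.End k M} (ha : Min G a) (hb : Min G b) (h : ¬ Opp a b)
    (hc : a * b - b * a ≠ 0) (hA : clsGrp G a ∈ comp G A) (hB : clsGrp G b ∈ comp G A) :
    clsGrp G (a * b - b * a) ∈ comp G A ∧ ∃ g ∈ compGrp G A, clsGrp G (a * b - b * a) = conjBy (clsGrp G b) g := by
  have hm := min_comm H ha hb h hc
  obtain ⟨f, hf, hp⟩ := exists_pair H hG hm
  have : clsGrp G f ∈ comp G A ∧ ∃ g ∈ compGrp G A, clsGrp G f = conjBy (clsGrp G b) g := by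
    rcases exists_opp_conj H ha hb h hc hf hp with h1 | h1
    · exact h1.exists_conjBy H hb hf hB
    · have he : ex a ha.sq ∈ compGrp G A := le_biSup_self hA (ex_mem_clsGrp (self_mem_cls ha.q0))
      have e : clsGrp G ((1 + a) * b * (1 - a)) = conjBy (clsGrp G b) (ex a ha.sq) :=
        (conjBy_clsGrp b ha.q0.ex_mem).symm
      obtain ⟨h2, g, hg, e'⟩ := h1.exists_conjBy H (hb.conj_ex ha.q0) hf
        (e ▸ conjBy_mem_comp (compGrp_le_root0 he) _ hB)
      exact ⟨h2, g * ex a ha.sq, Subgroup.mul_mem _ hg he, by rw [e', e, conjBy_mul]⟩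
  obtain ⟨h1, g, hg, e⟩ := this
  obtain ⟨h2, g', hg', e'⟩ := hp.opp.symm.exists_conjBy H hf hm h1
  exact ⟨h2, g' * g, Subgroup.mul_mem _ hg' hg, by rw [e', e, conjBy_mul]⟩

theorem exists_conjBy_of_mem_comp (H : Hyp k) (hG : NoUnip G) {B : Subgroup GLM} (hB : B ∈ comp G A) :
    ∃ g ∈ compGrp G A, B = conjBy A g := by
  obtain ⟨-, h⟩ := hB
  induction h with
  | refl => exact ⟨1, Subgroup.one_mem _, (conjBy_one A).symm⟩
  | tail h1 h2 ih =>
    obtain ⟨g, hg, e⟩ := ih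
    obtain ⟨hB, hC, hne⟩ := h2
    have hB' : _ ∈ comp G A := ⟨hB, h1⟩
    have hC' := mem_comp_of_ne_bot hB' hC hne
    obtain ⟨b, hb, rfl⟩ := mem_quadraticRootSubgroups.1 hB
    obtain ⟨c, hc, rfl⟩ := mem_quadraticRootSubgroups.1 hC
    suffices ∃ g' ∈ compGrp G A, clsGrp G c = conjBy (clsGrp G b) g' by
      obtain ⟨g', hg', e'⟩ := this
      exact ⟨g' * g, Subgroup.mul_mem _ hg' hg, by rw [e', e, conjBy_mul]⟩
    by_cases h : Opp b c
    · exact (h.exists_conjBy H hb hc hB').2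
    have h0 : b * c - c * b ≠ 0 := fun h0 => hne (commutator_eq_bot_of_comm H hb hc h (sub_eq_zero.1 h0))
    obtain ⟨-, x, hx, ex⟩ := comm_mem_comp H hG hb hc h h0 hB' hC'
    obtain ⟨-, y, hy, ey⟩ := comm_mem_comp H hG hc hb (fun h' => h h'.symm)
      (by rw [← neg_sub, neg_ne_zero]; exact h0) hC' hB'
    rw [← neg_sub, clsGrp_congr (cls_neg _), ex] at ey
    exact ⟨x⁻¹ * y, Subgroup.mul_mem _ (Subgroup.inv_mem _ hx) hy, by rw [conjBy_mul, ← ey, Root.conjBy_conjBy_inv]⟩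

theorem isRootSubgroupClass_comp (H : Hyp k) (hG : NoUnip G) (hA : A ∈ Σ₀ G) :
    IsRootSubgroupClass ((fun B : Subgroup GLM => B.subgroupOf (⨆ B ∈ comp G A, B)) '' comp G A) := by
  refine ⟨isRootSubgroupSet_subgroupOf (fun B hB => ?_) (fun B hB => ?_)
    (fun B hB g hg => conjBy_mem_comp (compGrp_le_root0 hg) B hB) fun B hB C hC => ?_,
    ⟨_, A, self_mem_comp hA, rfl⟩, ?_⟩
  · obtain ⟨a, ha, rfl⟩ := mem_quadraticRootSubgroups.1 hB.1
    exact clsGrp_comm a
  · obtain ⟨a, ha, rfl⟩ := mem_quadraticRootSubgroups.1 hB.1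
    exact clsGrp_ne_bot ha
  · obtain ⟨a, ha, rfl⟩ := mem_quadraticRootSubgroups.1 hB.1
    obtain ⟨b, hb, rfl⟩ := mem_quadraticRootSubgroups.1 hC.1
    exact root_pair H hG ha hb fun h hc => (comm_mem_comp H hG ha hb h hc hB hC).1
  · rintro _ ⟨B, hB, rfl⟩ _ ⟨C, hC, rfl⟩
    obtain ⟨g, hg, e⟩ := exists_conjBy_of_mem_comp H hG hB
    obtain ⟨g', hg', e'⟩ := exists_conjBy_of_mem_comp H hG hC
    refine ⟨⟨g' * g⁻¹, Subgroup.mul_mem _ hg' (Subgroup.inv_mem _ hg)⟩, ?_⟩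
    rw [Root.conjBy_subgroupOf, conjBy_mul, e, e', Root.conjBy_conjBy_inv]

theorem compGrp_perfect (H : Hyp k) (hG : NoUnip G) : ⁅compGrp G A, compGrp G A⁆ = compGrp G A := by
  refine le_antisymm (Subgroup.commutator_le_self _) (iSup₂_le fun B hB x hx => ?_)
  obtain ⟨b, hb, rfl⟩ := mem_quadraticRootSubgroups.1 hB.1
  obtain ⟨e, he, rfl⟩ := exists_of_mem_clsGrp hx
  by_cases he0 : e = 0
  · rw [(ex_eq_one _).2 he0]; exact Subgroup.one_mem _
  have hm := hb.of_mem_cls he he0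
  obtain ⟨f, hf, hp⟩ := exists_pair H hG hm
  rw [← hb.clsGrp_eq he he0] at hB
  exact hp.ex_mem_commutator H.three
    (fun c => le_biSup_self hB (ex_mem_clsGrp (Submodule.smul_mem _ c (self_mem_cls hm.q0))))
    fun c => le_biSup_self (hp.opp.exists_conjBy H hm hf hB).1
      (ex_mem_clsGrp (Submodule.smul_mem _ c (self_mem_cls hf.q0)))

theorem compGrp_dichotomy (H : Hyp k) (hG : NoUnip G) {N : Subgroup GLM} (hN : N ≤ compGrp G A)
    (hn : ∀ g ∈ compGrp G A, conjBy N g = N) : N = compGrp G A ∨ ⁅N, compGrp G A⁆ = ⊥ := by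
  have hNG : N ≤ G := hN.trans (compGrp_le_root0.trans root0_le)
  by_cases h : ∀ B ∈ comp G A, ∀ n ∈ N, IsUnipotentOn (B ⊔ conjBy B n)
  · right
    have hNB : ∀ B ∈ comp G A, ⁅N, B⁆ ≤ N := fun B hB => Subgroup.le_normalizer_iff_commutator_le_left.1
      fun x hx => Root.mem_normalizer_iff_conjBy.2 (hn x (le_biSup_self hB hx))
    have h1 : ∀ B ∈ comp G A, IsUnipotentOn ⁅N, B⁆ := by
      intro B hB
      refine IsUnipotentOn.anti (isUnipotentOn_sSup (G := B ⊔ N) (W := {C | ∃ n ∈ N, C = conjBy B n}) ?_ ?_ ?_) ?_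
      · rintro _ ⟨n, hn, rfl⟩
        exact Root.conjBy_le_of_mem le_sup_left (Subgroup.mem_sup_right hn)
      · rintro _ ⟨n, hn, rfl⟩ _ ⟨n', hn', rfl⟩
        have := h _ (conjBy_mem_comp (compGrp_le_root0 (hN hn)) B hB) _ (N.mul_mem hn' (N.inv_mem hn))
        rwa [Root.conjBy_conjBy, inv_mul_cancel_right] at this
      · rintro _ ⟨n, hn', rfl⟩ g hg
        obtain ⟨b, hb, m, hm, e⟩ := (Root.mem_sup_of_norm fun b hb => hn b (le_biSup_self hB hb)).1
          (Subgroup.inv_mem _ (Subgroup.mul_mem _ hg (Subgroup.mem_sup_right hn')))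
        refine ⟨m⁻¹, N.inv_mem hm, ?_⟩
        rw [Root.conjBy_conjBy, inv_eq_iff_eq_inv.1 e, _root_.mul_inv_rev, Root.conjBy_mul_of_mem _ (B.inv_mem hb)]
      · rw [Subgroup.commutator_le]
        intro n hn b hb
        refine Subgroup.mul_mem _ (Subgroup.mem_sSup_of_mem ?_ (conj_mem_conjBy hb))
          (Subgroup.mem_sSup_of_mem ?_ (B.inv_mem hb))
        · exact ⟨n, hn, rfl⟩
        · exact ⟨1, N.one_mem, (conjBy_one B).symm⟩
    have hconj : ∀ C ∈ {C | ∃ B ∈ comp G A, C = ⁅N, B⁆}, ∀ g ∈ compGrp G A,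
        conjBy C g ∈ {C | ∃ B ∈ comp G A, C = ⁅N, B⁆} := by
      rintro _ ⟨B, hB, rfl⟩ g hg
      exact ⟨_, conjBy_mem_comp (compGrp_le_root0 hg) B hB, by rw [Root.conjBy_commutator, hn g hg]⟩
    have hle : ∀ C ∈ {C | ∃ B ∈ comp G A, C = ⁅N, B⁆}, C ≤ compGrp G A := by
      rintro _ ⟨B, hB, rfl⟩; exact (hNB B hB).trans hN
    have h2 := noUnip_compGrp hG _ (sSup_le hle) (fun g hg x hx => conj_mem_sSup (fun C hC => hconj C hC g hg) hx)
      (isUnipotentOn_sSup hle ?_ hconj)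
    · exact commutator_biSup_bot fun B hB => le_bot_iff.1 (h2 ▸ le_sSup ⟨B, hB, rfl⟩)
    · rintro _ ⟨B, hB, rfl⟩ _ ⟨C, hC, rfl⟩
      exact IsUnipotentOn.sup_of_normalizes (h1 B hB) (h1 C hC) fun g hg x hx =>
        (Subgroup.mem_normalizer_iff.1 (Subgroup.normalizer_commutator_ge_left N B (hNB C hC hg)) x).1 hx
  · left
    push Not at h
    obtain ⟨B, hB, n, hnN, hu⟩ := h
    have hBN : B ≤ N := by
      obtain ⟨b, hb, rfl⟩ := mem_quadraticRootSubgroups.1 hB.1
      have hopp : Opp b ((n : Module.End k M) * b * ((n⁻¹ : GLM) : Module.End k M)) := by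
        by_contra h
        exact hu (conjBy_clsGrp b (hNG hnN) ▸ unipotent_of_not_opp H hb (hb.conj (hNG hnN)) h)
      intro x hx
      obtain ⟨e, he, rfl⟩ := exists_of_mem_clsGrp hx
      by_cases he0 : e = 0
      · rw [(ex_eq_one _).2 he0]; exact Subgroup.one_mem _
      have hb' := hb.conj (hNG hnN)
      obtain ⟨f, hf, -, hp⟩ := (hopp.of_mem hb hb' he he0 (self_mem_cls hb'.q0) hb'.ne).exists_pair H
        (hb.of_mem_cls he he0) hb'
      have h1 := hp.ex_mem_commutator H.three (X := clsGrp G b ⊔ N)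
        (fun c => Subgroup.mem_sup_left (ex_mem_clsGrp (Submodule.smul_mem _ c he)))
        fun c => Root.conjBy_le_of_mem le_sup_left (Subgroup.mem_sup_right hnN)
          (conjBy_clsGrp b (hNG hnN) ▸ ex_mem_clsGrp (Submodule.smul_mem _ c hf))
      have hK : ∀ x ∈ clsGrp G b ⊔ N, conjBy N x = N := fun x hx => hn x (sup_le (le_biSup_self hB) hN hx)
      have hX : ⁅clsGrp G b ⊔ N, N⁆ ≤ N := Subgroup.le_normalizer_iff_commutator_le_right.1
        fun x hx => Root.mem_normalizer_iff_conjBy.2 (hK x hx)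
      refine Root.comm_sup_le hK ?_ hX h1
      rw [Subgroup.commutator_comm]
      refine Root.comm_sup_le hK ?_ ((Subgroup.commutator_mono le_sup_left le_rfl).trans hX)
      rw [Root.comm_bot_iff.2 (Root.isMulCommutative_iff'.1 (clsGrp_comm b))]
      exact bot_le
    refine le_antisymm hN (iSup₂_le fun C hC => ?_)
    obtain ⟨g, hg, rfl⟩ := exists_conjBy_of_mem_comp H hG (comp_eq hB ▸ hC)
    rw [compGrp, comp_eq hB] at hg
    exact (Root.conjBy_mono hBN g).trans (hn g hg).le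

theorem isQuasisimple_compGrp (H : Hyp k) (hG : NoUnip G) (hA : A ∈ Σ₀ G) : IsQuasisimple (compGrp G A) := by
  refine isQuasisimple_of_dichotomy (compGrp_perfect H hG) (fun h => ?_) fun N => compGrp_dichotomy H hG
  obtain ⟨a, ha, rfl⟩ := mem_quadraticRootSubgroups.1 hA
  exact clsGrp_ne_bot ha (le_bot_iff.1 (h ▸ le_biSup_self (self_mem_comp hA)))

theorem finite_comps (H : Hyp k) (hG : NoUnip G) : (comp G '' Σ₀ G).Finite := by
  classical
  have h1 : ∀ C : comp G '' Σ₀ G, ∃ a f, Min G a ∧ Min G f ∧ Pair a f ∧ C.1 = comp G (clsGrp G a) := by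
    rintro ⟨_, A, hA, rfl⟩
    obtain ⟨a, ha, rfl⟩ := mem_quadraticRootSubgroups.1 hA
    obtain ⟨f, hf, hp⟩ := exists_pair H hG ha
    exact ⟨a, f, ha, hf, hp, rfl⟩
  choose a f ha hf hp hC using h1
  have : LinearIndependent k a := by
    rw [linearIndependent_iff']
    intro s c hs i hi
    have h2 := congrArg (fun x => f i * x * f i) hs
    simp only [Finset.mul_sum, Finset.sum_mul, mul_zero, zero_mul, mul_smul_comm, smul_mul_assoc] at h2
    rw [Finset.sum_eq_single_of_mem i hi, (hp i).fef] at h2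
    · exact (smul_eq_zero.1 h2).resolve_right (hf i).ne
    · intro j _ hj
      have h3 := commutator_compGrp (G := G) (A := clsGrp G (a i)) (B := clsGrp G (a j))
        fun h => hj (Subtype.ext (by rw [hC, hC, h]))
      have h4 := comm_of_commutator_eq_bot (hf i).q0 (ha j).q0 (Root.comm_bot_mono h3 (le_biSup_self
        ((hp i).opp.exists_conjBy H (ha i) (hf i) (self_mem_comp (clsGrp_mem (ha i)))).1)
        (le_biSup_self (self_mem_comp (clsGrp_mem (ha j)))))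
      rw [h4, mul_assoc, (hf i).sq, mul_zero, smul_zero]
  exact this.finite

end CL.Chev.Quad
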