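/-
Quadratic pairs, part 9: the decomposition of a quadratic pair as a central product of quasisimple groups.
-/
import Cfsg.Agent.Chev.QuadRoot

set_option autoImplicit false
set_option linter.all false

namespace CL.Chev.Quad

open Module LinearMap Cfsg
open scoped commutatorElement MatrixGroups

variable {k : Type*} [Field k] {M : Type*} [AddCommGroup M] [Module k M] [FiniteDimensional k M]
variable {G : Subgroup (LinearMap.GeneralLinearGroup k M)}

local notation "GLM" => LinearMap.GeneralLinearGroup k M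
local notation "Σ₀" => quadraticRootSubgroups

theorem exists_fin_enum {α : Type*} {S : Set α} (hS : S.Finite) :
    ∃ (n : ℕ) (f : Fin n → α), Function.Injective f ∧ Set.range f = S := by
  have := hS.to_subtype
  obtain ⟨n, ⟨e⟩⟩ := Finite.exists_equiv_fin S
  refine ⟨n, fun i => e.symm i, Subtype.val_injective.comp e.symm.injective, ?_⟩
  rw [show (fun i => (e.symm i : α)) = Subtype.val ∘ e.symm from rfl, e.symm.surjective.range_comp, Subtype.range_coe]

/-- Conditional form of S5069. -/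
theorem exists_parts (H : Hyp k) (hG : NoUnip G) :
    ∃ (r : ℕ) (part : Fin r → Set (Subgroup GLM)),
      (⋃ i, part i) = Σ₀ G ∧ (∀ i j, i ≠ j → Disjoint (part i) (part j)) ∧ (∀ i, (part i).Nonempty) ∧
      (∀ i j, i ≠ j → ⁅(⨆ A ∈ part i, A), (⨆ A ∈ part j, A)⁆ = ⊥) ∧
      (∀ i, IsQuasisimple ↥(⨆ A ∈ part i, A) ∧
        IsRootSubgroupClass ((fun A : Subgroup GLM => A.subgroupOf (⨆ B ∈ part i, B)) '' (part i)) ∧
        ∀ A ∈ part i, ∀ B ∈ rankOnePartners (part i) A, ∃ A₀ B₀ : Subgroup GLM, A₀ ≤ A ∧ B₀ ≤ B ∧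
          IsPSL2PairOver k A₀ B₀) := by
  obtain ⟨r, part, hinj, hr⟩ := exists_fin_enum (finite_comps H hG)
  have h1 : ∀ i, ∃ A ∈ Σ₀ G, comp G A = part i := fun i => by
    have : part i ∈ comp G '' Σ₀ G := hr ▸ Set.mem_range_self i
    exact this
  choose A hA e using h1
  refine ⟨r, part, ?_, fun i j hij => ?_, fun i => ⟨A i, e i ▸ self_mem_comp (hA i)⟩, fun i j hij => ?_, fun i => ?_⟩
  · apply Set.Subset.antisymm
    · exact Set.iUnion_subset fun i B hB => (e i ▸ hB : B ∈ comp G (A i)).1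
    · intro B hB
      obtain ⟨i, hi⟩ : comp G B ∈ Set.range part := hr ▸ ⟨B, hB, rfl⟩
      exact Set.mem_iUnion.2 ⟨i, hi ▸ self_mem_comp hB⟩
  · rw [Set.disjoint_left]
    intro B h1 h2
    rw [← e] at h1 h2
    exact hij (hinj (by rw [← e, ← e, ← comp_eq h1, comp_eq h2]))
  · rw [← e, ← e]
    exact commutator_compGrp fun h => hij (hinj (by rw [← e, ← e, h]))
  · rw [← e]
    exact ⟨isQuasisimple_compGrp H hG (hA i), isRootSubgroupClass_comp H hG (hA i),
      fun B hB C hC => exists_psl2_of_rankOne H hB.1 hC.1.1 hC.2⟩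

/-- Primeness of the action on quadratic elements. -/
def QPrime (G : Subgroup GLM) : Prop :=
  ∀ x y, Q0 G x → Q0 G y → (∀ g ∈ G, x * (g : Module.End k M) * y = 0) → x = 0 ∨ y = 0

theorem qPrime_of_irreducible (hG : IsIrreducibleFor G) : QPrime G := by
  intro x y _ _ h
  let W : Submodule k M := ⨅ g ∈ G, LinearMap.ker (x * (g : Module.End k M))
  have hW : ∀ m, m ∈ W ↔ ∀ g ∈ G, x ((g : Module.End k M) m) = 0 := fun m => by
    simp [W, Submodule.mem_iInf]
  rcases hG.2 W (fun g hg m hm => (hW _).2 fun g' hg' => (hW _).1 hm (g' * g) (G.mul_mem hg' hg)) with h1 | h1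
  · right
    ext m
    have : y m ∈ W := (hW _).2 fun g hg => LinearMap.congr_fun (h g hg) m
    rwa [h1] at this
  · left
    ext m
    exact (hW m).1 (h1 ▸ Submodule.mem_top) 1 G.one_mem

theorem commutator_root0_rest0 : ⁅root0 G, rest0 G⁆ = ⊥ :=
  Root.comm_bot_iff.2 fun a ha b hb => (rest0_le hb).2 a ha

theorem exists_mul_of_mem (H : Hyp k) (hG : NoUnip G) (hgen : Subgroup.closure (quadraticElements G) = G)
    {A : Subgroup GLM} {g : GLM} (hg : g ∈ G) :
    ∃ x ∈ compGrp G A, ∃ c ∈ Subgroup.centralizer (compGrp G A : Set GLM), g = x * c := by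
  refine (Root.mem_sup_of_comm (Root.comm_bot_symm (Subgroup.commutator_eq_bot_iff_le_centralizer.2 le_rfl))).1 ?_
  rw [← root0_sup_rest0 H hG hgen] at hg
  revert g
  change root0 G ⊔ rest0 G ≤ _
  refine sup_le (iSup₂_le fun B hB => ?_) ?_
  · by_cases h : comp G B = comp G A
    · exact le_sup_of_le_left (le_biSup_self (h ▸ self_mem_comp hB))
    · refine le_sup_of_le_right ((le_biSup_self (self_mem_comp hB)).trans ?_)
      exact Subgroup.commutator_eq_bot_iff_le_centralizer.1 (commutator_compGrp h)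
  · refine le_sup_of_le_right (Subgroup.commutator_eq_bot_iff_le_centralizer.1 ?_)
    exact Root.comm_bot_mono (Root.comm_bot_symm commutator_root0_rest0) le_rfl compGrp_le_root0

theorem comm_of_ex_commute {x : Module.End k M} (hx : x * x = 0) {g : GLM} (h : ex x hx * g = g * ex x hx) :
    x * g = g * x := by
  have := congrArg (fun g : GLM => (g : Module.End k M)) h
  simpa [add_mul, mul_add] using this

theorem prime_contra (H : Hyp k) (hG : NoUnip G) (hgen : Subgroup.closure (quadraticElements G) = G) (hP : QPrime G)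
    {A : Subgroup GLM} {x y : Module.End k M} (hx : Q0 G x) (hy : Q0 G y) (h1 : ex x hx.sq ∈ compGrp G A)
    (h2 : ex y hy.sq ∈ Subgroup.centralizer (compGrp G A : Set GLM)) (hxy : x * y = 0) : x = 0 ∨ y = 0 := by
  refine hP x y hx hy fun g hg => ?_
  obtain ⟨a, ha, c, hc, rfl⟩ := exists_mul_of_mem H hG hgen (A := A) hg
  rw [hc a ha, Units.val_mul, ← mul_assoc, comm_of_ex_commute hx.sq (hc _ h1), mul_assoc, mul_assoc,
    ← comm_of_ex_commute hy.sq (h2 a ha).symm, ← mul_assoc x, hxy, zero_mul, mul_zero]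

theorem mem_comp_or_rest (H : Hyp k) (hG : NoUnip G) (hgen : Subgroup.closure (quadraticElements G) = G)
    (hP : QPrime G) (n : ℕ) : ∀ {q : Module.End k M} (hq : Q0 G q), rk q = n →
      (∃ A ∈ Σ₀ G, ex q hq.sq ∈ compGrp G A) ∨ Q0 (rest0 G) q := by
  induction n using Nat.strong_induction_on with | _ n ih =>
  intro q hq hn
  by_cases h : ∀ a, Min G a → a * q * a = 0
  · exact Or.inr (q0_rest0.2 ⟨hq, fun a ha => comm_of_forall_aqa H hG hq h ha⟩)
  push Not at h
  obtain ⟨a, ha, h⟩ := h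
  obtain ⟨q₁, q₂, h1, h2, rfl, h3, h4⟩ := exists_split H ha hq h
  have hm : ex q₁ h1.sq ∈ compGrp G (clsGrp G q₁) :=
    le_biSup_self (self_mem_comp (clsGrp_mem h1)) (ex_mem_clsGrp (self_mem_cls h1.q0))
  refine Or.inl ⟨_, clsGrp_mem h1, ?_⟩
  rw [ex_add h1.sq h2.sq _ h3]
  refine Subgroup.mul_mem _ hm ?_
  have key : ex q₂ h2.sq ∈ Subgroup.centralizer (compGrp G (clsGrp G q₁) : Set GLM) →
      ex q₂ h2.sq ∈ compGrp G (clsGrp G q₁) := fun h5 => by
    rw [(ex_eq_one _).2 ((prime_contra H hG hgen hP h1.q0 h2 hm h5 h3).resolve_left h1.ne)]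
    exact Subgroup.one_mem _
  rcases ih _ (hn ▸ h4) h2 rfl with ⟨B, hB, h5⟩ | h5
  · by_cases h6 : comp G B = comp G (clsGrp G q₁)
    · rwa [compGrp, ← h6]
    · exact key (Subgroup.commutator_eq_bot_iff_le_centralizer.1 (commutator_compGrp h6) h5)
  · exact key (Subgroup.centralizer_le compGrp_le_root0 (rest0_le h5.ex_mem).2)

theorem quadraticElements_rest0 :
    quadraticElements (rest0 G) = quadraticElements G ∩ Subgroup.centralizer (root0 G : Set GLM) := by
  ext σ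
  rw [Set.mem_inter_iff, mem_quadraticElements, mem_quadraticElements, q0_rest0]
  constructor
  · rintro ⟨⟨h1, h2⟩, h3⟩
    refine ⟨⟨h1, h3⟩, ?_⟩
    rw [show σ = ex _ h1.sq from Units.ext (by simp)]
    exact (mem_centralizer_root0 _).2 h2
  · rintro ⟨⟨h1, h3⟩, h2⟩
    rw [show σ = ex _ h1.sq from Units.ext (by simp)] at h2
    exact ⟨⟨h1, (mem_centralizer_root0 _).1 h2⟩, h3⟩

theorem conjBy_rest0 (H : Hyp k) (hG : NoUnip G) (hgen : Subgroup.closure (quadraticElements G) = G)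
    {K : Subgroup GLM} (hK : K ≤ rest0 G) (hn : ∀ g ∈ rest0 G, conjBy K g = K) {g : GLM} (hg : g ∈ G) :
    conjBy K g = K := by
  rw [← root0_sup_rest0 H hG hgen] at hg
  obtain ⟨a, ha, c, hc, rfl⟩ := (Root.mem_sup_of_comm commutator_root0_rest0).1 hg
  rw [conjBy_mul, hn c hc, Root.conjBy_of_commute fun x hx => Root.comm_bot_iff.1 commutator_root0_rest0 a ha x (hK hx)]

theorem exists_central_product (H : Hyp k) (n : ℕ) : ∀ {G : Subgroup GLM}, NoUnip G →
    Subgroup.closure (quadraticElements G) = G → QPrime G → finrank k (Submodule.span k {x | Q0 G x}) = n →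
    ∃ S : Set (Subgroup GLM), S.Finite ∧ (∀ K ∈ S, K ≤ G ∧ ∀ g ∈ G, conjBy K g = K) ∧
      (∀ K ∈ S, ∀ L ∈ S, K ≠ L → ⁅K, L⁆ = ⊥) ∧ sSup S = G ∧
      (∀ K ∈ S, IsQuasisimple K ∧ Subgroup.closure (quadraticElements G ∩ K) = K) ∧
      ∀ σ ∈ quadraticElements G, ∃ K ∈ S, σ ∈ K := by
  induction n using Nat.strong_induction_on with | _ n ih =>
  intro G hG hgen hP hn
  by_cases h0 : quadraticElements G = ∅
  · refine ⟨∅, Set.finite_empty, by simp, by simp, ?_, by simp, by simp [h0]⟩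
    rw [sSup_empty, ← hgen, h0, Subgroup.closure_empty]
  obtain ⟨a, ha⟩ : ∃ a, Min G a := by
    obtain ⟨σ, hσ⟩ := Set.nonempty_iff_ne_empty.2 h0
    rw [mem_quadraticElements] at hσ
    obtain ⟨a, ha, hmin⟩ := (measure (rk (k := k) (M := M))).wf.has_min {a | Q0 G a ∧ a ≠ 0} ⟨_, hσ⟩
    exact ⟨a, ha.1, ha.2, fun b hb hb0 => not_lt.1 (hmin b ⟨hb, hb0⟩)⟩
  have hRG : rest0 G ≤ G := rest0_le.trans inf_le_left
  obtain ⟨S, hfin, hS1, hS2, hS3, hS4, hS5⟩ := ih (finrank k (Submodule.span k {x | Q0 (rest0 G) x})) (G := rest0 G)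
    (by
      rw [← hn]
      refine Submodule.finrank_lt_finrank_of_lt (lt_of_le_of_ne
        (Submodule.span_mono fun x hx => Q0.mono hRG hx) fun h => ?_)
      obtain ⟨f, hf, hp⟩ := exists_pair H hG ha
      have h1 : Submodule.span k {x | Q0 (rest0 G) x} ≤
          LinearMap.ker ((LinearMap.mulRight k f).comp (LinearMap.mulLeft k f)) := by
        rw [Submodule.span_le]
        intro x hx
        change f * x * f = 0
        rw [(q0_rest0.1 hx).2 f hf, mul_assoc, hf.sq, mul_zero]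
      rw [h] at h1
      exact hf.ne (hp.fef.symm.trans (h1 (Submodule.subset_span ha.q0))))
    (hG.of_normal hRG fun g hg => conjBy_rest0 H hG hgen le_rfl (fun _ => Root.conjBy_of_mem) hg)
    (by rw [quadraticElements_rest0]; rfl)
    (by
      intro x y hx hy h
      refine hP x y (hx.mono hRG) (hy.mono hRG) fun g hg => ?_
      rw [← root0_sup_rest0 H hG hgen] at hg
      obtain ⟨a, ha, c, hc, rfl⟩ := (Root.mem_sup_of_comm commutator_root0_rest0).1 hg
      rw [Units.val_mul, ← mul_assoc, comm_of_ex_commute hx.sq ((rest0_le hx.ex_mem).2 a ha).symm, mul_assoc, mul_assoc,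
        ← mul_assoc x, h c hc, mul_zero]) rfl
  have hcomm : ∀ A, ∀ L ∈ S, ⁅compGrp G A, L⁆ = ⊥ := fun A L hL =>
    Root.comm_bot_mono commutator_root0_rest0 compGrp_le_root0 (hS1 L hL).1
  refine ⟨compGrp G '' Σ₀ G ∪ S, Set.Finite.union ?_ hfin, ?_, ?_, ?_, ?_, ?_⟩
  · refine ((finite_comps H hG).image fun C => ⨆ B ∈ C, B).subset ?_
    rintro _ ⟨A, hA, rfl⟩
    exact ⟨_, ⟨A, hA, rfl⟩, rfl⟩
  · rintro K (⟨A, hA, rfl⟩ | hK)
    · refine ⟨compGrp_le_root0.trans root0_le, fun g hg => ?_⟩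
      obtain ⟨x, hx, c, hc, rfl⟩ := exists_mul_of_mem H hG hgen (A := A) hg
      rw [conjBy_mul, conjBy_eq_of_commute hc, Root.conjBy_of_mem hx]
    · exact ⟨(hS1 K hK).1.trans hRG, fun g hg => conjBy_rest0 H hG hgen (hS1 K hK).1 (hS1 K hK).2 hg⟩
  · rintro K (⟨A, hA, rfl⟩ | hK) L (⟨B, hB, rfl⟩ | hL) hne
    · exact commutator_compGrp fun h => hne (by rw [compGrp, h, compGrp])
    · exact hcomm A L hL
    · exact Root.comm_bot_symm (hcomm B K hK)
    · exact hS2 K hK L hL hne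
  · rw [sSup_union, hS3]
    refine Eq.trans ?_ (root0_sup_rest0 H hG hgen)
    congr 1
    refine le_antisymm (sSup_le ?_) (iSup₂_le fun A hA => ?_)
    · rintro _ ⟨A, hA, rfl⟩; exact compGrp_le_root0
    · exact le_sSup_of_le ⟨A, hA, rfl⟩ (le_biSup_self (self_mem_comp hA))
  · rintro K (⟨A, hA, rfl⟩ | hK)
    · refine ⟨isQuasisimple_compGrp H hG hA, le_antisymm ((Subgroup.closure_le _).2 Set.inter_subset_right)
        (iSup₂_le fun B hB x hx => ?_)⟩
      have hx' := le_biSup_self hB hx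
      obtain ⟨b, hb, rfl⟩ := mem_quadraticRootSubgroups.1 hB.1
      obtain ⟨e, he, rfl⟩ := exists_of_mem_clsGrp hx
      by_cases he0 : e = 0
      · rw [(ex_eq_one _).2 he0]; exact Subgroup.one_mem _
      · exact Subgroup.subset_closure ⟨ex_mem_quadraticElements (cls_q0 he) he0, hx'⟩
    · refine ⟨(hS4 K hK).1, le_antisymm ((Subgroup.closure_le _).2 Set.inter_subset_right)
        ((hS4 K hK).2.ge.trans (Subgroup.closure_mono (Set.inter_subset_inter_left _ ?_)))⟩
      rw [quadraticElements_rest0]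
      exact Set.inter_subset_left
  · intro σ hσ
    rw [mem_quadraticElements] at hσ
    rcases mem_comp_or_rest H hG hgen hP _ hσ.1 rfl with ⟨A, hA, h⟩ | h
    · refine ⟨_, Or.inl ⟨A, hA, rfl⟩, ?_⟩
      rwa [show σ = ex _ hσ.1.sq from Units.ext (by simp)]
    · obtain ⟨K, hK, h⟩ := hS5 σ (mem_quadraticElements.2 ⟨h, hσ.2⟩)
      exact ⟨K, Or.inr hK, h⟩

/-- Conditional form of S5063. -/
theorem central_product (H : Hyp k) (hG : IsQuadraticPair G) :
    ∃ (s : ℕ) (Gi : Fin s → Subgroup GLM),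
      (∀ i, Gi i ≤ G ∧ ∀ g ∈ G, conjBy (Gi i) g = Gi i) ∧ (∀ i j, i ≠ j → ⁅Gi i, Gi j⁆ = ⊥) ∧ (⨆ i, Gi i) = G ∧
      (∀ i, IsQuasisimple ↥(Gi i) ∧ Subgroup.closure (quadraticElements G ∩ (Gi i : Set GLM)) = Gi i) ∧
      quadraticElements G ⊆ ⋃ i, (Gi i : Set GLM) := by
  obtain ⟨S, hfin, h1, h2, h3, h4, h5⟩ := exists_central_product H _ (noUnip_of_irreducible hG.1) hG.2
    (qPrime_of_irreducible hG.1) rfl
  obtain ⟨s, Gi, hinj, rfl⟩ := exists_fin_enum hfin
  refine ⟨s, Gi, fun i => h1 _ ⟨i, rfl⟩, fun i j hij => h2 _ ⟨i, rfl⟩ _ ⟨j, rfl⟩ fun h => hij (hinj h), h3,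
    fun i => h4 _ ⟨i, rfl⟩, fun σ hσ => ?_⟩
  obtain ⟨_, ⟨i, rfl⟩, h⟩ := h5 σ hσ
  exact Set.mem_iUnion.2 ⟨i, h⟩

end CL.Chev.Quad
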