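/-
Small Ree groups, part 12: non-trivial cross characteristic representations have degree at least `q ^ 2 - q + 1`.
-/
import Cfsg.Agent.Known.LSSp
import Cfsg.Agent.Chev.ReeTorus

set_option autoImplicit false

namespace CL.Chev.Ree

open Module CL.LS

namespace Model

variable {G F K V : Type*} [Group G] [Field F] [Finite F] [Field K] [CharZero K] [AddCommGroup V] [Module K V]
  [FiniteDimensional K V] (M : Model G F) {ρ : G →* Module.End K V} {ψ : AddChar F K}

theorem four_dvd_of_trace (h : LinearMap.trace K V (ρ M.h₀) = 0) : 4 ∣ finrank K V := by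
  have key : ∀ t, IsConj M.h₀ t → LinearMap.trace K V (ρ t) = 0 := fun t ht => by
    obtain ⟨g, rfl⟩ := isConj_iff.1 ht
    rw [map_mul, LinearMap.trace_mul_comm, ← map_mul, inv_mul_cancel_left, h]
  have h1 : ρ M.h₀ * ρ M.h₀ = 1 := by rw [← map_mul, h₀_mul_h₀, map_one]
  have h2 : ρ M.w * ρ M.w = 1 := by rw [← map_mul, M.w_mul_w, map_one]
  have h3 : Commute (ρ M.h₀) (ρ M.w) := Commute.map M.h₀_mul_w ρ
  have h4 : ∀ x : Module.End K V, x * x = 1 → IsIdempotentElem ((2 : K)⁻¹ • (1 + x)) := fun x hx => by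
    rw [IsIdempotentElem, smul_mul_smul_comm, add_mul, mul_add, mul_add, hx, one_mul, one_mul, mul_one]
    module
  have h5 := (LinearMap.IsIdempotentElem.isProj_range _ ((h4 _ h1).mul_of_commute
    ((((Commute.one_left _).add_left ((Commute.one_right _).add_right h3)).smul_left _).smul_right _) (h4 _ h2))).trace
  rw [smul_mul_smul_comm, add_mul, mul_add, mul_add, one_mul, one_mul, mul_one, ← map_mul, map_smul, map_add, map_add, map_add, h,
    key _ M.isConj_h₀_w, key _ M.isConj_h₀_h₀w, LinearMap.trace_one] at h5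
  exact ⟨_, Nat.cast_injective (R := K) (by rw [Nat.cast_mul, ← h5]; simp; ring)⟩

include M in
theorem degree_bound (hF : 3 < Nat.card F) (hψ : ψ ≠ 1) (hρ : ρ.ker ≠ ⊤) : Nat.card F ^ 2 - Nat.card F + 1 ≤ finrank K V := by
  let _ := Fintype.ofFinite F
  let _ := Fintype.ofFinite (Dual F (F × F))
  have := M.isSimpleGroup hF
  have hker : ρ.ker = ⊥ := ((inferInstance : ρ.ker.Normal).eq_bot_or_eq_top).resolve_right hρ
  have ha : ∀ x y : F × F, M.T 0 (x + y).1 (x + y).2 = M.T 0 x.1 x.2 * M.T 0 y.1 y.2 := fun x y => (M.T_mul_T_zero ..).symm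
  obtain ⟨l, hl, hl1⟩ := exists_weight (ρ := ρ) (a := fun x : F × F => M.T 0 x.1 x.2) hψ ha (x := (0, 1)) fun e =>
    M.T_ne_one (Subgroup.mem_bot.1 (hker ▸ MonoidHom.mem_ker.2 e))
  have hc : l (0, 1) ≠ 0 := fun e => hl1 (by rw [e, AddChar.map_zero_eq_one])
  have hlx : ∀ (l : Dual F (F × F)) (x y : F), l (x, y) = x * l (1, 0) + y * l (0, 1) := fun l x y => by
    rw [← smul_eq_mul, ← smul_eq_mul, ← map_smul, ← map_smul, ← map_add]; simp
  have key : ∀ t ∈ {t : F × F | t.2 ≠ 0}, ∃ l : Dual F (F × F), 1 ≤ finrank K (wsp ρ ψ (fun x : F × F => M.T 0 x.1 x.2) l) ∧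
      (l (1, 0), l (0, 1)) = t := fun t ht => by
    obtain ⟨k, hk⟩ := M.toTw.exists_σ_mul_sq (div_ne_zero ht hc)
    have h1 := mul_ne_zero (M.toTw.σ_ne_zero k.ne_zero) k.ne_zero
    refine ⟨l ∘ₗ LinearMap.prod ((M.σ k * k) • LinearMap.fst F F F) ((M.σ k * k ^ 2) • LinearMap.snd F F F +
      ((t.1 / (M.σ k * k) - l (1, 0)) / l (0, 1) * (M.σ k * k)) • LinearMap.fst F F F),
      (Submodule.one_le_finrank_iff.2 hl).trans (finrank_wsp_le
        (g := (M.T ((t.1 / (M.σ k * k) - l (1, 0)) / l (0, 1)) 0 0 * M.D k)⁻¹) (fun x => ?_) l), Prod.ext ?_ ?_⟩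
    · rw [eq_inv_mul_iff_mul_eq, ← mul_assoc, TD_conj_T_zero]; simp [mul_assoc]
    · simp only [LinearMap.comp_apply]; rw [hlx]; simp; field_simp; ring
    · simp only [LinearMap.comp_apply]; rw [hlx]; simp [hk, hc]
  have hS : {t : F × F | t.2 ≠ 0}.ncard = Nat.card F ^ 2 - Nat.card F := by
    rw [show {t : F × F | t.2 ≠ 0} = Set.univ ×ˢ {c | c ≠ 0} by ext; simp, Set.ncard_prod, Set.ncard_univ,
      show ({c | c ≠ 0} : Set F).ncard = Nat.card F - 1 from card_ne_zero_eq, Nat.mul_sub_one, sq]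
  by_cases h : ∃ l : Dual F (F × F), wsp ρ ψ (fun x : F × F => M.T 0 x.1 x.2) l ≠ ⊥ ∧ l (0, 1) = 0
  · obtain ⟨l₀, h1, h2⟩ := h
    have := mul_ncard_le (ρ := ρ) hψ ha (fun l => (l (1, 0), l (0, 1))) (insert (l₀ (1, 0), l₀ (0, 1)) {t | t.2 ≠ 0}) (m := 1)
      (Set.forall_mem_insert.2 ⟨⟨l₀, Submodule.one_le_finrank_iff.2 h1, rfl⟩, key⟩)
    rwa [one_mul, Set.ncard_insert_of_notMem (by simpa using h2), hS] at this
  have h1 := mul_ncard_le (ρ := ρ) hψ ha (fun l => (l (1, 0), l (0, 1))) _ key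
  have h2 : LinearMap.trace K V (ρ M.h₀) = 0 := by
    rw [← mul_one (ρ M.h₀), show (1 : Module.End K V) = ∑ l : Dual F (F × F), wproj ρ ψ (fun x : F × F => M.T 0 x.1 x.2) l from
      LinearMap.ext fun v => by rw [LinearMap.sum_apply, sum_wproj hψ ha]; rfl, Finset.mul_sum, map_sum]
    refine Finset.sum_eq_zero fun l _ => ?_
    by_cases h0 : l (0, 1) = 0
    · rw [show wproj ρ ψ _ l = 0 from LinearMap.ext fun v => (Submodule.mem_bot K).1
        (not_not.1 (not_and'.1 (not_exists.1 h l) h0) ▸ wproj_mem ha l v), mul_zero, map_zero]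
    · refine trace_mul_wproj_of_ne hψ ha (σ := LinearMap.prod (LinearMap.fst F F F) (-LinearMap.snd F F F))
        (fun x => by simp [h₀_mul_T]) fun e => h0 (M.toTw.eq_zero_of_neg_eq ?_)
      rw [← map_neg]; simpa using LinearMap.congr_fun e (0, 1)
  have h3 := M.four_dvd_of_trace h2
  obtain ⟨s, -, -, -, e⟩ := exists_s M.card_mod
  omega

end Model

end CL.Chev.Ree
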