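/-
Small Ree groups: traces of the elements `w * D (±1) * T 0 0 c` in the 7-dimensional representation.
-/
import Cfsg.Agent.Chev.ReeInst

set_option autoImplicit false

namespace CL.Chev.Ree

open Cfsg Cfsg.Lie Cert

namespace Model

variable {G : Type*} [Group G] {F : Type*} [Field F] (M : Model G F)

/-- Every field element other than the trace of `w` is the trace of some `w * D (±1) * T 0 0 c` with `c ≠ 0`. -/
def Tr : Prop := ∀ τ : F, τ ≠ (M.ρ M.w).trace →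
  ∃ (k : Fˣ) (c : F), (k = 1 ∨ k = -1) ∧ c ≠ 0 ∧ (M.ρ (M.w * M.D k * M.T 0 0 c)).trace = τ

theorem Tr.ofEquiv {M : Model G F} (h : M.Tr) {G' : Type*} [Group G'] (e : G ≃* G') : (M.ofEquiv e).Tr := fun τ hτ => by
  obtain ⟨k, c, h1, h2, h3⟩ := h τ (by simpa [Model.ofEquiv] using hτ)
  exact ⟨k, c, h1, h2, by simpa [Model.ofEquiv] using h3⟩

theorem tr_of [Finite F] (θ : F ≃+* F) (a : F)
    (h : ∀ c, (M.ρ (M.w * M.T 0 0 c)).trace = a + θ c ^ 2 ∧ (M.ρ (M.w * M.D (-1) * M.T 0 0 c)).trace = a - θ c ^ 2) :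
    M.Tr := fun τ hτ => by
  have h0 : (M.ρ M.w).trace = a := by simpa using (h 0).1
  obtain ⟨y, hy⟩ := M.toTw.exists_sq_or (τ - a)
  have h1 : θ.symm y ≠ 0 := fun e => by
    obtain rfl : y = 0 := by simpa using e
    rcases hy with e | e
    exacts [hτ (by rw [h0]; linear_combination -e), hτ (by rw [h0]; linear_combination e)]
  rcases hy with e | e
  · exact ⟨1, _, Or.inl rfl, h1, by rw [map_one, mul_one, (h _).1, RingEquiv.apply_symm_apply, e]; ring⟩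
  · exact ⟨-1, _, Or.inr rfl, h1, by rw [(h _).2, RingEquiv.apply_symm_apply, e]; ring⟩

end Model

/-- The integer coefficient matrices of the root elements. -/
def cfm (r : Fin chevG2.nroots) (k : ℕ) : Matrix chevG2.Idx chevG2.Idx ℤ :=
  Matrix.of fun row col => Sum.elim
    (fun i' : Fin chevG2.rank => Sum.elim (fun i : Fin chevG2.rank => if k = 0 ∧ i' = i then 1 else 0)
      (fun s : Fin chevG2.nroots => if k = 1 ∧ (s : ℕ) = auxG2.ng r then auxG2.co r i' else 0) col)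
    (fun u : Fin chevG2.nroots => Sum.elim (fun i : Fin chevG2.rank => if k = 1 ∧ u = r then -auxG2.ca i r else 0)
      (fun s : Fin chevG2.nroots => if k = 0 then (if u = s then 1 else 0) else
        if ∀ j : Fin chevG2.rank, auxG2.rt u j = k * auxG2.rt r j + auxG2.rt s j then datM chevG2 r s k else 0) col) row

variable (E : Real chevG2) {K : Type*} [Field K]

theorem xm_eq (r : Fin chevG2.nroots) (t : K) (row col : chevG2.Idx) :
    E.R.xm (datM chevG2) r t row col = ∑ k ∈ Finset.range 4, t ^ k * (cfm r k row col : K) := by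
  have h1 : ∀ s : Fin chevG2.nroots, s = E.R.neg r ↔ (s : ℕ) = auxG2.ng r := fun s => by rw [Fin.ext_iff, tabG2.neg]
  have h2 : ∀ (u s : Fin chevG2.nroots) (k : ℕ), E.R.root u = (k : ℤ) • E.R.root r + E.R.root s ↔
      ∀ j : Fin chevG2.rank, auxG2.rt u j = k * auxG2.rt r j + auxG2.rt s j := fun u s k => by
    simp only [funext_iff, Pi.add_apply, Pi.smul_apply, smul_eq_mul, tabG2.root]
  rcases row with i | u <;> rcases col with j | s
  · simp [RS.xm, cfm, Finset.sum_range_succ]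
  · simp [RS.xm, cfm, Finset.sum_range_succ, h1, tabG2.coroot, mul_comm]
  · simp [RS.xm, cfm, Finset.sum_range_succ, tabG2.pair_simple, mul_comm]
  · simp only [RS.xm, cfm, RS.cf, Matrix.of_apply, Sum.elim_inr, h2, Finset.sum_range_succ]
    simp [mul_comm, add_assoc]

/-- A matrix given by its rows. -/
def lm (l : List (List ℤ)) : Matrix (Fin 7) (Fin 7) ℤ := Matrix.of fun i j => (l.getD i []).getD j 0

theorem rep7_x (h3 : (3 : K) = 0) (r : Fin chevG2.nroots) (t : K) {A B : Matrix (Fin 7) (Fin 7) ℤ}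
    (h : (cfm r 0).submatrix idx idx = 1 ∧ (cfm r 1).submatrix idx idx = A ∧ (cfm r 2).submatrix idx idx = B ∧
      (cfm r 3).submatrix idx idx = 0) :
    rep7 E h3 ((E.S K).res.x r t) =
      1 + t • (Int.castRingHom K).mapMatrix A + t ^ 2 • (Int.castRingHom K).mapMatrix B := by
  ext i j
  refine (congrFun₂ ((E.x_val r t).trans (E.x_eq_xm r t)) (idx i) (idx j)).trans ?_
  have h0 : cfm r 0 (idx i) (idx j) = _ := congrFun₂ h.1 i j
  have h1 : cfm r 1 (idx i) (idx j) = _ := congrFun₂ h.2.1 i j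
  have h2 : cfm r 2 (idx i) (idx j) = _ := congrFun₂ h.2.2.1 i j
  have h4 : cfm r 3 (idx i) (idx j) = _ := congrFun₂ h.2.2.2 i j
  rw [xm_eq]
  simp [Finset.sum_range_succ, h0, h1, h2, h4, Matrix.one_apply]

def mA8 := lm [[0, 0, 2], [0, 0, 0, 1], [], [0, 0, 0, 0, 0, 1], [0, 0, 0, 0, 0, 0, -2]]
def mB8 := lm [[], [0, 0, 0, 0, 0, -1]]
def mA3 := lm [[], [], [2], [0, -1], [], [0, 0, 0, -1], [0, 0, 0, 0, -2]]
def mB3 := lm [[], [], [], [], [], [0, -1]]
def mA10 := lm [[0, 0, 0, 0, -1], [], [0, 0, 0, 0, 0, 0, 1]]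
def mA1 := lm [[], [], [], [], [-1], [], [0, 0, 1]]
def mA9 := lm [[0, 0, 0, -1], [0, 0, 0, 0, 2], [0, 0, 0, 0, 0, -2], [0, 0, 0, 0, 0, 0, 2]]
def mB9 := lm [[0, 0, 0, 0, 0, 0, -1]]
def mA11 := lm [[0, 0, 0, 0, 0, -1], [0, 0, 0, 0, 0, 0, 1]]

def mCp := lm [[-3, 0, -4, 0, 0, 0, 0], [0, 3, 0, 3, 0, -4, 0], [-2, 0, -3, 0, 0, 0, 0], [0, 0, 0, 2, 0, 3, 0],
  [0, 0, 0, 0, -3, 0, 4], [0, -1, 0, 0, 0, 3, 0], [0, 0, 0, 0, 2, 0, -3]]
def mCm := lm [[-3, 0, 4, 0, 0, 0, 0], [0, 3, 0, -3, 0, -4, 0], [2, 0, -3, 0, 0, 0, 0], [0, 0, 0, 2, 0, -3, 0],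
  [0, 0, 0, 0, -3, 0, -4], [0, -1, 0, 0, 0, 3, 0], [0, 0, 0, 0, -2, 0, -3]]
def mE := lm [[0, 0, 0, 0, -1, 0, 0], [0, 1, 0, 0, 0, 0, 0], [0, 0, 0, 0, 0, 0, 1], [0, 0, 0, 1, 0, 0, 0],
  [1, 0, 0, 0, 0, 0, 0], [0, 0, 0, 0, 0, 1, 0], [0, 0, -1, 0, 0, 0, 0]]

theorem mCp_eq : (1 + mA8 + mB8) * (1 + -mA3 + mB3) * (1 + mA8 + mB8) = mCp := by decide +kernel
theorem mCm_eq : (1 + -mA8 + mB8) * (1 + mA3 + mB3) * (1 + -mA8 + mB8) = mCm := by decide +kernel
theorem mE_eq : (1 + mA10) * (1 + -mA1) * (1 + mA10) = mE := by decide +kernel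

theorem traces : (mCp * mE).trace = 8 ∧ (mCp * mE * mA9).trace = 0 ∧ (mCp * mE * mB9).trace = -2 ∧
    (mCp * mE * mA11).trace = 0 ∧ (mCp * mE * (mA9 * mA11)).trace = 0 ∧ (mCp * mE * (mB9 * mA11)).trace = 0 ∧
    (mCm * mE).trace = 8 ∧ (mCm * mE * mA9).trace = 0 ∧ (mCm * mE * mB9).trace = 2 ∧
    (mCm * mE * mA11).trace = 0 ∧ (mCm * mE * (mA9 * mA11)).trace = 0 ∧ (mCm * mE * (mB9 * mA11)).trace = 0 := by
  decide +kernel

theorem neg8 : E.R.neg ⟨8, by decide⟩ = ⟨3, by decide⟩ := Fin.ext ((tabG2.neg E _).trans (by decide +kernel))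
theorem neg10 : E.R.neg ⟨10, by decide⟩ = ⟨1, by decide⟩ := Fin.ext ((tabG2.neg E _).trans (by decide +kernel))

variable (h3 : (3 : K) = 0)

theorem rep7_n8 : rep7 E h3 ((E.S K).res.n ⟨8, by decide⟩ 1) = (Int.castRingHom K).mapMatrix mCp ∧
    rep7 E h3 ((E.S K).res.n ⟨8, by decide⟩ (-1)) = (Int.castRingHom K).mapMatrix mCm := by
  have h1 := fun t => rep7_x E h3 ⟨8, by decide⟩ t (A := mA8) (B := mB8) (by decide +kernel)
  have h2 := fun t => rep7_x E h3 ⟨3, by decide⟩ t (A := mA3) (B := mB3) (by decide +kernel)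
  constructor
  · rw [StSys.n, map_mul, map_mul, neg8, h1, h2, ← mCp_eq]; simp only [map_mul, map_add, map_neg, map_one]; simp
  · rw [StSys.n, map_mul, map_mul, neg8, h1, h2, ← mCm_eq]; simp only [map_mul, map_add, map_neg, map_one]; simp

theorem rep7_n10 : rep7 E h3 ((E.S K).res.n ⟨10, by decide⟩ 1) = (Int.castRingHom K).mapMatrix mE := by
  have h1 := fun t => rep7_x E h3 ⟨10, by decide⟩ t (A := mA10) (B := 0) (by decide +kernel)
  have h2 := fun t => rep7_x E h3 ⟨1, by decide⟩ t (A := mA1) (B := 0) (by decide +kernel)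
  rw [StSys.n, map_mul, map_mul, neg10, h1, h2, ← mE_eq]; simp only [map_mul, map_add, map_neg, map_one]; simp

theorem trace_eq (W : Matrix (Fin 7) (Fin 7) ℤ) (t u : K) :
    ((Int.castRingHom K).mapMatrix W * rep7 E h3 ((E.S K).res.x ⟨9, by decide⟩ t * (E.S K).res.x ⟨11, by decide⟩ u)).trace =
      (W.trace : ℤ) + t * ((W * mA9).trace : ℤ) + t ^ 2 * ((W * mB9).trace : ℤ) + u * ((W * mA11).trace : ℤ) +
        t * u * ((W * (mA9 * mA11)).trace : ℤ) + t ^ 2 * u * ((W * (mB9 * mA11)).trace : ℤ) := by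
  have h1 := fun t => rep7_x E h3 ⟨9, by decide⟩ t (A := mA9) (B := mB9) (by decide +kernel)
  have h2 := fun t => rep7_x E h3 ⟨11, by decide⟩ t (A := mA11) (B := 0) (by decide +kernel)
  have h4 : ∀ A : Matrix (Fin 7) (Fin 7) ℤ, ((A.trace : ℤ) : K) = ((Int.castRingHom K).mapMatrix A).trace := fun A => by
    simp [Matrix.trace]
  simp only [h4, map_mul, h1, h2, map_zero, smul_zero, add_zero, mul_add, add_mul, mul_one, one_mul, Matrix.trace_add,
    mul_smul_comm, smul_mul_assoc, Matrix.trace_smul, smul_eq_mul, smul_add]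
  ring

theorem trace_wn (t u : K) :
    (rep7 E h3 ((E.S K).res.n ⟨8, by decide⟩ 1 * (E.S K).res.n ⟨10, by decide⟩ 1 *
      ((E.S K).res.x ⟨9, by decide⟩ t * (E.S K).res.x ⟨11, by decide⟩ u))).trace = -1 + t ^ 2 ∧
    (rep7 E h3 ((E.S K).res.n ⟨8, by decide⟩ (-1) * (E.S K).res.n ⟨10, by decide⟩ 1 *
      ((E.S K).res.x ⟨9, by decide⟩ t * (E.S K).res.x ⟨11, by decide⟩ u))).trace = -1 - t ^ 2 := by
  obtain ⟨a1, a2, a3, a4, a5, a6, b1, b2, b3, b4, b5, b6⟩ := traces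
  constructor
  · rw [map_mul, map_mul, (rep7_n8 E h3).1, rep7_n10, ← map_mul, trace_eq, a1, a2, a3, a4, a5, a6]
    push_cast
    linear_combination (3 - t ^ 2) * h3
  · rw [map_mul, map_mul, (rep7_n8 E h3).2, rep7_n10, ← map_mul, trace_eq, b1, b2, b3, b4, b5, b6]
    push_cast
    linear_combination (3 + t ^ 2) * h3

theorem wn_mul_tor {Φ : Type} {R : RS (Fin 2) Φ} {F : Type*} [Field F] {G : Type*} [Group G] {S : StSys R F G} {A : S.GAut}
    {θ : F ≃+* F} {c d e f : Φ} (h : A.IsG2 θ c d e f) (X : Ext S θ c d e f) :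
    tor h ((tw h X).σu (-1) * (-1) ^ 2) * wn S c e 1 1 = wn S c e (-1) 1 := by
  rw [wn, wn, S.n_eq_h_mul c (-1), show S.h c (-1) = _ from h.hMul.h_eq_torus c (-1), X.coroot_c, tor_apply, mul_assoc]
  congr 2
  ext i
  fin_cases i <;> simp [tw_σ]
  norm_num

/-- The groups `²G₂(q)` of the Prelude carry a model with the trace property. -/
theorem exists_model_tr [Fintype K] {m : ℕ} (hK : Fintype.card K = 3 ^ (2 * m + 1)) :
    ∃ M : Model (twistedG2 K (3 ^ m)) K, M.Tr := by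
  obtain ⟨A, θ, hθ, h1, h2, h3⟩ := exists_isG2 realG2 hK
  have h4 := twistedG2_subgroupOf realG2 h2 h3
  have h5 := isTwG2 realG2 hK
  refine ⟨_, Model.Tr.ofEquiv (M := model h1 (ext realG2 hK hθ) h4
    (fun s => h5.torus_mem h1 (twData h1 h4) _ ((h1.τ_eq_iff _).2 rfl)) ((rep7 realG2 h1.relP.three).comp (Subgroup.subtype _))
    ((rep7_inj realG2 h1.relP.three).comp (Subgroup.subtype_injective _))) (Model.tr_of _ θ (-1) fun c => ?_)
    (Subgroup.subgroupOfEquivOfLe h5.le)⟩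
  have e1 : (realG2.S K).res.reeP θ ⟨8, by decide⟩ ⟨9, by decide⟩ ⟨10, by decide⟩ ⟨11, by decide⟩ 0 0 c =
      (realG2.S K).res.x ⟨9, by decide⟩ (θ c) * (realG2.S K).res.x ⟨11, by decide⟩ c := by simp [StSys.reeP, reeW]
  obtain ⟨t1, t2⟩ := trace_wn realG2 h1.relP.three (θ c) c
  rw [← e1] at t1 t2
  refine ⟨t1, ?_⟩
  rw [← Model.h₀, ← Model.h₀_mul_w]
  exact (congrArg (fun g => (rep7 realG2 h1.relP.three (g * _)).trace) (wn_mul_tor h1 (ext realG2 hK hθ))).trans t2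

end CL.Chev.Ree
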