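/-
The root structure theorem for root involutions, part 1: notation and local configurations.
-/
import Cfsg.Agent.Chev.RootDisc4

set_option autoImplicit false

namespace CL.Chev.RInv

open Cfsg CL.Inv

variable {G : Type*} [Group G] {D : Set G} {a a' b b' c d d' e g p p' q r s w x y y' z z' : G}

/-- Collinear points. -/
structure Col (D : Set G) (a b : G) : Prop where
  l : a ∈ D
  r : b ∈ D
  cm : Commute a b
  mem : a * b ∈ D

/-- `a c` has order four and `(a c)² = b`. -/
structure St (D : Set G) (a c b : G) : Prop where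
  l : a ∈ D
  r : c ∈ D
  four : orderOf (a * c) = 4
  eq : a * c * a * c = b

/-- Points with the same commuting points. -/
structure Eqv (D : Set G) (a b : G) : Prop where
  l : a ∈ D
  r : b ∈ D
  iff : ∀ y ∈ D, Commute y a ↔ Commute y b

/-- A non-degenerate class of root involutions. -/
structure Nd (D : Set G) : Prop where
  ri : IsRootInvolutionSet D
  cl : ∀ a ∈ D, ∀ b ∈ D, ∃ g : G, b = g * a * g⁻¹
  four : ∃ a ∈ D, ∃ b ∈ D, orderOf (a * b) = 4
  gen : ∀ d ∈ D, ∀ x ∈ D, Opp d x → ∀ U : Subgroup G, (∀ e ∈ D, Commute d e → d * e ∈ D → e ∈ U) → x ∈ U → U = ⊤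

theorem cj_mul (hy : y * y = 1) (u v : G) : y * (u * v) * y = y * u * y * (y * v * y) := by
  simp only [mul_assoc, cancel hy]

theorem cj_of (hy : y * y = 1) (h : Commute y x) : y * x * y = x := by rw [h.eq, mul_assoc, hy, mul_one]

theorem cj_cj (hy : y * y = 1) (u : G) : y * (y * u * y) * y = u := by simp only [mul_assoc, cancel hy, hy, mul_one]

theorem commute_of_cj (hy : y * y = 1) (h : y * x * y = x) : Commute y x := by
  change y * x = x * y
  rw [← h, mul_assoc (y * x), hy, mul_one, h]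

theorem Commute.cj (hy : y * y = 1) (h : Commute a b) : Commute (y * a * y) (y * b * y) := by
  change _ = _
  rw [← cj_mul hy, ← cj_mul hy, h.eq]

theorem commute_conj (h : Commute a b) (g : G) : Commute (g * a * g⁻¹) (g * b * g⁻¹) := h.map (MulAut.conj g)

theorem Col.symm (h : Col D a b) : Col D b a := ⟨h.r, h.l, h.cm.symm, h.cm.eq ▸ h.mem⟩

theorem Eqv.refl (ha : a ∈ D) : Eqv D a a := ⟨ha, ha, fun _ _ => Iff.rfl⟩

theorem Eqv.symm (h : Eqv D a b) : Eqv D b a := ⟨h.r, h.l, fun y hy => (h.iff y hy).symm⟩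

theorem Eqv.trans (h : Eqv D a b) (h' : Eqv D b c) : Eqv D a c :=
  ⟨h.l, h'.r, fun y hy => (h.iff y hy).trans (h'.iff y hy)⟩

theorem Eqv.cm (h : Eqv D a b) (hy : y ∈ D) (hc : Commute y a) : Commute y b := (h.iff y hy).1 hc

theorem Eqv.commute (h : Eqv D a b) : Commute a b := h.cm h.l (Commute.refl a)

theorem eqv_iff : Eqv D a b ↔ a ∈ D ∧ b ∈ D ∧ commutingMembers D a = commutingMembers D b :=
  ⟨fun h => ⟨h.l, h.r, commutingMembers_eq_iff.2 h.iff⟩, fun h => ⟨h.1, h.2.1, commutingMembers_eq_iff.1 h.2.2⟩⟩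

theorem mem_sameCommutingClass (ha : a ∈ D) : b ∈ sameCommutingClass D a ↔ Eqv D a b :=
  ⟨fun h => eqv_iff.2 ⟨ha, h.1, h.2⟩, fun h => ⟨h.r, (eqv_iff.1 h).2.2⟩⟩

section Basic

variable (hD : IsRootInvolutionSet D)
include hD

theorem Col.ne (h : Col D a b) : a ≠ b := fun e => ne_one hD h.mem (by rw [← e, sq hD h.l])

theorem Col.conj (h : Col D a b) (g : G) : Col D (g * a * g⁻¹) (g * b * g⁻¹) :=
  ⟨hD.conj_mem _ h.l g, hD.conj_mem _ h.r g, commute_conj h.cm g,
    by simpa only [mul_assoc, inv_mul_cancel_left] using hD.conj_mem _ h.mem g⟩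

theorem Col.cj (h : Col D a b) (hy : y * y = 1) : Col D (y * a * y) (y * b * y) := by
  have := h.conj hD y
  rwa [inv_eq_self_of_mul_self hy] at this

theorem Col.third (h : Col D a b) : Col D a (a * b) :=
  ⟨h.l, h.mem, (Commute.refl a).mul_right h.cm, by rw [cancel (sq hD h.l)]; exact h.r⟩

theorem Col.not_opp (h : Col D a b) (hx : x ∈ D) (hbx : Commute b x) : ¬ Opp a x :=
  not_opp_of_line hD h.r hx h.cm h.mem hbx

theorem St.symm (h : St D a c b) : St D c a b := by
  refine ⟨h.r, h.l, by rw [orderOf_swap, h.four], ?_⟩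
  have h1 := (four_commute_left (sq hD h.l) (sq hD h.r) (four_pow h.four)).eq
  rw [← h.eq]
  calc c * a * c * a = a * (a * c * a * c) * a := by simp only [mul_assoc, cancel (sq hD h.l)]
    _ = _ := by rw [← h1, mul_assoc, sq hD h.l, mul_one]

theorem St.mem (h : St D a c b) : b ∈ D := h.eq ▸ four_mem hD h.l h.r h.four

theorem St.col (h : St D a c b) : Col D a b :=
  ⟨h.l, h.mem hD, h.eq ▸ (four_line_left hD h.l h.r h.four).1, h.eq ▸ (four_line_left hD h.l h.r h.four).2⟩

theorem St.col' (h : St D a c b) : Col D c b := (h.symm hD).col hD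

theorem St.cm (h : St D a c b) : Commute a b := (h.col hD).cm

theorem St.cm' (h : St D a c b) : Commute c b := (h.col' hD).cm

theorem St.cj (h : St D a c b) : a * c * a = b * c := by rw [← h.eq, mul_assoc (a * c * a), sq hD h.r, mul_one]

theorem St.cj' (h : St D a c b) : c * a * c = b * a := (h.symm hD).cj hD

theorem St.nc (h : St D a c b) : ¬ Commute a c := four_not_commute (sq hD h.l) (sq hD h.r) h.four

omit hD in
theorem St.not_opp (h : St D a c b) : ¬ Opp a c := fun ho => ho.not_four h.four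

theorem St.conj (h : St D a c b) (g : G) : St D (g * a * g⁻¹) (g * c * g⁻¹) (g * b * g⁻¹) :=
  ⟨hD.conj_mem _ h.l g, hD.conj_mem _ h.r g, by rw [← h.four, ← orderOf_conj g (a * c)]; congr 1; group,
    by rw [← h.eq]; group⟩

theorem St.cjg (h : St D a c b) (hy : y * y = 1) : St D (y * a * y) (y * c * y) (y * b * y) := by
  have := h.conj hD y
  rwa [inv_eq_self_of_mul_self hy] at this

omit hD in
theorem St.unique (h : St D a c b) (h' : St D a c b') : b = b' := h.eq.symm.trans h'.eq

theorem st_of_not (ha : a ∈ D) (hc : c ∈ D) (h1 : ¬ Opp a c) (h2 : ¬ Commute a c) : St D a c (a * c * a * c) :=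
  ⟨ha, hc, ((tri hD ha hc).resolve_left h2).resolve_left h1, rfl⟩

theorem st_of_cj (ha : a ∈ D) (hc : c ∈ D) (hb : b ∈ D) (h : a * c * a = b * c) (hbc : Commute b c) : St D a c b := by
  have h1 : a * c * a * c = b := by rw [h, mul_assoc, sq hD hc, mul_one]
  refine h1 ▸ st_of_not hD ha hc (not_opp_of_pow (sq hD hc) (k := 2) ?_) fun h2 => ne_one hD hb ?_
  · have : (a * c) ^ 2 ^ 2 = (a * c * a * c) * (a * c * a * c) := by
      simp only [show 2 ^ 2 = 4 from rfl, pow_succ, pow_zero, one_mul, mul_assoc]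
    have _ := hbc
    rw [this, h1, sq hD hb]
  · rw [← h1, mul_assoc (a * c), mul_self_of_commute (sq hD ha) (sq hD hc) h2]

theorem tri' (ha : a ∈ D) (hc : c ∈ D) (h1 : ¬ Opp a c) : Commute a c ∨ ∃ b, St D a c b := by
  by_cases h : Commute a c
  · exact .inl h
  · exact .inr ⟨_, st_of_not hD ha hc h1 h⟩

theorem St.not_eqv (h : St D a c b) : ¬ Eqv D b a := fun e => h.nc hD (e.cm h.r (h.cm' hD)).symm

theorem St.not_eqv' (h : St D a c b) : ¬ Eqv D b c := (h.symm hD).not_eqv hD

theorem Eqv.conj (h : Eqv D a b) (g : G) : Eqv D (g * a * g⁻¹) (g * b * g⁻¹) := by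
  refine ⟨hD.conj_mem _ h.l g, hD.conj_mem _ h.r g, fun y hy => ?_⟩
  have key : ∀ u : G, Commute y (g * u * g⁻¹) ↔ Commute (g⁻¹ * y * g⁻¹⁻¹) u := fun u =>
    ⟨fun h1 => by simpa [mul_assoc] using commute_conj h1 g⁻¹, fun h1 => by simpa [mul_assoc] using commute_conj h1 g⟩
  rw [key, key]
  exact h.iff _ (hD.conj_mem _ hy _)

theorem Eqv.cj (h : Eqv D a b) (hy : y * y = 1) : Eqv D (y * a * y) (y * b * y) := by
  have := h.conj hD y
  rwa [inv_eq_self_of_mul_self hy] at this

/-- Two points inducing `S₃` on a line. -/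
theorem three_of_st (h1 : St D p b d) (h2 : St D y d b) : orderOf (p * y) = 3 := by
  rw [orderOf_swap]
  exact orderOf_eq_three hD h2.l h1.l h1.r h2.r (h2.cm hD) (h2.col hD).mem (h2.symm hD).four (h2.symm hD).eq h1.eq
    (four_pow h1.four)

omit hD in
theorem opp_of_three (hx : x * x = 1) (h : orderOf (x * y) = 3) : Opp x y :=
  ⟨fun e => by rw [← e, hx, orderOf_one] at h; exact absurd h (by decide), h ▸ by decide⟩

omit hD in
theorem braid_of_three (hx : x * x = 1) (hy : y * y = 1) (h : orderOf (x * y) = 3) : x * y * x = y * x * y := by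
  have h1 : (x * y) ^ 3 = 1 := h ▸ pow_orderOf_eq_one _
  have h2 : x * y * x * (y * x * y) = 1 := by simpa only [pow_succ, pow_zero, one_mul, mul_assoc] using h1
  rw [eq_inv_of_mul_eq_one_left h2]
  simp only [mul_inv_rev, inv_eq_self_of_mul_self hx, inv_eq_self_of_mul_self hy, mul_assoc]

theorem opp_of_st (h1 : St D p b d) (h2 : St D y d b) : Opp p y := opp_of_three (sq hD h1.l) (three_of_st hD h1 h2)

/-- The involution interchanging two points of a line. -/
theorem swap_of_st (h1 : St D p b d) (h2 : St D y d b) :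
    ∃ s ∈ D, s = p * y * p ∧ s = y * p * y ∧ s * b * s = d ∧ s * d * s = b ∧ s * p * s = y ∧ s * y * s = p := by
  have hp := sq hD h1.l
  have hy := sq hD h2.l
  have hb := sq hD h1.r
  have hd := sq hD h2.r
  have br := braid_of_three hp hy (three_of_st hD h1 h2)
  have hs : p * y * p ∈ D := conj_mem hD h2.l h1.l
  have e1 : p * y * p * b * (p * y * p) = d := by
    calc _ = p * (y * (p * b * p) * y) * p := by simp only [mul_assoc]
      _ = _ := by
        rw [h1.cj hD, cj_mul hy, h2.cj hD, cj_of hy (h2.cm hD), (h1.cm' hD).eq, mul_assoc d, hb, mul_one,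
          cj_of hp (h1.cm hD)]
  refine ⟨_, hs, rfl, br, e1, ?_, ?_, ?_⟩
  · rw [← e1, cj_cj (sq hD hs)]
  · calc _ = p * (y * p * y) * p := by simp only [mul_assoc, cancel hp]
      _ = _ := by rw [← br, cj_cj hp]
  · rw [br]
    calc _ = y * (p * y * p) * y := by simp only [mul_assoc, cancel hy]
      _ = _ := by rw [br, cj_cj hy]

theorem St.back (h : St D p y q) (hp : Col D z p) (ho : Opp z y) : Col D y q ∧ ∃ r, St D q z r := by
  obtain ⟨h1, h2, h3, h4⟩ := four_of_line_four hD hp.l h.r ho h.l hp.cm hp.mem h.four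
  rw [h.eq] at h1 h2 h3 h4
  exact ⟨⟨h.r, h1, h2, h3⟩, _, h1, hp.l, h4, rfl⟩

theorem St.inj (h : St D p y q) (h' : St D p' y q) (hp : Col D z p) (hp' : Col D z p') (ho : Opp z y) : p = p' :=
  eq_of_comm_eq hD hp.l h.r ho h.l hp.cm hp.mem h.four h'.l hp'.cm hp'.mem (h.eq.trans h'.eq.symm)

/-- The action of an `S₃` on a point collinear with one of its generators. -/
theorem s3_act (hp : Col D z p) (hy : y ∈ D) (h3 : orderOf (z * y) = 3) (hno : ¬ Opp p y) :
    ∃ q, St D p y q ∧ St D q z p ∧ z * y * z * p * (z * y * z) = q := by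
  have hz2 := sq hD hp.l
  have hy2 := sq hD hy
  have ho := opp_of_three hz2 h3
  have h1 := st_of_not hD hp.r hy hno fun h => hp.not_opp hD hy h ho
  generalize p * y * p * y = q at h1
  obtain ⟨h2, r, h4⟩ := h1.back hD hp ho
  obtain ⟨h5, q', h6⟩ := h4.back hD h2 ho.symm
  have br := braid_of_three hz2 hy2 h3
  have hq := sq hD h2.r
  have e1 : z * y * z * p * (z * y * z) = r * q * p := by
    calc _ = z * (y * (z * p * z) * y) * z := by simp only [mul_assoc]
      _ = _ := by rw [cj_of hz2 hp.cm, h1.cj' hD, cj_mul hz2, h4.cj' hD, cj_of hz2 hp.cm]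
  have e2 : z * y * z * p * (z * y * z) = q' * r * p := by
    rw [br]
    calc _ = y * (z * (y * p * y) * z) * y := by simp only [mul_assoc]
      _ = _ := by
        rw [h1.cj' hD, cj_mul hz2, h4.cj' hD, cj_of hz2 hp.cm, cj_mul hy2, cj_mul hy2, h6.cj' hD, cj_of hy2 h2.cm,
          h1.cj' hD]
        simp only [mul_assoc, cancel hq]
  have e3 : q' = q := by
    have := mul_right_cancel (e1.symm.trans e2)
    rw [← (h4.cm hD).eq] at this
    exact (mul_right_cancel this).symm
  subst e3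
  obtain rfl := h6.inj hD h1 h5 hp ho
  refine ⟨_, h1, h4, ?_⟩
  rw [e1, ← (h4.cm hD).eq, mul_assoc, sq hD hp.r, mul_one]

end Basic

section Class

variable [Finite G] (H : Nd D)
include H

theorem Eqv.opp (h : Eqv D a b) (hx : x ∈ D) (ho : Opp a x) : Opp b x := by
  have := (cent_eq_iff H.ri H.cl h.l h.r).1 (eqv_iff.1 h).2.2
  exact (mem_oddPartners.1 (this ▸ mem_oddPartners.2 ⟨hx, ho⟩)).2

theorem Eqv.st (h : Eqv D a b) (h1 : St D y a c) : ∃ c', St D y b c' :=
  ⟨_, st_of_not H.ri h1.l h.r (fun ho => h1.not_opp (h.symm.opp H h1.l ho.symm).symm)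
    fun h2 => h1.nc H.ri (h.symm.cm h1.l h2)⟩

theorem Col.exists_st (h : Col D a b) (hne : ¬ Eqv D a b) : ∃ c, St D c a b := by
  obtain ⟨c, hc, h1, h2⟩ := exists_comm_eq' H.ri H.cl h.l h.r h.cm h.mem fun e => hne (eqv_iff.2 ⟨h.l, h.r, e⟩)
  exact ⟨c, hc, h.l, h1, h2⟩

theorem St.exists_back (h : St D p b d) : ∃ y, St D y d b :=
  (h.col' H.ri).symm.exists_st H (h.not_eqv' H.ri)

omit [Finite G] in
theorem Nd.exists_st (hd : d ∈ D) : ∃ a c, St D a c d := by
  obtain ⟨c, hc, e, he, h1, h2⟩ := exists_comm_pair H.ri H.cl H.four hd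
  exact ⟨c, e, hc, he, h1, h2⟩

theorem exists_opp_not (hd : d ∈ D) (hw : w ∈ D) (h : ¬ Eqv D d w) : ∃ x ∈ D, Opp d x ∧ ¬ Opp w x := by
  by_contra hno
  push Not at hno
  exact h (eqv_iff.2 ⟨hd, hw, (cent_eq_iff H.ri H.cl hd hw).2 (oddPartners_eq_of_subset H.ri H.cl hd hw fun x hx =>
    mem_oddPartners.2 ⟨hx.1, hno x hx.1 (mem_oddPartners.1 hx).2⟩)⟩)

/-- A point commuting with `d` and all points collinear with `d` is equivalent to `d`. -/
theorem eqv_of_cent (hd : d ∈ D) (hw : w ∈ D) (hwd : Commute w d) (h : ∀ e, Col D d e → Commute w e) : Eqv D d w := by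
  have hD := H.ri
  by_contra hne
  obtain ⟨x, hx, ho, hno⟩ := exists_opp_not H hd hw hne
  rcases tri' hD hw hx hno with h1 | ⟨z, h1⟩
  · have := H.gen d hd x hx ho (Subgroup.centralizer {w})
      (fun e he h2 h3 => Subgroup.mem_centralizer_singleton_iff.2 (h e ⟨hd, he, h2, h3⟩).symm)
      (Subgroup.mem_centralizer_singleton_iff.2 h1.symm)
    obtain ⟨c, hc, h4⟩ := exists_four hD H.cl H.four hw
    exact four_not_commute (sq hD hw) (sq hD hc) h4
      (Subgroup.mem_centralizer_singleton_iff.1 (this ▸ Subgroup.mem_top c)).symm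
  · have h2 := st_of_not hD (h1.mem hD) hd ((h1.col hD).symm.not_opp hD hd hwd)
      fun h2 => (h1.col' hD).not_opp hD hd h2 ho.symm
    obtain ⟨y, h3⟩ := h2.exists_back H
    exact (h1.col hD).symm.not_opp hD h3.l (h y (h3.col hD).symm) (opp_of_st hD h2 h3)

theorem exists_not_commute (hd : d ∈ D) (hw : w ∈ D) (hwd : Commute w d) (h : ¬ Eqv D d w) :
    ∃ e, Col D d e ∧ ¬ Commute w e := by
  by_contra hno
  push Not at hno
  exact h (eqv_of_cent H hd hw hwd hno)

/-- The points with a given commutator with `b` are conjugate in the centraliser of the line. -/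
theorem conj_of_st (h : St D p b d) (h' : St D p' b d) :
    ∃ g : G, g * b * g⁻¹ = b ∧ g * d * g⁻¹ = d ∧ g * p * g⁻¹ = p' := by
  have hD := H.ri
  obtain ⟨y, hy⟩ := h.exists_back H
  obtain ⟨s, hs, -, -, e1, e2, e3, -⟩ := swap_of_st hD h hy
  obtain ⟨t, ht, -, -, f1, f2, -, f4⟩ := swap_of_st hD h' hy
  have key : ∀ u, t * s * u * (t * s)⁻¹ = t * (s * u * s) * t := fun u => by
    rw [mul_inv_rev, inv_eq hD hs, inv_eq hD ht]; simp only [mul_assoc]
  exact ⟨t * s, by rw [key, e1, f2], by rw [key, e2, f1], by rw [key, e3, f4]⟩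

/-- One half of the basic configuration. -/
theorem config_half (h : St D a z e) (hda : Col D d a) (hdz : Col D d z) :
    ∃ y a', St D y e a ∧ St D d y a' ∧ St D a' z d ∧ Col D a' e ∧ Commute a' a ∧ Opp z y := by
  have hD := H.ri
  obtain ⟨y, hy⟩ := (h.symm hD).exists_back H
  obtain ⟨s, hs, es, -, e1, e2, -, -⟩ := swap_of_st hD (h.symm hD) hy
  have h3 := three_of_st hD (h.symm hD) hy
  obtain ⟨a', h4, h5, h6⟩ := s3_act hD hdz.symm hy.l h3
    fun ho => (hy.col hD).not_opp hD hda.l hda.cm.symm ho.symm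
  rw [← es] at h6
  have hde : Commute d e := h.eq ▸ ((hda.cm.mul_right hdz.cm).mul_right hda.cm).mul_right hdz.cm
  refine ⟨y, a', hy, h4, h5, ?_, ?_, opp_of_three (sq hD h.r) h3⟩
  · have := hda.cj hD (sq hD hs)
    rwa [h6, e1] at this
  · have := Commute.cj (sq hD hs) hde
    rwa [h6, e2] at this

/-- The basic configuration. -/
theorem config (h : St D a z e) (hda : Col D d a) (hdz : Col D d z) :
    ∃ y a' z', St D y e a ∧ St D d y a' ∧ St D a' z d ∧ St D z' a d ∧ Col D z' e ∧ (∃ f, St D a' z' f) ∧ Opp z' y := by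
  have hD := H.ri
  obtain ⟨y, a', hy, h1, h2, h3, h4, -⟩ := config_half H h hda hdz
  obtain ⟨y', z', hy', h1', h2', h3', h4', -⟩ := config_half H (h.symm hD) hdz hda
  have hde : Commute d e := h.eq ▸ ((hda.cm.mul_right hdz.cm).mul_right hda.cm).mul_right hdz.cm
  have qa := sq hD h.l
  have qz := sq hD h.r
  have qe := sq hD h3.r
  have qd := sq hD hda.l
  have qy := sq hD hy.l
  have qy' := sq hD hy'.l
  have qa' := sq hD h3.l
  have qz' := sq hD h3'.l
  have da' := h1.cm hD
  have dz' := h1'.cm hD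
  have ae := h.cm hD
  have ze := h.cm' hD
  have hno : ¬ Opp a' z' := (h1.col hD).symm.not_opp hD h3'.l dz'
  have hnc : ¬ Commute a' z' := by
    intro hc
    have hp : e * d * a' ∈ D := by
      have h5 := conj_mem hD (conj_mem hD hda.mem h.r) hy.l
      rw [cj_mul qz, cj_of qz hdz.cm.symm, h.cj' hD, cj_mul qy, cj_mul qy, h1.cj' hD, hy.cj hD,
        cj_of qy (hy.cm hD)] at h5
      convert h5 using 1
      simp only [mul_assoc]
      rw [← ae.eq, cancel qa, da'.eq, ← h3.cm.left_comm, hde.eq]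
    have hpz : Commute z' (e * d * a') := (h3'.cm.mul_right dz'.symm).mul_right hc.symm
    have h5 := commute_conj_of_pow (sq hD hp) qy' (pow_four_of_not_opp hD hp hy'.l
      fun ho => (h1'.col' hD).not_opp hD hp hpz ho.symm)
    have h6 : Commute a' (y' * a' * y') := commute_conj_of_pow qa' qy' (pow_four_of_not_opp hD h3.l hy'.l
      fun ho => (h1'.col' hD).not_opp hD h3.l hc.symm ho.symm)
    have qu : y' * a' * y' * (y' * a' * y') = 1 := by rw [← cj_mul qy', qa', mul_one, qy']
    have k1 : y' * a' * y' * e * (y' * a' * y') = z' * d * e := by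
      calc _ = y' * (a' * (y' * e * y') * a') * y' := by simp only [mul_assoc]
        _ = _ := by
          rw [hy'.cj hD, cj_mul qa', h2.cj hD, cj_of qa' h3.cm, cj_mul qy', cj_mul qy', h1'.cj' hD, hy'.cj hD,
            cj_of qy' (hy'.cm hD)]
          simp only [mul_assoc, cancel qz]
    have k2 : y' * a' * y' * d * (y' * a' * y') = d := by
      calc _ = y' * (a' * (y' * d * y') * a') * y' := by simp only [mul_assoc]
        _ = _ := by rw [h1'.cj' hD, cj_of qa' (hc.mul_right da'.symm), ← h1'.cj' hD, cj_cj qy']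
    rw [cj_mul qy', cj_mul qy', hy'.cj hD, h1'.cj' hD] at h5
    generalize y' * a' * y' = u at h5 h6 qu k1 k2
    have k3 : u * (e * d * a') * u = z' * d * e * d * a' := by
      rw [cj_mul qu, cj_mul qu, k1, k2, cj_of qu h6.symm]
    have k4 : z * e * (z' * d) * (z' * d * e * d * a') = e * d * a' * (z * e * (z' * d)) := by
      have := h5.eq
      rw [← k3]
      calc _ = z * e * (z' * d) * u * (e * d * a') * u := by simp only [mul_assoc]
        _ = _ := by rw [← this]; simp only [mul_assoc, qu, mul_one]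
    have k5 : a' * z = d * (z * a') := by
      rw [← mul_assoc, ← h2.cj hD, mul_assoc, qa', mul_one]
    refine ne_one hD h3'.l ?_
    simp only [mul_assoc] at k4
    rw [dz'.left_comm, cancel qz', cancel qd, cancel qe, ← mul_assoc a' z, k5] at k4
    simp only [mul_assoc] at k4
    rw [cancel qd, ← ze.left_comm, mul_left_cancel_iff, h3.cm.left_comm, cancel qe, hc.left_comm, da'.eq] at k4
    exact (mul_eq_right.1 k4.symm)
  have h7 := st_of_not hD h3.l h3'.l hno hnc
  refine ⟨y, a', z', hy, h1, h2, h2', h3', ⟨_, h7⟩, ?_⟩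
  by_contra hno'
  refine hnc ?_
  rcases tri' hD h3'.l hy.l hno' with h8 | ⟨v, h8⟩
  · exact (h1.eq ▸ ((dz'.symm.mul_right h8).mul_right dz'.symm).mul_right h8 :).symm
  · have h9 := commute_conj_of_pow qz' qy (four_pow h8.four)
    have qu : y * z' * y * (y * z' * y) = 1 := by rw [← cj_mul qy, qz', mul_one, qy]
    have k1 : y * z' * y * e * (y * z' * y) = a' * (d * e) := by
      calc _ = y * (z' * (y * e * y) * z') * y := by simp only [mul_assoc]
        _ = _ := by
          rw [hy.cj hD, cj_mul qz', h2'.cj hD, cj_of qz' h3'.cm, cj_mul qy, cj_mul qy, h1.cj' hD, hy.cj hD,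
            cj_of qy (hy.cm hD)]
          simp only [mul_assoc, cancel qa]
    have k2 := Commute.cj qu h3'.cm
    rw [k1, cj_of qu h9.symm] at k2
    have := k2.mul_right (dz'.symm.mul_right h3'.cm).inv_right
    rw [mul_inv_cancel_right] at this
    exact this.symm

end Class

end CL.Chev.RInv
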