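/-
The root structure theorem for root involutions, part 2: good points.
-/
import Cfsg.Agent.Chev.RootStr1

set_option autoImplicit false

namespace CL.Chev.RInv

open Cfsg CL.Inv

variable {G : Type*} [Group G] {D : Set G} {a a' b b' c c' d d' e g p p' q r s w x y y' z z' : G}

/-- Points collinear with a point equivalent to `d`, but not equivalent to `d`. -/
def Xt (D : Set G) (d x : G) : Prop := (∃ d', Eqv D d d' ∧ Col D d' x) ∧ ¬ Eqv D d x

/-- Good points with respect to `d`. -/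
def Good (D : Set G) (d b : G) : Prop := Xt D d b ∧ ∀ x c, Xt D d x → St D b x c → Eqv D d c

/-- The isolated points among the points commuting with `d`. -/
def Iso (D : Set G) (d w : G) : Prop := w ∈ D ∧ Commute w d ∧ ∀ y ∈ D, Commute y d → ¬ Opp w y

/-- The classes of equivalent points together with the identity are closed under products. -/
def HE (D : Set G) : Prop := ∀ a b, Eqv D a b → a ≠ b → Eqv D a (a * b)

theorem Xt.mem (h : Xt D d x) : x ∈ D := let ⟨⟨_, _, h1⟩, _⟩ := h; h1.r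

theorem Xt.l (h : Xt D d x) : d ∈ D := let ⟨⟨_, h1, _⟩, _⟩ := h; h1.l

theorem Xt.cm (h : Xt D d x) (he : Eqv D d e) : Commute x e :=
  let ⟨⟨_, h1, h2⟩, _⟩ := h; (h1.symm.trans he).cm h2.r h2.cm.symm

theorem Xt.congr (h : Xt D d x) (he : Eqv D d e) : Xt D e x :=
  let ⟨⟨d', h1, h2⟩, h3⟩ := h; ⟨⟨d', he.symm.trans h1, h2⟩, fun h4 => h3 (he.trans h4)⟩

theorem Good.congr (h : Good D d b) (he : Eqv D d e) : Good D e b :=
  ⟨h.1.congr he, fun x c hx hs => he.symm.trans (h.2 x c (hx.congr he.symm) hs)⟩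

theorem Col.xt (h : Col D d x) (hne : ¬ Eqv D d x) : Xt D d x := ⟨⟨d, .refl h.l, h⟩, hne⟩

/-- In a nilpotent group every non-empty set of non-identity elements has a deepest element. -/
theorem exists_deep {N : Subgroup G} (hN : Group.IsNilpotent N) {S : Set G} (hS : ∀ c ∈ S, c ∈ N) (h1 : 1 ∉ S)
    (hne : S.Nonempty) : ∃ c ∈ S, ∀ x ∈ N, c * x * c⁻¹ * x⁻¹ ∉ S := by
  obtain ⟨n, hn⟩ := hN.nilpotent
  have key : ∀ k, (∃ c : N, (c : G) ∈ S ∧ c ∈ Subgroup.upperCentralSeries N k) → ∃ c ∈ S, ∀ x ∈ N, c * x * c⁻¹ * x⁻¹ ∉ S := by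
    intro k
    induction k with
    | zero =>
      rintro ⟨c, hc, h2⟩
      rw [Subgroup.upperCentralSeries_zero, Subgroup.mem_bot] at h2
      exact absurd (h2 ▸ hc :) h1
    | succ k ih =>
      rintro ⟨c, hc, h2⟩
      by_cases h3 : ∀ x ∈ N, (c : G) * x * (c : G)⁻¹ * x⁻¹ ∉ S
      · exact ⟨c, hc, h3⟩
      · push Not at h3
        obtain ⟨x, hx, h4⟩ := h3
        exact ih ⟨_, h4, Subgroup.mem_upperCentralSeries_succ_iff.1 h2 ⟨x, hx⟩⟩
  obtain ⟨c, hc⟩ := hne
  exact key n ⟨⟨c, hS c hc⟩, hc, hn ▸ Subgroup.mem_top _⟩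

section Basic

variable (hD : IsRootInvolutionSet D)
include hD

theorem Xt.not_opp (h : Xt D d x) (hy : y ∈ D) (hyd : Commute y d) : ¬ Opp x y :=
  let ⟨⟨_, h1, h2⟩, _⟩ := h; h2.symm.not_opp hD hy (h1.cm hy hyd).symm

theorem Xt.iso (h : Xt D d x) : Iso D d x := ⟨h.mem, h.cm (.refl h.l), fun _ hy hyd => h.not_opp hD hy hyd⟩

theorem Col.iso (h : Col D d x) : Iso D d x := ⟨h.r, h.cm.symm, fun _ hy hyd => h.symm.not_opp hD hy hyd.symm⟩

theorem Xt.conj (h : Xt D d x) (g : G) : Xt D (g * d * g⁻¹) (g * x * g⁻¹) :=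
  let ⟨⟨_, h1, h2⟩, h3⟩ := h
  ⟨⟨_, h1.conj hD g, h2.conj hD g⟩, fun h4 => h3 (by simpa [mul_assoc] using h4.conj hD g⁻¹)⟩

theorem Good.conj (h : Good D d b) (g : G) : Good D (g * d * g⁻¹) (g * b * g⁻¹) := by
  refine ⟨h.1.conj hD g, fun x c hx hs => ?_⟩
  have := (h.2 _ _ (by simpa [mul_assoc] using hx.conj hD g⁻¹) (by simpa [mul_assoc] using hs.conj hD g⁻¹)).conj hD g
  simpa [mul_assoc] using this

theorem St.xt (h : St D a c b) (hd : Eqv D d b) : Xt D d a :=
  ⟨⟨b, hd, (h.col hD).symm⟩, fun e => h.not_eqv hD (hd.symm.trans e)⟩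

theorem St.xt' (h : St D a c b) (hd : Eqv D d b) : Xt D d c := (h.symm hD).xt hD hd

theorem Iso.conj (h : Iso D d w) (hg : Commute g d) : Iso D d (g * w * g⁻¹) := by
  refine ⟨hD.conj_mem _ h.1 g, ?_, fun y hy hyd ho => h.2.2 _ (hD.conj_mem _ hy g⁻¹) ?_ ?_⟩
  · exact (hg.mul_left h.2.1).mul_left hg.inv_left
  · exact (hg.inv_left.mul_left hyd).mul_left hg.inv_left.inv_left
  · simpa [mul_assoc] using ho.conj g⁻¹

theorem isPGroup_iso [Finite G] : IsPGroup 2 (Subgroup.closure {w | Iso D d w}) :=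
  isPGroup_closure hD (fun _ h => h.1)
    (fun t ht s hs => by have := Iso.conj hD hs ht.2.1; rwa [inv_eq hD ht.1] at this)
    fun s hs t ht => hs.2.2 t ht.1 ht.2.1

theorem iso_of_mem [Finite G] (hw : w ∈ D) (h : w ∈ Subgroup.closure {w | Iso D d w}) : Iso D d w := by
  have hc : ∀ u ∈ Subgroup.closure {w | Iso D d w}, Commute u d := fun u hu =>
    Subgroup.mem_centralizer_singleton_iff.1 ((Subgroup.closure_le (Subgroup.centralizer {d})).2
      (fun t ht => Subgroup.mem_centralizer_singleton_iff.2 ht.2.1) hu)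
  refine ⟨hw, hc w h, fun y hy hyd => ?_⟩
  have h1 : y * w * y⁻¹ ∈ Subgroup.closure {w | Iso D d w} := by
    clear hw
    induction h using Subgroup.closure_induction with
    | mem t ht => exact Subgroup.subset_closure (Iso.conj hD ht hyd)
    | one => simp
    | mul u v _ _ h1 h2 => simpa [mul_assoc] using Subgroup.mul_mem _ h1 h2
    | inv u _ h1 => simpa [mul_assoc] using Subgroup.inv_mem _ h1
  obtain ⟨k, hk⟩ := isPGroup_iso hD ⟨_, Subgroup.mul_mem _ h h1⟩
  refine not_opp_of_pow (sq hD hy) (k := k + 1) ?_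
  rw [pow_succ', pow_mul, show (w * y) ^ 2 = w * (y * w * y⁻¹) by rw [inv_eq hD hy, pow_two]; simp only [mul_assoc]]
  exact congrArg Subtype.val hk

theorem St.iso [Finite G] (h : St D a c b) (ha : Iso D d a) (hc : Iso D d c) : Iso D d b := by
  have h1 := Subgroup.subset_closure (k := {w | Iso D d w}) ha
  have h2 := Subgroup.subset_closure (k := {w | Iso D d w}) hc
  exact iso_of_mem hD (h.mem hD) (h.eq ▸ Subgroup.mul_mem _ (Subgroup.mul_mem _ (Subgroup.mul_mem _ h1 h2) h1) h2)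

theorem exists_deep_iso [Finite G] {S : Set G} (hS : ∀ c ∈ S, Iso D d c) (hne : S.Nonempty) :
    ∃ c ∈ S, ∀ x e, Iso D d x → St D c x e → e ∉ S := by
  obtain ⟨c, hc, h⟩ := exists_deep (N := Subgroup.closure {w | Iso D d w}) (isPGroup_iso hD).isNilpotent
    (fun c hc => Subgroup.subset_closure (hS c hc)) (fun h => ne_one hD (hS 1 h).1 rfl) hne
  refine ⟨c, hc, fun x e hx hs => ?_⟩
  have := h x (Subgroup.subset_closure hx)
  rwa [inv_eq hD hs.l, inv_eq hD hs.r, hs.eq] at this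

theorem commute_mul_of_st (h : St D a c b) (h' : St D a c' b) : Commute a (c * c') := by
  refine commute_of_cj (sq hD h.l) ?_
  rw [cj_mul (sq hD h.l), h.cj hD, h'.cj hD, (h.cm' hD).eq.symm, mul_assoc, cancel (sq hD (h.mem hD))]

end Basic

section Class

variable [Finite G] (H : Nd D)
include H

omit [Finite G] in
theorem ncard_eqv (ha : a ∈ D) (hb : b ∈ D) : {x | Eqv D a x}.ncard = {x | Eqv D b x}.ncard := by
  obtain ⟨g, rfl⟩ := H.cl a ha b hb
  rw [← Set.ncard_image_of_injective _ (MulAut.conj g).injective]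
  congr 1
  ext x
  constructor
  · rintro ⟨x, hx, rfl⟩
    exact Eqv.conj H.ri hx g
  · intro hx
    exact ⟨g⁻¹ * x * g, by simpa [mul_assoc] using Eqv.conj H.ri hx g⁻¹, by simp [mul_assoc]⟩

/-- An injective map between two classes of equivalent points is surjective. -/
theorem surj_eqv (ha : a ∈ D) (hb : b ∈ D) (f : G → G) (hf : ∀ x, Eqv D a x → Eqv D b (f x))
    (hi : ∀ x y, Eqv D a x → Eqv D a y → f x = f y → x = y) (hy : Eqv D b y) : ∃ x, Eqv D a x ∧ f x = y := by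
  have h1 : f '' {x | Eqv D a x} = {x | Eqv D b x} := by
    refine Set.eq_of_subset_of_ncard_le (by rintro _ ⟨x, hx, rfl⟩; exact hf x hx) ?_
    rw [Set.InjOn.ncard_image (s := {x | Eqv D a x}) (fun x hx y hy => hi x y hx hy), ncard_eqv H ha hb]
  exact (h1 ▸ hy : y ∈ f '' {x | Eqv D a x})

theorem exists_good (hd : d ∈ D) : ∃ b, Good D d b := by
  have hD := H.ri
  obtain ⟨a, c, h⟩ := H.exists_st hd
  obtain ⟨b, ⟨hb, hne⟩, h1⟩ := exists_deep_iso hD (S := {w | Iso D d w ∧ ¬ Eqv D d w}) (fun _ h => h.1)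
    ⟨a, (h.col hD).symm.iso hD, h.not_eqv hD⟩
  have h2 : ∀ x e, Iso D d x → St D b x e → Eqv D d e := fun x e hx hs =>
    by_contra fun h3 => h1 x e hx hs ⟨hs.iso hD hb hx, h3⟩
  obtain ⟨x, hx, h3⟩ := exists_not_commute H hd hb.1 hb.2.1 hne
  have h4 := st_of_not hD hb.1 hx.r (hb.2.2 x hx.r hx.cm.symm) h3
  exact ⟨b, h4.xt hD (h2 _ _ (hx.iso hD) h4), fun x e hx => h2 x e (hx.iso hD)⟩

theorem Good.swap (h : Good D d b) (hs : St D p b d) : Good D b d := by
  obtain ⟨y, hy⟩ := hs.exists_back H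
  obtain ⟨s, hs, -, -, e1, e2, -, -⟩ := swap_of_st H.ri hs hy
  have := h.conj H.ri s
  rwa [inv_eq H.ri hs, e1, e2] at this

variable (hE : HE D)
include hE

theorem Good.col (h : Good D d b) (he : Eqv D d e) : Col D b e := by
  have hD := H.ri
  obtain ⟨⟨d', hd', hc⟩, hne⟩ := h.1
  obtain ⟨x, hx, ho, h4⟩ := exists_opp_four hD H.cl hc.r hc.l hc.cm.symm hc.symm.mem
    fun e => hne (hd'.trans (eqv_iff.2 ⟨hc.r, hc.l, e⟩).symm)
  have hst : ∀ x', Eqv D x x' → St D d' x' (d' * x' * d' * x') ∧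
      St D (d' * x' * d' * x') b ((d' * x' * d' * x') * b * (d' * x' * d' * x') * b) := fun x' hx' => by
    obtain ⟨z, h1⟩ := hx'.st H (⟨hc.l, hx, h4, rfl⟩ : St D d' x _)
    obtain ⟨-, r, h2⟩ := h1.back hD hc.symm (hx'.opp H hc.r ho.symm).symm
    rw [h1.eq, h2.eq]
    exact ⟨h1, h2⟩
  obtain ⟨x', hx', rfl⟩ := surj_eqv H hx hd'.l (fun x' => (d' * x' * d' * x') * b * (d' * x' * d' * x') * b)
    (fun x' hx' => by
      obtain ⟨h1, h2⟩ := hst x' hx'
      exact h.2 _ _ ⟨⟨d', hd', h1.col hD⟩, fun e => h2.nc hD (h.1.cm e).symm⟩ (h2.symm hD))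
    (fun x' x'' hx' hx'' e => by
      by_contra hne'
      have h3 := hx'.trans (hE _ _ (hx'.symm.trans hx'') hne')
      obtain ⟨h1, h2⟩ := hst x' hx'
      obtain ⟨h1', h2'⟩ := hst x'' hx''
      refine (hst _ h3).2.nc hD ?_
      have h5 := commute_mul_of_st hD (h2.symm hD) (e ▸ h2'.symm hD)
      have h6 : Commute (d' * x'' * d') x' := (hx''.symm.trans hx').cm (conj_mem hD hx''.r hc.l)
        (commute_conj_of_pow (sq hD hx''.r) (sq hD hc.l) (four_pow (h1'.symm hD).four)).symm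
      have h7 : d' * (x' * x'') * d' * (x' * x'') = d' * x' * d' * x' * (d' * x'' * d' * x'') := by
        rw [cj_mul (sq hD hc.l), mul_assoc, ← mul_assoc (d' * x'' * d'), h6.eq]; simp only [mul_assoc]
      rw [h7]
      exact h5.symm) he
  exact (hst x' hx').2.col' hD

theorem Good.swap' (h : Good D d b) (he : Eqv D d e) : Good D b e := by
  obtain ⟨p, hp⟩ := (h.col H hE he).exists_st H fun e1 => h.1.2 (he.trans e1.symm)
  exact (h.congr he).swap H hp

theorem Good.congr' (h : Good D d b) (he : Eqv D b b') : Good D d b' := (h.swap' H hE (.refl h.1.l)).swap' H hE he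

theorem Good.step (h : Good D d b) (hz : St D z b d) (ha : Col D d a) (hs : St D a z e) : Eqv D d e := by
  have hD := H.ri
  obtain ⟨y, a', z', hy, h1, h2, h2', h3', ⟨f, h4⟩, ho⟩ := config H hs ha (hz.col hD).symm
  have hg : Good D d a' := by
    obtain ⟨g, e1, e2, e3⟩ := conj_of_st H (hz.symm hD) h2
    have := h.conj hD g
    rwa [e2, e3] at this
  have hz' : Xt D d z' := (h2'.col hD).symm.xt (h2'.not_eqv hD)
  let S : Set G := {p | Eqv D d p ∧ Col D z' p}
  let T : G → G := fun p => (p * y * p * y) * z' * (p * y * p * y) * z'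
  have hT : ∀ p, Col D z' p → ∀ q, St D p y q → Col D y q ∧ St D q z' (T p) := fun p hp q hq => by
    obtain ⟨h5, r, h6⟩ := hq.back hD hp ho
    simp only [T, hq.eq, h6.eq]
    exact ⟨h5, h6⟩
  have hst : ∀ p ∈ S, ∃ q, St D p y q := fun p hp => by
    obtain ⟨q, hq⟩ := hp.1.st H (h1.symm hD)
    exact ⟨q, hq.symm hD⟩
  have hmaps : Set.MapsTo T S S := fun p hp => by
    obtain ⟨q, hq⟩ := hst p hp
    have h5 := (hT p hp.2 q hq).2
    have h6 := (hg.swap' H hE hp.1).2 y q ((h1.col' hD).symm.xt (h1.not_eqv' hD)) hq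
    exact ⟨(hg.congr' H hE h6).2 z' _ hz' h5, h5.col' hD⟩
  have hinj : ∀ p p' q q', Col D z' p → Col D z' p' → St D p y q → St D p' y q' → T p = T p' → p = p' :=
    fun p p' q q' hp hp' hq hq' e => by
      obtain ⟨h5, h6⟩ := hT p hp q hq
      obtain ⟨h5', h6'⟩ := hT p' hp' q' hq'
      obtain rfl := h6.inj hD (e ▸ h6') h5 h5' ho.symm
      exact hq.inj hD hq' hp hp' ho
  obtain ⟨p, hp, e1⟩ := ((Set.toFinite S).injOn_iff_bijOn_of_mapsTo hmaps).1 (fun p hp p' hp' e => by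
    obtain ⟨q, hq⟩ := hst p hp
    obtain ⟨q', hq'⟩ := hst p' hp'
    exact hinj p p' q q' hp.2 hp'.2 hq hq' e) |>.surjOn (⟨.refl ha.l, h2'.col hD⟩ : d ∈ S)
  obtain ⟨q, hq⟩ := hst p hp
  have e2 : T e = d := (hT e h3' a (hy.symm hD)).2.unique (h2'.symm hD)
  exact hinj p e q a hp.2 h3' hq (hy.symm hD) (e1.trans e2.symm) ▸ hp.1

omit [Finite G] in
theorem eq_of_st_eqv (h : St D z b c) (h' : St D z b' c) (he : Eqv D b b') : b = b' := by
  by_contra hne
  exact h.nc H.ri ((hE _ _ he hne).symm.cm h.l (commute_mul_of_st H.ri h h'))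

theorem Good.of_st (h : Good D d b) (hz : Xt D d z) (hs : St D z b c) : Good D d z := by
  have hD := H.ri
  refine ⟨hz, fun a e ha hs' => ?_⟩
  obtain ⟨⟨d', hd', hc⟩, -⟩ := ha
  have hst : ∀ b', Eqv D b b' → St D z b' (z * b' * z * b') := fun b' hb' => by
    obtain ⟨c', h1⟩ := hb'.st H hs
    exact h1.eq ▸ h1
  obtain ⟨b', hb', rfl⟩ := surj_eqv H hs.r hd'.l (fun b' => z * b' * z * b')
    (fun b' hb' => (h.congr' H hE hb').2 z _ hz ((hst b' hb').symm hD))
    (fun b' b'' hb' hb'' e => eq_of_st_eqv H hE (hst b' hb') (e ▸ hst b'' hb'') (hb'.symm.trans hb'')) hd'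
  exact hd'.trans (((h.congr' H hE hb').congr hd').step H hE (hst b' hb') hc (hs'.symm hD))

end Class

end CL.Chev.RInv
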