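/-
The root structure theorem for root involutions, part 3: all points are good.
-/
import Cfsg.Agent.Chev.RootStr2

set_option autoImplicit false

namespace CL.Chev.RInv

open Cfsg CL.Inv

variable {G : Type*} [Group G] {D : Set G} {a a' b b' c c' d d' e g p p' q r s u w x y y' z z' : G}

/-- All commutators with the points near `d` are equivalent to `d` or trivial. -/
def CG (D : Set G) (d q : G) : Prop := ∀ x, Xt D d x → ∃ c, (c = 1 ∨ Eqv D d c) ∧ x * q * x = c * q

theorem HE.mul (hD : IsRootInvolutionSet D) (hE : HE D) (h : c = 1 ∨ Eqv D d c) (h' : c' = 1 ∨ Eqv D d c') :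
    c * c' = 1 ∨ Eqv D d (c * c') := by
  rcases h with rfl | h
  · rwa [one_mul]
  rcases h' with rfl | h'
  · rw [mul_one]; exact .inr h
  by_cases e : c = c'
  · exact .inl (e ▸ sq hD h.r)
  · exact .inr (h.trans (hE _ _ (h.symm.trans h') e))

section Basic

variable (hD : IsRootInvolutionSet D)
include hD

theorem Good.cg (h : Good D d b) : CG D d b := fun x hx => by
  rcases tri' hD h.1.mem hx.mem (h.1.not_opp hD hx.mem (hx.cm (.refl hx.l))) with h1 | ⟨c, h1⟩
  · exact ⟨1, .inl rfl, by rw [cj_of (sq hD hx.mem) h1.symm, one_mul]⟩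
  · exact ⟨c, .inr (h.2 x c hx h1), h1.cj' hD⟩

theorem Eqv.cg (h : Eqv D d e) : CG D d e := fun x hx =>
  ⟨1, .inl rfl, by rw [cj_of (sq hD hx.mem) (hx.cm h), one_mul]⟩

theorem CG.good (h : CG D d b) (hb : Xt D d b) : Good D d b := by
  refine ⟨hb, fun x c hx hs => ?_⟩
  obtain ⟨c', h1, h2⟩ := h x hx
  obtain rfl := mul_right_cancel ((hs.cj' hD).symm.trans h2)
  exact h1.resolve_left (ne_one hD (hs.mem hD))

theorem CG.mul (hE : HE D) (h : CG D d p) (h' : CG D d q) (hp : p ∈ D) (hpd : Commute p d) : CG D d (p * q) := by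
  intro x hx
  obtain ⟨c, h1, h2⟩ := h x hx
  obtain ⟨c', h1', h2'⟩ := h' x hx
  refine ⟨c * c', hE.mul hD h1 h1', ?_⟩
  have : Commute p c' := by
    rcases h1' with rfl | h3
    exacts [Commute.one_right p, h3.cm hp hpd]
  rw [cj_mul (sq hD hx.mem), h2, h2', mul_assoc, this.left_comm, mul_assoc]

end Basic

section Class

variable [Finite G] (H : Nd D) (hE : HE D)
include H hE

theorem commute_of_bad (hq : Xt D d q) (hn : ¬ Good D d q) (hu : Col D d u) (h : CG D d u) : Commute q u := by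
  have hD := H.ri
  by_cases e : Eqv D d u
  · exact hq.cm e
  rcases tri' hD hq.mem hu.r (hq.not_opp hD hu.r hu.cm.symm) with h1 | ⟨c, h1⟩
  · exact h1
  · exact absurd ((h.good hD (hu.xt e)).of_st H hE hq h1) hn

theorem cg_of_st (hb : Good D d b) (hc : Col D d q) (h : ¬ Commute q b) : CG D d q := by
  have hD := H.ri
  have h1 : Xt D d q := hc.xt fun e => h (hb.1.cm e).symm
  exact (hb.of_st H hE h1 (st_of_not hD hc.r hb.1.mem (h1.not_opp hD hb.1.mem (hb.1.cm (.refl hc.l))) h)).cg hD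

theorem cg_case_one (hb : Good D d b) (hb' : Good D d b') (h1 : St D b' b d) (h2 : St D y d b) (hq : Col D d q)
    (qb' : Commute q b') (qy : Commute q y) : CG D d q := by
  have hD := H.ri
  obtain ⟨s, hs, es, -, -, e2, -, -⟩ := swap_of_st hD h1 h2
  have qs : Commute s q := es ▸ ((qb'.mul_right qy).mul_right qb').symm
  have h3 := hq.cj hD (sq hD hs)
  rw [e2, cj_of (sq hD hs) qs] at h3
  have h4 := conj_mem hD h3.mem h1.l
  rw [cj_mul (sq hD h1.l), h1.cj hD, cj_of (sq hD h1.l) qb'.symm, mul_assoc] at h4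
  have h5 : Col D d (b * q) := ⟨hq.l, h3.mem, (h1.cm' hD).symm.mul_right hq.cm, h4⟩
  have h6 := cg_of_st H hE hb' h5 fun h => h1.nc hD (by
    have := h.mul_left qb'.inv_left
    rw [mul_inv_cancel_right] at this
    exact this.symm)
  have := (hb.cg hD).mul hD hE h6 h1.r (h1.cm' hD)
  rwa [cancel (sq hD h1.r)] at this

theorem cg_case_two (hb : Good D d b) (hb' : Good D d b') (h1 : St D b' b d) (h2 : St D y d b) (hq : Col D d q)
    (hne : ¬ Eqv D d q) (hn : ¬ Good D d q) : ∃ u, Col D d u ∧ Col D b' u ∧ CG D d u ∧ Commute y (q * u) := by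
  have hD := H.ri
  have hx := hq.xt hne
  have qb := commute_of_bad H hE hx hn (h1.col' hD).symm (hb.cg hD)
  have qb' := commute_of_bad H hE hx hn (h1.col hD).symm (hb'.cg hD)
  have qy := sq hD h2.l
  have bd := h1.cm' hD
  have h3 := st_of_not hD hq.r h2.l (fun ho => (h2.col hD).not_opp hD hq.r qb.symm ho.symm)
    fun h => hn ((cg_case_one H hE hb hb' h1 h2 hq qb' h).good hD hx)
  have dq : Commute d (q * y * q * y) := by
    have := Commute.cj qy (qb.mul_right hq.cm.symm)
    rw [← h2.cj hD, cj_cj qy] at this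
    simpa only [mul_assoc] using hq.cm.mul_right this.symm
  have bq : Commute b (q * y * q * y) :=
    ((qb.symm.mul_right (h2.cm hD).symm).mul_right qb.symm).mul_right (h2.cm hD).symm
  generalize q * y * q * y = v at h3 dq bq
  obtain ⟨u, h4, h5, h6⟩ := s3_act hD (h3.col' hD) h1.l (by rw [orderOf_swap]; exact three_of_st hD h1 h2)
    ((h3.col hD).symm.not_opp hD h1.l qb')
  obtain ⟨s, hs, -, es, e1, e2, -, -⟩ := swap_of_st hD h1 h2
  rw [← es] at h6
  have h7 := st_of_not hD hq.mem h2.l (fun ho => (h2.col hD).not_opp hD hq.mem (bd.mul_right qb.symm) ho.symm)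
    fun h => hn (CG.good hD (by
      have := ((Eqv.refl hq.l).cg hD).mul hD hE (cg_case_one H hE hb hb' h1 h2 (hq.third hD)
        ((h1.cm hD).symm.mul_left qb') h) hq.l (Commute.refl d)
      rwa [cancel (sq hD hq.l)] at this) hx)
  have h8 : Col D b v := by
    refine ⟨h1.r, h3.mem hD, bq, ?_⟩
    have h9 := h7.cj' hD
    rw [cj_mul qy, h2.cj hD, h3.cj' hD, mul_assoc b, dq.left_comm, ← mul_assoc b] at h9
    rw [mul_right_cancel h9]
    exact h7.mem hD
  have h9 := h8.cj hD (sq hD hs)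
  have h10 := Commute.cj (sq hD hs) dq
  rw [e1, h6] at h9
  rw [e2, h6] at h10
  have h11 := h4.col' hD
  have h12 := conj_mem hD h11.mem h1.r
  rw [cj_mul (sq hD h1.r), h1.cj' hD, cj_of (sq hD h1.r) h10, mul_assoc] at h12
  have h13 : Col D d (b' * u) := ⟨hq.l, h11.mem, (h1.cm hD).symm.mul_right h9.cm, h12⟩
  have h14 := cg_of_st H hE hb h13 fun h => h1.nc hD (by
    have := h.mul_left h10.symm.inv_left
    rwa [mul_inv_cancel_right] at this)
  have h15 := (hb'.cg hD).mul hD hE h14 h1.l (h1.cm hD)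
  rw [cancel (sq hD h1.l)] at h15
  exact ⟨u, h9, h11, h15, commute_mul_of_st hD (h3.symm hD) (h5.symm hD)⟩

theorem Col.good (hp : Col D d p) (hne : ¬ Eqv D d p) : Good D d p := by
  have hD := H.ri
  by_contra hn
  obtain ⟨b, hb⟩ := exists_good H hp.l
  obtain ⟨b', h1⟩ := (hb.col H hE (.refl hp.l)).exists_st H fun e => hb.1.2 e.symm
  have hb' := hb.of_st H hE (h1.xt hD (.refl hp.l)) h1
  obtain ⟨y, h2⟩ := h1.exists_back H
  obtain ⟨q, h3⟩ := hp.symm.exists_st H fun e => hne e.symm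
  have hq := h3.xt hD (.refl hp.l)
  have hn' : ¬ Good D d q := fun h => hn (h.of_st H hE (hp.xt hne) (h3.symm hD))
  obtain ⟨u, u1, u2, u3, u4⟩ := cg_case_two H hE hb hb' h1 h2 hp hne hn
  obtain ⟨v, v1, v2, v3, v4⟩ := cg_case_two H hE hb hb' h1 h2 (h3.col hD).symm hq.2 hn'
  have pu := commute_of_bad H hE (hp.xt hne) hn u1 u3
  have pv := commute_of_bad H hE (hp.xt hne) hn v1 v3
  have qu := commute_of_bad H hE hq hn' u1 u3
  have qv := commute_of_bad H hE hq hn' v1 v3
  have hnc : ¬ Commute u v := fun h => h2.nc hD (by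
    have := ((v4.mul_right u4).mul_right v4).mul_right u4
    rwa [show q * v * (p * u) * (q * v) * (p * u) = d by
      rw [← h3.eq]
      simp only [mul_assoc, pu.symm.left_comm, pv.symm.left_comm, qu.symm.left_comm, qv.symm.left_comm, h.left_comm,
        sq hD v1.r, sq hD u1.r, mul_one]] at this)
  have h4 := st_of_not hD u1.r v1.r (u1.symm.not_opp hD v1.r v1.cm) hnc
  have hu := u3.good hD (u1.xt fun e => hnc (e.cm v1.r v1.cm.symm).symm)
  have h5 := hu.2 v _ (v1.xt fun e => hnc (e.cm u1.r u1.cm.symm)) h4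
  obtain ⟨-, -, z, -, -, -, h6, h7, -⟩ := config H h4 u2 v2
  exact hb'.1.2 (hu.2 z _ ⟨⟨_, h5, h7.symm⟩, fun e => h6.nc hD (e.cm u1.r u1.cm.symm).symm⟩ (h6.symm hD))

theorem Xt.good (h : Xt D d p) : Good D d p :=
  let ⟨⟨_, h1, h2⟩, h3⟩ := h; (h2.good H hE fun e => h3 (h1.trans e)).congr h1.symm

/-- Commutators of points near `d` are equivalent to `d`. -/
theorem St.eqv_of_xt (h : St D a z e) (ha : Xt D d a) (hz : Xt D d z) : Eqv D d e := (ha.good H hE).2 z e hz h

theorem St.eqv_of_col (h : St D a z e) (ha : Col D d a) (hz : Col D d z) : Eqv D d e :=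
  h.eqv_of_xt H hE (ha.xt fun e1 => h.nc H.ri (e1.cm hz.r hz.cm.symm).symm)
    (hz.xt fun e1 => h.nc H.ri (e1.cm ha.r ha.cm.symm))

theorem Xt.col (h : Xt D d p) (he : Eqv D d e) : Col D e p := ((h.good H hE).col H hE he).symm

theorem Col.congr (h : Col D d p) (hne : ¬ Eqv D d p) (he : Eqv D d e) : Col D e p := (h.xt hne).col H hE he

theorem St.surj (h : St D a c b) (he : Eqv D b e) : ∃ c', Eqv D c c' ∧ St D a c' e := by
  have hD := H.ri
  have hst : ∀ c', Eqv D c c' → St D a c' (a * c' * a * c') := fun c' hc' => by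
    obtain ⟨b', h1⟩ := hc'.st H h
    exact h1.eq ▸ h1
  obtain ⟨c', hc', rfl⟩ := surj_eqv H h.r he.l (fun c' => a * c' * a * c')
    (fun c' hc' => (hst c' hc').eqv_of_col H hE (h.col hD).symm
      ((h.col' hD).congr H hE (fun e => h.not_eqv' hD e.symm) hc').symm)
    (fun c' c'' hc' hc'' e => eq_of_st_eqv H hE (hst c' hc') (e ▸ hst c'' hc'') (hc'.symm.trans hc'')) he
  exact ⟨c', hc', hst c' hc'⟩

theorem St.eqv (h : St D a c b) (h' : St D a c' b') (he : Eqv D c c') : Eqv D b b' :=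
  h'.eqv_of_col H hE (h.col H.ri).symm ((h.col' H.ri).congr H hE (fun e => h.not_eqv' H.ri e.symm) he).symm

theorem opp_of_st_eqv (h : St D u c p) (h' : St D w p c') (he : Eqv D c c') : Opp u w := by
  have hD := H.ri
  obtain ⟨u', h1, h2⟩ : ∃ u', Eqv D u u' ∧ St D c' u' p := by
    obtain ⟨p', h1⟩ := he.st H h
    exact (h1.symm hD).surj H hE (h1.eqv H hE h he.symm)
  exact (h1.symm.opp H h'.l (opp_of_st hD (h2.symm hD) h'))

end Class

end CL.Chev.RInv
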