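/-
The root structure theorem for root involutions, part 4: the subgroup generated by the points collinear with a point.
-/
import Cfsg.Agent.Chev.RootStr3
import Cfsg.Statements.S5055

set_option autoImplicit false

namespace CL.Chev.RInv

open Cfsg CL.Inv CL.Bender

variable {G : Type*} [Group G] {D : Set G} {a a' b b' c c' d d' e g p p' q r s u w x y y' z z' : G}

theorem mem_productPartners (hD : IsRootInvolutionSet D) (hd : d ∈ D) : e ∈ productPartners D d ↔ Col D d e :=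
  ⟨fun h => Col.symm ⟨h.1.1, hd, h.1.2.1, h.2⟩, fun h => ⟨⟨h.r, h.cm.symm, (h.ne hD).symm⟩, h.symm.mem⟩⟩

theorem isolated_iff_iso :
    IsIsolatedElem (OddAdj (commutingMembers D d)) (commutingMembers D d) w ↔ Iso D d w :=
  isolated_iff.trans ⟨fun h => ⟨h.1.1, h.1.2, fun y hy hyd => h.2 y ⟨hy, hyd⟩⟩,
    fun h => ⟨⟨h.1, h.2.1⟩, fun y hy => h.2.2 y hy.1 hy.2⟩⟩

/-- The subgroup generated by `d` and the points collinear with `d`. -/
def Mg (D : Set G) (d : G) : Subgroup G := Subgroup.closure (productPartners D d ∪ {d})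

theorem self_mem_Mg : d ∈ Mg D d := Subgroup.subset_closure (.inr rfl)

theorem Col.mem_Mg (hD : IsRootInvolutionSet D) (h : Col D d e) : e ∈ Mg D d :=
  Subgroup.subset_closure (.inl ((mem_productPartners hD h.l).2 h))

theorem Mg_induction (hD : IsRootInvolutionSet D) (hd : d ∈ D) {P : G → Prop} (h1 : P 1) (h2 : P d)
    (h3 : ∀ e, Col D d e → P e) (h4 : ∀ x y, x ∈ Mg D d → y ∈ Mg D d → P x → P y → P (x * y)) (hx : x ∈ Mg D d) :
    P x := by
  induction hx using Subgroup.closure_induction'' with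
  | mem t ht =>
    rcases ht with ht | rfl
    exacts [h3 t ((mem_productPartners hD hd).1 ht), h2]
  | inv_mem t ht =>
    rcases ht with ht | rfl
    · rw [inv_eq hD ht.1.1]; exact h3 t ((mem_productPartners hD hd).1 ht)
    · rwa [inv_eq hD hd]
  | one => exact h1
  | mul x y hx hy => exact h4 x y hx hy ‹_› ‹_›

theorem Eqv.commute_Mg (hD : IsRootInvolutionSet D) (h : Eqv D d e) (hx : x ∈ Mg D d) : Commute x e :=
  Mg_induction hD h.l (P := fun x => Commute x e) (Commute.one_left e) h.commute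
    (fun _ h1 => h.cm h1.r h1.cm.symm) (fun _ _ _ _ => Commute.mul_left) hx

section Class

variable [Finite G] (H : Nd D) (hE : HE D)
include H hE

theorem comm_Mg (hd : d ∈ D) (hx : x ∈ Mg D d) (hy : y ∈ Mg D d) :
    x * y * x⁻¹ * y⁻¹ = 1 ∨ Eqv D d (x * y * x⁻¹ * y⁻¹) := by
  have hD := H.ri
  have hc : ∀ {c x : G}, (c = 1 ∨ Eqv D d c) → x ∈ Mg D d → Commute x c := by
    rintro c x (rfl | h) hx
    exacts [Commute.one_right x, h.commute_Mg hD hx]
  have h0 : ∀ {x y : G}, Commute x y → x * y * x⁻¹ * y⁻¹ = 1 ∨ Eqv D d (x * y * x⁻¹ * y⁻¹) := fun h =>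
    .inl (by rw [h.eq, mul_inv_cancel_right, mul_inv_cancel])
  refine Mg_induction hD hd (P := fun x => x * y * x⁻¹ * y⁻¹ = 1 ∨ Eqv D d (x * y * x⁻¹ * y⁻¹))
    (h0 (Commute.one_left y)) (h0 ((Eqv.refl hd).commute_Mg hD hy).symm) (fun e he => ?_) (fun x x' hx _ h h' => ?_) hx
  · refine Mg_induction hD hd (P := fun y => e * y * e⁻¹ * y⁻¹ = 1 ∨ Eqv D d (e * y * e⁻¹ * y⁻¹))
      (h0 (Commute.one_right e)) (h0 he.cm.symm) (fun f hf => ?_) (fun y y' hy _ h h' => ?_) hy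
    · rcases tri' hD he.r hf.r (he.symm.not_opp hD hf.r hf.cm) with h | ⟨c, h⟩
      · exact h0 h
      · rw [inv_eq hD he.r, inv_eq hD hf.r, h.eq]
        exact .inr (h.eqv_of_col H hE he hf)
    · have := hE.mul hD h h'
      rwa [show e * y * e⁻¹ * y⁻¹ * (e * y' * e⁻¹ * y'⁻¹) = e * (y * y') * e⁻¹ * (y * y')⁻¹ by
        rw [mul_assoc _ y⁻¹, (hc h' hy).inv_left.eq]; group] at this
  · have := hE.mul hD h' h
    rwa [show x' * y * x'⁻¹ * y⁻¹ * (x * y * x⁻¹ * y⁻¹) = x * x' * y * (x * x')⁻¹ * y⁻¹ by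
      rw [mul_assoc x, mul_assoc x, ← mul_assoc _ x, ← (hc h' hx).eq]; group] at this

omit [Finite G] H in
theorem HE.col (h : Eqv D d e) (hne : d ≠ e) : Col D d e := ⟨h.l, h.r, h.commute, (hE _ _ h hne).r⟩

theorem col_of_mem_Mg (hd : d ∈ D) (hx : x ∈ D) (h : x ∈ Mg D d) (hne : d ≠ x) : Col D d x := by
  have hD := H.ri
  by_cases e : Eqv D d x
  · exact hE.col e hne
  obtain ⟨t, ht, h1⟩ := exists_not_commute H hd hx ((Eqv.refl hd).commute_Mg hD h) e
  have h2 := st_of_not hD hx ht.r (fun ho => ht.symm.not_opp hD hx ((Eqv.refl hd).commute_Mg hD h).symm ho.symm) h1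
  have h3 := comm_Mg H hE hd h (ht.mem_Mg hD)
  rw [inv_eq hD hx, inv_eq hD ht.r] at h3
  exact (h2.xt hD (h3.resolve_left (ne_one hD (h2.mem hD)))).col H hE (.refl hd)

theorem Iso.eqv_of_st (hw : Iso D d w) (hb : Col D d b) (h : St D w b c) : Eqv D d c := by
  have hD := H.ri
  by_contra hne
  obtain ⟨c, ⟨⟨w, b, hw, hb, h⟩, hne⟩, h1⟩ := exists_deep_iso hD
    (S := {c | (∃ w b, Iso D d w ∧ Col D d b ∧ St D w b c) ∧ ¬ Eqv D d c})
    (by rintro c ⟨⟨w, b, hw, hb, h⟩, -⟩; exact h.iso hD hw (hb.iso hD)) ⟨c, ⟨w, b, hw, hb, h⟩, hne⟩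
  have hc := h.iso hD hw (hb.iso hD)
  have hdc : Col D d c := by
    obtain ⟨t, ht, h2⟩ := exists_not_commute H hb.l hc.1 hc.2.1 hne
    have h3 := st_of_not hD hc.1 ht.r (hc.2.2 t ht.r ht.cm.symm) h2
    refine (h3.xt hD (by_contra fun h4 => h1 t _ (ht.iso hD) h3 ⟨⟨c, t, hc, ht, h3⟩, h4⟩)).col H hE (.refl hb.l)
  obtain ⟨t, ht⟩ := hdc.symm.exists_st H fun e => hne e.symm
  obtain ⟨b, hb, h, htb⟩ : ∃ b, Col D d b ∧ St D w b c ∧ Commute t b := by
    rcases tri' hD ht.l hb.r ((ht.col hD).not_opp hD hb.r hb.cm) with h2 | ⟨d', h2⟩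
    · exact ⟨b, hb, h, h2⟩
    obtain ⟨c', h3, h4⟩ := ht.surj H hE (h2.eqv_of_col H hE (ht.col hD).symm hb)
    have h5 := (h.col' hD).symm.congr H hE (h.not_eqv' hD) h3
    have h6 := h3.cm hw.1 (h.cm hD)
    have h7 : St D w (b * c') c := st_of_cj hD hw.1 h5.symm.mem (h.mem hD)
      (by rw [cj_mul (sq hD hw.1), h.cj hD, cj_of (sq hD hw.1) h6, mul_assoc]) ((h.cm' hD).symm.mul_right h3.commute)
    refine ⟨b * c', col_of_mem_Mg H hE hb.l h7.r (Subgroup.mul_mem _ (hb.mem_Mg hD)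
      ((hdc.symm.congr H hE (fun e => hne e.symm) h3).symm.mem_Mg hD)) fun e => h7.nc hD (e ▸ hw.2.1), h7,
      commute_mul_of_st hD h2 h4⟩
  obtain ⟨r, hr⟩ := h.exists_back H
  have h2 := st_of_not hD hr.l hb.l ((hr.col hD).not_opp hD hb.l hb.cm.symm)
    fun h2 => hw.2.2 r hr.l h2 (opp_of_st hD h hr)
  have h3 := h2.eqv_of_col H hE (hr.col hD).symm hb.symm
  generalize r * d * r * d = b' at h2 h3
  have h4 : Commute t b' := h3.cm ht.l htb
  have qr := sq hD hr.l
  have qt := sq hD ht.l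
  have h5 : Commute (r * t * r) d := by
    have := Commute.cj qr (h4.mul_right (ht.cm hD))
    rwa [← h2.cj hD, cj_cj qr] at this
  have h6 : St D (r * t * r) c (b' * d) := by
    refine st_of_cj hD (conj_mem hD ht.l hr.l) ht.r (h2.cj hD ▸ conj_mem hD hb.l hr.l) ?_
      ((h3.cm ht.r (h.cm' hD).symm).symm.mul_left hdc.cm)
    calc _ = r * (t * (r * c * r) * t) * r := by simp only [mul_assoc]
      _ = _ := by
        rw [hr.cj hD, cj_mul qt, ht.cj hD, cj_of qt htb, cj_mul qr, cj_mul qr, hr.cj hD, h2.cj hD, cj_of qr (hr.cm hD)]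
        simp only [mul_assoc]
        rw [hb.cm.left_comm, h3.commute.left_comm, cancel (sq hD hb.r)]
  have h7 := st_of_not hD hw.1 (h6.mem hD) ((h.col hD).not_opp hD (h6.mem hD) (h6.cm' hD)) fun h7 => by
    have := h7.mul_right hw.2.1.inv_right
    rw [mul_inv_cancel_right] at this
    exact h.nc hD (h3.symm.cm hw.1 this)
  exact hw.2.2 _ h6.l h5 (opp_of_st_eqv H hE h6 h7 (h7.eqv_of_col H hE (h.col hD).symm (h6.col' hD))).symm

theorem Iso.col (hw : Iso D d w) (hd : d ∈ D) (hne : d ≠ w) : Col D d w := by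
  have hD := H.ri
  by_cases e : Eqv D d w
  · exact hE.col e hne
  obtain ⟨t, ht, h1⟩ := exists_not_commute H hd hw.1 hw.2.1 e
  have h2 := st_of_not hD hw.1 ht.r (hw.2.2 t ht.r ht.cm.symm) h1
  exact (h2.xt hD (hw.eqv_of_st H hE ht h2)).col H hE (.refl hd)

theorem Eqv.exists_st (h : Eqv D d e) : ∃ a c, Col D d a ∧ Col D d c ∧ St D a c e := by
  obtain ⟨a, c, h1⟩ := H.exists_st h.r
  exact ⟨a, c, (h1.xt H.ri h).col H hE (.refl h.l), (h1.xt' H.ri h).col H hE (.refl h.l), h1⟩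

end Class

universe u

theorem nd_of {G : Type u} [Group G] [Finite G] {D : Set G} (hA : AschCrit.{u}) (hB : BenderSplit.{u})
    (hD : IsRootInvolutionSet D) (hcl : ∀ a ∈ D, ∀ b ∈ D, ∃ g : G, b = g * a * g⁻¹)
    (h4 : ∃ a ∈ D, ∃ b ∈ D, orderOf (a * b) = 4) : Nd D :=
  ⟨hD, hcl, h4, fun _ hd _ hx ho _ hU hxU => eq_top_of_productPartners hA hB hD hcl h4 hd hx ho hU hxU⟩

theorem he_of (hD : IsRootInvolutionSet D)
    (hE : ∀ d ∈ D, (sameCommutingSubgroup D d : Set G) = sameCommutingClass D d ∪ {1}) : HE D := by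
  intro a b h hne
  have h1 : a * b ∈ sameCommutingSubgroup D a := Subgroup.mul_mem _
    (Subgroup.subset_closure ((mem_sameCommutingClass h.l).2 (.refl h.l)))
    (Subgroup.subset_closure ((mem_sameCommutingClass h.l).2 h))
  rcases (hE a h.l ▸ h1 : a * b ∈ sameCommutingClass D a ∪ {1}) with h2 | h2
  · exact (mem_sameCommutingClass h.l).1 h2
  · exact absurd (by rw [← inv_eq hD h.r]; exact eq_inv_of_mul_eq_one_left h2) hne

theorem s5055_of (hA : AschCrit.{u}) (hB : BenderSplit.{u}) : type_of% @Cfsg.CfsgFrozen.S5055.{u} := by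
  intro G _ _ D hD hcl _ _ hE d hd
  have H := nd_of hA hB hD.1 hcl.2.2 hD.2.2.2
  have hE' := he_of hD.1 hE
  have h3 : ⁅Mg D d, Mg D d⁆ = sameCommutingSubgroup D d := by
    refine le_antisymm (Subgroup.commutator_le.2 fun x hx y hy => ?_) ((Subgroup.closure_le _).2 fun e he => ?_)
    · rcases comm_Mg H hE' hd hx hy with h | h
      · rw [commutatorElement_def, h]; exact Subgroup.one_mem _
      · exact Subgroup.subset_closure ((mem_sameCommutingClass hd).2 h)
    · obtain ⟨a, c, h1, h2, h⟩ := ((mem_sameCommutingClass hd).1 he).exists_st H hE'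
      have := Subgroup.commutator_mem_commutator (h1.mem_Mg hD.1) (h2.mem_Mg hD.1)
      rwa [commutatorElement_def, inv_eq hD.1 h.l, inv_eq hD.1 h.r, h.eq] at this
  refine ⟨?_, ?_, h3, ?_⟩
  · congr 1
    ext w
    rw [Set.mem_ofPred_eq, isolated_iff_iso]
    constructor
    · intro hw
      by_cases e : d = w
      exacts [.inr e.symm, .inl ((mem_productPartners hD.1 hd).2 (hw.col H hE' hd e))]
    · rintro (hw | rfl)
      · exact ((mem_productPartners hD.1 hd).1 hw).iso hD.1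
      · exact ⟨hd, Commute.refl _, fun y hy hc ho => ho.not_commute (sq hD.1 hd) (sq hD.1 hy) hc.symm⟩
  · refine Set.Subset.antisymm (fun w hw => ?_) fun w hw => ⟨?_, Subgroup.subset_closure hw⟩
    · by_cases e : d = w
      exacts [.inr e.symm, .inl ((mem_productPartners hD.1 hd).2 (col_of_mem_Mg H hE' hd hw.1 hw.2 e))]
    · rcases hw with hw | rfl
      exacts [hw.1.1, hd]
  · ext e
    rw [mem_sameCommutingClass hd]
    refine ⟨fun h => ⟨h.r, ?_, fun y hy => (h.commute_Mg hD.1 hy).symm⟩, fun h => ?_⟩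
    · exact Subgroup.commutator_le_self (Mg D d) (h3 ▸ Subgroup.subset_closure ((mem_sameCommutingClass hd).2 h))
    · exact eqv_of_cent H hd h.1 (h.2.2 d self_mem_Mg) fun f hf => h.2.2 f (hf.mem_Mg hD.1)

end CL.Chev.RInv
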