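/-
Suzuki groups, part 15: nilpotent subgroups and covers; transitive actions in which no non-identity element fixes three points.
-/
import Cfsg.Agent.Chev.SzNorm

set_option autoImplicit false

namespace CL.Chev.Sz

open Matrix Subgroup MulAction

theorem exists_le_centralizer_of_isNilpotent {G : Type*} [Group G] {A : Subgroup G} (hA : Group.IsNilpotent A)
    {x : G} (hx : x ∈ A) (h1 : x ≠ 1) : ∃ c ∈ A, c ≠ 1 ∧ A ≤ centralizer {c} := by
  have : Nontrivial A := ⟨⟨⟨x, hx⟩, 1, fun e => h1 (congrArg Subtype.val e)⟩⟩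
  have hc : center A ≠ ⊥ := Group.IsNilpotent.center_ne_bot A
  obtain ⟨⟨c, hc⟩, hc1⟩ := Subgroup.ne_bot_iff_exists_ne_one.1 hc
  refine ⟨c, c.2, fun e => hc1 (Subtype.ext (Subtype.ext e)), fun a ha => mem_centralizer_singleton_iff.2 ?_⟩
  exact congrArg Subtype.val (mem_center_iff.1 hc ⟨a, ha⟩)

section Fixity

variable {G : Type*} [Group G] {Ω : Type*} [Finite Ω] [MulAction G Ω]

/-- If `x` fixes `α` and at most two points, then of any two elements moving `α` into the fixed points of `x`, either one fixes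
`α` or both move `α` to the same point. -/
theorem fix_two_cases {x : G} (hx : Nat.card (fixedBy Ω x) ≤ 2) {α β γ : Ω} (hα : x • α = α) (hβ : x • β = β)
    (hγ : x • γ = γ) : β = α ∨ γ = α ∨ β = γ := by
  by_contra! h
  have h3 : ({α, β, γ} : Set Ω) ⊆ fixedBy Ω x := by
    rintro _ (rfl | rfl | rfl) <;> assumption
  have h4 := Set.ncard_le_ncard h3
  rw [Set.ncard_eq_three.2 ⟨α, β, γ, h.1.symm, h.2.1.symm, h.2.2, rfl⟩] at h4
  rw [Nat.card_coe_set_eq] at hx
  omega

/-- With fixity at most two, the normaliser of a non-trivial subgroup of a point stabiliser normalises it up to index two. -/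
theorem mul_mem_stabilizer_of_fixity (hfix : ∀ g : G, g ≠ 1 → Nat.card (fixedBy Ω g) ≤ 2) {α : Ω} {X : Subgroup G}
    (hX : X ≤ stabilizer G α) {x : G} (hx : x ∈ X) (h1 : x ≠ 1) {g h : G} (hg : g ∈ normalizer (X : Set G))
    (hh : h ∈ normalizer (X : Set G)) : g ∈ stabilizer G α ∨ h ∈ stabilizer G α ∨ g * h ∈ stabilizer G α := by
  have key : ∀ k ∈ normalizer (X : Set G), x • k • α = k • α := fun k hk => by
    have : k⁻¹ * x * k ∈ X := by
      have := (mem_normalizer_iff.1 (inv_mem hk) x).1 hx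
      rwa [inv_inv] at this
    have := hX this
    rwa [mem_stabilizer_iff, mul_smul, mul_smul, inv_smul_eq_iff] at this
  rcases fix_two_cases (hfix x h1) (hX hx) (key _ (inv_mem hg)) (key _ hh) with e | e | e
  · exact Or.inl (by rw [mem_stabilizer_iff, ← eq_inv_smul_iff, e])
  · exact Or.inr (Or.inl e)
  · exact Or.inr (Or.inr (by rw [mem_stabilizer_iff, mul_smul, ← e, smul_inv_smul]))

theorem sq_mem_stabilizer_of_fixity (hfix : ∀ g : G, g ≠ 1 → Nat.card (fixedBy Ω g) ≤ 2) {α : Ω} {X : Subgroup G}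
    (hX : X ≤ stabilizer G α) {x : G} (hx : x ∈ X) (h1 : x ≠ 1) {g : G} (hg : g ∈ normalizer (X : Set G)) :
    g * g ∈ stabilizer G α := by
  rcases mul_mem_stabilizer_of_fixity hfix hX hx h1 hg hg with h | h | h
  exacts [mul_mem h h, mul_mem h h, h]

theorem sq_mem_stabilizer_of_comm (hfix : ∀ g : G, g ≠ 1 → Nat.card (fixedBy Ω g) ≤ 2) {α : Ω} {x : G}
    (hx : x ∈ stabilizer G α) (h1 : x ≠ 1) {g : G} (hg : g * x = x * g) : g * g ∈ stabilizer G α :=
  sq_mem_stabilizer_of_fixity hfix (zpowers_le_of_mem hx) (mem_zpowers x) h1 (centralizer_le_normalizer _ (by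
    rw [mem_centralizer_iff]
    rintro _ ⟨n, rfl⟩
    exact ((Commute.zpow_right hg n).eq).symm))

end Fixity

theorem mem_of_sq_mem_of_odd {G : Type*} [Group G] {L : Subgroup G} {g : G} (h : Odd (orderOf g)) (h2 : g * g ∈ L) :
    g ∈ L := by
  obtain ⟨k, hk⟩ := h
  have e : g = ((g * g) ^ k)⁻¹ := by
    rw [eq_inv_iff_mul_eq_one, ← sq, ← pow_mul, ← pow_succ', ← hk, pow_orderOf_eq_one]
  rw [e]
  exact inv_mem (pow_mem h2 k)

namespace Model

variable {G : Type*} [Group G] {F : Type*} [Field F] (M : Model G F)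

theorem le_U_of_isNilpotent {A : Subgroup G} (hA : Group.IsNilpotent A) {x : G} (hx : x ∈ A) (h1 : x ≠ 1)
    (hU : x ∈ M.U) : A ≤ M.U := by
  obtain ⟨c, -, hc1, h⟩ := exists_le_centralizer_of_isNilpotent hA hx h1
  exact h.trans (M.centralizer_le_U (M.mem_U_of_comm hU h1 (mem_centralizer_singleton_iff.1 (h hx)).symm) hc1)

theorem le_H_of_isNilpotent {A : Subgroup G} (hA : Group.IsNilpotent A) {x : G} (hx : x ∈ A) (h1 : x ≠ 1)
    (hH : x ∈ M.H) : A ≤ M.H := by
  obtain ⟨c, -, hc1, h⟩ := exists_le_centralizer_of_isNilpotent hA hx h1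
  have hc : c ∈ M.H := by
    rw [← M.centralizer_of_mem_H hH h1]
    exact mem_centralizer_singleton_iff.2 (mem_centralizer_singleton_iff.1 (h hx)).symm
  rwa [M.centralizer_of_mem_H hc hc1] at h

theorem B_ne_top : M.B ≠ ⊤ := fun h => M.w_not_mem_B (h ▸ mem_top _)

variable [Finite F]

include M in
/-- A cover by nilpotent subgroups is never minimal. -/
theorem exists_smaller_cover {𝓐 : Finset (Subgroup G)} (h1 : ∀ A ∈ 𝓐, A ≠ ⊤) (h2 : ∀ g : G, ∃ A ∈ 𝓐, g ∈ A)
    (h3 : ∀ A ∈ 𝓐, Group.IsNilpotent A) :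
    ∃ 𝓑 : Finset (Subgroup G), ((∀ A ∈ 𝓑, A ≠ ⊤) ∧ ∀ g : G, ∃ A ∈ 𝓑, g ∈ A) ∧ 𝓑.card < 𝓐.card := by
  classical
  have := Fintype.ofFinite M.Pt
  choose k hk using M.exists_smul_inf
  obtain ⟨c, hc⟩ := M.toTits.exists_unit_ne_one
  have hD : M.D c ≠ 1 := fun e => hc (M.D_eq_one.1 e)
  have hT : ∀ g : G, (M.conj g).T 0 1 ≠ 1 := fun g e => one_ne_zero ((M.conj g).T_eq_one.1 e).2
  choose A hA hA' using h2
  let f : Option M.Pt → Subgroup G := fun o => o.elim (A (M.D c)) fun p => A ((M.conj (k p)).T 0 1)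
  have hf0 : f none ≤ M.H := M.le_H_of_isNilpotent (h3 _ (hA _)) (hA' _) hD (M.D_mem_H c)
  have hf1 : ∀ p, f (some p) ≤ (M.conj (k p)).U := fun p =>
    (M.conj (k p)).le_U_of_isNilpotent (h3 _ (hA _)) (hA' _) (hT _) ((M.conj (k p)).T_mem_U 0 1)
  have hfix : ∀ p, ∀ g ∈ f (some p), g • p = p := fun p g hg => by
    have := M.mem_conj_B'.1 ((M.conj (k p)).U_le_B (hf1 p hg))
    rwa [hk] at this
  have hne : ∀ p, f none ≠ f (some p) := fun p e => by
    have h4 : M.D c ∈ (M.conj (k p)).U := hf1 p (e ▸ hA' _)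
    exact Set.disjoint_left.1 M.disjoint_conjInto_U_H ⟨hD, k p, M.mem_conj_U.1 h4⟩ ⟨hD, 1, by simpa using M.D_mem_H c⟩
  have hinj : Function.Injective f := by
    rintro (_ | p) (_ | p') e
    · rfl
    · exact absurd e (hne p')
    · exact absurd e.symm (hne p)
    · have h4 : (M.conj (k p)).T 0 1 ∈ f (some p) := hA' _
      exact congrArg some (M.eq_of_invol_fix (hT _) ((M.conj (k p)).T_zero_sq 1) (hfix p _ h4) (hfix p' _ (e ▸ h4)))
  let 𝓕 := 𝓐.filter fun A => ∃ g ∈ A, M.FPF g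
  have hcard : Fintype.card (Option M.Pt) ≤ (𝓐.filter fun A => ¬ ∃ g ∈ A, M.FPF g).card := by
    rw [← Finset.card_univ]
    refine Finset.card_le_card_of_injOn f (fun o _ => ?_) hinj.injOn
    rw [Finset.coe_filter]
    rcases o with _ | p
    · exact ⟨hA _, fun ⟨g, hg, h⟩ => h _ (M.H_le_B (hf0 hg))⟩
    · exact ⟨hA _, fun ⟨g, hg, h⟩ => h _ (hfix p g hg)⟩
  refine ⟨Finset.univ.image (fun p : M.Pt => stabilizer G p) ∪ 𝓕, ⟨fun B hB => ?_, fun g => ?_⟩, ?_⟩
  · rcases Finset.mem_union.1 hB with hB | hB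
    · obtain ⟨p, -, rfl⟩ := Finset.mem_image.1 hB
      intro e
      apply (M.conj (k p)).B_ne_top
      rw [eq_top_iff]
      intro g _
      rw [mem_conj_B', hk]
      exact (e ▸ mem_top g : g ∈ stabilizer G p)
    · exact h1 _ (Finset.mem_filter.1 hB).1
  · by_cases hg : M.FPF g
    · exact ⟨A g, Finset.mem_union_right _ (Finset.mem_filter.2 ⟨hA g, g, hA' g, hg⟩), hA' g⟩
    · obtain ⟨p, hp⟩ := not_forall.1 hg
      exact ⟨_, Finset.mem_union_left _ (Finset.mem_image_of_mem _ (Finset.mem_univ p)), not_not.1 hp⟩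
  · have e1 := Finset.card_union_le (Finset.univ.image fun p : M.Pt => stabilizer G p) 𝓕
    have e2 : (Finset.univ.image fun p : M.Pt => stabilizer G p).card ≤ Fintype.card M.Pt :=
      Finset.card_image_le.trans (by rw [Finset.card_univ])
    have e3 := Finset.card_filter_add_card_filter_not (s := 𝓐) fun A => ∃ g ∈ A, M.FPF g
    rw [Fintype.card_option] at hcard
    change 𝓕.card + _ = _ at e3
    omega

section Fixity

variable {Ω : Type*} [Finite Ω] [MulAction G Ω] (hfix : ∀ g : G, g ≠ 1 → Nat.card (fixedBy Ω g) ≤ 2) {α : Ω}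
include hfix

theorem B_le_stabilizer {b : F} (hb : b ≠ 0) (h : M.T 0 b ∈ stabilizer G α) : M.B ≤ stabilizer G α := by
  have h1 : M.T 0 b ≠ 1 := fun e => hb (M.T_eq_one.1 e).2
  have hZ : M.Z ≤ stabilizer G α := by
    rintro _ ⟨b', rfl⟩
    obtain ⟨a, rfl⟩ := M.toTits.exists_σ_mul_self b'
    rw [← M.T_sq a 0]
    exact sq_mem_stabilizer_of_comm hfix h h1 (by rw [T_mul_T_zero, T_zero_mul_T, add_comm])
  have hN : ∀ g ∈ M.B, g ∈ normalizer (M.Z : Set G) := fun g hg => M.normalizer_Z ▸ hg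
  have hD : ∀ c, M.D c ∈ stabilizer G α := fun c => by
    obtain ⟨d, rfl⟩ := M.toTits.exists_unit_sq c
    rw [map_mul]
    exact sq_mem_stabilizer_of_fixity hfix hZ (M.T_mem_Z b) h1 (hN _ (M.D_mem_B d))
  have hT : ∃ a b, a ≠ 0 ∧ M.T a b ∈ stabilizer G α := by
    obtain ⟨y, h0, hy⟩ := M.toTits.big
    rcases mul_mem_stabilizer_of_fixity hfix hZ (M.T_mem_Z b) h1 (hN _ (M.T_mem_B 1 0)) (hN _ (M.T_mem_B y 0))
      with e | e | e
    · exact ⟨1, 0, one_ne_zero, e⟩
    · exact ⟨y, 0, h0, e⟩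
    · rw [T_mul] at e
      exact ⟨_, _, fun e' => hy (M.toTits.add_eq_zero.1 e').symm, e⟩
  obtain ⟨a₀, b₀, ha₀, hT⟩ := hT
  intro g hg
  obtain ⟨a, b, c, rfl⟩ := M.mem_B'.1 hg
  refine mul_mem ?_ (hD c)
  by_cases ha : a = 0
  · rw [ha]; exact hZ (M.T_mem_Z b)
  · obtain ⟨d, hd⟩ := M.toTits.exists_unit_σ_mul ha₀ ha
    have := mul_mem (mul_mem (mul_mem (hD d) hT) (inv_mem (hD d))) (hZ (M.T_mem_Z (M.σ d * d ^ 2 * b₀ + b)))
    rwa [D_conj_T, hd, T_mul_T_zero, ← add_assoc, M.toTits.add_self, zero_add] at this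

theorem H_le_stabilizer {x : G} (hx : x ∈ M.H) (h1 : x ≠ 1) (h : x ∈ stabilizer G α) : M.H ≤ stabilizer G α := by
  rintro _ ⟨c, rfl⟩
  obtain ⟨d, rfl⟩ := M.toTits.exists_unit_sq c
  rw [map_mul]
  refine sq_mem_stabilizer_of_comm hfix h h1 (mem_centralizer_singleton_iff.1 ?_)
  rw [M.centralizer_of_mem_H hx h1]
  exact M.D_mem_H d

variable {M} in
theorem FPF.even_card_stabilizer {m : ℕ} (hm : 1 ≤ m) (hq : Nat.card F = 2 ^ (2 * m + 1)) {x : G} (hx : M.FPF x)
    (h : x ∈ stabilizer G α) : 2 ∣ Nat.card (stabilizer G α) := by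
  have := M.finite
  have hC : centralizer {x} ≤ stabilizer G α := fun g hg =>
    mem_of_sq_mem_of_odd ((hx.isTorus hm hq).odd_orderOf hg)
      (sq_mem_stabilizer_of_comm hfix h hx.ne_one (mem_centralizer_singleton_iff.1 hg))
  obtain ⟨t, ht, ho⟩ := hx.exists_orderOf_four hm hq
  have h2 := orderOf_dvd_natCard _
    (sq_mem_stabilizer_of_fixity hfix hC (mem_centralizer_singleton_iff.2 rfl) hx.ne_one ht)
  rwa [← sq, orderOf_pow' _ two_ne_zero, ho] at h2

/-- The point stabilisers of a transitive action of fixity two. -/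
theorem stabilizer_cases {m : ℕ} (hm : 1 ≤ m) (hq : Nat.card F = 2 ^ (2 * m + 1)) (h0 : stabilizer G α ≠ ⊥)
    (h1 : stabilizer G α ≠ ⊤) :
    (∃ k, stabilizer G α = (M.conj k).B) ∨ Nat.card (stabilizer G α) = Nat.card F - 1 := by
  have := M.finite
  by_cases h2 : 2 ∣ Nat.card (stabilizer G α)
  · obtain ⟨z, hz⟩ := exists_prime_orderOf_dvd_card' 2 h2
    obtain ⟨k, hk⟩ := M.exists_conj_of_involution (x := (z : G)) (fun e => by
      rw [show z = 1 from Subtype.ext e] at hz; simp at hz) (by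
      rw [← sq, ← Subgroup.coe_pow, ← hz, pow_orderOf_eq_one]; rfl)
    have hB := (M.conj k).B_le_stabilizer hfix (α := α) one_ne_zero (by rw [conj_T, ← hk]; exact z.2)
    exact Or.inl ⟨k, ((M.conj k).isCoatom_B.le_iff.1 hB).resolve_left h1⟩
  · right
    have hF : ∀ x ∈ stabilizer G α, ¬ M.FPF x := fun x hx h => h2 (h.even_card_stabilizer hfix hm hq hx)
    have c1 : (Nat.card (stabilizer G α)).Coprime (Nat.card F ^ 2) := by
      rw [hq, ← pow_mul]
      exact ((Nat.prime_two.coprime_iff_not_dvd.2 h2).symm).pow_right _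
    have c2 : (Nat.card (stabilizer G α)).Coprime (Nat.card F ^ 2 + 1) := by
      apply Nat.coprime_of_dvd
      intro p hp h3 h4
      have := Fact.mk hp
      obtain ⟨z, hz⟩ := exists_prime_orderOf_dvd_card' p h3
      refine hF z z.2 (FPF_of_orderOf_dvd (fun e => ?_) (by rwa [orderOf_coe, hz]))
      rw [show z = 1 from Subtype.ext e, orderOf_one] at hz
      exact hp.one_lt.ne hz
    have h3 := (stabilizer G α).card_subgroup_dvd_card
    rw [M.card_G] at h3
    have h4 := c1.dvd_of_dvd_mul_left (c2.dvd_of_dvd_mul_right h3)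
    obtain ⟨⟨x, hx⟩, hx1⟩ := Subgroup.ne_bot_iff_exists_ne_one.1 h0
    have hx1 : x ≠ 1 := fun e => hx1 (Subtype.ext e)
    obtain ⟨k, hk | hk⟩ := not_FPF_iff.1 (hF x hx)
    · exact absurd ((M.conj k).pow_four_of_mem_U hk) (pow_four_ne_one_of_odd hx1
        (Nat.odd_iff.2 (Nat.two_dvd_ne_zero.1 fun e => h2 (e.trans (orderOf_dvd_natCard _ hx)))))
    · have h5 := card_dvd_of_le ((M.conj k).H_le_stabilizer hfix hk hx1 hx)
      rw [card_H] at h5
      exact Nat.dvd_antisymm h4 h5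

omit hfix [Finite Ω] [Finite F] in
theorem two_pretransitive_of_stabilizer_eq [IsPretransitive G Ω] (h : stabilizer G α = M.B) :
    IsMultiplyPretransitive G Ω 2 := by
  have key : ∀ g k : G, g • α = k • α ↔ g • M.inf = k • M.inf := fun g k => by
    rw [← inv_smul_eq_iff, ← inv_smul_eq_iff (g := k), ← mul_smul, ← mul_smul, ← mem_stabilizer_iff, h, mem_B]
  rw [is_two_pretransitive_iff]
  intro a b c d hab hcd
  obtain ⟨g₁, rfl⟩ := exists_smul_eq G α a
  obtain ⟨g₂, rfl⟩ := exists_smul_eq G α b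
  obtain ⟨g₃, rfl⟩ := exists_smul_eq G α c
  obtain ⟨g₄, rfl⟩ := exists_smul_eq G α d
  obtain ⟨k, h1, h2⟩ := is_two_pretransitive_iff.1 M.two_pretransitive (mt (key _ _).2 hab) (mt (key _ _).2 hcd)
  exact ⟨k, by rw [← mul_smul, key, mul_smul, h1], by rw [← mul_smul, key, mul_smul, h2]⟩

end Fixity

end Model

end CL.Chev.Sz
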