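/-
Suzuki groups: data for the character table (the two anisotropic tori, the classes, and the character induced from a
non-linear irreducible character of a Sylow 2-subgroup).
-/
import Cfsg.Agent.Chev.SzNorm
import Cfsg.Agent.Char.TIPiece

set_option autoImplicit false

namespace CL.Chev.Sz

open Subgroup Cfsg CL.Char
open scoped ComplexConjugate

theorem isConj_inv {G : Type*} [Group G] {a b : G} (h : IsConj a b) : IsConj a⁻¹ b⁻¹ := by
  obtain ⟨c, rfl⟩ := isConj_iff.1 h
  exact isConj_iff.2 ⟨c, by group⟩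

theorem orderOf_eq_of_isConj {G : Type*} [Group G] {a b : G} (h : IsConj a b) : orderOf a = orderOf b := by
  obtain ⟨c, rfl⟩ := isConj_iff.1 h
  exact (orderOf_injective (MulAut.conj c).toMonoidHom (MulAut.conj c).injective a).symm

theorem orderOf_dvd_of_cjInto {G : Type*} [Group G] {K : Subgroup G} {g : G} (h : g ∈ cjInto K) :
    orderOf g ∣ Nat.card K := by
  obtain ⟨-, x, hx⟩ := h
  have : IsConj (x⁻¹ * g * x) g := isConj_iff.2 ⟨x, by group⟩
  rw [← orderOf_eq_of_isConj this]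
  exact K.orderOf_dvd_natCard hx

theorem not_cjInto_of_coprime {G : Type*} [Group G] {K L : Subgroup G} (h : (Nat.card K).Coprime (Nat.card L)) {g : G}
    (hK : g ∈ cjInto K) : g ∉ cjInto L := fun hL =>
  hK.1 (orderOf_eq_one_iff.1 (Nat.eq_one_of_dvd_coprimes h (orderOf_dvd_of_cjInto hK) (orderOf_dvd_of_cjInto hL)))

theorem orderOf_cases_of_pow_four {G : Type*} [Group G] {g : G} (h : g ^ 4 = 1) :
    g = 1 ∨ orderOf g = 2 ∨ orderOf g = 4 := by
  have h1 : orderOf g ∣ 2 ^ 2 := orderOf_dvd_of_pow_eq_one h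
  obtain ⟨i, hi, e⟩ := (Nat.dvd_prime_pow Nat.prime_two).1 h1
  interval_cases i
  · exact Or.inl (orderOf_eq_one_iff.1 e)
  · exact Or.inr (Or.inl e)
  · exact Or.inr (Or.inr e)

namespace Model
variable {G : Type*} [Group G] {F : Type*} [Field F] (M : Model G F) {m : ℕ}

theorem ticc_U : TICC M.U where
  ti k hk h1 x hx := by
    rw [normalizer_U, ← Subgroup.inv_mem_iff]
    exact M.mem_B_of_conj_mem hk h1 (M.U_le_B hx)
  cent k hk h1 g hg := M.mem_U_of_comm hk h1 hg

theorem ticc_H : TICC M.H := TICC.of_selfCent fun _ ha h1 => M.centralizer_of_mem_H ha h1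

theorem isConj_inv_of_mem_H {a : G} (ha : a ∈ M.H) : IsConj a a⁻¹ := by
  obtain ⟨c, rfl⟩ := M.mem_H.1 ha
  exact isConj_iff.2 ⟨M.w, by rw [w_inv, w_conj_D]⟩

variable [Finite F]

include M in
theorem ticc_torus (hm : 1 ≤ m) (hq : Nat.card F = 2 ^ (2 * m + 1)) {C : Subgroup G} (hC : IsTorus m C) : TICC C :=
  TICC.of_selfCent fun _ ha h1 => M.torus_centralizer hm hq hC ha h1

variable {M} in
theorem FPF.isConj_inv (hm : 1 ≤ m) (hq : Nat.card F = 2 ^ (2 * m + 1)) {z : G} (hz : M.FPF z) {a : G}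
    (ha : a ∈ centralizer ({z} : Set G)) : IsConj a a⁻¹ := by
  obtain ⟨t, ht, ho⟩ := hz.exists_orderOf_four hm hq
  have h1 : t * t ≠ 1 := fun e => by
    have := orderOf_dvd_of_pow_eq_one (x := t) (n := 2) (by rw [sq, e])
    rw [ho] at this; omega
  have h2 : t * t * (t * t) = 1 := by
    have := pow_orderOf_eq_one t
    rw [ho] at this
    rw [← this, show t ^ 4 = t ^ 2 * t ^ 2 by rw [← pow_add], sq]
  have := M.torus_invert hm hq (hz.isTorus hm hq) (mul_mem ht ht) h1 h2 ha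
  exact isConj_iff.2 ⟨t * t, by rw [inv_eq_of_mul_eq_one_right h2, this]⟩

include M in
theorem card_centralizer_of_orderOf_two {g : G} (h : orderOf g = 2) :
    Nat.card (centralizer ({g} : Set G)) = Nat.card F ^ 2 := by
  rw [← card_centralizer_eq_of_isConj (M.isConj_of_orderOf_two (M.orderOf_T_zero one_ne_zero) h),
    M.centralizer_T_zero one_ne_zero, card_U]

include M in
theorem card_centralizer_of_orderOf_four {g : G} (h : orderOf g = 4) :
    Nat.card (centralizer ({g} : Set G)) = 2 * Nat.card F := by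
  have h0 := M.orderOf_T one_ne_zero 0
  rcases M.isConj_or_of_orderOf_four h0 h with h1 | h1
  · rw [← card_centralizer_eq_of_isConj h1, M.card_centralizer_T one_ne_zero]
  · rw [← card_centralizer_eq_of_isConj h1, T_inv, M.card_centralizer_T one_ne_zero]

omit [Finite F] in
theorem orderOf_of_mem_Z {u : G} (hu : u ∈ M.Z) (h1 : u ≠ 1) : orderOf u = 2 := by
  obtain ⟨b, rfl⟩ := hu
  exact M.orderOf_T_zero fun e => h1 (by rw [e, T_zero])

omit [Finite F] in
theorem orderOf_of_not_mem_Z {u : G} (hu : u ∈ M.U) (h1 : u ∉ M.Z) : orderOf u = 4 := by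
  obtain ⟨a, b, rfl⟩ := hu
  exact M.orderOf_T (fun e => h1 (M.T_mem_Z_iff.2 e)) b

theorem sum_classInd_mul' [Fintype G] (h : G) {φ : G → ℂ} (hφ : IsClassFunction G φ) :
    (Nat.card G : ℂ)⁻¹ * ∑ g : G, classInd h g * φ g = φ h / Nat.card (centralizer ({h} : Set G)) := by
  rw [sum_classInd_mul h hφ, ← Subgroup.index_mul_card (centralizer ({h} : Set G)), Nat.cast_mul]
  have h1 : ((centralizer ({h} : Set G)).index : ℂ) ≠ 0 := Nat.cast_ne_zero.2 Subgroup.index_ne_zero_of_finite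
  have h2 : (Nat.card (centralizer ({h} : Set G)) : ℂ) ≠ 0 := natCard_subgroup_ne_zero _
  field_simp

/-- The character induced from a non-linear irreducible character of `U`. -/
theorem exists_Psi [Fintype G] (hq : Nat.card F = 2 ^ (2 * m + 1)) :
    ∃ (ρ : G) (Ψ : G → ℂ), orderOf ρ = 4 ∧ IsCharacter G Ψ ∧ Ψ 1 = M.U.index * 2 ^ m ∧
      (∀ g, orderOf g = 2 → Ψ g = -2 ^ m) ∧ Ψ ρ = 2 ^ m * Complex.I := by
  classical
  have : Fintype M.U := Fintype.ofFinite _
  let z₀ : M.U := ⟨M.T 0 1, M.T_mem_U 0 1⟩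
  have hz₀ : z₀ ≠ 1 := fun e => by simpa [z₀, M.T_eq_one] using congrArg Subtype.val e
  obtain ⟨χ, hχ, hχz⟩ : ∃ χ : M.U → ℂ, IsIrrCharacter M.U χ ∧ χ z₀ ≠ χ 1 := by
    by_contra hcon
    push Not at hcon
    have h1 := sum_irr_one_mul_apply z₀
    rw [regChar_of_ne_one hz₀, Finset.sum_congr rfl fun χ _ => by rw [hcon χ χ.2, ← sq], sum_irr_one_sq] at h1
    exact natCard_subgroup_ne_zero _ h1
  have hχ1 : χ ≠ fun _ => 1 := fun e => hχz (by rw [e])
  obtain ⟨a, ha0, ha⟩ := hχ.exists_nat_one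
  set Z' := M.Z.subgroupOf M.U with hZ'
  have : Fintype Z' := Fintype.ofFinite _
  obtain ⟨lam, hlam, -⟩ := hχ.exists_monoidHom_of_le_charCenter (Z := Z')
    (by rw [hZ', ← M.center_U]; exact hχ.center_le_charCenter)
  have hlam1 : lam ≠ 1 := fun e => hχz (by simpa [e] using hlam ⟨z₀, M.T_mem_Z 1⟩)
  have hsumZ : ∑ u : M.U, (if (u : G) ∈ M.Z then χ u else 0) = 0 := by
    rw [← Finset.sum_filter, Finset.sum_subtype (p := (· ∈ Z')) (F := this) _ (by simp [hZ', mem_subgroupOf]) χ]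
    simp only [hlam, ← Finset.mul_sum, sum_monoidHom_eq_zero hlam1, mul_zero]
  have hsumU : ∑ u : M.U, χ u = 0 := hχ.sum_eq_zero hχ1
  set Ψ := indFun M.U χ with hΨ
  have hΨc : IsCharacter G Ψ := isCharacter_indFun hχ.isCharacter
  have hcl := hΨc.isClassFunction
  have hq0 : (Nat.card F : ℂ) ≠ 0 := Nat.cast_ne_zero.2 Nat.card_pos.ne'
  have hoz := M.orderOf_T_zero (b := 1) one_ne_zero
  have hoρ := M.orderOf_T (a := 1) one_ne_zero 0
  set ρ := M.T 1 0 with hρ
  have hoρ' : orderOf ρ⁻¹ = 4 := by rw [orderOf_inv, hoρ]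
  -- value on the involutions
  have h2 : ∀ g, orderOf g = 2 → Ψ g = -a := by
    intro g hg
    have k1 := sum_indFun_mul χ (isClassFunction_classInd g)
    have k2 := sum_classInd_mul' g hcl
    simp only [mul_comm (classInd g _)] at k2
    rw [← hΨ, k2, M.card_centralizer_of_orderOf_two hg, card_U] at k1
    have k3 : ∑ u : M.U, χ u * classInd g u = -a := by
      rw [← ha, eq_neg_iff_add_eq_zero, ← hsumZ]
      have : χ 1 = ∑ u : M.U, if u = 1 then χ u else 0 := by simp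
      rw [this, ← Finset.sum_add_distrib]
      refine Finset.sum_congr rfl fun u _ => ?_
      by_cases h1 : u = 1
      · subst h1
        rw [classInd_of_not_isConj fun h => by simpa [hg] using orderOf_eq_of_isConj h]
        simp [M.Z.one_mem]
      · by_cases hu : (u : G) ∈ M.Z
        · rw [classInd_of_isConj (M.isConj_of_orderOf_two hg (M.orderOf_of_mem_Z hu fun e => h1 (Subtype.ext e)))]
          simp [h1, hu]
        · rw [classInd_of_not_isConj fun h => by
            simpa [hg, M.orderOf_of_not_mem_Z u.2 hu] using orderOf_eq_of_isConj h]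
          simp [h1, hu]
    rw [k3] at k1
    push_cast at k1
    field_simp at k1
    exact k1
  -- the values on the elements of order four are purely imaginary
  have h4 : Ψ ρ + Ψ ρ⁻¹ = 0 := by
    have k1 := sum_indFun_mul χ ((isClassFunction_classInd ρ).add (isClassFunction_classInd ρ⁻¹))
    have k2 := sum_classInd_mul' ρ hcl
    have k2' := sum_classInd_mul' ρ⁻¹ hcl
    simp only [mul_comm (classInd _ _)] at k2 k2'
    simp only [Pi.add_apply, mul_add, Finset.sum_add_distrib] at k1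
    rw [← hΨ, k2, k2', M.card_centralizer_of_orderOf_four hoρ, M.card_centralizer_of_orderOf_four hoρ', ← mul_add,
      ← Finset.sum_add_distrib] at k1
    have k3 : ∑ u : M.U, (χ u * classInd ρ u + χ u * classInd ρ⁻¹ u) = 0 := by
      rw [← hsumU, ← add_zero (∑ u : M.U, (χ u * classInd ρ u + χ u * classInd ρ⁻¹ u)), ← hsumZ,
        ← Finset.sum_add_distrib]
      refine Finset.sum_congr rfl fun u _ => ?_
      by_cases hu : (u : G) ∈ M.Z
      · have ho : orderOf (u : G) ≠ 4 := by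
          by_cases h1 : (u : G) = 1
          · simp [h1]
          · simp [M.orderOf_of_mem_Z hu h1]
        rw [classInd_of_not_isConj fun h => ho (by rw [← orderOf_eq_of_isConj h, hoρ]),
          classInd_of_not_isConj fun h => ho (by rw [← orderOf_eq_of_isConj h, hoρ'])]
        simp [hu]
      · have hn := M.not_isConj_inv_of_orderOf_four hoρ
        rcases M.isConj_or_of_orderOf_four hoρ (M.orderOf_of_not_mem_Z u.2 hu) with h | h
        · rw [classInd_of_isConj h, classInd_of_not_isConj fun h' => hn (h.trans h'.symm)]; simp [hu]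
        · rw [classInd_of_isConj h, classInd_of_not_isConj fun h' => hn (h'.trans h.symm)]; simp [hu]
    rw [k3, mul_zero, ← add_div, div_eq_zero_iff] at k1
    exact k1.resolve_right (by push_cast; exact mul_ne_zero two_ne_zero hq0)
  obtain ⟨x, y, hxy⟩ := exists_gaussian_of_pow_four hΨc (g := ρ) (M.T_pow_four 1 0)
  have hxy' : Ψ ρ⁻¹ = x - y * Complex.I := by rw [← hΨc.conj_apply, hxy]; simp [sub_eq_add_neg]
  have hx : (x : ℂ) = 0 := by
    rw [hxy, hxy'] at h4
    linear_combination h4 / 2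
  rw [hx, zero_add] at hxy
  rw [hx, zero_sub] at hxy'
  -- the norm
  have hn := M.ticc_U.shSum_indFun_mul_conj hχ hχ1
  rw [← hΨ, shSum_congr (f' := fun g => (y : ℂ) ^ 2 + ((a : ℂ) ^ 2 - y ^ 2) * if g ∈ M.Z then 1 else 0),
    shSum_add, shSum_mul_left, shSum_const, normalizer_U, card_B, card_U, ha] at hn
  swap
  · intro u hu h1
    by_cases hz : u ∈ M.Z
    · rw [h2 u (M.orderOf_of_mem_Z hz h1)]; simp [hz, sq]
    · rcases M.isConj_or_of_orderOf_four hoρ (M.orderOf_of_not_mem_Z hu hz) with h | h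
      · rw [← hcl.apply_eq_of_isConj h, hΨc.conj_apply, hxy, hxy']
        simp only [hz, if_false]
        linear_combination (-(y : ℂ) ^ 2) * Complex.I_sq
      · rw [← hcl.apply_eq_of_isConj h, hΨc.conj_apply, inv_inv, hxy, hxy']
        simp only [hz, if_false]
        linear_combination (-(y : ℂ) ^ 2) * Complex.I_sq
  have hZ : shSum M.U (fun g => if g ∈ M.Z then (1 : ℂ) else 0) = Nat.card F - 1 := by
    rw [← M.card_Z, ← mul_one (_ - _ : ℂ), ← shSum_const]
    unfold shSum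
    refine Finset.sum_congr rfl fun g _ => ?_
    by_cases hz : g ∈ M.Z
    · simp [hz, M.Z_le_U hz]
    · simp [hz]
  have h1q : 1 ≤ Nat.card F := Nat.card_pos
  have h2q := M.two_le_card_field
  rw [hZ] at hn
  push_cast [Nat.cast_sub h1q] at hn
  have hq1 : (Nat.card F : ℂ) - 1 ≠ 0 := by
    rw [sub_ne_zero]; exact_mod_cast (by omega : Nat.card F ≠ 1)
  have hsq : (a : ℂ) ^ 2 + (y : ℂ) ^ 2 = Nat.card F := by
    have e : (Nat.card F : ℂ) ^ 2 * (Nat.card F - 1) / (Nat.card F : ℂ) ^ 2 = Nat.card F - 1 := by field_simp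
    rw [e] at hn
    apply mul_left_cancel₀ (mul_ne_zero hq0 hq1)
    linear_combination hn
  have hsq' : (a : ℤ) ^ 2 + y ^ 2 = 2 ^ (2 * m + 1) := by
    rw [hq] at hsq; exact_mod_cast hsq
  have ha2 := sq_eq_of_sq_add_sq m _ _ hsq'
  have hy2 := sq_eq_of_sq_add_sq m y a (by rw [add_comm, hsq'])
  have ha3 : (a : ℂ) = 2 ^ m := by
    have : (a : ℤ) = 2 ^ m := (pow_left_inj₀ (by positivity) (by positivity) two_ne_zero).1 ha2
    exact_mod_cast this
  have hΨ1 : Ψ 1 = M.U.index * 2 ^ m := by rw [hΨ, indFun_one, ha, ha3]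
  rcases sq_eq_sq_iff_eq_or_eq_neg.1 hy2 with e | e
  · refine ⟨ρ, Ψ, hoρ, hΨc, hΨ1, fun g hg => by rw [h2 g hg, ha3], ?_⟩
    rw [hxy, e]; push_cast; ring
  · refine ⟨ρ⁻¹, Ψ, hoρ', hΨc, hΨ1, fun g hg => by rw [h2 g hg, ha3], ?_⟩
    rw [hxy', e]; push_cast; ring

end Model

/-- The data from which the character table is written down. -/
structure CDat {G : Type*} [Group G] {F : Type*} [Field F] (M : Model G F) (m : ℕ) where
  hm : 1 ≤ m
  hq : Nat.card F = 2 ^ (2 * m + 1)
  A : Subgroup G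
  A' : Subgroup G
  ρ : G
  Ψ : G → ℂ
  tA : IsTorus m A
  tA' : IsTorus m A'
  cardA : Nat.card A = 2 ^ (2 * m + 1) + 2 ^ (m + 1) + 1
  cardA' : Nat.card A' = 2 ^ (2 * m + 1) - 2 ^ (m + 1) + 1
  nA : Nat.card (normalizer (A : Set G)) = 4 * Nat.card A
  nA' : Nat.card (normalizer (A' : Set G)) = 4 * Nat.card A'
  cover : ∀ g : G, g ^ 4 = 1 ∨ g ∈ cjInto M.H ∨ g ∈ cjInto A ∨ g ∈ cjInto A'
  realA : ∀ a ∈ A, IsConj a a⁻¹
  realA' : ∀ a ∈ A', IsConj a a⁻¹
  ordρ : orderOf ρ = 4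
  Ψchar : IsCharacter G Ψ
  Ψone : Ψ 1 = M.U.index * 2 ^ m
  Ψtwo : ∀ g, orderOf g = 2 → Ψ g = -2 ^ m
  Ψρ : Ψ ρ = 2 ^ m * Complex.I

theorem Model.nonempty_cdat {G : Type*} [Group G] {F : Type*} [Field F] [Finite F] (M : Model G F) {m : ℕ}
    (hm : 1 ≤ m) (hq : Nat.card F = 2 ^ (2 * m + 1)) : Nonempty (CDat M m) := by
  have := M.finite
  have : Fintype G := Fintype.ofFinite G
  obtain ⟨z₁, z₂, h₁, h₂, c₁, c₂, hc⟩ := M.exists_tori hm hq
  obtain ⟨ρ, Ψ, a1, a2, a3, a4, a5⟩ := M.exists_Psi hq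
  refine ⟨⟨hm, hq, _, _, ρ, Ψ, h₁.isTorus hm hq, h₂.isTorus hm hq, c₁, c₂, h₁.card_normalizer hm hq,
    h₂.card_normalizer hm hq, fun g => ?_, fun a ha => h₁.isConj_inv hm hq ha, fun a ha => h₂.isConj_inv hm hq ha,
    a1, a2, a3, a4, a5⟩⟩
  by_cases h1 : g = 1
  · exact Or.inl (by simp [h1])
  by_cases hg : M.FPF g
  · exact Or.inr (Or.inr (hc g hg))
  · obtain ⟨k, hk | hk⟩ := Model.not_FPF_iff.1 hg
    · exact Or.inl ((M.conj k).pow_four_of_mem_U hk)
    · exact Or.inr (Or.inl ⟨h1, k, M.mem_conj_H.1 hk⟩)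

end CL.Chev.Sz
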