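/-
Suzuki groups: class functions given by a row of values, the inner product in terms of the classes, and Brauer's
characterisation for such rows.
-/
import Cfsg.Agent.Chev.SzChar1

set_option autoImplicit false

namespace CL.Chev.Sz

open Subgroup Cfsg CL.Char
open scoped ComplexConjugate

theorem IsTorus.odd_of_cjInto {G : Type*} [Group G] {m : ℕ} {C : Subgroup G} (hC : IsTorus m C) {g : G}
    (h : g ∈ cjInto C) : Odd (orderOf g) :=
  (odd_of_mem_torusOrders hC.2).of_dvd_nat (orderOf_dvd_of_cjInto h)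

namespace CDat
variable {G : Type*} [Group G] {F : Type*} [Field F] [Finite F] {M : Model G F} {m : ℕ} (C : CDat M m)

section Casts
variable (R : Type*) [CommRing R]
include C

omit [Finite F] in
theorem cF : (Nat.card F : R) = 2 * (2 ^ m) ^ 2 := by rw [C.hq]; push_cast; ring

theorem cH : (Nat.card M.H : R) = 2 * (2 ^ m) ^ 2 - 1 := by
  rw [M.card_H, Nat.cast_sub Nat.card_pos, C.cF]; simp

theorem cNH : (Nat.card (normalizer (M.H : Set G)) : R) = 2 * (2 * (2 ^ m) ^ 2 - 1) := by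
  rw [M.card_normalizer_H, ← M.card_H, Nat.cast_mul, C.cH]; simp

omit [Finite F] in
theorem cA : (Nat.card C.A : R) = 2 * (2 ^ m) ^ 2 + 2 * 2 ^ m + 1 := by rw [C.cardA]; push_cast; ring

omit [Finite F] in
theorem cA' : (Nat.card C.A' : R) = 2 * (2 ^ m) ^ 2 - 2 * 2 ^ m + 1 := by
  rw [C.cardA']; push_cast [Nat.cast_sub (r_le m)]; ring

omit [Finite F] in
theorem cNA : (Nat.card (normalizer (C.A : Set G)) : R) = 4 * (2 * (2 ^ m) ^ 2 + 2 * 2 ^ m + 1) := by
  rw [C.nA, Nat.cast_mul, C.cA]; simp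

omit [Finite F] in
theorem cNA' : (Nat.card (normalizer (C.A' : Set G)) : R) = 4 * (2 * (2 ^ m) ^ 2 - 2 * 2 ^ m + 1) := by
  rw [C.nA', Nat.cast_mul, C.cA']; simp

omit [Finite F] in
theorem cU : (Nat.card M.U : R) = (2 * (2 ^ m) ^ 2) ^ 2 := by rw [M.card_U, Nat.cast_pow, C.cF]

theorem cG : (Nat.card G : R) = (2 * (2 ^ m) ^ 2) ^ 2 * (2 * (2 ^ m) ^ 2 - 1) * ((2 * (2 ^ m) ^ 2) ^ 2 + 1) := by
  rw [M.card_G, ← M.card_H]; push_cast; rw [C.cH, C.cF]

theorem cUi : (M.U.index : R) = (2 * (2 ^ m) ^ 2 - 1) * ((2 * (2 ^ m) ^ 2) ^ 2 + 1) := by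
  rw [M.index_U, ← M.card_H]; push_cast; rw [C.cH, C.cF]

theorem cHi : (M.H.index : R) = (2 * (2 ^ m) ^ 2) ^ 2 * ((2 * (2 ^ m) ^ 2) ^ 2 + 1) := by
  have := M.finite
  have h : M.H.index = Nat.card F ^ 2 * (Nat.card F ^ 2 + 1) := by
    refine Nat.eq_of_mul_eq_mul_right (Nat.card_pos (α := M.H)) ?_
    rw [Subgroup.index_mul_card, M.card_G, M.card_H]; ring
  rw [h]; push_cast; rw [C.cF]

theorem cAi : (C.A.index : R) = (2 * (2 ^ m) ^ 2) ^ 2 * (2 * (2 ^ m) ^ 2 - 1) * (2 * (2 ^ m) ^ 2 - 2 * 2 ^ m + 1) := by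
  have := M.finite
  have h : C.A.index = Nat.card F ^ 2 * Nat.card M.H * Nat.card C.A' := by
    refine Nat.eq_of_mul_eq_mul_right (Nat.card_pos (α := C.A)) ?_
    rw [Subgroup.index_mul_card, M.card_G, M.card_H, mul_assoc _ _ (Nat.card C.A), C.cardA, C.cardA',
      mul_comm (_ - _ + 1), nplus_mul_nminus, C.hq]
  rw [h]; push_cast; rw [C.cF, C.cH, C.cA']

theorem cAi' : (C.A'.index : R) = (2 * (2 ^ m) ^ 2) ^ 2 * (2 * (2 ^ m) ^ 2 - 1) * (2 * (2 ^ m) ^ 2 + 2 * 2 ^ m + 1) := by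
  have := M.finite
  have h : C.A'.index = Nat.card F ^ 2 * Nat.card M.H * Nat.card C.A := by
    refine Nat.eq_of_mul_eq_mul_right (Nat.card_pos (α := C.A')) ?_
    rw [Subgroup.index_mul_card, M.card_G, M.card_H, mul_assoc _ _ (Nat.card C.A'), C.cardA, C.cardA',
      nplus_mul_nminus, C.hq]
  rw [h]; push_cast; rw [C.cF, C.cH, C.cA]

end Casts

include C in
theorem tH : IsTorus m M.H := M.isTorus_H C.hq

theorem ticcA : TICC C.A := M.ticc_torus C.hm C.hq C.tA
theorem ticcA' : TICC C.A' := M.ticc_torus C.hm C.hq C.tA'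

omit [Finite F] in
theorem ordρ' : orderOf C.ρ⁻¹ = 4 := by rw [orderOf_inv, C.ordρ]

theorem not_conjρ : ¬ IsConj C.ρ C.ρ⁻¹ := M.not_isConj_inv_of_orderOf_four C.ordρ

theorem copHA : (Nat.card M.H).Coprime (Nat.card C.A) := by
  refine coprime_of_mem_torusOrders C.tH.2 C.tA.2 ?_
  have := four_le_r C.hm
  rw [M.card_H, C.cardA, C.hq]; omega

theorem copHA' : (Nat.card M.H).Coprime (Nat.card C.A') := by
  refine coprime_of_mem_torusOrders C.tH.2 C.tA'.2 ?_
  have := four_le_r C.hm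
  have := two_r_le C.hm
  rw [M.card_H, C.cardA', C.hq]; omega

omit [Finite F] in
theorem copAA' : (Nat.card C.A).Coprime (Nat.card C.A') := by
  rw [C.cardA, C.cardA']; exact coprime_nplus_nminus m

theorem cases (g : G) : g = 1 ∨ orderOf g = 2 ∨ IsConj C.ρ g ∨ IsConj C.ρ⁻¹ g ∨ g ∈ cjInto M.H ∨ g ∈ cjInto C.A ∨
    g ∈ cjInto C.A' := by
  rcases C.cover g with h | h
  · rcases orderOf_cases_of_pow_four h with h | h | h
    · exact Or.inl h
    · exact Or.inr (Or.inl h)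
    · rcases M.isConj_or_of_orderOf_four C.ordρ h with h | h
      · exact Or.inr (Or.inr (Or.inl h))
      · exact Or.inr (Or.inr (Or.inr (Or.inl h)))
  · exact Or.inr (Or.inr (Or.inr (Or.inr h)))

open Classical in
/-- The class function with the given values at `1`, the involutions, the two classes of elements of order four, and
the three tori. -/
noncomputable def row (d a b b' : ℂ) (f₀ f₁ f₂ : G → ℂ) : G → ℂ := fun g =>
  if g = 1 then d else if orderOf g = 2 then a else if IsConj C.ρ g then b else if IsConj C.ρ⁻¹ g then b'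
  else if g ∈ cjInto M.H then f₀ g else if g ∈ cjInto C.A then f₁ g else f₂ g

section Row
variable {d a b b' : ℂ} {f₀ f₁ f₂ : G → ℂ} {g : G}

omit [Finite F] in
theorem row_one : C.row d a b b' f₀ f₁ f₂ 1 = d := by simp [row]

omit [Finite F] in
theorem row_two (h : orderOf g = 2) : C.row d a b b' f₀ f₁ f₂ g = a := by
  have : g ≠ 1 := by rintro rfl; simp at h
  simp [row, this, h]

omit [Finite F] in
theorem row_ρ (h : IsConj C.ρ g) : C.row d a b b' f₀ f₁ f₂ g = b := by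
  have ho : orderOf g = 4 := by rw [← orderOf_eq_of_isConj h, C.ordρ]
  have : g ≠ 1 := by rintro rfl; simp at ho
  rw [row, if_neg this, if_neg (by omega), if_pos h]

theorem row_ρ' (h : IsConj C.ρ⁻¹ g) : C.row d a b b' f₀ f₁ f₂ g = b' := by
  have ho : orderOf g = 4 := by rw [← orderOf_eq_of_isConj h, C.ordρ']
  have : g ≠ 1 := by rintro rfl; simp at ho
  rw [row, if_neg this, if_neg (by omega), if_neg fun h' => C.not_conjρ (h'.trans h.symm), if_pos h]

theorem row_four (h : orderOf g = 4) : C.row d a b b f₀ f₁ f₂ g = b := by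
  rcases M.isConj_or_of_orderOf_four C.ordρ h with h | h
  · exact C.row_ρ h
  · exact C.row_ρ' h

omit [Finite F] in
theorem row_odd (h1 : g ≠ 1) (h : Odd (orderOf g)) : C.row d a b b' f₀ f₁ f₂ g =
    open Classical in if g ∈ cjInto M.H then f₀ g else if g ∈ cjInto C.A then f₁ g else f₂ g := by
  have h2 : orderOf g ≠ 2 := fun e => by rw [e] at h; exact absurd h (by decide)
  have h4 : orderOf g ≠ 4 := fun e => by rw [e] at h; exact absurd h (by decide)
  rw [row, if_neg h1, if_neg h2, if_neg fun h' => h4 (by rw [← orderOf_eq_of_isConj h', C.ordρ]),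
    if_neg fun h' => h4 (by rw [← orderOf_eq_of_isConj h', C.ordρ'])]

theorem row_H (h : g ∈ cjInto M.H) : C.row d a b b' f₀ f₁ f₂ g = f₀ g := by
  rw [C.row_odd h.1 (C.tH.odd_of_cjInto h), if_pos h]

theorem row_A (h : g ∈ cjInto C.A) : C.row d a b b' f₀ f₁ f₂ g = f₁ g := by
  rw [C.row_odd h.1 (C.tA.odd_of_cjInto h), if_neg (not_cjInto_of_coprime C.copHA.symm h), if_pos h]

theorem row_A' (h : g ∈ cjInto C.A') : C.row d a b b' f₀ f₁ f₂ g = f₂ g := by
  rw [C.row_odd h.1 (C.tA'.odd_of_cjInto h), if_neg (not_cjInto_of_coprime C.copHA'.symm h),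
    if_neg (not_cjInto_of_coprime C.copAA'.symm h)]

theorem row_class (h₀ : IsClassFunction G f₀) (h₁ : IsClassFunction G f₁) (h₂ : IsClassFunction G f₂) :
    IsClassFunction G (C.row d a b b' f₀ f₁ f₂) := by
  refine isClassFunction_iff_isConj.2 fun x y hxy => ?_
  rcases C.cases x with h | h | h | h | h | h | h
  · subst h; rw [isConj_one_right.1 hxy]
  · rw [C.row_two h, C.row_two (by rw [← orderOf_eq_of_isConj hxy, h])]
  · rw [C.row_ρ h, C.row_ρ (h.trans hxy)]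
  · rw [C.row_ρ' h, C.row_ρ' (h.trans hxy)]
  · rw [C.row_H h, C.row_H (mem_cjInto_of_isConj hxy h), h₀.apply_eq_of_isConj hxy]
  · rw [C.row_A h, C.row_A (mem_cjInto_of_isConj hxy h), h₁.apply_eq_of_isConj hxy]
  · rw [C.row_A' h, C.row_A' (mem_cjInto_of_isConj hxy h), h₂.apply_eq_of_isConj hxy]

end Row

/-- The average of a class function in terms of the classes. -/
theorem avg [Fintype G] {f : G → ℂ} (hf : IsClassFunction G f) :
    (Nat.card G : ℂ)⁻¹ * ∑ g : G, f g = f 1 / Nat.card G + f (M.T 0 1) / (2 * (2 ^ m) ^ 2) ^ 2 +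
      f C.ρ / (2 * (2 * (2 ^ m) ^ 2)) + f C.ρ⁻¹ / (2 * (2 * (2 ^ m) ^ 2)) +
      shSum M.H f / (2 * (2 * (2 ^ m) ^ 2 - 1)) + shSum C.A f / (4 * (2 * (2 ^ m) ^ 2 + 2 * 2 ^ m + 1)) +
      shSum C.A' f / (4 * (2 * (2 ^ m) ^ 2 - 2 * 2 ^ m + 1)) := by
  classical
  have hz := M.orderOf_T_zero (b := 1) one_ne_zero
  have e : ∀ g : G, f g = (if g = 1 then f g else 0) + classInd (M.T 0 1) g * f g + classInd C.ρ g * f g +
      classInd C.ρ⁻¹ g * f g + (cjInto M.H).indicator f g + (cjInto C.A).indicator f g +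
      (cjInto C.A').indicator f g := by
    intro g
    have i1 : ∀ {x : G}, orderOf x ≠ orderOf g → classInd x g = 0 := fun h =>
      classInd_of_not_isConj fun h' => h (orderOf_eq_of_isConj h')
    have i2 : ∀ {K : Subgroup G}, IsTorus m K → Even (orderOf g) → (cjInto K).indicator f g = 0 := fun hK h =>
      Set.indicator_of_notMem (fun h' => Nat.not_odd_iff_even.2 h (hK.odd_of_cjInto h')) _
    have i3 : Odd (orderOf g) → classInd (M.T 0 1) g = 0 ∧ classInd C.ρ g = 0 ∧ classInd C.ρ⁻¹ g = 0 := fun h =>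
      ⟨i1 fun e => by rw [← e, hz] at h; exact absurd h (by decide),
        i1 fun e => by rw [← e, C.ordρ] at h; exact absurd h (by decide),
        i1 fun e => by rw [← e, C.ordρ'] at h; exact absurd h (by decide)⟩
    rcases C.cases g with h | h | h | h | h | h | h
    · subst h
      obtain ⟨j1, j2, j3⟩ := i3 (by simp)
      rw [j1, j2, j3, Set.indicator_of_notMem (fun h => h.1 rfl), Set.indicator_of_notMem (fun h => h.1 rfl),
        Set.indicator_of_notMem (fun h => h.1 rfl)]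
      simp
    · have h1 : g ≠ 1 := by rintro rfl; simp at h
      have he : Even (orderOf g) := by rw [h]; decide
      rw [classInd_of_isConj (M.isConj_of_orderOf_two hz h), i1 (x := C.ρ) (by rw [C.ordρ, h]; decide),
        i1 (x := C.ρ⁻¹) (by rw [C.ordρ', h]; decide), i2 C.tH he, i2 C.tA he, i2 C.tA' he]
      simp [h1]
    · have ho : orderOf g = 4 := by rw [← orderOf_eq_of_isConj h, C.ordρ]
      have h1 : g ≠ 1 := by rintro rfl; simp at ho
      have he : Even (orderOf g) := by rw [ho]; decide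
      rw [classInd_of_isConj h, i1 (x := M.T 0 1) (by rw [hz, ho]; decide),
        classInd_of_not_isConj fun h' => C.not_conjρ (h.trans h'.symm), i2 C.tH he, i2 C.tA he, i2 C.tA' he]
      simp [h1]
    · have ho : orderOf g = 4 := by rw [← orderOf_eq_of_isConj h, C.ordρ']
      have h1 : g ≠ 1 := by rintro rfl; simp at ho
      have he : Even (orderOf g) := by rw [ho]; decide
      rw [classInd_of_isConj h, i1 (x := M.T 0 1) (by rw [hz, ho]; decide),
        classInd_of_not_isConj fun h' => C.not_conjρ (h'.trans h.symm), i2 C.tH he, i2 C.tA he, i2 C.tA' he]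
      simp [h1]
    · obtain ⟨j1, j2, j3⟩ := i3 (C.tH.odd_of_cjInto h)
      rw [j1, j2, j3, Set.indicator_of_mem h, Set.indicator_of_notMem (not_cjInto_of_coprime C.copHA h),
        Set.indicator_of_notMem (not_cjInto_of_coprime C.copHA' h)]
      simp [h.1]
    · obtain ⟨j1, j2, j3⟩ := i3 (C.tA.odd_of_cjInto h)
      rw [j1, j2, j3, Set.indicator_of_mem h, Set.indicator_of_notMem (not_cjInto_of_coprime C.copHA.symm h),
        Set.indicator_of_notMem (not_cjInto_of_coprime C.copAA' h)]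
      simp [h.1]
    · obtain ⟨j1, j2, j3⟩ := i3 (C.tA'.odd_of_cjInto h)
      rw [j1, j2, j3, Set.indicator_of_mem h, Set.indicator_of_notMem (not_cjInto_of_coprime C.copHA'.symm h),
        Set.indicator_of_notMem (not_cjInto_of_coprime C.copAA'.symm h)]
      simp [h.1]
  rw [Finset.sum_congr rfl fun g _ => e g]
  simp only [Finset.sum_add_distrib, mul_add (Nat.card G : ℂ)⁻¹]
  rw [Model.sum_classInd_mul' _ hf, Model.sum_classInd_mul' _ hf, Model.sum_classInd_mul' _ hf, M.ticc_H.sum_cjInto hf,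
    C.ticcA.sum_cjInto hf, C.ticcA'.sum_cjInto hf, M.card_centralizer_of_orderOf_two hz,
    M.card_centralizer_of_orderOf_four C.ordρ, M.card_centralizer_of_orderOf_four C.ordρ', C.cNH, C.cNA, C.cNA']
  push_cast
  rw [C.cF]
  simp only [Finset.sum_ite_eq', Finset.mem_univ, if_true, div_eq_inv_mul]

/-- The norm of a row. -/
theorem norm_row [Fintype G] {d a b b' : ℂ} {f₀ f₁ f₂ : G → ℂ} (h₀ : IsClassFunction G f₀)
    (h₁ : IsClassFunction G f₁) (h₂ : IsClassFunction G f₂) :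
    classInner (C.row d a b b' f₀ f₁ f₂) (C.row d a b b' f₀ f₁ f₂) =
      d * conj d / ((2 * (2 ^ m) ^ 2) ^ 2 * (2 * (2 ^ m) ^ 2 - 1) * ((2 * (2 ^ m) ^ 2) ^ 2 + 1)) +
      a * conj a / (2 * (2 ^ m) ^ 2) ^ 2 +
      b * conj b / (2 * (2 * (2 ^ m) ^ 2)) + b' * conj b' / (2 * (2 * (2 ^ m) ^ 2)) +
      shSum M.H (fun g => f₀ g * conj (f₀ g)) / (2 * (2 * (2 ^ m) ^ 2 - 1)) +
      shSum C.A (fun g => f₁ g * conj (f₁ g)) / (4 * (2 * (2 ^ m) ^ 2 + 2 * 2 ^ m + 1)) +
      shSum C.A' (fun g => f₂ g * conj (f₂ g)) / (4 * (2 * (2 ^ m) ^ 2 - 2 * 2 ^ m + 1)) := by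
  have hc := C.row_class (d := d) (a := a) (b := b) (b' := b') h₀ h₁ h₂
  have hc' : IsClassFunction G fun g => C.row d a b b' f₀ f₁ f₂ g * conj (C.row d a b b' f₀ f₁ f₂ g) :=
    hc.mul hc.conj
  rw [classInner_def, C.avg hc', C.cG]
  rw [C.row_one, C.row_two (M.orderOf_T_zero one_ne_zero), C.row_ρ (IsConj.refl _), C.row_ρ' (IsConj.refl _),
    shSum_congr (K := M.H) (f' := fun g => f₀ g * conj (f₀ g)) fun k hk h1 => by
      rw [C.row_H (mem_cjInto_of_mem hk h1)],
    shSum_congr (K := C.A) (f' := fun g => f₁ g * conj (f₁ g)) fun k hk h1 => by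
      rw [C.row_A (mem_cjInto_of_mem hk h1)],
    shSum_congr (K := C.A') (f' := fun g => f₂ g * conj (f₂ g)) fun k hk h1 => by
      rw [C.row_A' (mem_cjInto_of_mem hk h1)]]

omit [Finite F] in
theorem Ψρ' : C.Ψ C.ρ⁻¹ = -(2 ^ m * Complex.I) := by
  have : Finite G := by
    have h := C.hq
    have : Finite F := Nat.finite_of_card_ne_zero (by rw [h]; positivity)
    exact M.finite
  rw [← C.Ψchar.conj_apply, C.Ψρ]; simp [map_ofNat]

/-- Brauer's characterisation for a row. -/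
theorem row_gen {d a b b' : ℂ} {f₀ f₁ f₂ : G → ℂ} (h₀ : IsGeneralizedCharacter G f₀)
    (h₁ : IsGeneralizedCharacter G f₁) (h₂ : IsGeneralizedCharacter G f₂) (α β γ n n₀ n₁ n₂ : ℤ)
    (ha : a = α - (β + γ) * 2 ^ m) (hb : b = α + (β - γ) * (2 ^ m * Complex.I))
    (hb' : b' = α - (β - γ) * (2 ^ m * Complex.I))
    (hd : d = α + (β + γ) * ((2 * (2 ^ m) ^ 2 - 1) * ((2 * (2 ^ m) ^ 2) ^ 2 + 1) * 2 ^ m) + n * (2 * (2 ^ m) ^ 2) ^ 2)
    (hd₀ : d = f₀ 1 + n₀ * (2 * (2 ^ m) ^ 2 - 1)) (hd₁ : d = f₁ 1 + n₁ * (2 * (2 ^ m) ^ 2 + 2 * 2 ^ m + 1))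
    (hd₂ : d = f₂ 1 + n₂ * (2 * (2 ^ m) ^ 2 - 2 * 2 ^ m + 1)) :
    IsGeneralizedCharacter G (C.row d a b b' f₀ f₁ f₂) := by
  have := M.finite
  have hc := C.row_class (d := d) (a := a) (b := b) (b' := b') h₀.isClassFunction h₁.isClassFunction
    h₂.isClassFunction
  have tor : ∀ {K : Subgroup G} {f : G → ℂ}, TICC K → IsGeneralizedCharacter G f →
      (∀ g ∈ cjInto K, C.row d a b b' f₀ f₁ f₂ g = f g) → (∃ n : ℤ, d = f 1 + n * Nat.card K) → ∀ g ∈ cjInto K,
      ∃ (K : Subgroup G) (x : G), (∀ y : G, y * g = g * y → x⁻¹ * y * x ∈ K) ∧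
        IsGeneralizedCharacter K (fun k : K => C.row d a b b' f₀ f₁ f₂ k) := by
    rintro K f hK hf hr ⟨n, hn⟩ g ⟨h1, x, hx⟩
    refine ⟨K, x, fun y hy => hK.cent _ hx (conj_ne_one h1 x) _ ?_, ?_⟩
    · calc x⁻¹ * y * x * (x⁻¹ * g * x) = x⁻¹ * (y * g) * x := by group
        _ = _ := by rw [hy]; group
    · refine isGeneralizedCharacter_of_eq_off_one (hf.restrict K) (fun k hk => ?_) n ?_
      · exact hr k (mem_cjInto_of_mem k.2 fun e => hk (Subtype.ext e))
      · simpa [C.row_one] using hn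
  refine isGeneralizedCharacter_of_centralizers hc ?_ fun g h1 => ?_
  · obtain ⟨k, hk⟩ := h₀.exists_int_one
    refine ⟨k + n₀ * (2 * (2 ^ m) ^ 2 - 1), ?_⟩
    rw [C.row_one, hd₀, hk]; push_cast; ring
  rcases C.cover g with h | h | h | h
  · obtain ⟨x, hx⟩ := M.exists_mem_conj_U h
    rw [M.mem_conj_U] at hx
    let f : G → ℂ := (fun _ => (α : ℂ)) + (β : ℂ) • C.Ψ + (γ : ℂ) • fun g => C.Ψ g⁻¹
    have hf : IsGeneralizedCharacter G f :=
      ((isGeneralizedCharacter_const α).add (C.Ψchar.isGeneralizedCharacter.intCast_smul β)).add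
        (C.Ψchar.inv.isGeneralizedCharacter.intCast_smul γ)
    have hΨ := C.Ψchar.isClassFunction
    refine tor M.ticc_U hf (fun u hu => ?_) ⟨n, ?_⟩ g ⟨h1, x, hx⟩
    · have h4 : u ^ 4 = 1 := by
        obtain ⟨-, y, hy⟩ := hu
        have := M.pow_four_of_mem_U hy
        rw [show y⁻¹ * u * y = y⁻¹ * u * y⁻¹⁻¹ by simp, conj_pow, conj_eq_one_iff] at this
        exact this
      simp only [f, Pi.add_apply, Pi.smul_apply, smul_eq_mul]
      rcases orderOf_cases_of_pow_four h4 with h | h | h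
      · exact absurd h hu.1
      · rw [C.row_two h, C.Ψtwo u h, C.Ψtwo u⁻¹ (by rw [orderOf_inv, h]), ha]; ring
      · rcases M.isConj_or_of_orderOf_four C.ordρ h with h | h
        · rw [C.row_ρ h, ← hΨ.apply_eq_of_isConj h, ← hΨ.apply_eq_of_isConj (isConj_inv h), C.Ψρ, C.Ψρ', hb]; ring
        · rw [C.row_ρ' h, ← hΨ.apply_eq_of_isConj h, ← hΨ.apply_eq_of_isConj (isConj_inv h), inv_inv, C.Ψρ, C.Ψρ',
            hb']; ring
    · simp only [f, Pi.add_apply, Pi.smul_apply, smul_eq_mul, inv_one]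
      rw [C.Ψone, C.cUi, C.cU, hd]; ring
  · exact tor M.ticc_H h₀ (fun _ => C.row_H) ⟨n₀, by rw [C.cH, hd₀]⟩ g h
  · exact tor C.ticcA h₁ (fun _ => C.row_A) ⟨n₁, by rw [C.cA, hd₁]⟩ g h
  · exact tor C.ticcA' h₂ (fun _ => C.row_A') ⟨n₂, by rw [C.cA', hd₂]⟩ g h

end CDat
end CL.Chev.Sz
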