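/-
Suzuki groups: the character table.
-/
import Cfsg.Agent.Chev.SzChar2

set_option autoImplicit false

namespace CL.Chev.Sz

open Subgroup Cfsg CL.Char
open scoped ComplexConjugate

open Classical in
/-- The non-principal linear characters. -/
noncomputable def nz (K : Type*) [Group K] [Finite K] : Finset (K →* ℂˣ) :=
  (@Finset.univ _ (Fintype.ofFinite _)).erase 1

theorem mem_nz {K : Type*} [Group K] [Finite K] {lam : K →* ℂˣ} : lam ∈ nz K ↔ lam ≠ 1 := by simp [nz]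

theorem card_nz {K : Type*} [Group K] [Finite K] (hK : ∀ a b : K, a * b = b * a) :
    (nz K).card + 1 = Nat.card K := by
  classical
  let _ : Fintype (K →* ℂˣ) := Fintype.ofFinite _
  rw [nz, Finset.card_erase_add_one (Finset.mem_univ _), Finset.card_univ, ← Nat.card_eq_fintype_card,
    card_monoidHom_of_comm hK]

theorem cast_card_nz {K : Type*} [Group K] [Finite K] (hK : ∀ a b : K, a * b = b * a) (R : Type*) [Ring R] :
    ((nz K).card : R) = Nat.card K - 1 := by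
  rw [← card_nz hK]; simp

/-- The character induced from a linear character of `K`. -/
noncomputable def linInd {G : Type*} [Group G] [Fintype G] (K : Subgroup G) (lam : K →* ℂˣ) : G → ℂ :=
  indFun K fun k => (lam k : ℂ)

section LinInd
variable {G : Type*} [Group G] [Fintype G] {K : Subgroup G}

theorem linInd_char (lam : K →* ℂˣ) : IsCharacter G (linInd K lam) := isCharacter_indFun_unitsHom lam

theorem linInd_gen (lam : K →* ℂˣ) : IsGeneralizedCharacter G (linInd K lam) :=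
  (linInd_char lam).isGeneralizedCharacter

theorem linInd_class (lam : K →* ℂˣ) : IsClassFunction G (linInd K lam) := (linInd_char lam).isClassFunction

theorem linInd_one (lam : K →* ℂˣ) : linInd K lam 1 = K.index := by simp [linInd, indFun_one]

theorem sum_nz_linInd (hK : TICC K) (hc : ∀ a b : K, a * b = b * a) {g : G} (hg : g ∈ cjInto K) :
    ∑ lam ∈ nz K, linInd K lam g = -(Nat.card (normalizer (K : Set G)) / Nat.card K) := by
  classical
  let _ : Fintype (K →* ℂˣ) := Fintype.ofFinite _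
  have h := sum_indFun_monoidHom K hc g
  rw [regChar_of_ne_one hg.1, ← Finset.add_sum_erase _ _ (Finset.mem_univ 1)] at h
  obtain ⟨h1, x, hx⟩ := hg
  have h2 : indFun K (fun k => ((1 : K →* ℂˣ) k : ℂ)) g = Nat.card (normalizer (K : Set G)) / Nat.card K := by
    rw [← indFun_conj' _ g x, ← hK.indFun_one_eq hx (conj_ne_one h1 x)]; simp
  rw [h2] at h
  convert eq_neg_of_add_eq_zero_right h using 2
  · ext lam; simp [mem_nz]
  · rfl

theorem norm_linInd_le (hK : TICC K) (lam : K →* ℂˣ) {g : G} (hg : g ∈ cjInto K) :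
    ‖linInd K lam g‖ ≤ Nat.card (normalizer (K : Set G)) / Nat.card K := by
  obtain ⟨h1, x, hx⟩ := hg
  rw [linInd, ← indFun_conj' _ g x]
  simpa using hK.norm_indFun_le (C := 1) (fun k => (norm_monoidHom_apply lam k).le) hx (conj_ne_one h1 x)

theorem shSum_linInd (hK : TICC K) {lam : K →* ℂˣ} (h : lam ≠ 1) :
    shSum K (fun g => linInd K lam g * conj (linInd K lam g)) = Nat.card (normalizer (K : Set G)) -
      (Nat.card (normalizer (K : Set G)) / Nat.card K) ^ 2 := by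
  have := hK.shSum_indFun_mul_conj (isIrrCharacter_linear lam) fun e => h (monoidHom_coe_injective e)
  simpa [linInd] using this

theorem conj_linInd (hr : ∀ a ∈ K, IsConj a a⁻¹) (lam : K →* ℂˣ) {g : G} (hg : g ∈ cjInto K) :
    conj (linInd K lam g) = linInd K lam g := by
  obtain ⟨-, x, hx⟩ := hg
  have hc := linInd_class lam
  rw [← hc.inv_conj g x, (linInd_char lam).conj_apply, ← hc.apply_eq_of_isConj (hr _ hx)]

end LinInd

namespace CDat
variable {G : Type*} [Group G] {F : Type*} [Field F] [Finite F] {M : Model G F} {m : ℕ} (C : CDat M m)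

section NeZero
include C

omit [Finite F] C in
theorem s_ne : (2 : ℂ) ^ m ≠ 0 := pow_ne_zero _ two_ne_zero

theorem h_ne : 2 * ((2 : ℂ) ^ m) ^ 2 - 1 ≠ 0 := by
  have := M.finite
  rw [← C.cH]; exact Nat.cast_ne_zero.2 Nat.card_pos.ne'

theorem a_ne : 2 * ((2 : ℂ) ^ m) ^ 2 + 2 * 2 ^ m + 1 ≠ 0 := by
  have := M.finite
  rw [← C.cA]; exact Nat.cast_ne_zero.2 Nat.card_pos.ne'

theorem a'_ne : 2 * ((2 : ℂ) ^ m) ^ 2 - 2 * 2 ^ m + 1 ≠ 0 := by
  have := M.finite
  rw [← C.cA']; exact Nat.cast_ne_zero.2 Nat.card_pos.ne'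

omit [Finite F] C in
theorem x_eq : (2 * ((2 : ℂ) ^ m) ^ 2) ^ 2 + 1 =
    (2 * ((2 : ℂ) ^ m) ^ 2 + 2 * 2 ^ m + 1) * (2 * ((2 : ℂ) ^ m) ^ 2 - 2 * 2 ^ m + 1) := by ring

theorem wH : (Nat.card (normalizer (M.H : Set G)) : ℂ) / Nat.card M.H = 2 := by
  rw [C.cNH, C.cH, mul_div_cancel_right₀ _ C.h_ne]

theorem wA : (Nat.card (normalizer (C.A : Set G)) : ℂ) / Nat.card C.A = 4 := by
  rw [C.cNA, C.cA, mul_div_cancel_right₀ _ C.a_ne]

theorem wA' : (Nat.card (normalizer (C.A' : Set G)) : ℂ) / Nat.card C.A' = 4 := by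
  rw [C.cNA', C.cA', mul_div_cancel_right₀ _ C.a'_ne]

theorem commH (a b : M.H) : a * b = b * a := Subtype.ext (C.tH.comm a.2 b.2)
omit [Finite F] in
theorem commA (a b : C.A) : a * b = b * a := Subtype.ext (C.tA.comm a.2 b.2)
omit [Finite F] in
theorem commA' (a b : C.A') : a * b = b * a := Subtype.ext (C.tA'.comm a.2 b.2)

end NeZero

theorem norm_row_eq_one [Fintype G] {d a b b' : ℂ} {f₀ f₁ f₂ : G → ℂ} (h₀ : IsClassFunction G f₀)
    (h₁ : IsClassFunction G f₁) (h₂ : IsClassFunction G f₂) {S₀ S₁ S₂ q h n n' : ℂ}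
    (e₀ : shSum M.H (fun g => f₀ g * conj (f₀ g)) = S₀) (e₁ : shSum C.A (fun g => f₁ g * conj (f₁ g)) = S₁)
    (e₂ : shSum C.A' (fun g => f₂ g * conj (f₂ g)) = S₂) (hq : 2 * (2 ^ m) ^ 2 = q) (hh : 2 * (2 ^ m) ^ 2 - 1 = h)
    (hn : 2 * (2 ^ m) ^ 2 + 2 * 2 ^ m + 1 = n) (hn' : 2 * (2 ^ m) ^ 2 - 2 * 2 ^ m + 1 = n')
    (e : 4 * (d * conj d) + 4 * (a * conj a) * h * n * n' + 2 * (b * conj b + b' * conj b') * q * h * n * n' +
      2 * S₀ * q ^ 2 * n * n' + S₁ * q ^ 2 * h * n' + S₂ * q ^ 2 * h * n = 4 * q ^ 2 * h * n * n') :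
    classInner (C.row d a b b' f₀ f₁ f₂) (C.row d a b b' f₀ f₁ f₂) = 1 := by
  have h1 : q ≠ 0 := hq ▸ mul_ne_zero two_ne_zero (pow_ne_zero _ s_ne)
  have h2 : h ≠ 0 := hh ▸ C.h_ne
  have h3 : n ≠ 0 := hn ▸ C.a_ne
  have h4 : n' ≠ 0 := hn' ▸ C.a'_ne
  rw [C.norm_row h₀ h₁ h₂, e₀, e₁, e₂, x_eq, hh, hn, hn', hq]
  field_simp
  linear_combination 2 * e

/-- The Steinberg character. -/
noncomputable def St : G → ℂ :=
  C.row ((2 * (2 ^ m) ^ 2) ^ 2) 0 0 0 (fun _ => 1) (fun _ => -1) (fun _ => -1)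

/-- The two characters of degree `2 ^ m * (q - 1)` (for `e = 1` and `e = -1`). -/
noncomputable def W (e : ℂ) : G → ℂ :=
  C.row (2 ^ m * (2 * (2 ^ m) ^ 2 - 1)) (-2 ^ m) (e * (2 ^ m * Complex.I)) (-(e * (2 ^ m * Complex.I)))
    (fun _ => 0) (fun _ => 1) (fun _ => -1)

variable [Fintype G]

/-- The principal series characters of degree `q ^ 2 + 1`. -/
noncomputable def X (lam : M.H →* ℂˣ) : G → ℂ :=
  C.row ((2 * (2 ^ m) ^ 2) ^ 2 + 1) 1 1 1 (linInd M.H lam) (fun _ => 0) (fun _ => 0)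

/-- The discrete series characters belonging to the torus of order `q + r + 1`. -/
noncomputable def Y (lam : C.A →* ℂˣ) : G → ℂ :=
  C.row ((2 * (2 ^ m) ^ 2 - 2 * 2 ^ m + 1) * (2 * (2 ^ m) ^ 2 - 1)) (2 * 2 ^ m - 1) (-1) (-1)
    (fun _ => 0) (-linInd C.A lam) (fun _ => 0)

/-- The discrete series characters belonging to the torus of order `q - r + 1`. -/
noncomputable def Zc (lam : C.A' →* ℂˣ) : G → ℂ :=
  C.row ((2 * (2 ^ m) ^ 2 + 2 * 2 ^ m + 1) * (2 * (2 ^ m) ^ 2 - 1)) (-(2 * 2 ^ m + 1)) (-1) (-1)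
    (fun _ => 0) (fun _ => 0) (-linInd C.A' lam)

omit [Fintype G] in
theorem gen_zero : IsGeneralizedCharacter G (fun _ => (0 : ℂ)) := isGeneralizedCharacter_zero
omit [Fintype G] in
theorem gen_one : IsGeneralizedCharacter G (fun _ => (1 : ℂ)) := isCharacter_one.isGeneralizedCharacter
omit [Fintype G] in
theorem gen_neg_one : IsGeneralizedCharacter G (fun _ => (-1 : ℂ)) := gen_one.neg

omit [Fintype G] in
theorem re_nonneg_of_eq {z : ℂ} {n : ℕ} (h : z = n) : 0 ≤ z.re := by rw [h]; simp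

theorem irr_St : IsIrrCharacter G C.St := by
  refine IsGeneralizedCharacter.isIrrCharacter_of_norm_one ?_ ?_ ?_
  · refine C.row_gen gen_one gen_neg_one gen_neg_one 0 0 0 1 (2 * (2 ^ m) ^ 2 + 1)
      (2 * (2 ^ m) ^ 2 - 2 * 2 ^ m + 1) (2 * (2 ^ m) ^ 2 + 2 * 2 ^ m + 1) ?_ ?_ ?_ ?_ ?_ ?_ ?_ <;> push_cast <;> ring
  · refine C.norm_row_eq_one gen_one.isClassFunction gen_neg_one.isClassFunction gen_neg_one.isClassFunction
      (shSum_const _) (shSum_const _) (shSum_const _) rfl rfl rfl rfl ?_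
    simp only [C.cH, C.cA, C.cA', map_pow, map_mul, map_ofNat, map_neg, map_one, map_zero]
    ring
  · rw [St, C.row_one, ← C.cU]; simp

theorem irr_W {e : ℂ} (he : e = 1 ∨ e = -1) : IsIrrCharacter G (C.W e) := by
  refine IsGeneralizedCharacter.isIrrCharacter_of_norm_one ?_ ?_ ?_
  · rcases he with rfl | rfl
    · refine C.row_gen gen_zero gen_one gen_neg_one 0 1 0 (-((2 * (2 ^ m) ^ 2 - 1) * 2 ^ m)) (2 ^ m)
        (2 ^ m - 1) (2 ^ m + 1) ?_ ?_ ?_ ?_ ?_ ?_ ?_ <;> push_cast <;> ring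
    · refine C.row_gen gen_zero gen_one gen_neg_one 0 0 1 (-((2 * (2 ^ m) ^ 2 - 1) * 2 ^ m)) (2 ^ m)
        (2 ^ m - 1) (2 ^ m + 1) ?_ ?_ ?_ ?_ ?_ ?_ ?_ <;> push_cast <;> ring
  · refine C.norm_row_eq_one gen_zero.isClassFunction gen_one.isClassFunction gen_neg_one.isClassFunction
      (shSum_const _) (shSum_const _) (shSum_const _) rfl rfl rfl rfl ?_
    have h0 : e * (2 ^ m * Complex.I) * conj (e * (2 ^ m * Complex.I)) = (2 ^ m) ^ 2 := by
      have := Complex.I_sq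
      rcases he with rfl | rfl <;> simp only [map_mul, map_pow, map_ofNat, map_one, map_neg, Complex.conj_I] <;>
        linear_combination (-((2 : ℂ) ^ m) ^ 2) * this
    rw [map_neg (starRingEnd ℂ) (e * _), neg_mul_neg (e * _), h0]
    simp only [C.cH, C.cA, C.cA', map_pow, map_mul, map_ofNat, map_neg, map_one, map_zero, map_sub]
    ring
  · rw [W, C.row_one, ← C.cH]
    exact re_nonneg_of_eq (n := 2 ^ m * Nat.card M.H) (by push_cast; rfl)

theorem irr_X {lam : M.H →* ℂˣ} (h : lam ≠ 1) : IsIrrCharacter G (C.X lam) := by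
  refine IsGeneralizedCharacter.isIrrCharacter_of_norm_one ?_ ?_ ?_
  · refine C.row_gen (linInd_gen lam) gen_zero gen_zero 1 0 0 1
      (-(((2 * (2 ^ m) ^ 2) ^ 2 + 1) * (2 * (2 ^ m) ^ 2 + 1)))
      (2 * (2 ^ m) ^ 2 - 2 * 2 ^ m + 1) (2 * (2 ^ m) ^ 2 + 2 * 2 ^ m + 1) ?_ ?_ ?_ ?_ ?_ ?_ ?_ <;>
      (try simp only [linInd_one, C.cHi]) <;> push_cast <;> ring
  · refine C.norm_row_eq_one (linInd_class lam) gen_zero.isClassFunction gen_zero.isClassFunction
      (shSum_linInd M.ticc_H h) (shSum_const _) (shSum_const _) rfl rfl rfl rfl ?_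
    rw [C.wH]
    simp only [C.cNH, C.cA, C.cA', map_pow, map_mul, map_ofNat, map_one, map_zero, map_add]
    ring
  · rw [X, C.row_one, ← C.cU]
    exact re_nonneg_of_eq (n := Nat.card M.U + 1) (by push_cast; rfl)

theorem irr_Y {lam : C.A →* ℂˣ} (h : lam ≠ 1) : IsIrrCharacter G (C.Y lam) := by
  refine IsGeneralizedCharacter.isIrrCharacter_of_norm_one ?_ ?_ ?_
  · refine C.row_gen gen_zero (linInd_gen lam).neg gen_zero (-1) (-1) (-1) (1 + 2 * 2 ^ m * (2 * (2 ^ m) ^ 2 - 1))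
      (2 * (2 ^ m) ^ 2 - 2 * 2 ^ m + 1) ((2 * (2 ^ m) ^ 2 - 1) * (2 * (2 ^ m) ^ 2 - 2 * 2 ^ m + 1) ^ 2)
      (2 * (2 ^ m) ^ 2 - 1) ?_ ?_ ?_ ?_ ?_ ?_ ?_ <;>
      (try simp only [Pi.neg_apply, linInd_one, C.cAi]) <;> push_cast <;> ring
  · refine C.norm_row_eq_one gen_zero.isClassFunction (linInd_class lam).neg gen_zero.isClassFunction
      (shSum_const _) (by simpa using shSum_linInd C.ticcA h) (shSum_const _) rfl rfl rfl rfl ?_
    rw [C.wA]
    simp only [C.cNA, C.cH, C.cA', map_pow, map_mul, map_ofNat, map_one, map_zero, map_sub, map_add, map_neg]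
    ring
  · rw [Y, C.row_one, ← C.cA', ← C.cH]
    exact re_nonneg_of_eq (n := Nat.card C.A' * Nat.card M.H) (by push_cast; rfl)

theorem irr_Zc {lam : C.A' →* ℂˣ} (h : lam ≠ 1) : IsIrrCharacter G (C.Zc lam) := by
  refine IsGeneralizedCharacter.isIrrCharacter_of_norm_one ?_ ?_ ?_
  · refine C.row_gen gen_zero gen_zero (linInd_gen lam).neg (-1) 1 1 (1 - 2 * 2 ^ m * (2 * (2 ^ m) ^ 2 - 1))
      (2 * (2 ^ m) ^ 2 + 2 * 2 ^ m + 1) (2 * (2 ^ m) ^ 2 - 1)
      ((2 * (2 ^ m) ^ 2 - 1) * (2 * (2 ^ m) ^ 2 + 2 * 2 ^ m + 1) ^ 2) ?_ ?_ ?_ ?_ ?_ ?_ ?_ <;>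
      (try simp only [Pi.neg_apply, linInd_one, C.cAi']) <;> push_cast <;> ring
  · refine C.norm_row_eq_one gen_zero.isClassFunction gen_zero.isClassFunction (linInd_class lam).neg
      (shSum_const _) (shSum_const _) (by simpa using shSum_linInd C.ticcA' h) rfl rfl rfl rfl ?_
    rw [C.wA']
    simp only [C.cNA', C.cH, C.cA, map_pow, map_mul, map_ofNat, map_one, map_zero, map_sub, map_add, map_neg]
    ring
  · rw [Zc, C.row_one, ← C.cA, ← C.cH]
    exact re_nonneg_of_eq (n := Nat.card C.A * Nat.card M.H) (by push_cast; rfl)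

/-- The regular character as a combination of the characters of the table. -/
theorem regChar_eq : regChar G = (fun _ => 1) + C.St 1 • C.St + C.W 1 1 • C.W 1 + C.W (-1) 1 • C.W (-1) +
    ∑ lam ∈ nz M.H, (C.X lam 1 / 2) • C.X lam + ∑ lam ∈ nz C.A, (C.Y lam 1 / 4) • C.Y lam +
    ∑ lam ∈ nz C.A', (C.Zc lam 1 / 4) • C.Zc lam := by
  funext g
  have n0 := cast_card_nz C.commH ℂ
  have n1 := cast_card_nz C.commA ℂ
  have n2 := cast_card_nz C.commA' ℂ
  rw [C.cH] at n0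
  rw [C.cA] at n1
  rw [C.cA'] at n2
  simp only [Pi.add_apply, Pi.smul_apply, Finset.sum_apply, smul_eq_mul, St, W, X, Y, Zc, C.row_one]
  rcases C.cases g with h | h | h | h | h | h | h
  · subst h
    simp only [C.row_one, Finset.sum_const, nsmul_eq_mul, n0, n1, n2, regChar_one, C.cG]
    ring
  · rw [regChar_of_ne_one (by rintro rfl; simp at h)]
    simp only [C.row_two h, Finset.sum_const, nsmul_eq_mul, n0, n1, n2]
    ring
  · rw [regChar_of_ne_one (by rintro rfl; simpa [C.ordρ] using orderOf_eq_of_isConj h)]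
    simp only [C.row_ρ h, Finset.sum_const, nsmul_eq_mul, n0, n1, n2]
    ring
  · rw [regChar_of_ne_one (by rintro rfl; simpa [C.ordρ] using orderOf_eq_of_isConj h)]
    simp only [C.row_ρ' h, Finset.sum_const, nsmul_eq_mul, n0, n1, n2]
    ring
  · rw [regChar_of_ne_one h.1]
    simp only [C.row_H h, ← Finset.mul_sum, sum_nz_linInd M.ticc_H C.commH h, C.wH, Finset.sum_const_zero]
    ring
  · rw [regChar_of_ne_one h.1]
    simp only [C.row_A h, ← Finset.mul_sum, Pi.neg_apply, Finset.sum_neg_distrib, sum_nz_linInd C.ticcA C.commA h,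
      C.wA, Finset.sum_const_zero]
    ring
  · rw [regChar_of_ne_one h.1]
    simp only [C.row_A' h, ← Finset.mul_sum, Pi.neg_apply, Finset.sum_neg_distrib, sum_nz_linInd C.ticcA' C.commA' h,
      C.wA', Finset.sum_const_zero]
    ring

/-- Sums over all irreducible characters. -/
theorem sum_irr (Φ : (G → ℂ) → ℂ) : ∑ χ : IrrCharacter G, Φ χ =
    Φ (fun _ => 1) + Φ C.St + Φ (C.W 1) + Φ (C.W (-1)) + (∑ lam ∈ nz M.H, Φ (C.X lam)) / 2 +
      (∑ lam ∈ nz C.A, Φ (C.Y lam)) / 4 + (∑ lam ∈ nz C.A', Φ (C.Zc lam)) / 4 := by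
  have h := irrSum_regChar (G := G) fun χ => Φ χ / χ 1
  rw [Finset.sum_congr rfl fun χ _ => mul_div_cancel₀ _ χ.2.one_ne_zero] at h
  rw [← h, C.regChar_eq]
  simp only [irrSum_add, irrSum_sum, irrSum_smul, Finset.sum_div]
  have k : ∀ {θ : G → ℂ}, IsIrrCharacter G θ → θ 1 * irrSum θ (fun χ => Φ χ / χ 1) = Φ θ := fun h => by
    rw [irrSum_irr h, mul_div_cancel₀ _ h.one_ne_zero]
  rw [irrSum_irr isIrrCharacter_one, div_one, k C.irr_St, k (C.irr_W (Or.inl rfl)), k (C.irr_W (Or.inr rfl))]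
  congr 1
  · congr 1
    · congr 1
      exact Finset.sum_congr rfl fun lam h => by rw [div_mul_eq_mul_div, k (C.irr_X (mem_nz.1 h))]
    · exact Finset.sum_congr rfl fun lam h => by rw [div_mul_eq_mul_div, k (C.irr_Y (mem_nz.1 h))]
  · exact Finset.sum_congr rfl fun lam h => by rw [div_mul_eq_mul_div, k (C.irr_Zc (mem_nz.1 h))]

/-- Every irreducible character occurs in the table. -/
theorem irr_cases {χ : G → ℂ} (hχ : IsIrrCharacter G χ) : χ = (fun _ => 1) ∨ χ = C.St ∨ χ = C.W 1 ∨ χ = C.W (-1) ∨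
    (∃ lam, lam ≠ 1 ∧ χ = C.X lam) ∨ (∃ lam, lam ≠ 1 ∧ χ = C.Y lam) ∨ ∃ lam, lam ≠ 1 ∧ χ = C.Zc lam := by
  classical
  by_contra hcon
  push Not at hcon
  obtain ⟨h1, h2, h3, h4, h5, h6, h7⟩ := hcon
  have h := C.sum_irr fun θ => if χ = θ then 1 else 0
  rw [if_neg h1, if_neg h2, if_neg h3, if_neg h4, Finset.sum_eq_zero fun lam hl => if_neg (h5 lam (mem_nz.1 hl)),
    Finset.sum_eq_zero fun lam hl => if_neg (h6 lam (mem_nz.1 hl)),
    Finset.sum_eq_zero fun lam hl => if_neg (h7 lam (mem_nz.1 hl)), Finset.sum_eq_single (⟨χ, hχ⟩ : IrrCharacter G)] at h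
  · simp at h
  · intro θ _ hne
    exact if_neg fun e => hne (Subtype.ext e.symm)
  · simp

end CDat
end CL.Chev.Sz
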